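import Mathlib
import Cfsg.Agent.H43.Cent
import Cfsg.Agent.H43.Simple

set_option autoImplicit false
set_option maxRecDepth 200000
set_option linter.style.longLine false

namespace Cfsg.Agent.H47.J2P

open Cfsg.Agent.H43

theorem h_hn : NOk 100 := by decide

theorem h_hk : 100 ≤ 2 ^ 7 := by decide

noncomputable def h_a0 : Net := (Net.cons (nat_lit 1) (nat_lit 0x110000) (Net.cons (nat_lit 2) (nat_lit 0x3000030000000000000003000) (Net.cons (nat_lit 4) (nat_lit 0xc00000f0f0f0f000f010000) (Net.cons (nat_lit 8) (nat_lit 0x3000f0000000f0000) (Net.cons (nat_lit 16) (nat_lit 15) (Net.cons (nat_lit 32) (nat_lit 983040) (Net.cons (nat_lit 64) (nat_lit 983040) (Net.cons (nat_lit 32) (nat_lit 0xf00000000000f000f) (Net.cons (nat_lit 16) (nat_lit 0xfff000000f000000030f) (Net.cons (nat_lit 8) (nat_lit 0xc00ff00f0000f0000) (Net.cons (nat_lit 4) (nat_lit 0x300000f0f0f0f000f010c00) (Net.cons (nat_lit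 2) (nat_lit 0x333303333333333330003000) (Net.cons (nat_lit 1) (nat_lit 0x5555555555555555550111400) Net.nil)))))))))))))

theorem h_a0_ok : Net.ok 100 h_a0 = true := by decide +kernel

noncomputable def h_a8 : Net := (Net.cons (nat_lit 1) (nat_lit 0x4550445111150005004504100) (Net.cons (nat_lit 2) (nat_lit 0x2113203220311210002110100) (Net.cons (nat_lit 4) (nat_lit 0x60900020d03040c00000a08) (Net.cons (nat_lit 8) (nat_lit 0x82004b0004008800980000) (Net.cons (nat_lit 16) (nat_lit 0x40240000008500000000) (Net.cons (nat_lit 32) (nat_lit 0x200000000c0278c90) (Net.cons (nat_lit 64) (nat_lit 0x6e0278c90) (Net.cons (nat_lit 32) (nat_lit 0xb00000000c0b78c90) (Net.cons (nat_lit 16) (nat_lit 0xc126000098af0000936a) (Net.cons (nat_lit 8) (nat_lit 0xd200cf008d00c4009e00a2) (Net.cons (nat_lit 4) (nat_lit 0x60b00020f03060c00000e02) (Net.cons (nat_lit 2) (nat_lit 0x2113203200313212000310322) (Net.cons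 (nat_lit 1) (nat_lit 0x4550445111150005004504100) Net.nil)))))))))))))

theorem h_a8_ok : Net.ok 100 h_a8 = true := by decide +kernel

noncomputable def h_a19 : Net := (Net.cons (nat_lit 1) (nat_lit 0x515510000550050000000000) (Net.cons (nat_lit 2) (nat_lit 0x1000000000000011000002000) (Net.cons (nat_lit 4) (nat_lit 0x90a0b000505050e01020100) (Net.cons (nat_lit 8) (nat_lit 0x400080001000ee00000001) (Net.cons (nat_lit 16) (nat_lit 0x44400000ff0100000002) (Net.cons (nat_lit 32) (nat_lit 0xc000000001fbe40f0) (Net.cons (nat_lit 64) (nat_lit 0xf1fbfdef3) (Net.cons (nat_lit 32) (nat_lit 0xf00000000febf40f3) (Net.cons (nat_lit 16) (nat_lit 0x44440000ff0a00000002) (Net.cons (nat_lit 8) (nat_lit 0x410008004500ef00010001) (Net.cons (nat_lit 4) (nat_lit 0x905030a0a0a0f0e0102090c) (Net.cons (nat_lit 2) (nat_lit 0x1002100021111111330002000) (Net.cons (nat_lit 1) (nat_lit 0x510510050500550550000055)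 Net.nil)))))))))))))

theorem h_a19_ok : Net.ok 100 h_a19 = true := by decide +kernel

noncomputable def h_a27 : Net := (Net.cons (nat_lit 1) (nat_lit 0x1454411151100140001005100) (Net.cons (nat_lit 2) (nat_lit 0x3011102223203020000101200) (Net.cons (nat_lit 4) (nat_lit 0x8040203020d09010b010402) (Net.cons (nat_lit 8) (nat_lit 0x2c00b10021007000280001) (Net.cons (nat_lit 16) (nat_lit 0x88000000298100000008) (Net.cons (nat_lit 32) (nat_lit 0x20000000023e10810) (Net.cons (nat_lit 64) (nat_lit 0x1abfd68b7) (Net.cons (nat_lit 32) (nat_lit 0xa0000000063c19f70) (Net.cons (nat_lit 16) (nat_lit 0x9826000029a30000002c) (Net.cons (nat_lit 8) (nat_lit 0x2d00b100b50071002b0001) (Net.cons (nat_lit 4) (nat_lit 0x8040203020d09010b010402) (Net.cons (nat_lit 2) (nat_lit 0x3011102223203020000301200) (Net.cons (nat_lit 1) (nat_lit 0x1454411151100140001005100) Net.nil)))))))))))))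

theorem h_a27_ok : Net.ok 100 h_a27 = true := by decide +kernel

noncomputable def h_O : List Net := [h_a0, h_a8, h_a19, h_a27]

theorem h_O_ok : okE 100 h_O = true := (okE_cons.2 ⟨h_a0_ok, (okE_cons.2 ⟨h_a8_ok, (okE_cons.2 ⟨h_a19_ok, (okE_cons.2 ⟨h_a27_ok, (okE_nil 100)⟩)⟩)⟩)⟩)

noncomputable def h_g1 : Net := (Net.cons (nat_lit 1) (nat_lit 0x4405551044554105504011150) (Net.cons (nat_lit 2) (nat_lit 0x12031221030010210200010) (Net.cons (nat_lit 4) (nat_lit 0x40c04040301050a06010606) (Net.cons (nat_lit 8) (nat_lit 0x5005e0005000f00a00009) (Net.cons (nat_lit 16) (nat_lit 0x7840000018000000002) (Net.cons (nat_lit 32) (nat_lit 0x60000000000504590) (Net.cons (nat_lit 64) (nat_lit 0x97af56d96) (Net.cons (nat_lit 32) (nat_lit 0xc00000000c1f7ff6d) (Net.cons (nat_lit 16) (nat_lit 0xc5fb0000b4540000e70d) (Net.cons (nat_lit 8) (nat_lit 0x88006400cb00ce00c300e7) (Net.cons (nat_lit 4) (nat_lit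 0x50b0e03030203090b0a0706) (Net.cons (nat_lit 2) (nat_lit 0x1222123333330312002020131) (Net.cons (nat_lit 1) (nat_lit 0x4451405045400101054455540) Net.nil)))))))))))))

theorem h_g1_ok : Net.ok 100 h_g1 = true := by decide +kernel

noncomputable def h_V2 : List Net := [h_g1]

theorem h_V2_ok : okE 100 h_V2 = true := (okE_cons.2 ⟨h_g1_ok, (okE_nil 100)⟩)

noncomputable def h_g4 : Net := (Net.cons (nat_lit 1) (nat_lit 0x5440045454101504144155100) (Net.cons (nat_lit 2) (nat_lit 0x3112013012010300311212120) (Net.cons (nat_lit 4) (nat_lit 0xd040b060f0108020c0c0208) (Net.cons (nat_lit 8) (nat_lit 0x60006000b9003a006b0000) (Net.cons (nat_lit 16) (nat_lit 0x3e2d0000a01800000005) (Net.cons (nat_lit 32) (nat_lit 0x300000000cb944100) (Net.cons (nat_lit 64) (nat_lit 0xceb945deb) (Net.cons (nat_lit 32) (nat_lit 0xe0000000015122932) (Net.cons (nat_lit 16) (nat_lit 0xffb800008d320000769f) (Net.cons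 (nat_lit 8) (nat_lit 0x5100440006004900430030) (Net.cons (nat_lit 4) (nat_lit 0x405030e000b05040f060300) (Net.cons (nat_lit 2) (nat_lit 0x1101111113230321020303102) (Net.cons (nat_lit 1) (nat_lit 0x5400005045441504541511100) Net.nil)))))))))))))

theorem h_g4_ok : Net.ok 100 h_g4 = true := by decide +kernel

noncomputable def h_V5 : List Net := [h_a0, h_g4, h_a8]

theorem h_V5_ok : okE 100 h_V5 = true := (okE_cons.2 ⟨h_a0_ok, (okE_cons.2 ⟨h_g4_ok, (okE_cons.2 ⟨h_a8_ok, (okE_nil 100)⟩)⟩)⟩)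

noncomputable def h_g7 : Net := (Net.cons (nat_lit 1) (nat_lit 0x4014411145045150054555510) (Net.cons (nat_lit 2) (nat_lit 0x331202122320201301122210) (Net.cons (nat_lit 4) (nat_lit 0x50c01090c0b010208070804) (Net.cons (nat_lit 8) (nat_lit 0x6300b90084003600920008) (Net.cons (nat_lit 16) (nat_lit 0x58d00001b1d00000008) (Net.cons (nat_lit 32) (nat_lit 0xe00000000f3042800) (Net.cons (nat_lit 64) (nat_lit 0x1f307bcfe) (Net.cons (nat_lit 32) (nat_lit 0x10000000080a4645e) (Net.cons (nat_lit 16) (nat_lit 0x8d7b00007f3f000095c2) (Net.cons (nat_lit 8) (nat_lit 0x9f00310006006a00d600ec) (Net.cons (nat_lit 4) (nat_lit 0x40c0d080f0603030c0f04) (Net.cons (nat_lit 2) (nat_lit 0x3002000202103023033102000) (Net.cons (nat_lit 1) (nat_lit 0x4110504440104410114044144) Net.nil)))))))))))))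

theorem h_g7_ok : Net.ok 100 h_g7 = true := by decide +kernel

noncomputable def h_V8 : List Net := [h_g7]

theorem h_V8_ok : okE 100 h_V8 = true := (okE_cons.2 ⟨h_g7_ok, (okE_nil 100)⟩)

noncomputable def h_g10 : Net := (Net.cons (nat_lit 1) (nat_lit 0x5511015541401540111040100) (Net.cons (nat_lit 2) (nat_lit 0x300210233003210013300100) (Net.cons (nat_lit 4) (nat_lit 0x20b0204060a0004060e0d08) (Net.cons (nat_lit 8) (nat_lit 0x1400db00eb00eb008c0000) (Net.cons (nat_lit 16) (nat_lit 0x2820000053420000000a) (Net.cons (nat_lit 32) (nat_lit 0x5b2b000) (Net.cons (nat_lit 64) (nat_lit 0xb97f7b80a) (Net.cons (nat_lit 32) (nat_lit 0x5000000002236f0ee) (Net.cons (nat_lit 16) (nat_lit 0x93f500000cf600004b0c) (Net.cons (nat_lit 8) (nat_lit 0x7700070016001000ca001a) (Net.cons (nat_lit 4) (nat_lit 0x102020c0b040e0802020608) (Net.cons (nat_lit 2) (nat_lit 0x110013020013330322112200) (Net.cons (nat_lit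 1) (nat_lit 0x44140015104554111041500) Net.nil)))))))))))))

theorem h_g10_ok : Net.ok 100 h_g10 = true := by decide +kernel

noncomputable def h_g11 : Net := (Net.cons (nat_lit 1) (nat_lit 0x5145500100440145104054100) (Net.cons (nat_lit 2) (nat_lit 0x2010210132110200301031110) (Net.cons (nat_lit 4) (nat_lit 0xb08010b070901030c000c02) (Net.cons (nat_lit 8) (nat_lit 0x7000200006005100440004) (Net.cons (nat_lit 16) (nat_lit 0x43b50000502a0000000c) (Net.cons (nat_lit 32) (nat_lit 0xa0000000001610510) (Net.cons (nat_lit 64) (nat_lit 0x5b9e3e71e) (Net.cons (nat_lit 32) (nat_lit 0xe000000000bbefeb0) (Net.cons (nat_lit 16) (nat_lit 0x1d1800006bf80000c8a0) (Net.cons (nat_lit 8) (nat_lit 0xd6000b0004004900dd005c) (Net.cons (nat_lit 4) (nat_lit 0x60f0d050005080f05010c0c) (Net.cons (nat_lit 2) (nat_lit 0x2300000313131212201031232) (Net.cons (nat_lit 1) (nat_lit 0x4141415514141111051451014) Net.nil)))))))))))))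

theorem h_g11_ok : Net.ok 100 h_g11 = true := by decide +kernel

noncomputable def h_V12 : List Net := [h_g10, h_g11]

theorem h_V12_ok : okE 100 h_V12 = true := (okE_cons.2 ⟨h_g10_ok, (okE_cons.2 ⟨h_g11_ok, (okE_nil 100)⟩)⟩)

noncomputable def h_g14 : Net := (Net.cons (nat_lit 1) (nat_lit 0x1441011445541440501000000) (Net.cons (nat_lit 2) (nat_lit 0x1131223301303201002300030) (Net.cons (nat_lit 4) (nat_lit 0x709010e0d09050f03020e0b) (Net.cons (nat_lit 8) (nat_lit 0xed00670096003400cd000a) (Net.cons (nat_lit 16) (nat_lit 0x89a100000c9000000000) (Net.cons (nat_lit 32) (nat_lit 0x80000000062a81950) (Net.cons (nat_lit 64) (nat_lit 0x66fa8f95c) (Net.cons (nat_lit 32) (nat_lit 0xf000000009830b579) (Net.cons (nat_lit 16) (nat_lit 0x107b00003db30000b284) (Net.cons (nat_lit 8) (nat_lit 0xa900db000700b7005a002b) (Net.cons (nat_lit 4) (nat_lit 0xf0d07040602060a0007020f) (Net.cons (nat_lit 2)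 (nat_lit 0x2023102313103230102100000) (Net.cons (nat_lit 1) (nat_lit 0x1150110105450444110444110) Net.nil)))))))))))))

theorem h_g14_ok : Net.ok 100 h_g14 = true := by decide +kernel

noncomputable def h_V15 : List Net := [h_g14]

theorem h_V15_ok : okE 100 h_V15 = true := (okE_cons.2 ⟨h_g14_ok, (okE_nil 100)⟩)

noncomputable def h_g17 : Net := (Net.cons (nat_lit 1) (nat_lit 0x144101114101014105541440) (Net.cons (nat_lit 2) (nat_lit 0x2301102313002231223012110) (Net.cons (nat_lit 4) (nat_lit 0xc0103040f020007000f0301) (Net.cons (nat_lit 8) (nat_lit 0xad00f50063007400000009) (Net.cons (nat_lit 16) (nat_lit 0x413000058bf00000003) (Net.cons (nat_lit 32) (nat_lit 0xe00000000800c3210) (Net.cons (nat_lit 64) (nat_lit 0x3c55eb35d) (Net.cons (nat_lit 32) (nat_lit 0x800000000564e98bb) (Net.cons (nat_lit 16) (nat_lit 0x2287000048b80000bb41) (Net.cons (nat_lit 8) (nat_lit 0xeb002e00da005200d70026)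 (Net.cons (nat_lit 4) (nat_lit 0x908030a050902040707080b) (Net.cons (nat_lit 2) (nat_lit 0x1200003022301032301312000) (Net.cons (nat_lit 1) (nat_lit 0x5101504444405050145100040) Net.nil)))))))))))))

theorem h_g17_ok : Net.ok 100 h_g17 = true := by decide +kernel

noncomputable def h_g18 : Net := (Net.cons (nat_lit 1) (nat_lit 0x5501050151000400000500504) (Net.cons (nat_lit 2) (nat_lit 0x3221121201220022200021020) (Net.cons (nat_lit 4) (nat_lit 0x3050908080c00000d090103) (Net.cons (nat_lit 8) (nat_lit 0x3800a5001800610023000a) (Net.cons (nat_lit 16) (nat_lit 0x3d5000042a800000003) (Net.cons (nat_lit 32) (nat_lit 0xb0000000093840000) (Net.cons (nat_lit 64) (nat_lit 0x9fd70daf) (Net.cons (nat_lit 32) (nat_lit 0xb0000000097ccc262) (Net.cons (nat_lit 16) (nat_lit 0xf19b0000834400001d69) (Net.cons (nat_lit 8) (nat_lit 0xbd003a0021008e00170069) (Net.cons (nat_lit 4) (nat_lit 0x402030a0d0f060c040f0f01)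 (Net.cons (nat_lit 2) (nat_lit 0x323300122311213212233020) (Net.cons (nat_lit 1) (nat_lit 0x4050054105504405111505414) Net.nil)))))))))))))

theorem h_g18_ok : Net.ok 100 h_g18 = true := by decide +kernel

noncomputable def h_V19 : List Net := [h_g17, h_g18]

theorem h_V19_ok : okE 100 h_V19 = true := (okE_cons.2 ⟨h_g17_ok, (okE_cons.2 ⟨h_g18_ok, (okE_nil 100)⟩)⟩)

noncomputable def h_g21 : Net := (Net.cons (nat_lit 1) (nat_lit 0x4050054105504405111505414) (Net.cons (nat_lit 2) (nat_lit 0x121302302103233012233000) (Net.cons (nat_lit 4) (nat_lit 0x404090a050f0e0a000b0f01) (Net.cons (nat_lit 8) (nat_lit 0x3d0018000100a200370001) (Net.cons (nat_lit 16) (nat_lit 0x303b00002a4400000009) (Net.cons (nat_lit 32) (nat_lit 0x90000000036248500) (Net.cons (nat_lit 64) (nat_lit 0x23f7f852d) (Net.cons (nat_lit 32) (nat_lit 0x900000000122c4b42) (Net.cons (nat_lit 16) (nat_lit 0x4af50000476000003103)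 (Net.cons (nat_lit 8) (nat_lit 0x10002100f8004900470088) (Net.cons (nat_lit 4) (nat_lit 0x9050b0e00040400090d0309) (Net.cons (nat_lit 2) (nat_lit 0x3003123223220020300023002) (Net.cons (nat_lit 1) (nat_lit 0x5501050151000400000500504) Net.nil)))))))))))))

theorem h_g21_ok : Net.ok 100 h_g21 = true := by decide +kernel

noncomputable def h_g22 : Net := (Net.cons (nat_lit 1) (nat_lit 0x4540041504451140141015414) (Net.cons (nat_lit 2) (nat_lit 0x2321031031310200310010210) (Net.cons (nat_lit 4) (nat_lit 0x70b07030300030f07060705) (Net.cons (nat_lit 8) (nat_lit 0x2800130076000400c8000d) (Net.cons (nat_lit 16) (nat_lit 0x7430000292800000000) (Net.cons (nat_lit 32) (nat_lit 0x8000000000c801320) (Net.cons (nat_lit 64) (nat_lit 0xdbd8c9f62) (Net.cons (nat_lit 32) (nat_lit 0x10000000098637728) (Net.cons (nat_lit 16) (nat_lit 0xac0a0000142d00002d4e) (Net.cons (nat_lit 8) (nat_lit 0x89002300b4004b00f8002c)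 (Net.cons (nat_lit 4) (nat_lit 0x50e0806030404080a070603) (Net.cons (nat_lit 2) (nat_lit 0x2301012201111332223210030) (Net.cons (nat_lit 1) (nat_lit 0x5551550510554500541551150) Net.nil)))))))))))))

theorem h_g22_ok : Net.ok 100 h_g22 = true := by decide +kernel

noncomputable def h_V23 : List Net := [h_g21, h_g22]

theorem h_V23_ok : okE 100 h_V23 = true := (okE_cons.2 ⟨h_g21_ok, (okE_cons.2 ⟨h_g22_ok, (okE_nil 100)⟩)⟩)

noncomputable def h_E4 : List Net := []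

theorem h_E4_ok : okE 100 h_E4 = true := (okE_nil 100)

noncomputable def h_G3 : List Net := [h_g21, h_g22]

theorem h_G3_ok : okE 100 h_G3 = true := (okE_cons.2 ⟨h_g21_ok, (okE_cons.2 ⟨h_g22_ok, (okE_nil 100)⟩)⟩)

noncomputable def h_E3 : List Net := [h_g21, h_g22, h_g17, h_g18]

theorem h_E3_ok : okE 100 h_E3 = true := (okE_cons.2 ⟨h_g21_ok, (okE_cons.2 ⟨h_g22_ok, (okE_cons.2 ⟨h_g17_ok, (okE_cons.2 ⟨h_g18_ok, (okE_nil 100)⟩)⟩)⟩)⟩)

noncomputable def h_G2 : List Net := [h_g14, h_g21, h_g22, h_g17, h_g18]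

theorem h_G2_ok : okE 100 h_G2 = true := (okE_cons.2 ⟨h_g14_ok, (okE_cons.2 ⟨h_g21_ok, (okE_cons.2 ⟨h_g22_ok, (okE_cons.2 ⟨h_g17_ok, (okE_cons.2 ⟨h_g18_ok, (okE_nil 100)⟩)⟩)⟩)⟩)⟩)

noncomputable def h_E2 : List Net := [h_g14, h_g10, h_g11, h_g21, h_g22, h_g17, h_g18]

theorem h_E2_ok : okE 100 h_E2 = true := (okE_cons.2 ⟨h_g14_ok, (okE_cons.2 ⟨h_g10_ok, (okE_cons.2 ⟨h_g11_ok, (okE_cons.2 ⟨h_g21_ok, (okE_cons.2 ⟨h_g22_ok, (okE_cons.2 ⟨h_g17_ok, (okE_cons.2 ⟨h_g18_ok, (okE_nil 100)⟩)⟩)⟩)⟩)⟩)⟩)⟩)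

noncomputable def h_G1 : List Net := [h_g7, h_g14, h_g10, h_g11, h_g21, h_g22, h_g17, h_g18]

theorem h_G1_ok : okE 100 h_G1 = true := (okE_cons.2 ⟨h_g7_ok, (okE_cons.2 ⟨h_g14_ok, (okE_cons.2 ⟨h_g10_ok, (okE_cons.2 ⟨h_g11_ok, (okE_cons.2 ⟨h_g21_ok, (okE_cons.2 ⟨h_g22_ok, (okE_cons.2 ⟨h_g17_ok, (okE_cons.2 ⟨h_g18_ok, (okE_nil 100)⟩)⟩)⟩)⟩)⟩)⟩)⟩)⟩)

noncomputable def h_E1 : List Net := [h_g7, h_a0, h_g4, h_a8, h_g14, h_g10, h_g11, h_g21, h_g22, h_g17, h_g18]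

theorem h_E1_ok : okE 100 h_E1 = true := (okE_cons.2 ⟨h_g7_ok, (okE_cons.2 ⟨h_a0_ok, (okE_cons.2 ⟨h_g4_ok, (okE_cons.2 ⟨h_a8_ok, (okE_cons.2 ⟨h_g14_ok, (okE_cons.2 ⟨h_g10_ok, (okE_cons.2 ⟨h_g11_ok, (okE_cons.2 ⟨h_g21_ok, (okE_cons.2 ⟨h_g22_ok, (okE_cons.2 ⟨h_g17_ok, (okE_cons.2 ⟨h_g18_ok, (okE_nil 100)⟩)⟩)⟩)⟩)⟩)⟩)⟩)⟩)⟩)⟩)⟩)

noncomputable def h_G0 : List Net := [h_g1, h_g7, h_a0, h_g4, h_a8, h_g14, h_g10, h_g11, h_g21, h_g22, h_g17, h_g18]

theorem h_G0_ok : okE 100 h_G0 = true := (okE_cons.2 ⟨h_g1_ok, (okE_cons.2 ⟨h_g7_ok, (okE_cons.2 ⟨h_a0_ok, (okE_cons.2 ⟨h_g4_ok, (okE_cons.2 ⟨h_a8_ok, (okE_cons.2 ⟨h_g14_ok, (okE_cons.2 ⟨h_g10_ok, (okE_cons.2 ⟨h_g11_ok, (okE_cons.2 ⟨h_g21_ok, (okE_cons.2 ⟨h_g22_ok, (okE_cons.2 ⟨h_g17_ok, (okE_cons.2 ⟨h_g18_ok, (okE_nil 100)⟩)⟩)⟩)⟩)⟩)⟩)⟩)⟩)⟩)⟩)⟩)⟩)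

noncomputable def h_E0 : List Net := [h_g1, h_a19, h_a27, h_g7, h_a0, h_g4, h_a8, h_g14, h_g10, h_g11, h_g21, h_g22, h_g17, h_g18]

theorem h_E0_ok : okE 100 h_E0 = true := (okE_cons.2 ⟨h_g1_ok, (okE_cons.2 ⟨h_a19_ok, (okE_cons.2 ⟨h_a27_ok, (okE_cons.2 ⟨h_g7_ok, (okE_cons.2 ⟨h_a0_ok, (okE_cons.2 ⟨h_g4_ok, (okE_cons.2 ⟨h_a8_ok, (okE_cons.2 ⟨h_g14_ok, (okE_cons.2 ⟨h_g10_ok, (okE_cons.2 ⟨h_g11_ok, (okE_cons.2 ⟨h_g21_ok, (okE_cons.2 ⟨h_g22_ok, (okE_cons.2 ⟨h_g17_ok, (okE_cons.2 ⟨h_g18_ok, (okE_nil 100)⟩)⟩)⟩)⟩)⟩)⟩)⟩)⟩)⟩)⟩)⟩)⟩)⟩)⟩)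

noncomputable def h_g34 : Net := (Net.cons (nat_lit 1) (nat_lit 0x4551111051401005500000400) (Net.cons (nat_lit 2) (nat_lit 0x2133003023020111103121000) (Net.cons (nat_lit 4) (nat_lit 0x80b050b04020f0d0c090004) (Net.cons (nat_lit 8) (nat_lit 0x2200f000c0001700060000) (Net.cons (nat_lit 16) (nat_lit 0x25400000240c00000004) (Net.cons (nat_lit 32) (nat_lit 0xa00000000857bd210) (Net.cons (nat_lit 64) (nat_lit 0x7a57bd35d) (Net.cons (nat_lit 32) (nat_lit 0x9bbb28e7) (Net.cons (nat_lit 16) (nat_lit 0xdaa400002ff10000bd8e) (Net.cons (nat_lit 8) (nat_lit 0x1700b9007f001000d800c4) (Net.cons (nat_lit 4) (nat_lit 0xd0309050a050800060f090f) (Net.cons (nat_lit 2) (nat_lit 0x121322002123131223001210) (Net.cons (nat_lit 1) (nat_lit 0x101110041441455545404410) Net.nil)))))))))))))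

theorem h_g34_ok : Net.ok 100 h_g34 = true := by decide +kernel

noncomputable def h_g35 : Net := (Net.cons (nat_lit 1) (nat_lit 0x5014001000045550544401504) (Net.cons (nat_lit 2) (nat_lit 0x3200330220330002002321030) (Net.cons (nat_lit 4) (nat_lit 0x70a0a0d0f08010208000909) (Net.cons (nat_lit 8) (nat_lit 0x450009009f001a0029000e) (Net.cons (nat_lit 16) (nat_lit 0x24800000216100000002) (Net.cons (nat_lit 32) (nat_lit 0x800000000d10e2080) (Net.cons (nat_lit 64) (nat_lit 0x7d96e2488) (Net.cons (nat_lit 32) (nat_lit 0x7000000007f9b7ffe) (Net.cons (nat_lit 16) (nat_lit 0xdb710000b88b00005189) (Net.cons (nat_lit 8) (nat_lit 0x20043006c002900a5005a) (Net.cons (nat_lit 4) (nat_lit 0x9000b0f0107000d050a0601) (Net.cons (nat_lit 2) (nat_lit 0x2031323130330011332123230) (Net.cons (nat_lit 1) (nat_lit 0x4555550145005450404400104) Net.nil)))))))))))))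

theorem h_g35_ok : Net.ok 100 h_g35 = true := by decide +kernel

noncomputable def h_F : List Net := [h_g34, h_g35]

theorem h_F_ok : okE 100 h_F = true := (okE_cons.2 ⟨h_g34_ok, (okE_cons.2 ⟨h_g35_ok, (okE_nil 100)⟩)⟩)

noncomputable def h_g37 : Net := (Net.cons (nat_lit 1) (nat_lit 0x141114050115041010050500) (Net.cons (nat_lit 2) (nat_lit 0x1123002332311112030102020) (Net.cons (nat_lit 4) (nat_lit 0xf070a0902060b09090f0c06) (Net.cons (nat_lit 8) (nat_lit 0x5600520095002100580009) (Net.cons (nat_lit 16) (nat_lit 0x1d000000d00000000006) (Net.cons (nat_lit 32) (nat_lit 0xab150530) (Net.cons (nat_lit 64) (nat_lit 0xeabfdf573) (Net.cons (nat_lit 32) (nat_lit 0x70000000064e8b743) (Net.cons (nat_lit 16) (nat_lit 0xc7b200009ef20000f4fe) (Net.cons (nat_lit 8) (nat_lit 0xee00680049009200d3005f) (Net.cons (nat_lit 4) (nat_lit 0x40a04030c0e050b0e0908) (Net.cons (nat_lit 2) (nat_lit 0x2331331100001121301123030)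 (Net.cons (nat_lit 1) (nat_lit 0x4010005404051044554401114) Net.nil)))))))))))))

theorem h_g37_ok : Net.ok 100 h_g37 = true := by decide +kernel

noncomputable def h_g38 : Net := (Net.cons (nat_lit 1) (nat_lit 0x140411451100105440115004) (Net.cons (nat_lit 2) (nat_lit 0x2111323200100211103312120) (Net.cons (nat_lit 4) (nat_lit 0x104060209060d0101010a09) (Net.cons (nat_lit 8) (nat_lit 0x43001500c4005e00120004) (Net.cons (nat_lit 16) (nat_lit 0x95d10000d8a400000009) (Net.cons (nat_lit 32) (nat_lit 0x300000000cc1c22b0) (Net.cons (nat_lit 64) (nat_lit 0xfdf7dabb4) (Net.cons (nat_lit 32) (nat_lit 0x3dc488b0) (Net.cons (nat_lit 16) (nat_lit 0x19a30000338c0000762e) (Net.cons (nat_lit 8) (nat_lit 0x800500093007900350083) (Net.cons (nat_lit 4) (nat_lit 0xf0c0b08040c08050f050c03) (Net.cons (nat_lit 2) (nat_lit 0x23013122331223023103012) (Net.cons (nat_lit 1) (nat_lit 0x4151040104455505455115450)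 Net.nil)))))))))))))

theorem h_g38_ok : Net.ok 100 h_g38 = true := by decide +kernel

noncomputable def h_V39 : List Net := [h_g37, h_g38]

theorem h_V39_ok : okE 100 h_V39 = true := (okE_cons.2 ⟨h_g37_ok, (okE_cons.2 ⟨h_g38_ok, (okE_nil 100)⟩)⟩)

noncomputable def h_g41 : Net := (Net.cons (nat_lit 1) (nat_lit 0x1411041141115000104141150) (Net.cons (nat_lit 2) (nat_lit 0x3211103113122031323010100) (Net.cons (nat_lit 4) (nat_lit 0x7060b08000b0008040e0204) (Net.cons (nat_lit 8) (nat_lit 0x3a00ec001500fc0084000d) (Net.cons (nat_lit 16) (nat_lit 0x560a0000940400000001) (Net.cons (nat_lit 32) (nat_lit 0x500000000002c0000) (Net.cons (nat_lit 64) (nat_lit 0xc5aae8c23) (Net.cons (nat_lit 32) (nat_lit 0x1000000008aeb561c) (Net.cons (nat_lit 16) (nat_lit 0x45e70000e4540000c6a4) (Net.cons (nat_lit 8) (nat_lit 0x93003e0043002c0069003f) (Net.cons (nat_lit 4) (nat_lit 0xc060308000b0809080c0804) (Net.cons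 (nat_lit 2) (nat_lit 0x1131311113132011003012030) (Net.cons (nat_lit 1) (nat_lit 0x1540005101054040151505040) Net.nil)))))))))))))

theorem h_g41_ok : Net.ok 100 h_g41 = true := by decide +kernel

noncomputable def h_V42 : List Net := [h_a8, h_g41]

theorem h_V42_ok : okE 100 h_V42 = true := (okE_cons.2 ⟨h_a8_ok, (okE_cons.2 ⟨h_g41_ok, (okE_nil 100)⟩)⟩)

noncomputable def h_g44 : Net := (Net.cons (nat_lit 1) (nat_lit 0x5044144154514010514445000) (Net.cons (nat_lit 2) (nat_lit 0x201232122210031200132000) (Net.cons (nat_lit 4) (nat_lit 0x4000a0504070b030a02070a) (Net.cons (nat_lit 8) (nat_lit 0x2d00bf0070003800080009) (Net.cons (nat_lit 16) (nat_lit 0x18bb0000973200000002) (Net.cons (nat_lit 32) (nat_lit 0x4000000001302ecf0) (Net.cons (nat_lit 64) (nat_lit 0xdbf77eefb) (Net.cons (nat_lit 32) (nat_lit 0x200000000aaf760c8) (Net.cons (nat_lit 16) (nat_lit 0xecf90000541900003042) (Net.cons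 (nat_lit 8) (nat_lit 0xef001e00da00d400b80001) (Net.cons (nat_lit 4) (nat_lit 0xb0b010507090f090b03090a) (Net.cons (nat_lit 2) (nat_lit 0x3220123122322031321330310) (Net.cons (nat_lit 1) (nat_lit 0x5105410455544540054550550) Net.nil)))))))))))))

theorem h_g44_ok : Net.ok 100 h_g44 = true := by decide +kernel

noncomputable def h_g45 : Net := (Net.cons (nat_lit 1) (nat_lit 0x5044044154504000544444400) (Net.cons (nat_lit 2) (nat_lit 0x1201202130230210022300000) (Net.cons (nat_lit 4) (nat_lit 0xf06060d02060e090b000c0c) (Net.cons (nat_lit 8) (nat_lit 0xb00cb00260001000a000e) (Net.cons (nat_lit 16) (nat_lit 0x110000c10b00000004) (Net.cons (nat_lit 32) (nat_lit 0x800000000010a9e70) (Net.cons (nat_lit 64) (nat_lit 0x4bffffe7c) (Net.cons (nat_lit 32) (nat_lit 0x600000000ee9db460) (Net.cons (nat_lit 16) (nat_lit 0x18b000049d300003906) (Net.cons (nat_lit 8) (nat_lit 0x12001d008b004d00490000)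 (Net.cons (nat_lit 4) (nat_lit 0xd0b0101020904040c08030c) (Net.cons (nat_lit 2) (nat_lit 0x3311010130021033331310) (Net.cons (nat_lit 1) (nat_lit 0x1450054104400454504444450) Net.nil)))))))))))))

theorem h_g45_ok : Net.ok 100 h_g45 = true := by decide +kernel

noncomputable def h_g46 : Net := (Net.cons (nat_lit 1) (nat_lit 0x5100114140400000154445000) (Net.cons (nat_lit 2) (nat_lit 0x2033033100311233001023000) (Net.cons (nat_lit 4) (nat_lit 0x60703080e0706020e08000b) (Net.cons (nat_lit 8) (nat_lit 0xd200230033004f00360003) (Net.cons (nat_lit 16) (nat_lit 0x14230000638400000002) (Net.cons (nat_lit 32) (nat_lit 0xe00000000200003c0) (Net.cons (nat_lit 64) (nat_lit 0xdbff6a7c3) (Net.cons (nat_lit 32) (nat_lit 0x3000000006ffe9ae8) (Net.cons (nat_lit 16) (nat_lit 0x97e1000091c400009860) (Net.cons (nat_lit 8) (nat_lit 0x430077008e00cc00a20023) (Net.cons (nat_lit 4) (nat_lit 0x507050f080e08010d02080b)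 (Net.cons (nat_lit 2) (nat_lit 0x1332030033112011211130110) (Net.cons (nat_lit 1) (nat_lit 0x550110455544540051110550) Net.nil)))))))))))))

theorem h_g46_ok : Net.ok 100 h_g46 = true := by decide +kernel

noncomputable def h_V47 : List Net := [h_g44, h_g45, h_g46]

theorem h_V47_ok : okE 100 h_V47 = true := (okE_cons.2 ⟨h_g44_ok, (okE_cons.2 ⟨h_g45_ok, (okE_cons.2 ⟨h_g46_ok, (okE_nil 100)⟩)⟩)⟩)

noncomputable def h_g49 : Net := (Net.cons (nat_lit 1) (nat_lit 0x5105151550150554410444110) (Net.cons (nat_lit 2) (nat_lit 0x3323121110030300102103100) (Net.cons (nat_lit 4) (nat_lit 0x60206030a030009090e0a02) (Net.cons (nat_lit 8) (nat_lit 0x6900200080003500380008) (Net.cons (nat_lit 16) (nat_lit 0xa5aa0000201300000008) (Net.cons (nat_lit 32) (nat_lit 0x4000000001a500a80) (Net.cons (nat_lit 64) (nat_lit 0xf5a70af88) (Net.cons (nat_lit 32) (nat_lit 0xf000000008ffdad9a) (Net.cons (nat_lit 16)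 (nat_lit 0xd000002373000062e2) (Net.cons (nat_lit 8) (nat_lit 0xfb002f0014001b0039002a) (Net.cons (nat_lit 4) (nat_lit 0xf010d0c09090e02030f0800) (Net.cons (nat_lit 2) (nat_lit 0x3202323332301331102123020) (Net.cons (nat_lit 1) (nat_lit 0x10544101501040140445510) Net.nil)))))))))))))

theorem h_g49_ok : Net.ok 100 h_g49 = true := by decide +kernel

noncomputable def h_g50 : Net := (Net.cons (nat_lit 1) (nat_lit 0x140001400000000051111000) (Net.cons (nat_lit 2) (nat_lit 0x2220022200000001020112000) (Net.cons (nat_lit 4) (nat_lit 0x1070e080807070009050100) (Net.cons (nat_lit 8) (nat_lit 0x300600078007800000009) (Net.cons (nat_lit 16) (nat_lit 0x69030000960000000006) (Net.cons (nat_lit 32) (nat_lit 0x96ff69f0) (Net.cons (nat_lit 64) (nat_lit 0xfffffffff) (Net.cons (nat_lit 32) (nat_lit 0xc0000000096ff69fc) (Net.cons (nat_lit 16) (nat_lit 0x69870000968400004406) (Net.cons (nat_lit 8) (nat_lit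 0x870030007800fc00100009) (Net.cons (nat_lit 4) (nat_lit 0x9070f08080707080d050500) (Net.cons (nat_lit 2) (nat_lit 0x2220333303000011030312100) (Net.cons (nat_lit 1) (nat_lit 0x145501455050500051111010) Net.nil)))))))))))))

theorem h_g50_ok : Net.ok 100 h_g50 = true := by decide +kernel

noncomputable def h_V51 : List Net := [h_g49, h_g50]

theorem h_V51_ok : okE 100 h_V51 = true := (okE_cons.2 ⟨h_g49_ok, (okE_cons.2 ⟨h_g50_ok, (okE_nil 100)⟩)⟩)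

noncomputable def h_g53 : Net := (Net.cons (nat_lit 1) (nat_lit 0x140001400000000051111000) (Net.cons (nat_lit 2) (nat_lit 0x2220022200000032020112000) (Net.cons (nat_lit 4) (nat_lit 0x900080000000f020f030800) (Net.cons (nat_lit 8) (nat_lit 0x650020006000600007000d) (Net.cons (nat_lit 16) (nat_lit 0x2600000920000000006) (Net.cons (nat_lit 32) (nat_lit 0xf2906df0) (Net.cons (nat_lit 64) (nat_lit 0xffaf5ffff) (Net.cons (nat_lit 32) (nat_lit 0xf00000000f2906dff) (Net.cons (nat_lit 16) (nat_lit 0x2600000920000004003) (Net.cons (nat_lit 8) (nat_lit 0x65002f006f006f0017000d) (Net.cons (nat_lit 4) (nat_lit 0xc000c0000000f060f030800) (Net.cons (nat_lit 2) (nat_lit 0x3333022230333322030312100) (Net.cons (nat_lit 1) (nat_lit 0x550005500505055051111010) Net.nil)))))))))))))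

theorem h_g53_ok : Net.ok 100 h_g53 = true := by decide +kernel

noncomputable def h_V54 : List Net := [h_g53, h_g50]

theorem h_V54_ok : okE 100 h_V54 = true := (okE_cons.2 ⟨h_g53_ok, (okE_cons.2 ⟨h_g50_ok, (okE_nil 100)⟩)⟩)

noncomputable def h_V56 : List Net := [h_a0, h_a0]

theorem h_V56_ok : okE 100 h_V56 = true := (okE_cons.2 ⟨h_a0_ok, (okE_cons.2 ⟨h_a0_ok, (okE_nil 100)⟩)⟩)

noncomputable def h_lb_E : List Net := [h_g34, h_g35, h_g37, h_g38, h_a8, h_g41, h_g44, h_g45, h_g46, h_g49, h_g50, h_g53, h_g50, h_a0, h_a0]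

theorem h_lb_E_ok : okE 100 h_lb_E = true := (okE_cons.2 ⟨h_g34_ok, (okE_cons.2 ⟨h_g35_ok, (okE_cons.2 ⟨h_g37_ok, (okE_cons.2 ⟨h_g38_ok, (okE_cons.2 ⟨h_a8_ok, (okE_cons.2 ⟨h_g41_ok, (okE_cons.2 ⟨h_g44_ok, (okE_cons.2 ⟨h_g45_ok, (okE_cons.2 ⟨h_g46_ok, (okE_cons.2 ⟨h_g49_ok, (okE_cons.2 ⟨h_g50_ok, (okE_cons.2 ⟨h_g53_ok, (okE_cons.2 ⟨h_g50_ok, (okE_cons.2 ⟨h_a0_ok, (okE_cons.2 ⟨h_a0_ok, (okE_nil 100)⟩)⟩)⟩)⟩)⟩)⟩)⟩)⟩)⟩)⟩)⟩)⟩)⟩)⟩)⟩)

noncomputable def h_g59 : Net := (Net.cons (nat_lit 1) (nat_lit 0x5001410145005541110051440) (Net.cons (nat_lit 2) (nat_lit 0x3323111333010202002312120) (Net.cons (nat_lit 4) (nat_lit 0x50f0b040a0a060400070000) (Net.cons (nat_lit 8) (nat_lit 0x7500ab00730082006d0001) (Net.cons (nat_lit 16) (nat_lit 0x11960000812500000000) (Net.cons (nat_lit 32) (nat_lit 0xc0101300) (Net.cons (nat_lit 64) (nat_lit 0x1c318d3f6) (Net.cons (nat_lit 32) (nat_lit 0x80000000089e65012)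 (Net.cons (nat_lit 16) (nat_lit 0x7e870000e03500007711) (Net.cons (nat_lit 8) (nat_lit 0x7700ab00730080006d000b) (Net.cons (nat_lit 4) (nat_lit 0x50f0b040a0a0e0400070000) (Net.cons (nat_lit 2) (nat_lit 0x3323111333010202002312120) (Net.cons (nat_lit 1) (nat_lit 0x5001410145005541110051440) Net.nil)))))))))))))

theorem h_g59_ok : Net.ok 100 h_g59 = true := by decide +kernel

noncomputable def h_g60 : Net := (Net.cons (nat_lit 1) (nat_lit 0x5410054100550011000155000) (Net.cons (nat_lit 2) (nat_lit 0x13301000000012200231000) (Net.cons (nat_lit 4) (nat_lit 0xd0c08010305040808020808) (Net.cons (nat_lit 8) (nat_lit 0xa7005100bd004400660004) (Net.cons (nat_lit 16) (nat_lit 0x4a5c0000b87000000008) (Net.cons (nat_lit 32) (nat_lit 0xc0000000042810480) (Net.cons (nat_lit 64) (nat_lit 0x35af1248c) (Net.cons (nat_lit 32) (nat_lit 0x3000000005af1e78c) (Net.cons (nat_lit 16) (nat_lit 0xba0f0000ef990000e87f)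 (Net.cons (nat_lit 8) (nat_lit 0x63009a000800ef004500f4) (Net.cons (nat_lit 4) (nat_lit 0xf03090c030e080a040d0500) (Net.cons (nat_lit 2) (nat_lit 0x313120200113103000310323) (Net.cons (nat_lit 1) (nat_lit 0x1050445004414105110445114) Net.nil)))))))))))))

theorem h_g60_ok : Net.ok 100 h_g60 = true := by decide +kernel

noncomputable def h_g61 : Net := (Net.cons (nat_lit 1) (nat_lit 0x5441004001554555055004000) (Net.cons (nat_lit 2) (nat_lit 0x2332003210200012001022010) (Net.cons (nat_lit 4) (nat_lit 0xf06020601020303040a0200) (Net.cons (nat_lit 8) (nat_lit 0x3d00340031005200f70002) (Net.cons (nat_lit 16) (nat_lit 0xf6070000003800000000) (Net.cons (nat_lit 32) (nat_lit 0xc0000000082207010) (Net.cons (nat_lit 64) (nat_lit 0x4df3372b8) (Net.cons (nat_lit 32) (nat_lit 0x30000000009327eb9) (Net.cons (nat_lit 16) (nat_lit 0x467d00009a9100003d42) (Net.cons (nat_lit 8) (nat_lit 0x5700660090005400e7004a)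 (Net.cons (nat_lit 4) (nat_lit 0x408060a0b0c0a0b060d0200) (Net.cons (nat_lit 2) (nat_lit 0x1311313030000213121102231) (Net.cons (nat_lit 1) (nat_lit 0x1410154401545504054011414) Net.nil)))))))))))))

theorem h_g61_ok : Net.ok 100 h_g61 = true := by decide +kernel

noncomputable def h_g62 : Net := (Net.cons (nat_lit 1) (nat_lit 0x504515441005444505040444) (Net.cons (nat_lit 2) (nat_lit 0x3231233000010212212032100) (Net.cons (nat_lit 4) (nat_lit 0xc000b0e080202030704040e) (Net.cons (nat_lit 8) (nat_lit 0x4c00c10034004e0045000a) (Net.cons (nat_lit 16) (nat_lit 0x9a2c0000e6da00000006) (Net.cons (nat_lit 32) (nat_lit 0x800000000862058b0) (Net.cons (nat_lit 64) (nat_lit 0x6c73dffbb) (Net.cons (nat_lit 32) (nat_lit 0x8000000008701716e) (Net.cons (nat_lit 16) (nat_lit 0x1f2e0000ab6800006f90) (Net.cons (nat_lit 8) (nat_lit 0x2400a700610065001c0028) (Net.cons (nat_lit 4) (nat_lit 0xe0e0f060d0d0908040e0601)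 (Net.cons (nat_lit 2) (nat_lit 0x1230231310123213301010303) (Net.cons (nat_lit 1) (nat_lit 0x550555545004411115451050) Net.nil)))))))))))))

theorem h_g62_ok : Net.ok 100 h_g62 = true := by decide +kernel

noncomputable def h_g63 : Net := (Net.cons (nat_lit 1) (nat_lit 0x541150145510010550140100) (Net.cons (nat_lit 2) (nat_lit 0x2303031333332100020102100) (Net.cons (nat_lit 4) (nat_lit 0x8020d02080d00020c08040a) (Net.cons (nat_lit 8) (nat_lit 0x7100c00070000200550001) (Net.cons (nat_lit 16) (nat_lit 0x41d6000002e800000002) (Net.cons (nat_lit 32) (nat_lit 0xc0000000049200290) (Net.cons (nat_lit 64) (nat_lit 0x7ef2b87d9) (Net.cons (nat_lit 32) (nat_lit 0x600000000cb000259) (Net.cons (nat_lit 16) (nat_lit 0xe770000028b1000057a3) (Net.cons (nat_lit 8) (nat_lit 0x9d00f60070003000b6004b) (Net.cons (nat_lit 4) (nat_lit 0x70100090b06020f080a02) (Net.cons (nat_lit 2) (nat_lit 0x32020032102121320211233)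 (Net.cons (nat_lit 1) (nat_lit 0x1151401140544010051400504) Net.nil)))))))))))))

theorem h_g63_ok : Net.ok 100 h_g63 = true := by decide +kernel

noncomputable def h_g64 : Net := (Net.cons (nat_lit 1) (nat_lit 0x1110515544401400405145004) (Net.cons (nat_lit 2) (nat_lit 0x101330023011023111130000) (Net.cons (nat_lit 4) (nat_lit 0x8000d0a0d010a0008010e0a) (Net.cons (nat_lit 8) (nat_lit 0x6d004900e0002400190000) (Net.cons (nat_lit 16) (nat_lit 0xad30000d0a100000000) (Net.cons (nat_lit 32) (nat_lit 0xa0000000000d19300) (Net.cons (nat_lit 64) (nat_lit 0xbdd39fbf) (Net.cons (nat_lit 32) (nat_lit 0xa0000000008f5d100) (Net.cons (nat_lit 16) (nat_lit 0x68f90000dd910000b3f1) (Net.cons (nat_lit 8) (nat_lit 0x6d007e00f00025002800b5) (Net.cons (nat_lit 4) (nat_lit 0xb030f0b0c01080109080d0b) (Net.cons (nat_lit 2) (nat_lit 0x123330221011223113310202) (Net.cons (nat_lit 1) (nat_lit 0x1110515544401400405145004)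 Net.nil)))))))))))))

theorem h_g64_ok : Net.ok 100 h_g64 = true := by decide +kernel

noncomputable def ht_c1_K : List Net := [h_g60, h_g61, h_g62, h_g63, h_g64]

theorem ht_c1_K_ok : okE 100 ht_c1_K = true := (okE_cons.2 ⟨h_g60_ok, (okE_cons.2 ⟨h_g61_ok, (okE_cons.2 ⟨h_g62_ok, (okE_cons.2 ⟨h_g63_ok, (okE_cons.2 ⟨h_g64_ok, (okE_nil 100)⟩)⟩)⟩)⟩)⟩)

noncomputable def h_V66 : List Net := [h_g7, h_a0, h_g4, h_a8, h_g14, h_g10, h_g11, h_g21, h_g22, h_g17, h_g18]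

theorem h_V66_ok : okE 100 h_V66 = true := (okE_cons.2 ⟨h_g7_ok, (okE_cons.2 ⟨h_a0_ok, (okE_cons.2 ⟨h_g4_ok, (okE_cons.2 ⟨h_a8_ok, (okE_cons.2 ⟨h_g14_ok, (okE_cons.2 ⟨h_g10_ok, (okE_cons.2 ⟨h_g11_ok, (okE_cons.2 ⟨h_g21_ok, (okE_cons.2 ⟨h_g22_ok, (okE_cons.2 ⟨h_g17_ok, (okE_cons.2 ⟨h_g18_ok, (okE_nil 100)⟩)⟩)⟩)⟩)⟩)⟩)⟩)⟩)⟩)⟩)⟩)

noncomputable def h_g67 : Net := (Net.cons (nat_lit 1) (nat_lit 0x401051400140414115141100) (Net.cons (nat_lit 2) (nat_lit 0x2113122200121003001202000) (Net.cons (nat_lit 4) (nat_lit 0xc0f010d090e070809040d04) (Net.cons (nat_lit 8) (nat_lit 0x9d006b0093006000110004) (Net.cons (nat_lit 16) (nat_lit 0x54480000c03d00000000) (Net.cons (nat_lit 32) (nat_lit 0x1c060000) (Net.cons (nat_lit 64) (nat_lit 0x57e8f3460) (Net.cons (nat_lit 32) (nat_lit 0xb00000000d55d2062) (Net.cons (nat_lit 16) (nat_lit 0x7f640000103f0000a516) (Net.cons (nat_lit 8) (nat_lit 0x92006a007a00760029005a)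 (Net.cons (nat_lit 4) (nat_lit 0x60702050307070809030404) (Net.cons (nat_lit 2) (nat_lit 0x311230123121100110130102) (Net.cons (nat_lit 1) (nat_lit 0x551451545140154550154514) Net.nil)))))))))))))

theorem h_g67_ok : Net.ok 100 h_g67 = true := by decide +kernel

noncomputable def h_g68 : Net := (Net.cons (nat_lit 1) (nat_lit 0x1140445040141114001100000) (Net.cons (nat_lit 2) (nat_lit 0x221332123003002120030000) (Net.cons (nat_lit 4) (nat_lit 0x6010200060a0d0306030604) (Net.cons (nat_lit 8) (nat_lit 0x68008c0011009900090004) (Net.cons (nat_lit 16) (nat_lit 0x860e0000414900000004) (Net.cons (nat_lit 32) (nat_lit 0xd0000000032c78000) (Net.cons (nat_lit 64) (nat_lit 0x136df99de) (Net.cons (nat_lit 32) (nat_lit 0xe000000002c0c4d62) (Net.cons (nat_lit 16) (nat_lit 0x8f5c00005c2b00009b9a) (Net.cons (nat_lit 8) (nat_lit 0x8900c90065008400fb0058) (Net.cons (nat_lit 4) (nat_lit 0x300020f020a0c0c02000f0a)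 (Net.cons (nat_lit 2) (nat_lit 0x210323013301303123332020) (Net.cons (nat_lit 1) (nat_lit 0x5055451545141510554511044) Net.nil)))))))))))))

theorem h_g68_ok : Net.ok 100 h_g68 = true := by decide +kernel

noncomputable def h_g69 : Net := (Net.cons (nat_lit 1) (nat_lit 0x4410414444054044504504504) (Net.cons (nat_lit 2) (nat_lit 0x3220112132331003210211200) (Net.cons (nat_lit 4) (nat_lit 0x301000c0000060006020e0c) (Net.cons (nat_lit 8) (nat_lit 0xf800ed00b300020000) (Net.cons (nat_lit 16) (nat_lit 0x20a900001e220000000a) (Net.cons (nat_lit 32) (nat_lit 0x2000000000416aba0) (Net.cons (nat_lit 64) (nat_lit 0xd04f7fbf6) (Net.cons (nat_lit 32) (nat_lit 0xb00000000c61eb7f2) (Net.cons (nat_lit 16) (nat_lit 0xba490000bbe200004008) (Net.cons (nat_lit 8) (nat_lit 0x2e00680039009400e700ec) (Net.cons (nat_lit 4) (nat_lit 0x804050b0b07060403020e06) (Net.cons (nat_lit 2) (nat_lit 0x13223302302021101001022)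 (Net.cons (nat_lit 1) (nat_lit 0x5405015001501550455110544) Net.nil)))))))))))))

theorem h_g69_ok : Net.ok 100 h_g69 = true := by decide +kernel

noncomputable def h_g70 : Net := (Net.cons (nat_lit 1) (nat_lit 0x5511511501405445410045000) (Net.cons (nat_lit 2) (nat_lit 0x1020333031011003202120200) (Net.cons (nat_lit 4) (nat_lit 0x50a020106010c0004040000) (Net.cons (nat_lit 8) (nat_lit 0x54004c004000e000000000) (Net.cons (nat_lit 16) (nat_lit 0x92cc0000250200000004) (Net.cons (nat_lit 32) (nat_lit 0xd00000000c026b7b0) (Net.cons (nat_lit 64) (nat_lit 0x1e3aef7fc) (Net.cons (nat_lit 32) (nat_lit 0xf000000007426b7b0) (Net.cons (nat_lit 16) (nat_lit 0x6e9c0000d81b00000016) (Net.cons (nat_lit 8) (nat_lit 0x400b9004300c1008000c0) (Net.cons (nat_lit 4) (nat_lit 0x50e0e0106050c00040c0200) (Net.cons (nat_lit 2) (nat_lit 0x1021333220010100232120200) (Net.cons (nat_lit 1) (nat_lit 0x5511511501405445410045000)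 Net.nil)))))))))))))

theorem h_g70_ok : Net.ok 100 h_g70 = true := by decide +kernel

noncomputable def h_V71 : List Net := [h_g67, h_g68, h_g69, h_g70]

theorem h_V71_ok : okE 100 h_V71 = true := (okE_cons.2 ⟨h_g67_ok, (okE_cons.2 ⟨h_g68_ok, (okE_cons.2 ⟨h_g69_ok, (okE_cons.2 ⟨h_g70_ok, (okE_nil 100)⟩)⟩)⟩)⟩)

noncomputable def h_V73 : List Net := [h_g68, h_g69, h_g70]

theorem h_V73_ok : okE 100 h_V73 = true := (okE_cons.2 ⟨h_g68_ok, (okE_cons.2 ⟨h_g69_ok, (okE_cons.2 ⟨h_g70_ok, (okE_nil 100)⟩)⟩)⟩)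

noncomputable def h_V74 : List Net := [h_g69, h_g70]

theorem h_V74_ok : okE 100 h_V74 = true := (okE_cons.2 ⟨h_g69_ok, (okE_cons.2 ⟨h_g70_ok, (okE_nil 100)⟩)⟩)

noncomputable def h_V75 : List Net := [h_g70]

theorem h_V75_ok : okE 100 h_V75 = true := (okE_cons.2 ⟨h_g70_ok, (okE_nil 100)⟩)

noncomputable def h_V76 : List Net := []

theorem h_V76_ok : okE 100 h_V76 = true := (okE_nil 100)

noncomputable def ht_c1_cnt_EG : List Net := [h_g1, h_a19, h_a27, h_g7, h_a0, h_g4, h_a8, h_g14, h_g10, h_g11, h_g21, h_g22, h_g17, h_g18, h_g67, h_g68, h_g69, h_g70]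

theorem ht_c1_cnt_EG_ok : okE 100 ht_c1_cnt_EG = true := (okE_cons.2 ⟨h_g1_ok, (okE_cons.2 ⟨h_a19_ok, (okE_cons.2 ⟨h_a27_ok, (okE_cons.2 ⟨h_g7_ok, (okE_cons.2 ⟨h_a0_ok, (okE_cons.2 ⟨h_g4_ok, (okE_cons.2 ⟨h_a8_ok, (okE_cons.2 ⟨h_g14_ok, (okE_cons.2 ⟨h_g10_ok, (okE_cons.2 ⟨h_g11_ok, (okE_cons.2 ⟨h_g21_ok, (okE_cons.2 ⟨h_g22_ok, (okE_cons.2 ⟨h_g17_ok, (okE_cons.2 ⟨h_g18_ok, (okE_cons.2 ⟨h_g67_ok, (okE_cons.2 ⟨h_g68_ok, (okE_cons.2 ⟨h_g69_ok, (okE_cons.2 ⟨h_g70_ok, (okE_nil 100)⟩)⟩)⟩)⟩)⟩)⟩)⟩)⟩)⟩)⟩)⟩)⟩)⟩)⟩)⟩)⟩)⟩)⟩)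

noncomputable def h_g77 : Net := (Net.cons (nat_lit 1) (nat_lit 0x5054054511500154011411400) (Net.cons (nat_lit 2) (nat_lit 0x2123010110010330222000000) (Net.cons (nat_lit 4) (nat_lit 0x109040d04060506090e0608) (Net.cons (nat_lit 8) (nat_lit 0x670092000b000a00000000) (Net.cons (nat_lit 16) (nat_lit 0x7736000044300000000a) (Net.cons (nat_lit 32) (nat_lit 0x50000000030120a00) (Net.cons (nat_lit 64) (nat_lit 0xb156fe2f) (Net.cons (nat_lit 32) (nat_lit 0xa00000000526724c0) (Net.cons (nat_lit 16) (nat_lit 0xe21c00002ff7000029df) (Net.cons (nat_lit 8) (nat_lit 0xdc00790048002800400005) (Net.cons (nat_lit 4) (nat_lit 0x7040f0f08090a0b030d0107) (Net.cons (nat_lit 2) (nat_lit 0x3103330230130211323132222) (Net.cons (nat_lit 1) (nat_lit 0x501545050455001541144114) Net.nil)))))))))))))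

theorem h_g77_ok : Net.ok 100 h_g77 = true := by decide +kernel

noncomputable def h_g78 : Net := (Net.cons (nat_lit 1) (nat_lit 0x5155144550054144501501100) (Net.cons (nat_lit 2) (nat_lit 0x1222213103233013210303000) (Net.cons (nat_lit 4) (nat_lit 0xf0d0f040e05060c05020200) (Net.cons (nat_lit 8) (nat_lit 0x120051000500500078000f) (Net.cons (nat_lit 16) (nat_lit 0x80140000301400000000) (Net.cons (nat_lit 32) (nat_lit 0x600000000e087d020) (Net.cons (nat_lit 64) (nat_lit 0xdfee7d2f2) (Net.cons (nat_lit 32) (nat_lit 0x20000000067b0b6e9) (Net.cons (nat_lit 16) (nat_lit 0x94a0000c2ca0000b79a) (Net.cons (nat_lit 8) (nat_lit 0x3b00a200df0065000b000d) (Net.cons (nat_lit 4) (nat_lit 0x402080d000a0005030d0c09) (Net.cons (nat_lit 2) (nat_lit 0x3113300102211121030102022) (Net.cons (nat_lit 1) (nat_lit 0x4011551100040550000504045) Net.nil)))))))))))))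

theorem h_g78_ok : Net.ok 100 h_g78 = true := by decide +kernel

noncomputable def h_g79 : Net := (Net.cons (nat_lit 1) (nat_lit 0x4001100510550400141115044) (Net.cons (nat_lit 2) (nat_lit 0x3310211021331120312102000) (Net.cons (nat_lit 4) (nat_lit 0x9090e0208040a040f02020c) (Net.cons (nat_lit 8) (nat_lit 0x28003e00180044002b000c) (Net.cons (nat_lit 16) (nat_lit 0x4152000048c000000008) (Net.cons (nat_lit 32) (nat_lit 0x204fb710) (Net.cons (nat_lit 64) (nat_lit 0xfb2cfff7c) (Net.cons (nat_lit 32) (nat_lit 0x8000000009a23e1cc) (Net.cons (nat_lit 16) (nat_lit 0x524200006e4e0000f3d0) (Net.cons (nat_lit 8) (nat_lit 0x37000a00f300f3002000e1) (Net.cons (nat_lit 4) (nat_lit 0xb060d07040d0f0d0a010002) (Net.cons (nat_lit 2) (nat_lit 0x2121222210121230210121332) (Net.cons (nat_lit 1) (nat_lit 0x5150454140414545041150054) Net.nil)))))))))))))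

theorem h_g79_ok : Net.ok 100 h_g79 = true := by decide +kernel

noncomputable def h_g80 : Net := (Net.cons (nat_lit 1) (nat_lit 0x1454454501004550000505504) (Net.cons (nat_lit 2) (nat_lit 0x123232033231002000312300) (Net.cons (nat_lit 4) (nat_lit 0x8020a0a0700040001010008) (Net.cons (nat_lit 8) (nat_lit 0x4c004b0001002b00c90000) (Net.cons (nat_lit 16) (nat_lit 0x12f00000208900000001) (Net.cons (nat_lit 32) (nat_lit 0x400000000470d14b0) (Net.cons (nat_lit 64) (nat_lit 0xe47cd14b0) (Net.cons (nat_lit 32) (nat_lit 0x500000000670d14b1) (Net.cons (nat_lit 16) (nat_lit 0x9ef2000079dd0000d72f) (Net.cons (nat_lit 8) (nat_lit 0x48006f0015002e00cb004e) (Net.cons (nat_lit 4) (nat_lit 0x9030a0a070305010105040c) (Net.cons (nat_lit 2) (nat_lit 0x132232033331112000312300) (Net.cons (nat_lit 1) (nat_lit 0x1454454501004550004505444) Net.nil)))))))))))))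

theorem h_g80_ok : Net.ok 100 h_g80 = true := by decide +kernel

noncomputable def ht_c2_K : List Net := [h_g78, h_g79, h_a8, h_g80]

theorem ht_c2_K_ok : okE 100 ht_c2_K = true := (okE_cons.2 ⟨h_g78_ok, (okE_cons.2 ⟨h_g79_ok, (okE_cons.2 ⟨h_a8_ok, (okE_cons.2 ⟨h_g80_ok, (okE_nil 100)⟩)⟩)⟩)⟩)

noncomputable def h_g82 : Net := (Net.cons (nat_lit 1) (nat_lit 0x5055451545141510554511044) (Net.cons (nat_lit 2) (nat_lit 0x32101211021110101130200) (Net.cons (nat_lit 4) (nat_lit 0x30800090a08070f00020308) (Net.cons (nat_lit 8) (nat_lit 0x53005300b9008100070000) (Net.cons (nat_lit 16) (nat_lit 0x60d2000005c100000002) (Net.cons (nat_lit 32) (nat_lit 0xc0000000009624400) (Net.cons (nat_lit 64) (nat_lit 0x37b73d49e) (Net.cons (nat_lit 32) (nat_lit 0x700000000c86d82f2) (Net.cons (nat_lit 16) (nat_lit 0x31f0000084fb00003734) (Net.cons (nat_lit 8) (nat_lit 0x1800170065008500db0070) (Net.cons (nat_lit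 4) (nat_lit 0x6030402060403010d010404) (Net.cons (nat_lit 2) (nat_lit 0x2001111111221210102010220) (Net.cons (nat_lit 1) (nat_lit 0x1140445040141114001100000) Net.nil)))))))))))))

theorem h_g82_ok : Net.ok 100 h_g82 = true := by decide +kernel

noncomputable def h_g83 : Net := (Net.cons (nat_lit 1) (nat_lit 0x1454015140410411005140440) (Net.cons (nat_lit 2) (nat_lit 0x1022022002221111000300000) (Net.cons (nat_lit 4) (nat_lit 0x508010308030f0402080c04) (Net.cons (nat_lit 8) (nat_lit 0x29007c001d0084009a000c) (Net.cons (nat_lit 16) (nat_lit 0x501000008a3000000008) (Net.cons (nat_lit 32) (nat_lit 0x10000000050118b60) (Net.cons (nat_lit 64) (nat_lit 0xb5013cfe2) (Net.cons (nat_lit 32) (nat_lit 0x500000000aeb9cf74) (Net.cons (nat_lit 16) (nat_lit 0x30190000ce3100007410) (Net.cons (nat_lit 8) (nat_lit 0x110054000d0084008b001c) (Net.cons (nat_lit 4) (nat_lit 0xf080b0308030f0402060c04) (Net.cons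 (nat_lit 2) (nat_lit 0x1200000030022313002122010) (Net.cons (nat_lit 1) (nat_lit 0x1454015140410411005140440) Net.nil)))))))))))))

theorem h_g83_ok : Net.ok 100 h_g83 = true := by decide +kernel

noncomputable def h_V84 : List Net := [h_g82, h_g83]

theorem h_V84_ok : okE 100 h_V84 = true := (okE_cons.2 ⟨h_g82_ok, (okE_cons.2 ⟨h_g83_ok, (okE_nil 100)⟩)⟩)

noncomputable def h_V86 : List Net := [h_g83]

theorem h_V86_ok : okE 100 h_V86 = true := (okE_cons.2 ⟨h_g83_ok, (okE_nil 100)⟩)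

noncomputable def h_V87 : List Net := []

theorem h_V87_ok : okE 100 h_V87 = true := (okE_nil 100)

noncomputable def ht_c2_cnt_EG : List Net := [h_g1, h_a19, h_a27, h_g7, h_a0, h_g4, h_a8, h_g14, h_g10, h_g11, h_g21, h_g22, h_g17, h_g18, h_g67, h_g68, h_g69, h_g70, h_g82, h_g83]

theorem ht_c2_cnt_EG_ok : okE 100 ht_c2_cnt_EG = true := (okE_cons.2 ⟨h_g1_ok, (okE_cons.2 ⟨h_a19_ok, (okE_cons.2 ⟨h_a27_ok, (okE_cons.2 ⟨h_g7_ok, (okE_cons.2 ⟨h_a0_ok, (okE_cons.2 ⟨h_g4_ok, (okE_cons.2 ⟨h_a8_ok, (okE_cons.2 ⟨h_g14_ok, (okE_cons.2 ⟨h_g10_ok, (okE_cons.2 ⟨h_g11_ok, (okE_cons.2 ⟨h_g21_ok, (okE_cons.2 ⟨h_g22_ok, (okE_cons.2 ⟨h_g17_ok, (okE_cons.2 ⟨h_g18_ok, (okE_cons.2 ⟨h_g67_ok, (okE_cons.2 ⟨h_g68_ok, (okE_cons.2 ⟨h_g69_ok, (okE_cons.2 ⟨h_g70_ok, (okE_cons.2 ⟨h_g82_ok, (okE_cons.2 ⟨h_g83_ok, (okE_nil 100)⟩)⟩)⟩)⟩)⟩)⟩)⟩)⟩)⟩)⟩)⟩)⟩)⟩)⟩)⟩)⟩)⟩)⟩)⟩)⟩)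

noncomputable def h_g88 : Net := (Net.cons (nat_lit 1) (nat_lit 0x4114055051144001400105144) (Net.cons (nat_lit 2) (nat_lit 0x2110312300123003202000000) (Net.cons (nat_lit 4) (nat_lit 0x40208050f0b070007090800) (Net.cons (nat_lit 8) (nat_lit 0x62000000ce001700050009) (Net.cons (nat_lit 16) (nat_lit 0xb04800002a2300000001) (Net.cons (nat_lit 32) (nat_lit 0xc00000000c44a0000) (Net.cons (nat_lit 64) (nat_lit 0x7d4de3208) (Net.cons (nat_lit 32) (nat_lit 0x4000000009cea67db) (Net.cons (nat_lit 16) (nat_lit 0xbfc400002d2f00001641) (Net.cons (nat_lit 8) (nat_lit 0xfe00c700c200230013004c) (Net.cons (nat_lit 4) (nat_lit 0xc0c00050d0b0700060c0e04) (Net.cons (nat_lit 2) (nat_lit 0x2101112102112202301000130) (Net.cons (nat_lit 1) (nat_lit 0x4051110450504001010105045) Net.nil)))))))))))))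

theorem h_g88_ok : Net.ok 100 h_g88 = true := by decide +kernel

noncomputable def h_g89 : Net := (Net.cons (nat_lit 1) (nat_lit 0x4444140441051550155140000) (Net.cons (nat_lit 2) (nat_lit 0x3020002221000032311033200) (Net.cons (nat_lit 4) (nat_lit 0x20200020f02030400090400) (Net.cons (nat_lit 8) (nat_lit 0x74005a00010083001c0008) (Net.cons (nat_lit 16) (nat_lit 0xb8020000894500000007) (Net.cons (nat_lit 32) (nat_lit 0x40000000084030480) (Net.cons (nat_lit 64) (nat_lit 0xaeceb3697) (Net.cons (nat_lit 32) (nat_lit 0x100000000e8b191ce) (Net.cons (nat_lit 16) (nat_lit 0x8dd500004a850000f322) (Net.cons (nat_lit 8) (nat_lit 0xb800f9000c00e1008f0064) (Net.cons (nat_lit 4) (nat_lit 0xd0c0702040f0c060c050903) (Net.cons (nat_lit 2) (nat_lit 0x2113300130101231122010221) (Net.cons (nat_lit 1) (nat_lit 0x1100051045541515451554451) Net.nil)))))))))))))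

theorem h_g89_ok : Net.ok 100 h_g89 = true := by decide +kernel

noncomputable def h_g90 : Net := (Net.cons (nat_lit 1) (nat_lit 0x4001154400145514101141044) (Net.cons (nat_lit 2) (nat_lit 0x331120132303032330210110) (Net.cons (nat_lit 4) (nat_lit 0x2030e040508000d0c010c0a) (Net.cons (nat_lit 8) (nat_lit 0xfb003600b8001200b5000c) (Net.cons (nat_lit 16) (nat_lit 0x18100000ffa000000003) (Net.cons (nat_lit 32) (nat_lit 0xa000000000d80e010) (Net.cons (nat_lit 64) (nat_lit 0x1bf84e51f) (Net.cons (nat_lit 32) (nat_lit 0x500000000c47ed70a) (Net.cons (nat_lit 16) (nat_lit 0x698c00005d680000ac65) (Net.cons (nat_lit 8) (nat_lit 0x1b009d00be00a400bb0075) (Net.cons (nat_lit 4) (nat_lit 0x70101070402040902060408) (Net.cons (nat_lit 2) (nat_lit 0x1311011302312033023003030) (Net.cons (nat_lit 1) (nat_lit 0x154050551104100500115155) Net.nil)))))))))))))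

theorem h_g90_ok : Net.ok 100 h_g90 = true := by decide +kernel

noncomputable def h_g91 : Net := (Net.cons (nat_lit 1) (nat_lit 0x1541455440554440010000044) (Net.cons (nat_lit 2) (nat_lit 0x102031033002212012313020) (Net.cons (nat_lit 4) (nat_lit 0xa0c03020001010002080c06) (Net.cons (nat_lit 8) (nat_lit 0x1e0078009c0003000e0004) (Net.cons (nat_lit 16) (nat_lit 0xad08000002040000000e) (Net.cons (nat_lit 32) (nat_lit 0x4000000002487cd10) (Net.cons (nat_lit 64) (nat_lit 0xbfff7ed5e) (Net.cons (nat_lit 32) (nat_lit 0xe000000004c76b3d4) (Net.cons (nat_lit 16) (nat_lit 0x312b0000438300002119) (Net.cons (nat_lit 8) (nat_lit 0xc700bd0088006e00a50073) (Net.cons (nat_lit 4) (nat_lit 0xa0900090c07090306050a05) (Net.cons (nat_lit 2) (nat_lit 0x1123010101011302313132020) (Net.cons (nat_lit 1) (nat_lit 0x4440451105114545515111014) Net.nil)))))))))))))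

theorem h_g91_ok : Net.ok 100 h_g91 = true := by decide +kernel

noncomputable def h_g92 : Net := (Net.cons (nat_lit 1) (nat_lit 0x5005044540444150404154144) (Net.cons (nat_lit 2) (nat_lit 0x1333021133210221100120000) (Net.cons (nat_lit 4) (nat_lit 0xe0f0c00090c0b050f080101) (Net.cons (nat_lit 8) (nat_lit 0xd2000e0036005800100000) (Net.cons (nat_lit 16) (nat_lit 0xe39000004140000000c) (Net.cons (nat_lit 32) (nat_lit 0xc000000001da813f0) (Net.cons (nat_lit 64) (nat_lit 0x41dad53f8) (Net.cons (nat_lit 32) (nat_lit 0x900000000519d1378) (Net.cons (nat_lit 16) (nat_lit 0xf53800002467000050a9) (Net.cons (nat_lit 8) (nat_lit 0x6600c9008f00c200340062) (Net.cons (nat_lit 4) (nat_lit 0x40f0d040d060c0e0a0e0500) (Net.cons (nat_lit 2) (nat_lit 0x223000033230002310122021) (Net.cons (nat_lit 1) (nat_lit 0x1555444010444015104000114) Net.nil)))))))))))))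

theorem h_g92_ok : Net.ok 100 h_g92 = true := by decide +kernel

noncomputable def h_g93 : Net := (Net.cons (nat_lit 1) (nat_lit 0x4541051511040011041005000) (Net.cons (nat_lit 2) (nat_lit 0x2001222101011122322021000) (Net.cons (nat_lit 4) (nat_lit 0x20c030a0c04040700020000) (Net.cons (nat_lit 8) (nat_lit 0xa200d600c0000400430008) (Net.cons (nat_lit 16) (nat_lit 0x2081000000000000000a) (Net.cons (nat_lit 32) (nat_lit 0x800000000d423c430) (Net.cons (nat_lit 64) (nat_lit 0x6fcf3dc7a) (Net.cons (nat_lit 32) (nat_lit 0xa00000000c433c432) (Net.cons (nat_lit 16) (nat_lit 0x2b8f000022c20000082b) (Net.cons (nat_lit 8) (nat_lit 0xb200d600d8000c00530088) (Net.cons (nat_lit 4) (nat_lit 0x20c030a0e04070700020400) (Net.cons (nat_lit 2) (nat_lit 0x2001222101011122322021000) (Net.cons (nat_lit 1) (nat_lit 0x4541051511040011041005000) Net.nil)))))))))))))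

theorem h_g93_ok : Net.ok 100 h_g93 = true := by decide +kernel

noncomputable def ht_c3_K : List Net := [h_g89, h_g90, h_g91, h_g92, h_g93]

theorem ht_c3_K_ok : okE 100 ht_c3_K = true := (okE_cons.2 ⟨h_g89_ok, (okE_cons.2 ⟨h_g90_ok, (okE_cons.2 ⟨h_g91_ok, (okE_cons.2 ⟨h_g92_ok, (okE_cons.2 ⟨h_g93_ok, (okE_nil 100)⟩)⟩)⟩)⟩)⟩)

noncomputable def ht_c3_cnt_EG : List Net := [h_g7, h_a0, h_g4, h_a8, h_g14, h_g10, h_g11, h_g21, h_g22, h_g17, h_g18, h_g1, h_a19, h_a27, h_g67, h_g68, h_g69, h_g70, h_g82, h_g83]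

theorem ht_c3_cnt_EG_ok : okE 100 ht_c3_cnt_EG = true := (okE_cons.2 ⟨h_g7_ok, (okE_cons.2 ⟨h_a0_ok, (okE_cons.2 ⟨h_g4_ok, (okE_cons.2 ⟨h_a8_ok, (okE_cons.2 ⟨h_g14_ok, (okE_cons.2 ⟨h_g10_ok, (okE_cons.2 ⟨h_g11_ok, (okE_cons.2 ⟨h_g21_ok, (okE_cons.2 ⟨h_g22_ok, (okE_cons.2 ⟨h_g17_ok, (okE_cons.2 ⟨h_g18_ok, (okE_cons.2 ⟨h_g1_ok, (okE_cons.2 ⟨h_a19_ok, (okE_cons.2 ⟨h_a27_ok, (okE_cons.2 ⟨h_g67_ok, (okE_cons.2 ⟨h_g68_ok, (okE_cons.2 ⟨h_g69_ok, (okE_cons.2 ⟨h_g70_ok, (okE_cons.2 ⟨h_g82_ok, (okE_cons.2 ⟨h_g83_ok, (okE_nil 100)⟩)⟩)⟩)⟩)⟩)⟩)⟩)⟩)⟩)⟩)⟩)⟩)⟩)⟩)⟩)⟩)⟩)⟩)⟩)⟩)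

noncomputable def h_g95 : Net := (Net.cons (nat_lit 1) (nat_lit 0x1154155155504440005440510) (Net.cons (nat_lit 2) (nat_lit 0x3200232320301000202302020) (Net.cons (nat_lit 4) (nat_lit 0xe090001000e070f0f080601) (Net.cons (nat_lit 8) (nat_lit 0x400e9004b000000030000) (Net.cons (nat_lit 16) (nat_lit 0x58020000100c00000000) (Net.cons (nat_lit 32) (nat_lit 0x20000000058860e00) (Net.cons (nat_lit 64) (nat_lit 0x95886efff) (Net.cons (nat_lit 32) (nat_lit 0x300000000598637f0) (Net.cons (nat_lit 16) (nat_lit 0xc7610000b01300004d0b) (Net.cons (nat_lit 8) (nat_lit 0x75001d00dd00930083000c) (Net.cons (nat_lit 4) (nat_lit 0xb050f05070f04060b0c030d) (Net.cons (nat_lit 2) (nat_lit 0x1323320023302012102222301) (Net.cons (nat_lit 1) (nat_lit 0x5404405444401014555444511) Net.nil)))))))))))))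

theorem h_g95_ok : Net.ok 100 h_g95 = true := by decide +kernel

noncomputable def h_g96 : Net := (Net.cons (nat_lit 1) (nat_lit 0x5005054545141400545140050) (Net.cons (nat_lit 2) (nat_lit 0x3010132132013231220220210) (Net.cons (nat_lit 4) (nat_lit 0x8040d0e040f0e0601070b09) (Net.cons (nat_lit 8) (nat_lit 0x28005d00ad000000820008) (Net.cons (nat_lit 16) (nat_lit 0x8640000081640000000c) (Net.cons (nat_lit 32) (nat_lit 0x3000000001210c820) (Net.cons (nat_lit 64) (nat_lit 0xc37dce8af) (Net.cons (nat_lit 32) (nat_lit 0xf00000000107225b6) (Net.cons (nat_lit 16) (nat_lit 0x6bfc00009a540000c4fe) (Net.cons (nat_lit 8) (nat_lit 0xf9007c00760063002f00d5) (Net.cons (nat_lit 4) (nat_lit 0x50e0a0305090b01030b0a0a) (Net.cons (nat_lit 2) (nat_lit 0x1013000103121213032130230) (Net.cons (nat_lit 1) (nat_lit 0x5540410140145114551550454) Net.nil)))))))))))))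

theorem h_g96_ok : Net.ok 100 h_g96 = true := by decide +kernel

noncomputable def h_g97 : Net := (Net.cons (nat_lit 1) (nat_lit 0x501015015540551100001140) (Net.cons (nat_lit 2) (nat_lit 0x3122210102233133000201020) (Net.cons (nat_lit 4) (nat_lit 0xb0703000c00010c0a0e060c) (Net.cons (nat_lit 8) (nat_lit 0xa800e100a600d800060000) (Net.cons (nat_lit 16) (nat_lit 0xd485000021c30000000c) (Net.cons (nat_lit 32) (nat_lit 0xb0000000051118000) (Net.cons (nat_lit 64) (nat_lit 0x2d3f5853d) (Net.cons (nat_lit 32) (nat_lit 0xf000000001246ea90) (Net.cons (nat_lit 16) (nat_lit 0x874d00000e410000ca58) (Net.cons (nat_lit 8) (nat_lit 0x94003e00e600b8000d0095) (Net.cons (nat_lit 4) (nat_lit 0x70a080c040a07020d070f) (Net.cons (nat_lit 2) (nat_lit 0x3322223013131321322001330) (Net.cons (nat_lit 1) (nat_lit 0x1445440414140415444001504) Net.nil)))))))))))))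

theorem h_g97_ok : Net.ok 100 h_g97 = true := by decide +kernel

noncomputable def ht_c4_K : List Net := [h_g96, h_g97, h_g95]

theorem ht_c4_K_ok : okE 100 ht_c4_K = true := (okE_cons.2 ⟨h_g96_ok, (okE_cons.2 ⟨h_g97_ok, (okE_cons.2 ⟨h_g95_ok, (okE_nil 100)⟩)⟩)⟩)

noncomputable def h_V99 : List Net := [h_g14, h_g10, h_g11, h_g21, h_g22, h_g17, h_g18]

theorem h_V99_ok : okE 100 h_V99 = true := (okE_cons.2 ⟨h_g14_ok, (okE_cons.2 ⟨h_g10_ok, (okE_cons.2 ⟨h_g11_ok, (okE_cons.2 ⟨h_g21_ok, (okE_cons.2 ⟨h_g22_ok, (okE_cons.2 ⟨h_g17_ok, (okE_cons.2 ⟨h_g18_ok, (okE_nil 100)⟩)⟩)⟩)⟩)⟩)⟩)⟩)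

noncomputable def h_V100 : List Net := [h_g21, h_g22, h_g17, h_g18]

theorem h_V100_ok : okE 100 h_V100 = true := (okE_cons.2 ⟨h_g21_ok, (okE_cons.2 ⟨h_g22_ok, (okE_cons.2 ⟨h_g17_ok, (okE_cons.2 ⟨h_g18_ok, (okE_nil 100)⟩)⟩)⟩)⟩)

noncomputable def h_g101 : Net := (Net.cons (nat_lit 1) (nat_lit 0x1111501005110144505551050) (Net.cons (nat_lit 2) (nat_lit 0x1023323002100203211120320) (Net.cons (nat_lit 4) (nat_lit 0x7010107090e05080b0c010a) (Net.cons (nat_lit 8) (nat_lit 0xbc0030001e00470030000b) (Net.cons (nat_lit 16) (nat_lit 0x3145000006900000000c) (Net.cons (nat_lit 32) (nat_lit 0x2000000008cc27130) (Net.cons (nat_lit 64) (nat_lit 0xd8eca7137) (Net.cons (nat_lit 32) (nat_lit 0x20000000073480925) (Net.cons (nat_lit 16) (nat_lit 0x713500004990000000fe) (Net.cons (nat_lit 8) (nat_lit 0x8c00bb00a7002f00760093) (Net.cons (nat_lit 4) (nat_lit 0x50d040c050b02030604060e) (Net.cons (nat_lit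 2) (nat_lit 0x2333132100022310103003122) (Net.cons (nat_lit 1) (nat_lit 0x544410405451151010515144) Net.nil)))))))))))))

theorem h_g101_ok : Net.ok 100 h_g101 = true := by decide +kernel

noncomputable def h_g102 : Net := (Net.cons (nat_lit 1) (nat_lit 0x5050115140010001451104000) (Net.cons (nat_lit 2) (nat_lit 0x3232320212011100013230) (Net.cons (nat_lit 4) (nat_lit 0x40c090c060a0f02040c0800) (Net.cons (nat_lit 8) (nat_lit 0xb9006d0006004600020000) (Net.cons (nat_lit 16) (nat_lit 0xd90000389100000001) (Net.cons (nat_lit 32) (nat_lit 0x4000000008899c020) (Net.cons (nat_lit 64) (nat_lit 0xe8cd9cb20) (Net.cons (nat_lit 32) (nat_lit 0x900000000dde1a8e1) (Net.cons (nat_lit 16) (nat_lit 0x34d5000036c10000c80f) (Net.cons (nat_lit 8) (nat_lit 0xb500b5004e008a00070048) (Net.cons (nat_lit 4) (nat_lit 0x80c0908060e0f0700090800) (Net.cons (nat_lit 2) (nat_lit 0x2223220203010003103232) (Net.cons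 (nat_lit 1) (nat_lit 0x1410115140110401450504004) Net.nil)))))))))))))

theorem h_g102_ok : Net.ok 100 h_g102 = true := by decide +kernel

noncomputable def h_V103 : List Net := [h_g101, h_g102]

theorem h_V103_ok : okE 100 h_V103 = true := (okE_cons.2 ⟨h_g101_ok, (okE_cons.2 ⟨h_g102_ok, (okE_nil 100)⟩)⟩)

noncomputable def h_V105 : List Net := [h_g102]

theorem h_V105_ok : okE 100 h_V105 = true := (okE_cons.2 ⟨h_g102_ok, (okE_nil 100)⟩)

noncomputable def h_V106 : List Net := []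

theorem h_V106_ok : okE 100 h_V106 = true := (okE_nil 100)

noncomputable def ht_c4_cnt_EG : List Net := [h_g1, h_a19, h_a27, h_g7, h_a0, h_g4, h_a8, h_g14, h_g10, h_g11, h_g21, h_g22, h_g17, h_g18, h_g101, h_g102]

theorem ht_c4_cnt_EG_ok : okE 100 ht_c4_cnt_EG = true := (okE_cons.2 ⟨h_g1_ok, (okE_cons.2 ⟨h_a19_ok, (okE_cons.2 ⟨h_a27_ok, (okE_cons.2 ⟨h_g7_ok, (okE_cons.2 ⟨h_a0_ok, (okE_cons.2 ⟨h_g4_ok, (okE_cons.2 ⟨h_a8_ok, (okE_cons.2 ⟨h_g14_ok, (okE_cons.2 ⟨h_g10_ok, (okE_cons.2 ⟨h_g11_ok, (okE_cons.2 ⟨h_g21_ok, (okE_cons.2 ⟨h_g22_ok, (okE_cons.2 ⟨h_g17_ok, (okE_cons.2 ⟨h_g18_ok, (okE_cons.2 ⟨h_g101_ok, (okE_cons.2 ⟨h_g102_ok, (okE_nil 100)⟩)⟩)⟩)⟩)⟩)⟩)⟩)⟩)⟩)⟩)⟩)⟩)⟩)⟩)⟩)⟩)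

noncomputable def h_g107 : Net := (Net.cons (nat_lit 1) (nat_lit 0x4010014055104504115450400) (Net.cons (nat_lit 2) (nat_lit 0x2101032321020201321023000) (Net.cons (nat_lit 4) (nat_lit 0xd0a0a0f0206000608000801) (Net.cons (nat_lit 8) (nat_lit 0x85002e00c3004100630000) (Net.cons (nat_lit 16) (nat_lit 0xbc190000085500000001) (Net.cons (nat_lit 32) (nat_lit 0xa0000000022800230) (Net.cons (nat_lit 64) (nat_lit 0x9bf8502b2) (Net.cons (nat_lit 32) (nat_lit 0x8000000003b97b472) (Net.cons (nat_lit 16) (nat_lit 0x33d200006aef00006705) (Net.cons (nat_lit 8) (nat_lit 0x1e009500d7004b00a00050) (Net.cons (nat_lit 4) (nat_lit 0xe08090000040b0601000f00) (Net.cons (nat_lit 2) (nat_lit 0x3120122010022023131103123) (Net.cons (nat_lit 1) (nat_lit 0x15514401004515110051005) Net.nil)))))))))))))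

theorem h_g107_ok : Net.ok 100 h_g107 = true := by decide +kernel

noncomputable def h_g108 : Net := (Net.cons (nat_lit 1) (nat_lit 0x4005055514411544111000010) (Net.cons (nat_lit 2) (nat_lit 0x3220011200310203232320020) (Net.cons (nat_lit 4) (nat_lit 0x2010f0b01040e0006010508) (Net.cons (nat_lit 8) (nat_lit 0x8e00400060008e00f70008) (Net.cons (nat_lit 16) (nat_lit 0xe368000009040000000e) (Net.cons (nat_lit 32) (nat_lit 0xc000000008b082000) (Net.cons (nat_lit 64) (nat_lit 0x1cb2a2d4e) (Net.cons (nat_lit 32) (nat_lit 0xb00000000ee0221ec) (Net.cons (nat_lit 16) (nat_lit 0xaff0000042610000d10d) (Net.cons (nat_lit 8) (nat_lit 0x6d006900a800ce00d700a2) (Net.cons (nat_lit 4) (nat_lit 0xa0001020d040d000c0c0e08) (Net.cons (nat_lit 2) (nat_lit 0x1020323113113003001333230) (Net.cons (nat_lit 1) (nat_lit 0x11105404451010044115101) Net.nil)))))))))))))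

theorem h_g108_ok : Net.ok 100 h_g108 = true := by decide +kernel

noncomputable def h_g109 : Net := (Net.cons (nat_lit 1) (nat_lit 0x1150045050454101041101104) (Net.cons (nat_lit 2) (nat_lit 0x3012121013002320030133000) (Net.cons (nat_lit 4) (nat_lit 0x7010f03000e0b0206040700) (Net.cons (nat_lit 8) (nat_lit 0xb0004400db008700100000) (Net.cons (nat_lit 16) (nat_lit 0x8390000002800000004) (Net.cons (nat_lit 32) (nat_lit 0x60000000012dc08a0) (Net.cons (nat_lit 64) (nat_lit 0xbf2fe0cf5) (Net.cons (nat_lit 32) (nat_lit 0x40000000023ccf334) (Net.cons (nat_lit 16) (nat_lit 0x8db000092cb0000cf9b) (Net.cons (nat_lit 8) (nat_lit 0x5006900e000480013003a) (Net.cons (nat_lit 4) (nat_lit 0x50f0501030204080f030103) (Net.cons (nat_lit 2) (nat_lit 0x1013221022223023013223013) (Net.cons (nat_lit 1) (nat_lit 0x4401115545414415015541511) Net.nil)))))))))))))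

theorem h_g109_ok : Net.ok 100 h_g109 = true := by decide +kernel

noncomputable def h_g110 : Net := (Net.cons (nat_lit 1) (nat_lit 0x40105451000554450054000) (Net.cons (nat_lit 2) (nat_lit 0x211212100332111021232130) (Net.cons (nat_lit 4) (nat_lit 0x90d0d00030f0a0308080200) (Net.cons (nat_lit 8) (nat_lit 0xd70058001c008200100004) (Net.cons (nat_lit 16) (nat_lit 0x15a300002d8f00000000) (Net.cons (nat_lit 32) (nat_lit 0xa000000008a098780) (Net.cons (nat_lit 64) (nat_lit 0xe8acbdfa4) (Net.cons (nat_lit 32) (nat_lit 0x20000000060401280) (Net.cons (nat_lit 16) (nat_lit 0xeba00000fe0f00003422) (Net.cons (nat_lit 8) (nat_lit 0xcb00ca000f000a00000071) (Net.cons (nat_lit 4) (nat_lit 0x5020d04020a000a0a060402) (Net.cons (nat_lit 2) (nat_lit 0x1203302011333002032310302) (Net.cons (nat_lit 1) (nat_lit 0x4541515045101405451510001) Net.nil)))))))))))))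

theorem h_g110_ok : Net.ok 100 h_g110 = true := by decide +kernel

noncomputable def h_g111 : Net := (Net.cons (nat_lit 1) (nat_lit 0x5405540550015541011445000) (Net.cons (nat_lit 2) (nat_lit 0x3121201120011020021010200) (Net.cons (nat_lit 4) (nat_lit 0x6000e00010c0a0f01060105) (Net.cons (nat_lit 8) (nat_lit 0xf600f100120025001b0002) (Net.cons (nat_lit 16) (nat_lit 0x508b0000042600000000) (Net.cons (nat_lit 32) (nat_lit 0xa5208140) (Net.cons (nat_lit 64) (nat_lit 0xfbd60f5cb) (Net.cons (nat_lit 32) (nat_lit 0x800000000a6f29b38) (Net.cons (nat_lit 16) (nat_lit 0xc3df0000857600009151) (Net.cons (nat_lit 8) (nat_lit 0xf700f900120035000a0003) (Net.cons (nat_lit 4) (nat_lit 0x6010e00010c0a0e05070105) (Net.cons (nat_lit 2) (nat_lit 0x3121201120013020021210200) (Net.cons (nat_lit 1) (nat_lit 0x5405540550015541011445000) Net.nil)))))))))))))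

theorem h_g111_ok : Net.ok 100 h_g111 = true := by decide +kernel

noncomputable def ht_c5_K : List Net := [h_g107, h_g108, h_g109, h_g110, h_g111, h_g59]

theorem ht_c5_K_ok : okE 100 ht_c5_K = true := (okE_cons.2 ⟨h_g107_ok, (okE_cons.2 ⟨h_g108_ok, (okE_cons.2 ⟨h_g109_ok, (okE_cons.2 ⟨h_g110_ok, (okE_cons.2 ⟨h_g111_ok, (okE_cons.2 ⟨h_g59_ok, (okE_nil 100)⟩)⟩)⟩)⟩)⟩)⟩)

noncomputable def h_V113 : List Net := []

theorem h_V113_ok : okE 100 h_V113 = true := (okE_nil 100)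

noncomputable def ht_c5_cnt_EG : List Net := [h_g1, h_a19, h_a27, h_g7, h_a0, h_g4, h_a8, h_g14, h_g10, h_g11, h_g21, h_g22, h_g17, h_g18, h_g67, h_g68, h_g69, h_g70, h_g82, h_g83]

theorem ht_c5_cnt_EG_ok : okE 100 ht_c5_cnt_EG = true := (okE_cons.2 ⟨h_g1_ok, (okE_cons.2 ⟨h_a19_ok, (okE_cons.2 ⟨h_a27_ok, (okE_cons.2 ⟨h_g7_ok, (okE_cons.2 ⟨h_a0_ok, (okE_cons.2 ⟨h_g4_ok, (okE_cons.2 ⟨h_a8_ok, (okE_cons.2 ⟨h_g14_ok, (okE_cons.2 ⟨h_g10_ok, (okE_cons.2 ⟨h_g11_ok, (okE_cons.2 ⟨h_g21_ok, (okE_cons.2 ⟨h_g22_ok, (okE_cons.2 ⟨h_g17_ok, (okE_cons.2 ⟨h_g18_ok, (okE_cons.2 ⟨h_g67_ok, (okE_cons.2 ⟨h_g68_ok, (okE_cons.2 ⟨h_g69_ok, (okE_cons.2 ⟨h_g70_ok, (okE_cons.2 ⟨h_g82_ok, (okE_cons.2 ⟨h_g83_ok, (okE_nil 100)⟩)⟩)⟩)⟩)⟩)⟩)⟩)⟩)⟩)⟩)⟩)⟩)⟩)⟩)⟩)⟩)⟩)⟩)⟩)⟩)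

noncomputable def h_g115 : Net := (Net.cons (nat_lit 1) (nat_lit 0x4450105001410000010510000) (Net.cons (nat_lit 2) (nat_lit 0x1033123120011001230002020) (Net.cons (nat_lit 4) (nat_lit 0x30e0908060803090f0c0307) (Net.cons (nat_lit 8) (nat_lit 0x6400400000006d00850000) (Net.cons (nat_lit 16) (nat_lit 0xa8430000040100000003) (Net.cons (nat_lit 32) (nat_lit 0x9000000004880b3f0) (Net.cons (nat_lit 64) (nat_lit 0xf4c81fbf0) (Net.cons (nat_lit 32) (nat_lit 0x200000000b0d50d27) (Net.cons (nat_lit 16) (nat_lit 0x142d0000cb2d00005be9) (Net.cons (nat_lit 8) (nat_lit 0x9c004a0013007c00ca0073) (Net.cons (nat_lit 4) (nat_lit 0x6070100060208000d0e0d) (Net.cons (nat_lit 2) (nat_lit 0x1121131131311102111132102) (Net.cons (nat_lit 1) (nat_lit 0x4515105101451450505501545) Net.nil)))))))))))))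

theorem h_g115_ok : Net.ok 100 h_g115 = true := by decide +kernel

noncomputable def h_g116 : Net := (Net.cons (nat_lit 1) (nat_lit 0x5041051500500501151115014) (Net.cons (nat_lit 2) (nat_lit 0x3122012012230022102020200) (Net.cons (nat_lit 4) (nat_lit 0x7030e0a0301010104080b00) (Net.cons (nat_lit 8) (nat_lit 0xfc008d004400c100880006) (Net.cons (nat_lit 16) (nat_lit 0x12030000411e0000000a) (Net.cons (nat_lit 32) (nat_lit 0x200000000a4ed20f0) (Net.cons (nat_lit 64) (nat_lit 0x4f6fda5fb) (Net.cons (nat_lit 32) (nat_lit 0x800000000ea5e8515) (Net.cons (nat_lit 16) (nat_lit 0x83c30000628600007d2a) (Net.cons (nat_lit 8) (nat_lit 0xd500a9006b00e0001d00f9) (Net.cons (nat_lit 4) (nat_lit 0x5070e01050b090105050e04) (Net.cons (nat_lit 2) (nat_lit 0x12323112320012201020222) (Net.cons (nat_lit 1) (nat_lit 0x1014514400155015004454055) Net.nil)))))))))))))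

theorem h_g116_ok : Net.ok 100 h_g116 = true := by decide +kernel

noncomputable def h_g117 : Net := (Net.cons (nat_lit 1) (nat_lit 0x1541410540110040100451400) (Net.cons (nat_lit 2) (nat_lit 0x320313230113002020022000) (Net.cons (nat_lit 4) (nat_lit 0x80b010b090a0a0b030b020c) (Net.cons (nat_lit 8) (nat_lit 0x13004900ae0050009e0008) (Net.cons (nat_lit 16) (nat_lit 0x1d8d00003a4000000005) (Net.cons (nat_lit 32) (nat_lit 0x41284c80) (Net.cons (nat_lit 64) (nat_lit 0x6e12a5da5) (Net.cons (nat_lit 32) (nat_lit 0x900000000c5da7237) (Net.cons (nat_lit 16) (nat_lit 0x5dad0000dae200000ab3) (Net.cons (nat_lit 8) (nat_lit 0x9d00fb00bc009600bc003a) (Net.cons (nat_lit 4) (nat_lit 0xe00000009000a0c0301030e) (Net.cons (nat_lit 2) (nat_lit 0x1102111201103132301133210) (Net.cons (nat_lit 1) (nat_lit 0x5541054105054040140551514) Net.nil)))))))))))))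

theorem h_g117_ok : Net.ok 100 h_g117 = true := by decide +kernel

noncomputable def ht_c6_K : List Net := [h_g116, h_g117]

theorem ht_c6_K_ok : okE 100 ht_c6_K = true := (okE_cons.2 ⟨h_g116_ok, (okE_cons.2 ⟨h_g117_ok, (okE_nil 100)⟩)⟩)

noncomputable def h_g119 : Net := (Net.cons (nat_lit 1) (nat_lit 0x5141445554440111110504510) (Net.cons (nat_lit 2) (nat_lit 0x2011231113033222022222030) (Net.cons (nat_lit 4) (nat_lit 0x10f0d05080f0d03010000) (Net.cons (nat_lit 8) (nat_lit 0x1f0019005a002200890001) (Net.cons (nat_lit 16) (nat_lit 0x930e000020d600000008) (Net.cons (nat_lit 32) (nat_lit 0x80000000002841270) (Net.cons (nat_lit 64) (nat_lit 0x38b967efe) (Net.cons (nat_lit 32) (nat_lit 0x400000000b24c98e3) (Net.cons (nat_lit 16) (nat_lit 0xd86c0000b7f6000014b9) (Net.cons (nat_lit 8) (nat_lit 0x1f00bb00de00a10081002d) (Net.cons (nat_lit 4) (nat_lit 0x2030605000a0e0a0a0b0d0e) (Net.cons (nat_lit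 2) (nat_lit 0x2112032212013133032122210) (Net.cons (nat_lit 1) (nat_lit 0x55114044001005011004440) Net.nil)))))))))))))

theorem h_g119_ok : Net.ok 100 h_g119 = true := by decide +kernel

noncomputable def h_V120 : List Net := [h_g119]

theorem h_V120_ok : okE 100 h_V120 = true := (okE_cons.2 ⟨h_g119_ok, (okE_nil 100)⟩)

noncomputable def h_V122 : List Net := []

theorem h_V122_ok : okE 100 h_V122 = true := (okE_nil 100)

noncomputable def ht_c6_cnt_EG : List Net := [h_g1, h_a19, h_a27, h_g7, h_a0, h_g4, h_a8, h_g14, h_g10, h_g11, h_g21, h_g22, h_g17, h_g18, h_g67, h_g68, h_g69, h_g70, h_g119]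

theorem ht_c6_cnt_EG_ok : okE 100 ht_c6_cnt_EG = true := (okE_cons.2 ⟨h_g1_ok, (okE_cons.2 ⟨h_a19_ok, (okE_cons.2 ⟨h_a27_ok, (okE_cons.2 ⟨h_g7_ok, (okE_cons.2 ⟨h_a0_ok, (okE_cons.2 ⟨h_g4_ok, (okE_cons.2 ⟨h_a8_ok, (okE_cons.2 ⟨h_g14_ok, (okE_cons.2 ⟨h_g10_ok, (okE_cons.2 ⟨h_g11_ok, (okE_cons.2 ⟨h_g21_ok, (okE_cons.2 ⟨h_g22_ok, (okE_cons.2 ⟨h_g17_ok, (okE_cons.2 ⟨h_g18_ok, (okE_cons.2 ⟨h_g67_ok, (okE_cons.2 ⟨h_g68_ok, (okE_cons.2 ⟨h_g69_ok, (okE_cons.2 ⟨h_g70_ok, (okE_cons.2 ⟨h_g119_ok, (okE_nil 100)⟩)⟩)⟩)⟩)⟩)⟩)⟩)⟩)⟩)⟩)⟩)⟩)⟩)⟩)⟩)⟩)⟩)⟩)⟩)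

noncomputable def h_g123 : Net := (Net.cons (nat_lit 1) (nat_lit 0x1550540051145010001501104) (Net.cons (nat_lit 2) (nat_lit 0x3110010203313301120300000) (Net.cons (nat_lit 4) (nat_lit 0x10004020209010809080805) (Net.cons (nat_lit 8) (nat_lit 0x10000d00ae006200ac000a) (Net.cons (nat_lit 16) (nat_lit 0xf5400000381900000008) (Net.cons (nat_lit 32) (nat_lit 0x2ef091c0) (Net.cons (nat_lit 64) (nat_lit 0xfeff795d8) (Net.cons (nat_lit 32) (nat_lit 0xc00000000504ad53a) (Net.cons (nat_lit 16) (nat_lit 0x818f00005aaf000091ca) (Net.cons (nat_lit 8) (nat_lit 0xa7003c006b00ad005900f5) (Net.cons (nat_lit 4) (nat_lit 0x3010c0e020500090203010e) (Net.cons (nat_lit 2) (nat_lit 0x322222210013022213320101) (Net.cons (nat_lit 1) (nat_lit 0x4515514514100151401011151) Net.nil)))))))))))))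

theorem h_g123_ok : Net.ok 100 h_g123 = true := by decide +kernel

noncomputable def h_g124 : Net := (Net.cons (nat_lit 1) (nat_lit 0x401554055440144151555014) (Net.cons (nat_lit 2) (nat_lit 0x3020310322231020033200000) (Net.cons (nat_lit 4) (nat_lit 0xd0d0500080500040e070b06) (Net.cons (nat_lit 8) (nat_lit 0x2c00b000600042002c0009) (Net.cons (nat_lit 16) (nat_lit 0x98990000bb2600000001) (Net.cons (nat_lit 32) (nat_lit 0xf0000000008281100) (Net.cons (nat_lit 64) (nat_lit 0x18bedb2f) (Net.cons (nat_lit 32) (nat_lit 0xa0000000045b1bb06) (Net.cons (nat_lit 16) (nat_lit 0x2260000b5ee00001d37) (Net.cons (nat_lit 8) (nat_lit 0x830049008400e500c4000f) (Net.cons (nat_lit 4) (nat_lit 0x70c07040c030d060c01000a) (Net.cons (nat_lit 2) (nat_lit 0x3100331303330323201013) (Net.cons (nat_lit 1) (nat_lit 0x54404111144145040544010) Net.nil)))))))))))))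

theorem h_g124_ok : Net.ok 100 h_g124 = true := by decide +kernel

noncomputable def ht_c7_K : List Net := [h_g124, h_g117]

theorem ht_c7_K_ok : okE 100 ht_c7_K = true := (okE_cons.2 ⟨h_g124_ok, (okE_cons.2 ⟨h_g117_ok, (okE_nil 100)⟩)⟩)

noncomputable def ht_c7_cnt_EG : List Net := [h_g1, h_a19, h_a27, h_g7, h_a0, h_g4, h_a8, h_g14, h_g10, h_g11, h_g21, h_g22, h_g17, h_g18, h_g67, h_g68, h_g69, h_g70, h_g119]

theorem ht_c7_cnt_EG_ok : okE 100 ht_c7_cnt_EG = true := (okE_cons.2 ⟨h_g1_ok, (okE_cons.2 ⟨h_a19_ok, (okE_cons.2 ⟨h_a27_ok, (okE_cons.2 ⟨h_g7_ok, (okE_cons.2 ⟨h_a0_ok, (okE_cons.2 ⟨h_g4_ok, (okE_cons.2 ⟨h_a8_ok, (okE_cons.2 ⟨h_g14_ok, (okE_cons.2 ⟨h_g10_ok, (okE_cons.2 ⟨h_g11_ok, (okE_cons.2 ⟨h_g21_ok, (okE_cons.2 ⟨h_g22_ok, (okE_cons.2 ⟨h_g17_ok, (okE_cons.2 ⟨h_g18_ok, (okE_cons.2 ⟨h_g67_ok, (okE_cons.2 ⟨h_g68_ok, (okE_cons.2 ⟨h_g69_ok, (okE_cons.2 ⟨h_g70_ok, (okE_cons.2 ⟨h_g119_ok,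 (okE_nil 100)⟩)⟩)⟩)⟩)⟩)⟩)⟩)⟩)⟩)⟩)⟩)⟩)⟩)⟩)⟩)⟩)⟩)⟩)⟩)

noncomputable def h_g126 : Net := (Net.cons (nat_lit 1) (nat_lit 0x4545050554454144001114514) (Net.cons (nat_lit 2) (nat_lit 0x32000023300021010201200) (Net.cons (nat_lit 4) (nat_lit 0x703040e0208000906040e05) (Net.cons (nat_lit 8) (nat_lit 0xdb00b200be005d00d6000a) (Net.cons (nat_lit 16) (nat_lit 0x36070000b2e70000000d) (Net.cons (nat_lit 32) (nat_lit 0x50000000012018800) (Net.cons (nat_lit 64) (nat_lit 0xad21ffdad) (Net.cons (nat_lit 32) (nat_lit 0xe000000009285a270) (Net.cons (nat_lit 16) (nat_lit 0xb58c000016bc000044ad) (Net.cons (nat_lit 8) (nat_lit 0x8d004b001d00e8002f00f3) (Net.cons (nat_lit 4) (nat_lit 0xc080d08070b090d000a040f) (Net.cons (nat_lit 2) (nat_lit 0x2222233321220312300012131) (Net.cons (nat_lit 1) (nat_lit 0x1451404010444550510005445) Net.nil)))))))))))))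

theorem h_g126_ok : Net.ok 100 h_g126 = true := by decide +kernel

noncomputable def h_g127 : Net := (Net.cons (nat_lit 1) (nat_lit 0x1441510414505051145514444) (Net.cons (nat_lit 2) (nat_lit 0x1113303330021302010212020) (Net.cons (nat_lit 4) (nat_lit 0x80c020e0806070d040b0a01) (Net.cons (nat_lit 8) (nat_lit 0xc10054000d00a300010001) (Net.cons (nat_lit 16) (nat_lit 0x283b0000090200000004) (Net.cons (nat_lit 32) (nat_lit 0x60000000011111820) (Net.cons (nat_lit 64) (nat_lit 0x53f9d5962) (Net.cons (nat_lit 32) (nat_lit 0x800000000b2e449a2) (Net.cons (nat_lit 16) (nat_lit 0x4cb1000031440000f8b3) (Net.cons (nat_lit 8) (nat_lit 0x84005600850052005a00d9) (Net.cons (nat_lit 4) (nat_lit 0xd080507070f000f050d0f07) (Net.cons (nat_lit 2) (nat_lit 0x1010032212303303102331232) (Net.cons (nat_lit 1) (nat_lit 0x4441501501151150105050514) Net.nil)))))))))))))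

theorem h_g127_ok : Net.ok 100 h_g127 = true := by decide +kernel

noncomputable def h_g128 : Net := (Net.cons (nat_lit 1) (nat_lit 0x5500010550410441400001500) (Net.cons (nat_lit 2) (nat_lit 0x3333311211012200322310200) (Net.cons (nat_lit 4) (nat_lit 0xa0e0e020005070500040108) (Net.cons (nat_lit 8) (nat_lit 0x89001400be00240090000c) (Net.cons (nat_lit 16) (nat_lit 0x3b100000091b0000000c) (Net.cons (nat_lit 32) (nat_lit 0x80000000000aa0090) (Net.cons (nat_lit 64) (nat_lit 0x360ff7bba) (Net.cons (nat_lit 32) (nat_lit 0xc000000001f08a0be) (Net.cons (nat_lit 16) (nat_lit 0xffb2000009f90000c0ae) (Net.cons (nat_lit 8) (nat_lit 0x8b001500be00b40010008e) (Net.cons (nat_lit 4) (nat_lit 0xa0e0e020005070500040108) (Net.cons (nat_lit 2) (nat_lit 0x1313311211212202322332200) (Net.cons (nat_lit 1) (nat_lit 0x5500010550410441400001500) Net.nil)))))))))))))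

theorem h_g128_ok : Net.ok 100 h_g128 = true := by decide +kernel

noncomputable def ht_c8_K : List Net := [h_g126, h_g127, h_g128]

theorem ht_c8_K_ok : okE 100 ht_c8_K = true := (okE_cons.2 ⟨h_g126_ok, (okE_cons.2 ⟨h_g127_ok, (okE_cons.2 ⟨h_g128_ok, (okE_nil 100)⟩)⟩)⟩)

noncomputable def h_g130 : Net := (Net.cons (nat_lit 1) (nat_lit 0x140001400000000501511040) (Net.cons (nat_lit 2) (nat_lit 0x300000300000000323102000) (Net.cons (nat_lit 4) (nat_lit 0x205030a050a01090b020000) (Net.cons (nat_lit 8) (nat_lit 0x600034001a008100090006) (Net.cons (nat_lit 16) (nat_lit 0x4e200000d90000000009) (Net.cons (nat_lit 32) (nat_lit 0x100000000991a4670) (Net.cons (nat_lit 64) (nat_lit 0xedb7adf7f) (Net.cons (nat_lit 32) (nat_lit 0xf00000000991a467e) (Net.cons (nat_lit 16) (nat_lit 0x6aa50000d90000002009) (Net.cons (nat_lit 8) (nat_lit 0x64003000bf0085000d0006) (Net.cons (nat_lit 4) (nat_lit 0x205030a050a01090b0a0004)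 (Net.cons (nat_lit 2) (nat_lit 0x303000330000000323102000) (Net.cons (nat_lit 1) (nat_lit 0x545501555505014501511040) Net.nil)))))))))))))

theorem h_g130_ok : Net.ok 100 h_g130 = true := by decide +kernel

noncomputable def h_g131 : Net := (Net.cons (nat_lit 1) (nat_lit 0x45450011514014141040010) (Net.cons (nat_lit 2) (nat_lit 0x202312303323000022321200) (Net.cons (nat_lit 4) (nat_lit 0xc04040a0e0205080c0a0000) (Net.cons (nat_lit 8) (nat_lit 0x2900e30068006400680000) (Net.cons (nat_lit 16) (nat_lit 0x46a10000420100000009) (Net.cons (nat_lit 32) (nat_lit 0x40691650) (Net.cons (nat_lit 64) (nat_lit 0x1677df7d5) (Net.cons (nat_lit 32) (nat_lit 0xa0000000058691e58) (Net.cons (nat_lit 16) (nat_lit 0xcf650000e2c10000836f) (Net.cons (nat_lit 8) (nat_lit 0xa9007300ec00f4006800a0) (Net.cons (nat_lit 4) (nat_lit 0xc0405080e0205090e0a0200) (Net.cons (nat_lit 2) (nat_lit 0x202312323323000020321220)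 (Net.cons (nat_lit 1) (nat_lit 0x45450011514014141040010) Net.nil)))))))))))))

theorem h_g131_ok : Net.ok 100 h_g131 = true := by decide +kernel

noncomputable def h_V132 : List Net := [h_g130, h_g131]

theorem h_V132_ok : okE 100 h_V132 = true := (okE_cons.2 ⟨h_g130_ok, (okE_cons.2 ⟨h_g131_ok, (okE_nil 100)⟩)⟩)

noncomputable def h_V134 : List Net := [h_g131]

theorem h_V134_ok : okE 100 h_V134 = true := (okE_cons.2 ⟨h_g131_ok, (okE_nil 100)⟩)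

noncomputable def h_V135 : List Net := []

theorem h_V135_ok : okE 100 h_V135 = true := (okE_nil 100)

noncomputable def ht_c8_cnt_EG : List Net := [h_g1, h_a19, h_a27, h_g7, h_a0, h_g4, h_a8, h_g14, h_g10, h_g11, h_g21, h_g22, h_g17, h_g18, h_g131, h_g130]

theorem ht_c8_cnt_EG_ok : okE 100 ht_c8_cnt_EG = true := (okE_cons.2 ⟨h_g1_ok, (okE_cons.2 ⟨h_a19_ok, (okE_cons.2 ⟨h_a27_ok, (okE_cons.2 ⟨h_g7_ok, (okE_cons.2 ⟨h_a0_ok, (okE_cons.2 ⟨h_g4_ok, (okE_cons.2 ⟨h_a8_ok, (okE_cons.2 ⟨h_g14_ok, (okE_cons.2 ⟨h_g10_ok, (okE_cons.2 ⟨h_g11_ok, (okE_cons.2 ⟨h_g21_ok, (okE_cons.2 ⟨h_g22_ok, (okE_cons.2 ⟨h_g17_ok, (okE_cons.2 ⟨h_g18_ok, (okE_cons.2 ⟨h_g131_ok, (okE_cons.2 ⟨h_g130_ok, (okE_nil 100)⟩)⟩)⟩)⟩)⟩)⟩)⟩)⟩)⟩)⟩)⟩)⟩)⟩)⟩)⟩)⟩)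

noncomputable def h_g136 : Net := (Net.cons (nat_lit 1) (nat_lit 0x5501050540444050050555044) (Net.cons (nat_lit 2) (nat_lit 0x3011331312103201231312120) (Net.cons (nat_lit 4) (nat_lit 0x50f0a0e05000003000c0e02) (Net.cons (nat_lit 8) (nat_lit 0xaf0083002900a500190005) (Net.cons (nat_lit 16) (nat_lit 0x62c10000016a00000002) (Net.cons (nat_lit 32) (nat_lit 0x88002100) (Net.cons (nat_lit 64) (nat_lit 0xffe363bc5) (Net.cons (nat_lit 32) (nat_lit 0x6000000001c00f2f9) (Net.cons (nat_lit 16) (nat_lit 0x3d4a000031240000900b) (Net.cons (nat_lit 8) (nat_lit 0xb8006a0010006a002200bb) (Net.cons (nat_lit 4) (nat_lit 0x10b06060d0b0a0806070d0f) (Net.cons (nat_lit 2) (nat_lit 0x32222202222131302321312) (Net.cons (nat_lit 1) (nat_lit 0x5501014540405551104145040) Net.nil)))))))))))))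

theorem h_g136_ok : Net.ok 100 h_g136 = true := by decide +kernel

noncomputable def ht_c9_K : List Net := [h_g136, h_g127, h_g128]

theorem ht_c9_K_ok : okE 100 ht_c9_K = true := (okE_cons.2 ⟨h_g136_ok, (okE_cons.2 ⟨h_g127_ok, (okE_cons.2 ⟨h_g128_ok, (okE_nil 100)⟩)⟩)⟩)

noncomputable def ht_c9_cnt_EG : List Net := [h_g1, h_a19, h_a27, h_g7, h_a0, h_g4, h_a8, h_g14, h_g10, h_g11, h_g21, h_g22, h_g17, h_g18, h_g131, h_g130]

theorem ht_c9_cnt_EG_ok : okE 100 ht_c9_cnt_EG = true := (okE_cons.2 ⟨h_g1_ok, (okE_cons.2 ⟨h_a19_ok, (okE_cons.2 ⟨h_a27_ok, (okE_cons.2 ⟨h_g7_ok, (okE_cons.2 ⟨h_a0_ok, (okE_cons.2 ⟨h_g4_ok, (okE_cons.2 ⟨h_a8_ok, (okE_cons.2 ⟨h_g14_ok, (okE_cons.2 ⟨h_g10_ok, (okE_cons.2 ⟨h_g11_ok, (okE_cons.2 ⟨h_g21_ok, (okE_cons.2 ⟨h_g22_ok, (okE_cons.2 ⟨h_g17_ok, (okE_cons.2 ⟨h_g18_ok, (okE_cons.2 ⟨h_g131_ok, (okE_cons.2 ⟨h_g130_ok, (okE_nil 100)⟩)⟩)⟩)⟩)⟩)⟩)⟩)⟩)⟩)⟩)⟩)⟩)⟩)⟩)⟩)⟩)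

noncomputable def h_g138 : Net := (Net.cons (nat_lit 1) (nat_lit 0x100105405000144450505514) (Net.cons (nat_lit 2) (nat_lit 0x3121100003201221310100030) (Net.cons (nat_lit 4) (nat_lit 0x60f0000060f03000a050009) (Net.cons (nat_lit 8) (nat_lit 0x38002600140043001c0001) (Net.cons (nat_lit 16) (nat_lit 0x574a0000811800000000) (Net.cons (nat_lit 32) (nat_lit 0xa0000000008430170) (Net.cons (nat_lit 64) (nat_lit 0x55d4baffe) (Net.cons (nat_lit 32) (nat_lit 0xe0000000068c29d0c) (Net.cons (nat_lit 16) (nat_lit 0x47a80000a8160000e950) (Net.cons (nat_lit 8) (nat_lit 0x1f005e00f30083003800f5) (Net.cons (nat_lit 4) (nat_lit 0xb0c000200000f08020f0a06) (Net.cons (nat_lit 2) (nat_lit 0x1302201323331013201323000) (Net.cons (nat_lit 1) (nat_lit 0x1055040444014100144505514) Net.nil)))))))))))))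

theorem h_g138_ok : Net.ok 100 h_g138 = true := by decide +kernel

noncomputable def h_g139 : Net := (Net.cons (nat_lit 1) (nat_lit 0x1111110115154145440401100) (Net.cons (nat_lit 2) (nat_lit 0x2120320120300210022301200) (Net.cons (nat_lit 4) (nat_lit 0x8020e05010d0b0404090209) (Net.cons (nat_lit 8) (nat_lit 0x2a009a000000480006000c) (Net.cons (nat_lit 16) (nat_lit 0xc8600000d1ce00000006) (Net.cons (nat_lit 32) (nat_lit 0xae21430) (Net.cons (nat_lit 64) (nat_lit 0x7aeeb7f73) (Net.cons (nat_lit 32) (nat_lit 0xd000000008447692b) (Net.cons (nat_lit 16) (nat_lit 0x8aca00000e9e00002b9c) (Net.cons (nat_lit 8) (nat_lit 0xe200d500980006006d0075) (Net.cons (nat_lit 4) (nat_lit 0x90e0206030201050c08070e) (Net.cons (nat_lit 2) (nat_lit 0x3223100203103232203100303) (Net.cons (nat_lit 1) (nat_lit 0x5554550101551044155510411) Net.nil)))))))))))))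

theorem h_g139_ok : Net.ok 100 h_g139 = true := by decide +kernel

noncomputable def h_g140 : Net := (Net.cons (nat_lit 1) (nat_lit 0x4005100051440141515015010) (Net.cons (nat_lit 2) (nat_lit 0x3322003122202121112320320) (Net.cons (nat_lit 4) (nat_lit 0xc0c020304000401010600) (Net.cons (nat_lit 8) (nat_lit 0x37006a0046002600000006) (Net.cons (nat_lit 16) (nat_lit 0x64630000c21800000002) (Net.cons (nat_lit 32) (nat_lit 0x800000000a4184300) (Net.cons (nat_lit 64) (nat_lit 0xfef3d4374) (Net.cons (nat_lit 32) (nat_lit 0x700000000a423e041) (Net.cons (nat_lit 16) (nat_lit 0x6647000026d70000872d) (Net.cons (nat_lit 8) (nat_lit 0x7d00ef004300f300af00c2) (Net.cons (nat_lit 4) (nat_lit 0xa0905060305000107090704) (Net.cons (nat_lit 2) (nat_lit 0x120331122123120132120220) (Net.cons (nat_lit 1) (nat_lit 0x4415054154505144151450450) Net.nil)))))))))))))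

theorem h_g140_ok : Net.ok 100 h_g140 = true := by decide +kernel

noncomputable def ht_c10_K : List Net := [h_g139, h_g138, h_g140]

theorem ht_c10_K_ok : okE 100 ht_c10_K = true := (okE_cons.2 ⟨h_g139_ok, (okE_cons.2 ⟨h_g138_ok, (okE_cons.2 ⟨h_g140_ok, (okE_nil 100)⟩)⟩)⟩)

noncomputable def ht_c10_cnt_EG : List Net := [h_g1, h_a19, h_a27, h_g7, h_a0, h_g4, h_a8, h_g14, h_g10, h_g11, h_g21, h_g22, h_g17, h_g18, h_g67, h_g68, h_g69, h_g70, h_g82, h_g83]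

theorem ht_c10_cnt_EG_ok : okE 100 ht_c10_cnt_EG = true := (okE_cons.2 ⟨h_g1_ok, (okE_cons.2 ⟨h_a19_ok, (okE_cons.2 ⟨h_a27_ok, (okE_cons.2 ⟨h_g7_ok, (okE_cons.2 ⟨h_a0_ok, (okE_cons.2 ⟨h_g4_ok, (okE_cons.2 ⟨h_a8_ok, (okE_cons.2 ⟨h_g14_ok, (okE_cons.2 ⟨h_g10_ok, (okE_cons.2 ⟨h_g11_ok, (okE_cons.2 ⟨h_g21_ok, (okE_cons.2 ⟨h_g22_ok, (okE_cons.2 ⟨h_g17_ok, (okE_cons.2 ⟨h_g18_ok, (okE_cons.2 ⟨h_g67_ok, (okE_cons.2 ⟨h_g68_ok, (okE_cons.2 ⟨h_g69_ok, (okE_cons.2 ⟨h_g70_ok, (okE_cons.2 ⟨h_g82_ok, (okE_cons.2 ⟨h_g83_ok, (okE_nil 100)⟩)⟩)⟩)⟩)⟩)⟩)⟩)⟩)⟩)⟩)⟩)⟩)⟩)⟩)⟩)⟩)⟩)⟩)⟩)⟩)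

noncomputable def h_g142 : Net := (Net.cons (nat_lit 1) (nat_lit 0x5055441450510041155405040) (Net.cons (nat_lit 2) (nat_lit 0x3000113332231011321102020) (Net.cons (nat_lit 4) (nat_lit 0x30f080e05090e0b05080c02) (Net.cons (nat_lit 8) (nat_lit 0x1e008d00c3002100440005) (Net.cons (nat_lit 16) (nat_lit 0x51c0000040060000000c) (Net.cons (nat_lit 32) (nat_lit 0xe0000000020e54690) (Net.cons (nat_lit 64) (nat_lit 0x272eff79d) (Net.cons (nat_lit 32) (nat_lit 0xd0000000005627bd2) (Net.cons (nat_lit 16) (nat_lit 0xf17a0000259f00006137) (Net.cons (nat_lit 8) (nat_lit 0xb8006700b4002d00e00080) (Net.cons (nat_lit 4) (nat_lit 0x9040c090107040d04040b08) (Net.cons (nat_lit 2) (nat_lit 0x3331322231003030022230301) (Net.cons (nat_lit 1) (nat_lit 0x4455544050444540110004105) Net.nil)))))))))))))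

theorem h_g142_ok : Net.ok 100 h_g142 = true := by decide +kernel

noncomputable def h_g143 : Net := (Net.cons (nat_lit 1) (nat_lit 0x5500114455001441444051440) (Net.cons (nat_lit 2) (nat_lit 0x1331111232211021002113200) (Net.cons (nat_lit 4) (nat_lit 0x30204060c05010907020a01) (Net.cons (nat_lit 8) (nat_lit 0xdd00350086002900de0001) (Net.cons (nat_lit 16) (nat_lit 0x3c0d0000190a0000000c) (Net.cons (nat_lit 32) (nat_lit 0xd0000000002023960) (Net.cons (nat_lit 64) (nat_lit 0x874ffb6d) (Net.cons (nat_lit 32) (nat_lit 0xf00000000c286c0e8) (Net.cons (nat_lit 16) (nat_lit 0xec88000039c7000002fc) (Net.cons (nat_lit 8) (nat_lit 0xd80093003e00d7006700ea) (Net.cons (nat_lit 4) (nat_lit 0x20c08050608020709050805) (Net.cons (nat_lit 2) (nat_lit 0x2133301112233130031320110) (Net.cons (nat_lit 1) (nat_lit 0x4550101054055444101455540) Net.nil)))))))))))))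

theorem h_g143_ok : Net.ok 100 h_g143 = true := by decide +kernel

noncomputable def ht_c11_K : List Net := [h_g142, h_g143, h_g95]

theorem ht_c11_K_ok : okE 100 ht_c11_K = true := (okE_cons.2 ⟨h_g142_ok, (okE_cons.2 ⟨h_g143_ok, (okE_cons.2 ⟨h_g95_ok, (okE_nil 100)⟩)⟩)⟩)

noncomputable def ht_c11_cnt_EG : List Net := [h_g1, h_a19, h_a27, h_g7, h_a0, h_g4, h_a8, h_g14, h_g10, h_g11, h_g21, h_g22, h_g17, h_g18, h_g102, h_g101]

theorem ht_c11_cnt_EG_ok : okE 100 ht_c11_cnt_EG = true := (okE_cons.2 ⟨h_g1_ok, (okE_cons.2 ⟨h_a19_ok, (okE_cons.2 ⟨h_a27_ok, (okE_cons.2 ⟨h_g7_ok, (okE_cons.2 ⟨h_a0_ok, (okE_cons.2 ⟨h_g4_ok, (okE_cons.2 ⟨h_a8_ok, (okE_cons.2 ⟨h_g14_ok, (okE_cons.2 ⟨h_g10_ok, (okE_cons.2 ⟨h_g11_ok, (okE_cons.2 ⟨h_g21_ok, (okE_cons.2 ⟨h_g22_ok, (okE_cons.2 ⟨h_g17_ok, (okE_cons.2 ⟨h_g18_ok, (okE_cons.2 ⟨h_g102_ok, (okE_cons.2 ⟨h_g101_ok, (okE_nil 100)⟩)⟩)⟩)⟩)⟩)⟩)⟩)⟩)⟩)⟩)⟩)⟩)⟩)⟩)⟩)⟩)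

noncomputable def h_g145 : Net := (Net.cons (nat_lit 1) (nat_lit 0x1150551150041114445051400) (Net.cons (nat_lit 2) (nat_lit 0x2221102022203100032323010) (Net.cons (nat_lit 4) (nat_lit 0x8090502090b01010f0f0801) (Net.cons (nat_lit 8) (nat_lit 0x91002900ba001b00040001) (Net.cons (nat_lit 16) (nat_lit 0xcf2b0000411e00000000) (Net.cons (nat_lit 32) (nat_lit 0xa0000000008ec5ac0) (Net.cons (nat_lit 64) (nat_lit 0x7ccfe7bc8) (Net.cons (nat_lit 32) (nat_lit 0x30000000006fc5bc8) (Net.cons (nat_lit 16) (nat_lit 0x1a5f0000d53a00004331) (Net.cons (nat_lit 8) (nat_lit 0xb00ea000b00a30086001c) (Net.cons (nat_lit 4) (nat_lit 0x3030c0404070a0e0f010402) (Net.cons (nat_lit 2) (nat_lit 0x2030303011103013102310223) (Net.cons (nat_lit 1) (nat_lit 0x1515155155145455451005041) Net.nil)))))))))))))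

theorem h_g145_ok : Net.ok 100 h_g145 = true := by decide +kernel

noncomputable def ht_c12_K : List Net := [h_g145]

theorem ht_c12_K_ok : okE 100 ht_c12_K = true := (okE_cons.2 ⟨h_g145_ok, (okE_nil 100)⟩)

noncomputable def h_V147 : List Net := [h_g102]

theorem h_V147_ok : okE 100 h_V147 = true := (okE_cons.2 ⟨h_g102_ok, (okE_nil 100)⟩)

noncomputable def h_V149 : List Net := []

theorem h_V149_ok : okE 100 h_V149 = true := (okE_nil 100)

noncomputable def ht_c12_cnt_EG : List Net := [h_g7, h_a0, h_g4, h_a8, h_g14, h_g10, h_g11, h_g21, h_g22, h_g17, h_g18, h_g1, h_a19, h_a27, h_g102]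

theorem ht_c12_cnt_EG_ok : okE 100 ht_c12_cnt_EG = true := (okE_cons.2 ⟨h_g7_ok, (okE_cons.2 ⟨h_a0_ok, (okE_cons.2 ⟨h_g4_ok, (okE_cons.2 ⟨h_a8_ok, (okE_cons.2 ⟨h_g14_ok, (okE_cons.2 ⟨h_g10_ok, (okE_cons.2 ⟨h_g11_ok, (okE_cons.2 ⟨h_g21_ok, (okE_cons.2 ⟨h_g22_ok, (okE_cons.2 ⟨h_g17_ok, (okE_cons.2 ⟨h_g18_ok, (okE_cons.2 ⟨h_g1_ok, (okE_cons.2 ⟨h_a19_ok, (okE_cons.2 ⟨h_a27_ok, (okE_cons.2 ⟨h_g102_ok, (okE_nil 100)⟩)⟩)⟩)⟩)⟩)⟩)⟩)⟩)⟩)⟩)⟩)⟩)⟩)⟩)⟩)

noncomputable def h_g150 : Net := (Net.cons (nat_lit 1) (nat_lit 0x110144001411140100110500) (Net.cons (nat_lit 2) (nat_lit 0x3010033200220010211030010) (Net.cons (nat_lit 4) (nat_lit 0x506070b0a0e080f0f0808) (Net.cons (nat_lit 8) (nat_lit 0xb400be000f000d00c00006) (Net.cons (nat_lit 16) (nat_lit 0x190000000009) (Net.cons (nat_lit 32) (nat_lit 0x7d8bc6f0) (Net.cons (nat_lit 64) (nat_lit 0xeff9ffef5) (Net.cons (nat_lit 32) (nat_lit 0x10000000001b1c937)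 (Net.cons (nat_lit 16) (nat_lit 0x26f40000f5230000d782) (Net.cons (nat_lit 8) (nat_lit 0xda00c0001c009b00f10086) (Net.cons (nat_lit 4) (nat_lit 0x104060708090c0a040a090c) (Net.cons (nat_lit 2) (nat_lit 0x2303023021221112131133130) (Net.cons (nat_lit 1) (nat_lit 0x4500055114441104145440544) Net.nil)))))))))))))

theorem h_g150_ok : Net.ok 100 h_g150 = true := by decide +kernel

noncomputable def ht_c13_K : List Net := [h_g150]

theorem ht_c13_K_ok : okE 100 ht_c13_K = true := (okE_cons.2 ⟨h_g150_ok, (okE_nil 100)⟩)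

noncomputable def ht_c13_cnt_EG : List Net := [h_g1, h_a19, h_a27, h_g7, h_a0, h_g4, h_a8, h_g14, h_g10, h_g11, h_g21, h_g22, h_g17, h_g18, h_g67, h_g68, h_g69, h_g70, h_g119]

theorem ht_c13_cnt_EG_ok : okE 100 ht_c13_cnt_EG = true := (okE_cons.2 ⟨h_g1_ok, (okE_cons.2 ⟨h_a19_ok, (okE_cons.2 ⟨h_a27_ok, (okE_cons.2 ⟨h_g7_ok, (okE_cons.2 ⟨h_a0_ok, (okE_cons.2 ⟨h_g4_ok, (okE_cons.2 ⟨h_a8_ok, (okE_cons.2 ⟨h_g14_ok, (okE_cons.2 ⟨h_g10_ok, (okE_cons.2 ⟨h_g11_ok, (okE_cons.2 ⟨h_g21_ok, (okE_cons.2 ⟨h_g22_ok, (okE_cons.2 ⟨h_g17_ok, (okE_cons.2 ⟨h_g18_ok, (okE_cons.2 ⟨h_g67_ok, (okE_cons.2 ⟨h_g68_ok, (okE_cons.2 ⟨h_g69_ok, (okE_cons.2 ⟨h_g70_ok, (okE_cons.2 ⟨h_g119_ok, (okE_nil 100)⟩)⟩)⟩)⟩)⟩)⟩)⟩)⟩)⟩)⟩)⟩)⟩)⟩)⟩)⟩)⟩)⟩)⟩)⟩)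

noncomputable def h_g152 : Net := (Net.cons (nat_lit 1) (nat_lit 0x1441004151100505540001100) (Net.cons (nat_lit 2) (nat_lit 0x3200213333230101133101210) (Net.cons (nat_lit 4) (nat_lit 0x9020f05010606010e000b09) (Net.cons (nat_lit 8) (nat_lit 0x11000d008a002500110002) (Net.cons (nat_lit 16) (nat_lit 0x29070000500b00000006) (Net.cons (nat_lit 32) (nat_lit 0x80000000080605040) (Net.cons (nat_lit 64) (nat_lit 0xfd2e87dd6) (Net.cons (nat_lit 32) (nat_lit 0x300000000f1fe866b) (Net.cons (nat_lit 16) (nat_lit 0xeb6c0000025a00008a25) (Net.cons (nat_lit 8) (nat_lit 0xf200eb001b0063000d007b) (Net.cons (nat_lit 4) (nat_lit 0xa0b0b0a0d0f090a08020e06) (Net.cons (nat_lit 2) (nat_lit 0x1031221331230230322300031) (Net.cons (nat_lit 1) (nat_lit 0x5550445054055011504514115) Net.nil)))))))))))))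

theorem h_g152_ok : Net.ok 100 h_g152 = true := by decide +kernel

noncomputable def h_g153 : Net := (Net.cons (nat_lit 1) (nat_lit 0x5444540005101400140445040) (Net.cons (nat_lit 2) (nat_lit 0x10131231100322123303220) (Net.cons (nat_lit 4) (nat_lit 0x9050905000508000c010b0f) (Net.cons (nat_lit 8) (nat_lit 0x8a00b70057004d00410009) (Net.cons (nat_lit 16) (nat_lit 0xf7290000080400000005) (Net.cons (nat_lit 32) (nat_lit 0xf00000000ea091440) (Net.cons (nat_lit 64) (nat_lit 0x8eb5b5e77) (Net.cons (nat_lit 32) (nat_lit 0x1000000001a4b41ec) (Net.cons (nat_lit 16) (nat_lit 0x316500007a7400000113) (Net.cons (nat_lit 8) (nat_lit 0x5600b400fc00a200390078) (Net.cons (nat_lit 4) (nat_lit 0xa080d0c08020e07060d0509) (Net.cons (nat_lit 2) (nat_lit 0x1133310122132112112222100) (Net.cons (nat_lit 1) (nat_lit 0x4411555444551150114410405) Net.nil)))))))))))))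

theorem h_g153_ok : Net.ok 100 h_g153 = true := by decide +kernel

noncomputable def ht_c14_K : List Net := [h_g152, h_g153]

theorem ht_c14_K_ok : okE 100 ht_c14_K = true := (okE_cons.2 ⟨h_g152_ok, (okE_cons.2 ⟨h_g153_ok, (okE_nil 100)⟩)⟩)

noncomputable def ht_c14_cnt_EG : List Net := [h_g1, h_a19, h_a27, h_g7, h_a0, h_g4, h_a8, h_g14, h_g10, h_g11, h_g21, h_g22, h_g17, h_g18, h_g119, h_g67, h_g68, h_g69, h_g70]

theorem ht_c14_cnt_EG_ok : okE 100 ht_c14_cnt_EG = true := (okE_cons.2 ⟨h_g1_ok, (okE_cons.2 ⟨h_a19_ok, (okE_cons.2 ⟨h_a27_ok, (okE_cons.2 ⟨h_g7_ok, (okE_cons.2 ⟨h_a0_ok, (okE_cons.2 ⟨h_g4_ok, (okE_cons.2 ⟨h_a8_ok, (okE_cons.2 ⟨h_g14_ok, (okE_cons.2 ⟨h_g10_ok, (okE_cons.2 ⟨h_g11_ok, (okE_cons.2 ⟨h_g21_ok, (okE_cons.2 ⟨h_g22_ok, (okE_cons.2 ⟨h_g17_ok, (okE_cons.2 ⟨h_g18_ok, (okE_cons.2 ⟨h_g119_ok, (okE_cons.2 ⟨h_g67_ok, (okE_cons.2 ⟨h_g68_ok, (okE_cons.2 ⟨h_g69_ok, (okE_cons.2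 ⟨h_g70_ok, (okE_nil 100)⟩)⟩)⟩)⟩)⟩)⟩)⟩)⟩)⟩)⟩)⟩)⟩)⟩)⟩)⟩)⟩)⟩)⟩)⟩)

noncomputable def h_g155 : Net := (Net.cons (nat_lit 1) (nat_lit 0x404045444451044514555444) (Net.cons (nat_lit 2) (nat_lit 0x1022211011010013030100100) (Net.cons (nat_lit 4) (nat_lit 0x503000801060301000f06) (Net.cons (nat_lit 8) (nat_lit 0xda002e00ab00a200a2000b) (Net.cons (nat_lit 16) (nat_lit 0x425300009e4800000001) (Net.cons (nat_lit 32) (nat_lit 0xe259080) (Net.cons (nat_lit 64) (nat_lit 0x9ce2dbcf6) (Net.cons (nat_lit 32) (nat_lit 0xe0000000069c12097) (Net.cons (nat_lit 16) (nat_lit 0xd1fb000032030000d664) (Net.cons (nat_lit 8) (nat_lit 0x66007e006200c3000600a6) (Net.cons (nat_lit 4) (nat_lit 0x2090d0d02080f0009010f0f) (Net.cons (nat_lit 2) (nat_lit 0x1301020212233011203332302) (Net.cons (nat_lit 1) (nat_lit 0x450155005501111550040000) Net.nil)))))))))))))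

theorem h_g155_ok : Net.ok 100 h_g155 = true := by decide +kernel

noncomputable def h_g156 : Net := (Net.cons (nat_lit 1) (nat_lit 0x1555450010151445511544454) (Net.cons (nat_lit 2) (nat_lit 0x211220300121012010203000) (Net.cons (nat_lit 4) (nat_lit 0x5020d060d06000405010f06) (Net.cons (nat_lit 8) (nat_lit 0xf400280028004a00160000) (Net.cons (nat_lit 16) (nat_lit 0xdc4c00005a0200000006) (Net.cons (nat_lit 32) (nat_lit 0xe0000000012008080) (Net.cons (nat_lit 64) (nat_lit 0xf72dbae90) (Net.cons (nat_lit 32) (nat_lit 0xb251de84) (Net.cons (nat_lit 16) (nat_lit 0x7fb70000c06500004d6c) (Net.cons (nat_lit 8) (nat_lit 0x86004000e700e900c60018) (Net.cons (nat_lit 4) (nat_lit 0x40a050d060d0d07060a0709) (Net.cons (nat_lit 2) (nat_lit 0x1010333023002223310212121) (Net.cons (nat_lit 1) (nat_lit 0x1154150110415015150141141) Net.nil)))))))))))))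

theorem h_g156_ok : Net.ok 100 h_g156 = true := by decide +kernel

noncomputable def ht_c15_K : List Net := [h_g155, h_g156]

theorem ht_c15_K_ok : okE 100 ht_c15_K = true := (okE_cons.2 ⟨h_g155_ok, (okE_cons.2 ⟨h_g156_ok, (okE_nil 100)⟩)⟩)

noncomputable def ht_c15_cnt_EG : List Net := [h_g1, h_a19, h_a27, h_g7, h_a0, h_g4, h_a8, h_g14, h_g10, h_g11, h_g21, h_g22, h_g17, h_g18, h_g119, h_g67, h_g68, h_g69, h_g70]

theorem ht_c15_cnt_EG_ok : okE 100 ht_c15_cnt_EG = true := (okE_cons.2 ⟨h_g1_ok, (okE_cons.2 ⟨h_a19_ok, (okE_cons.2 ⟨h_a27_ok, (okE_cons.2 ⟨h_g7_ok, (okE_cons.2 ⟨h_a0_ok, (okE_cons.2 ⟨h_g4_ok, (okE_cons.2 ⟨h_a8_ok, (okE_cons.2 ⟨h_g14_ok, (okE_cons.2 ⟨h_g10_ok, (okE_cons.2 ⟨h_g11_ok, (okE_cons.2 ⟨h_g21_ok, (okE_cons.2 ⟨h_g22_ok, (okE_cons.2 ⟨h_g17_ok, (okE_cons.2 ⟨h_g18_ok, (okE_cons.2 ⟨h_g119_ok, (okE_cons.2 ⟨h_g67_ok, (okE_cons.2 ⟨h_g68_ok, (okE_cons.2 ⟨h_g69_ok, (okE_cons.2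 ⟨h_g70_ok, (okE_nil 100)⟩)⟩)⟩)⟩)⟩)⟩)⟩)⟩)⟩)⟩)⟩)⟩)⟩)⟩)⟩)⟩)⟩)⟩)⟩)

noncomputable def h_g158 : Net := (Net.cons (nat_lit 1) (nat_lit 0x4454145551011150141400504) (Net.cons (nat_lit 2) (nat_lit 0x331333330232320332320110) (Net.cons (nat_lit 4) (nat_lit 0xc0c00020708090805030504) (Net.cons (nat_lit 8) (nat_lit 0x9200c0006c00b60005000d) (Net.cons (nat_lit 16) (nat_lit 0xa23f000004160000000e) (Net.cons (nat_lit 32) (nat_lit 0x40000000030c63090) (Net.cons (nat_lit 64) (nat_lit 0x8f7c77bfe) (Net.cons (nat_lit 32) (nat_lit 0xb0000000052552d73) (Net.cons (nat_lit 16) (nat_lit 0x7060000408d00008283) (Net.cons (nat_lit 8) (nat_lit 0x1b0059006b00c0001c00b7) (Net.cons (nat_lit 4) (nat_lit 0x30603050c070b010a060f01) (Net.cons (nat_lit 2) (nat_lit 0x2303011100301130100002231) (Net.cons (nat_lit 1) (nat_lit 0x1054501010005541115005554) Net.nil)))))))))))))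

theorem h_g158_ok : Net.ok 100 h_g158 = true := by decide +kernel

noncomputable def ht_c16_K : List Net := [h_g158, h_a19]

theorem ht_c16_K_ok : okE 100 ht_c16_K = true := (okE_cons.2 ⟨h_g158_ok, (okE_cons.2 ⟨h_a19_ok, (okE_nil 100)⟩)⟩)

noncomputable def ht_c16_cnt_EG : List Net := [h_g1, h_a19, h_a27, h_g7, h_a0, h_g4, h_a8, h_g14, h_g10, h_g11, h_g21, h_g22, h_g17, h_g18, h_g131, h_g130]

theorem ht_c16_cnt_EG_ok : okE 100 ht_c16_cnt_EG = true := (okE_cons.2 ⟨h_g1_ok, (okE_cons.2 ⟨h_a19_ok, (okE_cons.2 ⟨h_a27_ok, (okE_cons.2 ⟨h_g7_ok, (okE_cons.2 ⟨h_a0_ok, (okE_cons.2 ⟨h_g4_ok, (okE_cons.2 ⟨h_a8_ok, (okE_cons.2 ⟨h_g14_ok, (okE_cons.2 ⟨h_g10_ok, (okE_cons.2 ⟨h_g11_ok, (okE_cons.2 ⟨h_g21_ok, (okE_cons.2 ⟨h_g22_ok, (okE_cons.2 ⟨h_g17_ok, (okE_cons.2 ⟨h_g18_ok, (okE_cons.2 ⟨h_g131_ok, (okE_cons.2 ⟨h_g130_ok, (okE_nil 100)⟩)⟩)⟩)⟩)⟩)⟩)⟩)⟩)⟩)⟩)⟩)⟩)⟩)⟩)⟩)⟩)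

noncomputable def h_g160 : Net := (Net.cons (nat_lit 1) (nat_lit 0x1041441550411441544150000) (Net.cons (nat_lit 2) (nat_lit 0x3311323311031311001313230) (Net.cons (nat_lit 4) (nat_lit 0x20404060201050b030c0e0a) (Net.cons (nat_lit 8) (nat_lit 0xec004f00ec00e4004e0000) (Net.cons (nat_lit 16) (nat_lit 0xf221000021380000000e) (Net.cons (nat_lit 32) (nat_lit 0x100000000c1322200) (Net.cons (nat_lit 64) (nat_lit 0xcfd77ab5f) (Net.cons (nat_lit 32) (nat_lit 0xe000000004e3be3ad) (Net.cons (nat_lit 16) (nat_lit 0x325f0000a6ba0000964e) (Net.cons (nat_lit 8) (nat_lit 0xe2001d0052008c00b3006b) (Net.cons (nat_lit 4) (nat_lit 0x70903040b0805000f020000) (Net.cons (nat_lit 2) (nat_lit 0x1113211113002302333310100) (Net.cons (nat_lit 1) (nat_lit 0x115400045010101500405551) Net.nil)))))))))))))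

theorem h_g160_ok : Net.ok 100 h_g160 = true := by decide +kernel

noncomputable def ht_c17_K : List Net := [h_g160, h_a19]

theorem ht_c17_K_ok : okE 100 ht_c17_K = true := (okE_cons.2 ⟨h_g160_ok, (okE_cons.2 ⟨h_a19_ok, (okE_nil 100)⟩)⟩)

noncomputable def ht_c17_cnt_EG : List Net := [h_g1, h_a19, h_a27, h_g7, h_a0, h_g4, h_a8, h_g14, h_g10, h_g11, h_g21, h_g22, h_g17, h_g18, h_g131, h_g130]

theorem ht_c17_cnt_EG_ok : okE 100 ht_c17_cnt_EG = true := (okE_cons.2 ⟨h_g1_ok, (okE_cons.2 ⟨h_a19_ok, (okE_cons.2 ⟨h_a27_ok, (okE_cons.2 ⟨h_g7_ok, (okE_cons.2 ⟨h_a0_ok, (okE_cons.2 ⟨h_g4_ok, (okE_cons.2 ⟨h_a8_ok, (okE_cons.2 ⟨h_g14_ok, (okE_cons.2 ⟨h_g10_ok, (okE_cons.2 ⟨h_g11_ok, (okE_cons.2 ⟨h_g21_ok, (okE_cons.2 ⟨h_g22_ok, (okE_cons.2 ⟨h_g17_ok, (okE_cons.2 ⟨h_g18_ok, (okE_cons.2 ⟨h_g131_ok, (okE_cons.2 ⟨h_g130_ok, (okE_nil 100)⟩)⟩)⟩)⟩)⟩)⟩)⟩)⟩)⟩)⟩)⟩)⟩)⟩)⟩)⟩)⟩)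

noncomputable def h_g162 : Net := (Net.cons (nat_lit 1) (nat_lit 0x4501410100440155010554504) (Net.cons (nat_lit 2) (nat_lit 0x2131112103012211103310030) (Net.cons (nat_lit 4) (nat_lit 0x103000b050508090e020a00) (Net.cons (nat_lit 8) (nat_lit 0x30018002100a5005a0000) (Net.cons (nat_lit 16) (nat_lit 0xed1000044050000000a) (Net.cons (nat_lit 32) (nat_lit 0xc000000008993ed60) (Net.cons (nat_lit 64) (nat_lit 0x3f9bfeffd) (Net.cons (nat_lit 32) (nat_lit 0x8000000008b55c3e0) (Net.cons (nat_lit 16) (nat_lit 0xc038000036db0000284a) (Net.cons (nat_lit 8) (nat_lit 0x17007000a4008900ce00e4) (Net.cons (nat_lit 4) (nat_lit 0x5060709080c0e0801020c01) (Net.cons (nat_lit 2) (nat_lit 0x1110112321221321023232233) (Net.cons (nat_lit 1) (nat_lit 0x1500501401500401455105501) Net.nil)))))))))))))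

theorem h_g162_ok : Net.ok 100 h_g162 = true := by decide +kernel

noncomputable def h_g163 : Net := (Net.cons (nat_lit 1) (nat_lit 0x4404505401105005400455004) (Net.cons (nat_lit 2) (nat_lit 0x2120202010032111120102110) (Net.cons (nat_lit 4) (nat_lit 0x90b04010f0a0b0a04050505) (Net.cons (nat_lit 8) (nat_lit 0xbc0094004000ab00c00001) (Net.cons (nat_lit 16) (nat_lit 0xa051000000100000000b) (Net.cons (nat_lit 32) (nat_lit 0x40000000058281010) (Net.cons (nat_lit 64) (nat_lit 0xb5d2ab055) (Net.cons (nat_lit 32) (nat_lit 0x500000000d03a9998) (Net.cons (nat_lit 16) (nat_lit 0xb2d50000b8580000ed19) (Net.cons (nat_lit 8) (nat_lit 0x9d00f400c700ab00c10008) (Net.cons (nat_lit 4) (nat_lit 0x90b050107080b0b040d0d04) (Net.cons (nat_lit 2) (nat_lit 0x2322002013011111120123111) (Net.cons (nat_lit 1) (nat_lit 0x5100105401115405040040001) Net.nil)))))))))))))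

theorem h_g163_ok : Net.ok 100 h_g163 = true := by decide +kernel

noncomputable def ht_c18_K : List Net := [h_g162, h_g163]

theorem ht_c18_K_ok : okE 100 ht_c18_K = true := (okE_cons.2 ⟨h_g162_ok, (okE_cons.2 ⟨h_g163_ok, (okE_nil 100)⟩)⟩)

noncomputable def ht_c18_cnt_EG : List Net := [h_g7, h_a0, h_g4, h_a8, h_g14, h_g10, h_g11, h_g21, h_g22, h_g17, h_g18, h_g1, h_a19, h_a27, h_g131, h_g130]

theorem ht_c18_cnt_EG_ok : okE 100 ht_c18_cnt_EG = true := (okE_cons.2 ⟨h_g7_ok, (okE_cons.2 ⟨h_a0_ok, (okE_cons.2 ⟨h_g4_ok, (okE_cons.2 ⟨h_a8_ok, (okE_cons.2 ⟨h_g14_ok, (okE_cons.2 ⟨h_g10_ok, (okE_cons.2 ⟨h_g11_ok, (okE_cons.2 ⟨h_g21_ok, (okE_cons.2 ⟨h_g22_ok, (okE_cons.2 ⟨h_g17_ok, (okE_cons.2 ⟨h_g18_ok, (okE_cons.2 ⟨h_g1_ok, (okE_cons.2 ⟨h_a19_ok, (okE_cons.2 ⟨h_a27_ok, (okE_cons.2 ⟨h_g131_ok, (okE_cons.2 ⟨h_g130_ok, (okE_nil 100)⟩)⟩)⟩)⟩)⟩)⟩)⟩)⟩)⟩)⟩)⟩)⟩)⟩)⟩)⟩)⟩)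

noncomputable def h_g165 : Net := (Net.cons (nat_lit 1) (nat_lit 0x5050405014415445001405040) (Net.cons (nat_lit 2) (nat_lit 0x2211112222210203300122110) (Net.cons (nat_lit 4) (nat_lit 0x801050700090209030f0a03) (Net.cons (nat_lit 8) (nat_lit 0xa500f6000700d50083000c) (Net.cons (nat_lit 16) (nat_lit 0x5c020000802c00000000) (Net.cons (nat_lit 32) (nat_lit 0xb1900630) (Net.cons (nat_lit 64) (nat_lit 0x5f9f12739) (Net.cons (nat_lit 32) (nat_lit 0xf000000006a1b55e5) (Net.cons (nat_lit 16) (nat_lit 0xb10d000016dd0000b27d) (Net.cons (nat_lit 8) (nat_lit 0x3600ec00d300e600530099) (Net.cons (nat_lit 4) (nat_lit 0x20a08050f0c06000204000d) (Net.cons (nat_lit 2) (nat_lit 0x130022321233330113203201) (Net.cons (nat_lit 1) (nat_lit 0x5411550111110511410411410) Net.nil)))))))))))))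

theorem h_g165_ok : Net.ok 100 h_g165 = true := by decide +kernel

noncomputable def h_g166 : Net := (Net.cons (nat_lit 1) (nat_lit 0x1454444405054054545450510) (Net.cons (nat_lit 2) (nat_lit 0x1222220321020110003100220) (Net.cons (nat_lit 4) (nat_lit 0x9040900060f030c01000500) (Net.cons (nat_lit 8) (nat_lit 0xf0004000c00006000b0004) (Net.cons (nat_lit 16) (nat_lit 0xc1610000aa2600000002) (Net.cons (nat_lit 32) (nat_lit 0x600000000d0402960) (Net.cons (nat_lit 64) (nat_lit 0x5f0e82963) (Net.cons (nat_lit 32) (nat_lit 0x30000000049ac1b5e) (Net.cons (nat_lit 16) (nat_lit 0x43140000b8c3000039a2) (Net.cons (nat_lit 8) (nat_lit 0x30007600c500aa000a0087) (Net.cons (nat_lit 4) (nat_lit 0x9090f02030f0308030e0c08) (Net.cons (nat_lit 2) (nat_lit 0x1230300132211312100100010) (Net.cons (nat_lit 1) (nat_lit 0x1511501004414054155450411) Net.nil)))))))))))))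

theorem h_g166_ok : Net.ok 100 h_g166 = true := by decide +kernel

noncomputable def ht_c19_K : List Net := [h_g165, h_g166]

theorem ht_c19_K_ok : okE 100 ht_c19_K = true := (okE_cons.2 ⟨h_g165_ok, (okE_cons.2 ⟨h_g166_ok, (okE_nil 100)⟩)⟩)

noncomputable def ht_c19_cnt_EG : List Net := [h_g1, h_a19, h_a27, h_g7, h_a0, h_g4, h_a8, h_g14, h_g10, h_g11, h_g21, h_g22, h_g17, h_g18, h_g67, h_g68, h_g69, h_g70, h_g119]

theorem ht_c19_cnt_EG_ok : okE 100 ht_c19_cnt_EG = true := (okE_cons.2 ⟨h_g1_ok, (okE_cons.2 ⟨h_a19_ok, (okE_cons.2 ⟨h_a27_ok, (okE_cons.2 ⟨h_g7_ok, (okE_cons.2 ⟨h_a0_ok, (okE_cons.2 ⟨h_g4_ok, (okE_cons.2 ⟨h_a8_ok, (okE_cons.2 ⟨h_g14_ok, (okE_cons.2 ⟨h_g10_ok, (okE_cons.2 ⟨h_g11_ok, (okE_cons.2 ⟨h_g21_ok, (okE_cons.2 ⟨h_g22_ok, (okE_cons.2 ⟨h_g17_ok, (okE_cons.2 ⟨h_g18_ok, (okE_cons.2 ⟨h_g67_ok, (okE_cons.2 ⟨h_g68_ok, (okE_cons.2 ⟨h_g69_ok, (okE_cons.2 ⟨h_g70_ok, (okE_cons.2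 ⟨h_g119_ok, (okE_nil 100)⟩)⟩)⟩)⟩)⟩)⟩)⟩)⟩)⟩)⟩)⟩)⟩)⟩)⟩)⟩)⟩)⟩)⟩)⟩)

noncomputable def h_g168 : Net := (Net.cons (nat_lit 1) (nat_lit 0x54500151000105400141500) (Net.cons (nat_lit 2) (nat_lit 0x203211303312302301321100) (Net.cons (nat_lit 4) (nat_lit 0x50c0807070c0e0a0e080404) (Net.cons (nat_lit 8) (nat_lit 0x400039007b000d001e0001) (Net.cons (nat_lit 16) (nat_lit 0x2e0e0000067200000004) (Net.cons (nat_lit 32) (nat_lit 0x8000000004d005b30) (Net.cons (nat_lit 64) (nat_lit 0x7cdfa7f3c) (Net.cons (nat_lit 32) (nat_lit 0xa0000000001e1ad3f) (Net.cons (nat_lit 16) (nat_lit 0x484e0000e4cc000049f6) (Net.cons (nat_lit 8) (nat_lit 0xc800220084007d00de0006) (Net.cons (nat_lit 4) (nat_lit 0x6070a020202090108080304) (Net.cons (nat_lit 2) (nat_lit 0x2033313121311000200203131) (Net.cons (nat_lit 1) (nat_lit 0x105544005514001445405455) Net.nil)))))))))))))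

theorem h_g168_ok : Net.ok 100 h_g168 = true := by decide +kernel

noncomputable def ht_c20_K : List Net := [h_g168, h_g166]

theorem ht_c20_K_ok : okE 100 ht_c20_K = true := (okE_cons.2 ⟨h_g168_ok, (okE_cons.2 ⟨h_g166_ok, (okE_nil 100)⟩)⟩)

noncomputable def ht_c20_cnt_EG : List Net := [h_g1, h_a19, h_a27, h_g7, h_a0, h_g4, h_a8, h_g14, h_g10, h_g11, h_g21, h_g22, h_g17, h_g18, h_g67, h_g68, h_g69, h_g70, h_g119]

theorem ht_c20_cnt_EG_ok : okE 100 ht_c20_cnt_EG = true := (okE_cons.2 ⟨h_g1_ok, (okE_cons.2 ⟨h_a19_ok, (okE_cons.2 ⟨h_a27_ok, (okE_cons.2 ⟨h_g7_ok, (okE_cons.2 ⟨h_a0_ok, (okE_cons.2 ⟨h_g4_ok, (okE_cons.2 ⟨h_a8_ok, (okE_cons.2 ⟨h_g14_ok, (okE_cons.2 ⟨h_g10_ok, (okE_cons.2 ⟨h_g11_ok, (okE_cons.2 ⟨h_g21_ok, (okE_cons.2 ⟨h_g22_ok, (okE_cons.2 ⟨h_g17_ok, (okE_cons.2 ⟨h_g18_ok, (okE_cons.2 ⟨h_g67_ok, (okE_cons.2 ⟨h_g68_ok, (okE_cons.2 ⟨h_g69_ok, (okE_cons.2 ⟨h_g70_ok, (okE_cons.2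 ⟨h_g119_ok, (okE_nil 100)⟩)⟩)⟩)⟩)⟩)⟩)⟩)⟩)⟩)⟩)⟩)⟩)⟩)⟩)⟩)⟩)⟩)⟩)⟩)

noncomputable def ht_nc7_6_cnt_EG : List Net := [h_g1, h_a19, h_a27, h_g7, h_a0, h_g4, h_a8, h_g14, h_g10, h_g11, h_g21, h_g22, h_g17, h_g18, h_g67, h_g68, h_g69, h_g70]

theorem ht_nc7_6_cnt_EG_ok : okE 100 ht_nc7_6_cnt_EG = true := (okE_cons.2 ⟨h_g1_ok, (okE_cons.2 ⟨h_a19_ok, (okE_cons.2 ⟨h_a27_ok, (okE_cons.2 ⟨h_g7_ok, (okE_cons.2 ⟨h_a0_ok, (okE_cons.2 ⟨h_g4_ok, (okE_cons.2 ⟨h_a8_ok, (okE_cons.2 ⟨h_g14_ok, (okE_cons.2 ⟨h_g10_ok, (okE_cons.2 ⟨h_g11_ok, (okE_cons.2 ⟨h_g21_ok, (okE_cons.2 ⟨h_g22_ok, (okE_cons.2 ⟨h_g17_ok, (okE_cons.2 ⟨h_g18_ok, (okE_cons.2 ⟨h_g67_ok, (okE_cons.2 ⟨h_g68_ok, (okE_cons.2 ⟨h_g69_ok, (okE_cons.2 ⟨h_g70_ok, (okE_nil 100)⟩)⟩)⟩)⟩)⟩)⟩)⟩)⟩)⟩)⟩)⟩)⟩)⟩)⟩)⟩)⟩)⟩)⟩)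

noncomputable def ht_nc9_8_cnt_EG : List Net := [h_g1, h_a19, h_a27, h_g7, h_a0, h_g4, h_a8, h_g14, h_g10, h_g11, h_g21, h_g22, h_g17, h_g18]

theorem ht_nc9_8_cnt_EG_ok : okE 100 ht_nc9_8_cnt_EG = true := (okE_cons.2 ⟨h_g1_ok, (okE_cons.2 ⟨h_a19_ok, (okE_cons.2 ⟨h_a27_ok, (okE_cons.2 ⟨h_g7_ok, (okE_cons.2 ⟨h_a0_ok, (okE_cons.2 ⟨h_g4_ok, (okE_cons.2 ⟨h_a8_ok, (okE_cons.2 ⟨h_g14_ok, (okE_cons.2 ⟨h_g10_ok, (okE_cons.2 ⟨h_g11_ok, (okE_cons.2 ⟨h_g21_ok, (okE_cons.2 ⟨h_g22_ok, (okE_cons.2 ⟨h_g17_ok, (okE_cons.2 ⟨h_g18_ok, (okE_nil 100)⟩)⟩)⟩)⟩)⟩)⟩)⟩)⟩)⟩)⟩)⟩)⟩)⟩)⟩)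

noncomputable def ht_nc15_14_cnt_EG : List Net := [h_g1, h_a19, h_a27, h_g7, h_a0, h_g4, h_a8, h_g14, h_g10, h_g11, h_g21, h_g22, h_g17, h_g18, h_g67, h_g68, h_g69, h_g70]

theorem ht_nc15_14_cnt_EG_ok : okE 100 ht_nc15_14_cnt_EG = true := (okE_cons.2 ⟨h_g1_ok, (okE_cons.2 ⟨h_a19_ok, (okE_cons.2 ⟨h_a27_ok, (okE_cons.2 ⟨h_g7_ok, (okE_cons.2 ⟨h_a0_ok, (okE_cons.2 ⟨h_g4_ok, (okE_cons.2 ⟨h_a8_ok, (okE_cons.2 ⟨h_g14_ok, (okE_cons.2 ⟨h_g10_ok, (okE_cons.2 ⟨h_g11_ok, (okE_cons.2 ⟨h_g21_ok, (okE_cons.2 ⟨h_g22_ok, (okE_cons.2 ⟨h_g17_ok, (okE_cons.2 ⟨h_g18_ok, (okE_cons.2 ⟨h_g67_ok, (okE_cons.2 ⟨h_g68_ok, (okE_cons.2 ⟨h_g69_ok, (okE_cons.2 ⟨h_g70_ok, (okE_nil 100)⟩)⟩)⟩)⟩)⟩)⟩)⟩)⟩)⟩)⟩)⟩)⟩)⟩)⟩)⟩)⟩)⟩)⟩)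

noncomputable def ht_nc17_16_cnt_EG : List Net := [h_g1, h_a19, h_a27, h_g7, h_a0, h_g4, h_a8, h_g14, h_g10, h_g11, h_g21, h_g22, h_g17, h_g18]

theorem ht_nc17_16_cnt_EG_ok : okE 100 ht_nc17_16_cnt_EG = true := (okE_cons.2 ⟨h_g1_ok, (okE_cons.2 ⟨h_a19_ok, (okE_cons.2 ⟨h_a27_ok, (okE_cons.2 ⟨h_g7_ok, (okE_cons.2 ⟨h_a0_ok, (okE_cons.2 ⟨h_g4_ok, (okE_cons.2 ⟨h_a8_ok, (okE_cons.2 ⟨h_g14_ok, (okE_cons.2 ⟨h_g10_ok, (okE_cons.2 ⟨h_g11_ok, (okE_cons.2 ⟨h_g21_ok, (okE_cons.2 ⟨h_g22_ok, (okE_cons.2 ⟨h_g17_ok, (okE_cons.2 ⟨h_g18_ok, (okE_nil 100)⟩)⟩)⟩)⟩)⟩)⟩)⟩)⟩)⟩)⟩)⟩)⟩)⟩)⟩)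

noncomputable def ht_nc20_19_cnt_EG : List Net := [h_g1, h_a19, h_a27, h_g7, h_a0, h_g4, h_a8, h_g14, h_g10, h_g11, h_g21, h_g22, h_g17, h_g18, h_g67, h_g68, h_g69, h_g70]

theorem ht_nc20_19_cnt_EG_ok : okE 100 ht_nc20_19_cnt_EG = true := (okE_cons.2 ⟨h_g1_ok, (okE_cons.2 ⟨h_a19_ok, (okE_cons.2 ⟨h_a27_ok, (okE_cons.2 ⟨h_g7_ok, (okE_cons.2 ⟨h_a0_ok, (okE_cons.2 ⟨h_g4_ok, (okE_cons.2 ⟨h_a8_ok, (okE_cons.2 ⟨h_g14_ok, (okE_cons.2 ⟨h_g10_ok, (okE_cons.2 ⟨h_g11_ok, (okE_cons.2 ⟨h_g21_ok, (okE_cons.2 ⟨h_g22_ok, (okE_cons.2 ⟨h_g17_ok, (okE_cons.2 ⟨h_g18_ok, (okE_cons.2 ⟨h_g67_ok, (okE_cons.2 ⟨h_g68_ok, (okE_cons.2 ⟨h_g69_ok, (okE_cons.2 ⟨h_g70_ok, (okE_nil 100)⟩)⟩)⟩)⟩)⟩)⟩)⟩)⟩)⟩)⟩)⟩)⟩)⟩)⟩)⟩)⟩)⟩)⟩)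

theorem h_le3 : grp 100 h_V2 ≤ grp 100 h_O :=
  grp_le_of_memB h_hn h_hk h_O_ok h_V2_ok (ws := [nat_lit 0x70301050703]) (by decide +kernel)

theorem h_le6 : grp 100 h_V5 ≤ grp 100 h_O :=
  grp_le_of_memB h_hn h_hk h_O_ok h_V5_ok (ws := [nat_lit 1, nat_lit 0x505070504070204060408, nat_lit 0x8080306080806]) (by decide +kernel)

theorem h_le9 : grp 100 h_V8 ≤ grp 100 h_V5 :=
  grp_le_of_memB h_hn h_hk h_V5_ok h_V8_ok (ws := [nat_lit 197889]) (by decide +kernel)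

theorem h_le13 : grp 100 h_V12 ≤ grp 100 h_V5 :=
  grp_le_of_memB h_hn h_hk h_V5_ok h_V12_ok (ws := [nat_lit 0x104060206040404, nat_lit 0x3060301060404]) (by decide +kernel)

theorem h_le16 : grp 100 h_V15 ≤ grp 100 h_V12 :=
  grp_le_of_memB h_hn h_hk h_V12_ok h_V15_ok (ws := [nat_lit 131842]) (by decide +kernel)

theorem h_le20 : grp 100 h_V19 ≤ grp 100 h_V12 :=
  grp_le_of_memB h_hn h_hk h_V12_ok h_V19_ok (ws := [nat_lit 0x20302020301, nat_lit 0x1030104010104]) (by decide +kernel)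

theorem h_le24 : grp 100 h_V23 ≤ grp 100 h_V19 :=
  grp_le_of_memB h_hn h_hk h_V19_ok h_V23_ok (ws := [nat_lit 4, nat_lit 1025]) (by decide +kernel)

theorem h_card4 : Nat.card (grp 100 h_E4) = 1 :=
  card_grp_nil 100

theorem h_leO4 : grp 100 h_E4 ≤ grp 100 h_O :=
  grp_nil_le _

theorem h_3_fix : grp 100 h_E4 ≤ MulAction.stabilizer (Equiv.Perm (Fin 100)) (⟨9, by decide⟩ : Fin 100) :=
  grp_le_stab h_E4_ok (by decide : 9 < 100) (by decide +kernel)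

noncomputable def h_3_ts : List ℕ := [nat_lit 0, nat_lit 1, nat_lit 2, nat_lit 3, nat_lit 4, nat_lit 259, nat_lit 260, nat_lit 515, nat_lit 516, nat_lit 770, nat_lit 771, nat_lit 1025, nat_lit 66307, nat_lit 66561, nat_lit 131843, nat_lit 197123, nat_lit 197124, nat_lit 197378, nat_lit 262404, nat_lit 0x1030302, nat_lit 0x1040104, nat_lit 0x3020303, nat_lit 0x3030203, nat_lit 0x103030203]

noncomputable def h_3_ds : List ℕ := [nat_lit 9, nat_lit 29, nat_lit 18, nat_lit 50, nat_lit 69, nat_lit 30, nat_lit 65, nat_lit 42, nat_lit 75, nat_lit 11, nat_lit 74, nat_lit 80, nat_lit 63, nat_lit 37, nat_lit 78, nat_lit 38, nat_lit 89, nat_lit 86, nat_lit 90, nat_lit 43, nat_lit 57, nat_lit 25, nat_lit 97, nat_lit 99]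

theorem h_3_dist : Dist 100 h_E4 h_G3 (⟨9, by decide⟩ : Fin 100) h_3_ts h_3_ds :=
  dist_of_distB (k := 5) h_hn h_E4_ok h_G3_ok (by decide : 9 < 100) (by decide +kernel)

noncomputable def h_3_sl0 : SL := (SL.cons (nat_lit 1) (nat_lit 29) Ch.nil [] (SL.cons (nat_lit 2) (nat_lit 18) Ch.nil [] (SL.cons (nat_lit 3) (nat_lit 50) Ch.nil [] (SL.cons (nat_lit 4) (nat_lit 69) Ch.nil [] (SL.cons (nat_lit 259) (nat_lit 30) Ch.nil [] (SL.cons (nat_lit 260) (nat_lit 65) Ch.nil [] (SL.cons (nat_lit 515) (nat_lit 42) Ch.nil [] (SL.cons (nat_lit 516) (nat_lit 75) Ch.nil [] (SL.cons (nat_lit 770) (nat_lit 11) Ch.nil [] (SL.cons (nat_lit 771) (nat_lit 74) Ch.nil [] (SL.cons (nat_lit 1025) (nat_lit 80) Ch.nil [] (SL.cons (nat_lit 66307) (nat_lit 63) Ch.nil [] (SL.cons (nat_lit 66561) (nat_lit 37) Ch.nil [] (SL.cons (nat_lit 131843) (nat_lit 78) Ch.nil [] (SL.cons (nat_lit 197123) (nat_lit 38) Ch.nil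 [] (SL.cons (nat_lit 197124) (nat_lit 89) Ch.nil [] (SL.cons (nat_lit 197378) (nat_lit 86) Ch.nil [] (SL.cons (nat_lit 262404) (nat_lit 90) Ch.nil [] (SL.cons (nat_lit 0x1030302) (nat_lit 43) Ch.nil [] (SL.cons (nat_lit 0x1040104) (nat_lit 57) Ch.nil [] (SL.cons (nat_lit 0x3020303) (nat_lit 25) Ch.nil [] (SL.cons (nat_lit 0x3030203) (nat_lit 97) Ch.nil [] (SL.cons (nat_lit 0x103030203) (nat_lit 99) Ch.nil [] SL.nil)))))))))))))))))))))))

theorem h_3_sc0 : SCs 100 h_E4 h_G3 (⟨9, by decide⟩ : Fin 100) (SL.words h_3_sl0) :=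
  scs_of_ok h_hn (det_lab h_hk ⊤) h_E4_ok h_G3_ok le_top le_top (by decide : 9 < 100) h_3_fix h_card4.le (by decide +kernel)

noncomputable def h_3_l : List ℕ := (appL (SL.words h_3_sl0) [])

theorem h_3_scs : SCs 100 h_E4 h_G3 (⟨9, by decide⟩ : Fin 100) h_3_l :=
  (SCs.append h_3_sc0 SCs.nil)

noncomputable def h_3_rl0_0 : RL := (RL.cons (nat_lit 0) (nat_lit 9) (nat_lit 0) (nat_lit 0) (nat_lit 2) (nat_lit 0) (RL.cons (nat_lit 1) (nat_lit 29) (nat_lit 0) (nat_lit 0) (nat_lit 0) (nat_lit 0) (RL.cons (nat_lit 2) (nat_lit 18) (nat_lit 0) (nat_lit 0) (nat_lit 1) (nat_lit 0) (RL.cons (nat_lit 3) (nat_lit 50) (nat_lit 0) (nat_lit 0) (nat_lit 9) (nat_lit 0) (RL.cons (nat_lit 4) (nat_lit 69) (nat_lit 0) (nat_lit 0) (nat_lit 5) (nat_lit 0) (RL.cons (nat_lit 5) (nat_lit 30) (nat_lit 0) (nat_lit 0) (nat_lit 11) (nat_lit 0) (RL.cons (nat_lit 6) (nat_lit 65) (nat_lit 0) (nat_lit 0) (nat_lit 7) (nat_lit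 0) (RL.cons (nat_lit 7) (nat_lit 42) (nat_lit 0) (nat_lit 0) (nat_lit 13) (nat_lit 0) (RL.cons (nat_lit 8) (nat_lit 75) (nat_lit 0) (nat_lit 0) (nat_lit 3) (nat_lit 0) (RL.cons (nat_lit 9) (nat_lit 11) (nat_lit 0) (nat_lit 0) (nat_lit 8) (nat_lit 0) (RL.cons (nat_lit 10) (nat_lit 74) (nat_lit 0) (nat_lit 0) (nat_lit 17) (nat_lit 0) (RL.cons (nat_lit 11) (nat_lit 80) (nat_lit 0) (nat_lit 0) (nat_lit 4) (nat_lit 0) (RL.cons (nat_lit 12) (nat_lit 63) (nat_lit 0) (nat_lit 0) (nat_lit 19) (nat_lit 0) (RL.cons (nat_lit 13) (nat_lit 37) (nat_lit 0) (nat_lit 0) (nat_lit 6) (nat_lit 0) (RL.cons (nat_lit 14) (nat_lit 78) (nat_lit 0) (nat_lit 0) (nat_lit 15) (nat_lit 0) (RL.cons (nat_lit 15) (nat_lit 38) (nat_lit 0) (nat_lit 0) (nat_lit 20) (nat_lit 0) (RL.cons (nat_lit 16) (nat_lit 89) (nat_lit 0) (nat_lit 0) (nat_lit 10) (nat_lit 0) (RL.cons (nat_lit 17) (nat_lit 86) (nat_lit 0) (nat_lit 0) (nat_lit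 16) (nat_lit 0) (RL.cons (nat_lit 18) (nat_lit 90) (nat_lit 0) (nat_lit 0) (nat_lit 12) (nat_lit 0) (RL.cons (nat_lit 19) (nat_lit 43) (nat_lit 0) (nat_lit 0) (nat_lit 18) (nat_lit 0) (RL.cons (nat_lit 20) (nat_lit 57) (nat_lit 0) (nat_lit 0) (nat_lit 14) (nat_lit 0) (RL.cons (nat_lit 21) (nat_lit 25) (nat_lit 0) (nat_lit 0) (nat_lit 22) (nat_lit 0) (RL.cons (nat_lit 22) (nat_lit 97) (nat_lit 0) (nat_lit 0) (nat_lit 23) (nat_lit 0) (RL.cons (nat_lit 23) (nat_lit 99) (nat_lit 0) (nat_lit 0) (nat_lit 21) (nat_lit 0) RL.nil))))))))))))))))))))))))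

theorem h_3_good0_0 : GoodSet 100 h_E4 h_G3 (⟨9, by decide⟩ : Fin 100) h_3_ts (nat_lit 1) (RL.pts h_3_rl0_0) :=
  goodSet_of_ok h_hn (det_lab h_hk ⊤) h_E4_ok h_G3_ok le_top le_top (by decide : 9 < 100) (sepAt_lab h_hk _) (by decide +kernel)

theorem h_3_step0 : Step 100 h_E4 h_G3 h_3_ts (2 * 0 + 1) :=
  step_of_cover h_E4_ok h_3_dist (by decide +kernel) h_3_scs (by decide +kernel) h_3_good0_0 (kw := [])
    (conj_mem_of_scs h_E4_ok h_G3_ok (by decide : 9 < 100) h_3_scs (c := 0) (d := 29) (by decide +kernel)) (by decide +kernel)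

noncomputable def h_3_rl1_0 : RL := (RL.cons (nat_lit 0) (nat_lit 9) (nat_lit 0) (nat_lit 0) (nat_lit 4) (nat_lit 0) (RL.cons (nat_lit 1) (nat_lit 29) (nat_lit 0) (nat_lit 0) (nat_lit 6) (nat_lit 0) (RL.cons (nat_lit 2) (nat_lit 18) (nat_lit 0) (nat_lit 0) (nat_lit 8) (nat_lit 0) (RL.cons (nat_lit 3) (nat_lit 50) (nat_lit 0) (nat_lit 0) (nat_lit 0) (nat_lit 0) (RL.cons (nat_lit 4) (nat_lit 69) (nat_lit 0) (nat_lit 0) (nat_lit 10) (nat_lit 0) (RL.cons (nat_lit 5) (nat_lit 30) (nat_lit 0) (nat_lit 0) (nat_lit 1) (nat_lit 0) (RL.cons (nat_lit 6) (nat_lit 65) (nat_lit 0) (nat_lit 0) (nat_lit 12) (nat_lit 0) (RL.cons (nat_lit 7) (nat_lit 42) (nat_lit 0) (nat_lit 0) (nat_lit 2) (nat_lit 0) (RL.cons (nat_lit 8) (nat_lit 75) (nat_lit 0) (nat_lit 0) (nat_lit 14) (nat_lit 0) (RL.cons (nat_lit 9) (nat_lit 11) (nat_lit 0) (nat_lit 0) (nat_lit 16) (nat_lit 0) (RL.cons (nat_lit 10) (nat_lit 74) (nat_lit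 0) (nat_lit 0) (nat_lit 3) (nat_lit 0) (RL.cons (nat_lit 11) (nat_lit 80) (nat_lit 0) (nat_lit 0) (nat_lit 18) (nat_lit 0) (RL.cons (nat_lit 12) (nat_lit 63) (nat_lit 0) (nat_lit 0) (nat_lit 5) (nat_lit 0) (RL.cons (nat_lit 13) (nat_lit 37) (nat_lit 0) (nat_lit 0) (nat_lit 20) (nat_lit 0) (RL.cons (nat_lit 14) (nat_lit 78) (nat_lit 0) (nat_lit 0) (nat_lit 7) (nat_lit 0) (RL.cons (nat_lit 15) (nat_lit 38) (nat_lit 0) (nat_lit 0) (nat_lit 9) (nat_lit 0) (RL.cons (nat_lit 16) (nat_lit 89) (nat_lit 0) (nat_lit 0) (nat_lit 21) (nat_lit 0) (RL.cons (nat_lit 17) (nat_lit 86) (nat_lit 0) (nat_lit 0) (nat_lit 11) (nat_lit 0) (RL.cons (nat_lit 18) (nat_lit 90) (nat_lit 0) (nat_lit 0) (nat_lit 22) (nat_lit 0) (RL.cons (nat_lit 19) (nat_lit 43) (nat_lit 0) (nat_lit 0) (nat_lit 13) (nat_lit 0) (RL.cons (nat_lit 20) (nat_lit 57) (nat_lit 0) (nat_lit 0) (nat_lit 23) (nat_lit 0) (RL.cons (nat_lit 21)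 (nat_lit 25) (nat_lit 0) (nat_lit 0) (nat_lit 15) (nat_lit 0) (RL.cons (nat_lit 22) (nat_lit 97) (nat_lit 0) (nat_lit 0) (nat_lit 17) (nat_lit 0) (RL.cons (nat_lit 23) (nat_lit 99) (nat_lit 0) (nat_lit 0) (nat_lit 19) (nat_lit 0) RL.nil))))))))))))))))))))))))

theorem h_3_good1_0 : GoodSet 100 h_E4 h_G3 (⟨9, by decide⟩ : Fin 100) h_3_ts (nat_lit 3) (RL.pts h_3_rl1_0) :=
  goodSet_of_ok h_hn (det_lab h_hk ⊤) h_E4_ok h_G3_ok le_top le_top (by decide : 9 < 100) (sepAt_lab h_hk _) (by decide +kernel)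

theorem h_3_step1 : Step 100 h_E4 h_G3 h_3_ts (2 * 1 + 1) :=
  step_of_cover h_E4_ok h_3_dist (by decide +kernel) h_3_scs (by decide +kernel) h_3_good1_0 (kw := [])
    (conj_mem_of_scs h_E4_ok h_G3_ok (by decide : 9 < 100) h_3_scs (c := 2) (d := 50) (by decide +kernel)) (by decide +kernel)

theorem h_3_lev : grp 100 h_G3 ⊓ MulAction.stabilizer (Equiv.Perm (Fin 100)) (⟨9, by decide⟩ : Fin 100) = grp 100 h_E4 :=
  sims_level (gs := h_V23) rfl (by decide) h_3_fix h_3_dist (forall_lt_succ' (forall_lt_one h_3_step0) h_3_step1)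

theorem h_3_cardG : Nat.card (grp 100 h_G3) = 24 :=
  card_of_level h_hn h_G3_ok (by decide : 9 < 100) h_3_lev h_card4 (m := 24) (by decide +kernel)

theorem h_le25 : grp 100 h_E3 ≤ grp 100 h_G3 :=
  grp_le_of_memB h_hn h_hk h_G3_ok h_E3_ok (ws := [nat_lit 1, nat_lit 3, nat_lit 515, nat_lit 2]) (by decide +kernel)

theorem h_le26 : grp 100 h_G3 ≤ grp 100 h_E3 :=
  grp_le_of_memB h_hn h_hk h_E3_ok h_G3_ok (ws := [nat_lit 1, nat_lit 3]) (by decide +kernel)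

theorem h_3_eq : grp 100 h_E3 = grp 100 h_G3 :=
  le_antisymm h_le25 h_le26

theorem h_card3 : Nat.card (grp 100 h_E3) = 24 :=
  by rw [h_3_eq]; exact h_3_cardG

theorem h_stab3 : grp 100 h_E3 ⊓ MulAction.stabilizer (Equiv.Perm (Fin 100)) (⟨9, by decide⟩ : Fin 100) = grp 100 h_E4 :=
  by rw [h_3_eq]; exact h_3_lev

theorem h_leO3 : grp 100 h_E3 ≤ grp 100 h_O :=
  h_3_eq.le.trans (grp_cons_le ((h_le20.trans (h_le13.trans (h_le6.trans (le_refl (grp 100 h_O))))) (h_le24 (toPerm_mem_grp (E := h_V23) (by simp [h_V23])))) (grp_cons_le ((h_le20.trans (h_le13.trans (h_le6.trans (le_refl (grp 100 h_O))))) (h_le24 (toPerm_mem_grp (E := h_V23) (by simp [h_V23])))) h_leO4))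

theorem h_2_fix : grp 100 h_E3 ≤ MulAction.stabilizer (Equiv.Perm (Fin 100)) (⟨44, by decide⟩ : Fin 100) :=
  grp_le_stab h_E3_ok (by decide : 44 < 100) (by decide +kernel)

noncomputable def h_2_ts : List ℕ := [nat_lit 0, nat_lit 1]

noncomputable def h_2_ds : List ℕ := [nat_lit 44, nat_lit 66]

theorem h_2_dist : Dist 100 h_E3 h_G2 (⟨44, by decide⟩ : Fin 100) h_2_ts h_2_ds :=
  dist_of_distB (k := 1) h_hn h_E3_ok h_G2_ok (by decide : 44 < 100) (by decide +kernel)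

noncomputable def h_2_sl0 : SL := (SL.cons (nat_lit 1) (nat_lit 66) (Ch.cons (nat_lit 1) [nat_lit 197891, nat_lit 259] Ch.nil) [nat_lit 771, nat_lit 263429] SL.nil)

theorem h_2_sc0 : SCs 100 h_E3 h_G2 (⟨44, by decide⟩ : Fin 100) (SL.words h_2_sl0) :=
  scs_of_ok h_hn (det_lab h_hk ⊤) h_E3_ok h_G2_ok le_top le_top (by decide : 44 < 100) h_2_fix h_card3.le (by decide +kernel)

noncomputable def h_2_l : List ℕ := (appL (SL.words h_2_sl0) [])

theorem h_2_scs : SCs 100 h_E3 h_G2 (⟨44, by decide⟩ : Fin 100) h_2_l :=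
  (SCs.append h_2_sc0 SCs.nil)

noncomputable def h_2_rl0_0 : RL := (RL.cons (nat_lit 0) (nat_lit 44) (nat_lit 0) (nat_lit 5) (nat_lit 1) (nat_lit 1539) (RL.cons (nat_lit 1) (nat_lit 66) (nat_lit 0) (nat_lit 0) (nat_lit 0) (nat_lit 0) (RL.cons (nat_lit 1) (nat_lit 3) (nat_lit 1) (nat_lit 0) (nat_lit 1) (nat_lit 1283) (RL.cons (nat_lit 1) (nat_lit 19) (nat_lit 260) (nat_lit 2) (nat_lit 1) (nat_lit 1285) RL.nil))))

theorem h_2_good0_0 : GoodSet 100 h_E3 h_G2 (⟨44, by decide⟩ : Fin 100) h_2_ts (nat_lit 1) (RL.pts h_2_rl0_0) :=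
  goodSet_of_ok h_hn (det_lab h_hk ⊤) h_E3_ok h_G2_ok le_top le_top (by decide : 44 < 100) (sepAt_lab h_hk _) (by decide +kernel)

theorem h_2_step0 : Step 100 h_E3 h_G2 h_2_ts (2 * 0 + 1) :=
  step_of_cover h_E3_ok h_2_dist (by decide +kernel) h_2_scs (by decide +kernel) h_2_good0_0 (kw := [nat_lit 197891, nat_lit 259])
    (conj_mem_of_scs h_E3_ok h_G2_ok (by decide : 44 < 100) h_2_scs (c := 0) (d := 66) (by decide +kernel)) (by decide +kernel)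

theorem h_2_lev : grp 100 h_G2 ⊓ MulAction.stabilizer (Equiv.Perm (Fin 100)) (⟨44, by decide⟩ : Fin 100) = grp 100 h_E3 :=
  sims_level (gs := h_V15) rfl (by decide) h_2_fix h_2_dist (forall_lt_one h_2_step0)

theorem h_2_cardG : Nat.card (grp 100 h_G2) = 168 :=
  card_of_level h_hn h_G2_ok (by decide : 44 < 100) h_2_lev h_card3 (m := 7) (by decide +kernel)

theorem h_le27 : grp 100 h_E2 ≤ grp 100 h_G2 :=
  grp_le_of_memB h_hn h_hk h_G2_ok h_E2_ok (ws := [nat_lit 1, nat_lit 524545, nat_lit 0x6070702, nat_lit 3, nat_lit 5, nat_lit 7, nat_lit 9]) (by decide +kernel)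

theorem h_le28 : grp 100 h_G2 ≤ grp 100 h_E2 :=
  grp_le_of_memB h_hn h_hk h_E2_ok h_G2_ok (ws := [nat_lit 1, nat_lit 7, nat_lit 9, nat_lit 11, nat_lit 13]) (by decide +kernel)

theorem h_2_eq : grp 100 h_E2 = grp 100 h_G2 :=
  le_antisymm h_le27 h_le28

theorem h_card2 : Nat.card (grp 100 h_E2) = 168 :=
  by rw [h_2_eq]; exact h_2_cardG

theorem h_stab2 : grp 100 h_E2 ⊓ MulAction.stabilizer (Equiv.Perm (Fin 100)) (⟨44, by decide⟩ : Fin 100) = grp 100 h_E3 :=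
  by rw [h_2_eq]; exact h_2_lev

theorem h_leO2 : grp 100 h_E2 ≤ grp 100 h_O :=
  h_2_eq.le.trans (grp_cons_le ((h_le13.trans (h_le6.trans (le_refl (grp 100 h_O)))) (h_le16 (toPerm_mem_grp (E := h_V15) (by simp [h_V15])))) h_leO3)

theorem h_1_fix : grp 100 h_E2 ≤ MulAction.stabilizer (Equiv.Perm (Fin 100)) (⟨17, by decide⟩ : Fin 100) :=
  grp_le_stab h_E2_ok (by decide : 17 < 100) (by decide +kernel)

noncomputable def h_1_ts : List ℕ := [nat_lit 0, nat_lit 1, nat_lit 2, nat_lit 257]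

noncomputable def h_1_ds : List ℕ := [nat_lit 17, nat_lit 44, nat_lit 82, nat_lit 46]

theorem h_1_dist : Dist 100 h_E2 h_G1 (⟨17, by decide⟩ : Fin 100) h_1_ts h_1_ds :=
  dist_of_distB (k := 2) h_hn h_E2_ok h_G1_ok (by decide : 17 < 100) (by decide +kernel)

noncomputable def h_1_sl0 : SL := (SL.cons (nat_lit 1) (nat_lit 44) (Ch.cons (nat_lit 9) [nat_lit 7, nat_lit 9, nat_lit 11, nat_lit 13] Ch.nil) [nat_lit 3073, nat_lit 0xb0b0104, nat_lit 2060, nat_lit 260] (SL.cons (nat_lit 2) (nat_lit 82) (Ch.cons (nat_lit 9) [nat_lit 2313, nat_lit 2060, nat_lit 0xb0b0104] Ch.nil) [nat_lit 592139, nat_lit 11, nat_lit 9] (SL.cons (nat_lit 257) (nat_lit 46) (Ch.cons (nat_lit 2) [nat_lit 11, nat_lit 2058] Ch.nil) [nat_lit 2817, nat_lit 461834] SL.nil)))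

theorem h_1_sc0 : SCs 100 h_E2 h_G1 (⟨17, by decide⟩ : Fin 100) (SL.words h_1_sl0) :=
  scs_of_ok h_hn (det_lab h_hk ⊤) h_E2_ok h_G1_ok le_top le_top (by decide : 17 < 100) h_1_fix h_card2.le (by decide +kernel)

noncomputable def h_1_l : List ℕ := (appL (SL.words h_1_sl0) [])

theorem h_1_scs : SCs 100 h_E2 h_G1 (⟨17, by decide⟩ : Fin 100) h_1_l :=
  (SCs.append h_1_sc0 SCs.nil)

noncomputable def h_1_rl0_0 : RL := (RL.cons (nat_lit 0) (nat_lit 17) (nat_lit 0) (nat_lit 0) (nat_lit 2) (nat_lit 0) (RL.cons (nat_lit 1) (nat_lit 44) (nat_lit 0) (nat_lit 0) (nat_lit 0) (nat_lit 0) (RL.cons (nat_lit 1) (nat_lit 66) (nat_lit 1) (nat_lit 260) (nat_lit 3) (nat_lit 0x90b0904) (RL.cons (nat_lit 2) (nat_lit 82) (nat_lit 0) (nat_lit 778) (nat_lit 3) (nat_lit 0x70c0104) (RL.cons (nat_lit 2) (nat_lit 26) (nat_lit 1) (nat_lit 259) (nat_lit 1) (nat_lit 0x90b0903) (RL.cons (nat_lit 3) (nat_lit 46) (nat_lit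 0) (nat_lit 0) (nat_lit 1) (nat_lit 0) (RL.cons (nat_lit 3) (nat_lit 8) (nat_lit 1) (nat_lit 264) (nat_lit 3) (nat_lit 461314) (RL.cons (nat_lit 3) (nat_lit 5) (nat_lit 3) (nat_lit 7) (nat_lit 2) (nat_lit 461827) RL.nil))))))))

theorem h_1_good0_0 : GoodSet 100 h_E2 h_G1 (⟨17, by decide⟩ : Fin 100) h_1_ts (nat_lit 1) (RL.pts h_1_rl0_0) :=
  goodSet_of_ok h_hn (det_lab h_hk ⊤) h_E2_ok h_G1_ok le_top le_top (by decide : 17 < 100) (sepAt_lab h_hk _) (by decide +kernel)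

theorem h_1_step0 : Step 100 h_E2 h_G1 h_1_ts (2 * 0 + 1) :=
  step_of_cover h_E2_ok h_1_dist (by decide +kernel) h_1_scs (by decide +kernel) h_1_good0_0 (kw := [nat_lit 7, nat_lit 9, nat_lit 11, nat_lit 13])
    (conj_mem_of_scs h_E2_ok h_G1_ok (by decide : 17 < 100) h_1_scs (c := 0) (d := 44) (by decide +kernel)) (by decide +kernel)

theorem h_1_lev : grp 100 h_G1 ⊓ MulAction.stabilizer (Equiv.Perm (Fin 100)) (⟨17, by decide⟩ : Fin 100) = grp 100 h_E2 :=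
  sims_level (gs := h_V8) rfl (by decide) h_1_fix h_1_dist (forall_lt_one h_1_step0)

theorem h_1_cardG : Nat.card (grp 100 h_G1) = 6048 :=
  card_of_level h_hn h_G1_ok (by decide : 17 < 100) h_1_lev h_card2 (m := 36) (by decide +kernel)

theorem h_le29 : grp 100 h_E1 ≤ grp 100 h_G1 :=
  grp_le_of_memB h_hn h_hk h_G1_ok h_E1_ok (ws := [nat_lit 1, nat_lit 723718, nat_lit 0x9050206, nat_lit 0x90b050101030b, nat_lit 3, nat_lit 5, nat_lit 7, nat_lit 9, nat_lit 11, nat_lit 13, nat_lit 15]) (by decide +kernel)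

theorem h_le30 : grp 100 h_G1 ≤ grp 100 h_E1 :=
  grp_le_of_memB h_hn h_hk h_E1_ok h_G1_ok (ws := [nat_lit 1, nat_lit 9, nat_lit 11, nat_lit 13, nat_lit 15, nat_lit 17, nat_lit 19, nat_lit 21]) (by decide +kernel)

theorem h_1_eq : grp 100 h_E1 = grp 100 h_G1 :=
  le_antisymm h_le29 h_le30

theorem h_card1 : Nat.card (grp 100 h_E1) = 6048 :=
  by rw [h_1_eq]; exact h_1_cardG

theorem h_stab1 : grp 100 h_E1 ⊓ MulAction.stabilizer (Equiv.Perm (Fin 100)) (⟨17, by decide⟩ : Fin 100) = grp 100 h_E2 :=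
  by rw [h_1_eq]; exact h_1_lev

theorem h_leO1 : grp 100 h_E1 ≤ grp 100 h_O :=
  h_1_eq.le.trans (grp_cons_le ((h_le6.trans (le_refl (grp 100 h_O))) (h_le9 (toPerm_mem_grp (E := h_V8) (by simp [h_V8])))) h_leO2)

theorem h_0_fix : grp 100 h_E1 ≤ MulAction.stabilizer (Equiv.Perm (Fin 100)) (⟨0, by decide⟩ : Fin 100) :=
  grp_le_stab h_E1_ok (by decide : 0 < 100) (by decide +kernel)

noncomputable def h_0_ts : List ℕ := [nat_lit 0, nat_lit 1, nat_lit 257]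

noncomputable def h_0_ds : List ℕ := [nat_lit 0, nat_lit 17, nat_lit 20]

theorem h_0_dist : Dist 100 h_E1 h_G0 (⟨0, by decide⟩ : Fin 100) h_0_ts h_0_ds :=
  dist_of_distB (k := 2) h_hn h_E1_ok h_G0_ok (by decide : 0 < 100) (by decide +kernel)

noncomputable def h_0_sl0 : SL := (SL.cons (nat_lit 1) (nat_lit 17) (Ch.cons (nat_lit 44) [nat_lit 9, nat_lit 11, nat_lit 13] (Ch.cons (nat_lit 9) [nat_lit 15, nat_lit 17, nat_lit 19, nat_lit 21] Ch.nil)) [nat_lit 0x110b0207, nat_lit 0x13090505, nat_lit 0x1014090c0609, nat_lit 0x13130901010b, nat_lit 0xf14090b01010d, nat_lit 0xf110505, nat_lit 0x131101010d] (SL.cons (nat_lit 257) (nat_lit 20) (Ch.cons (nat_lit 9) [nat_lit 0x100a020f] (Ch.cons (nat_lit 1) [nat_lit 0x14120a01] Ch.nil)) [nat_lit 0xf11090c0601, nat_lit 0xf0c0106] SL.nil))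

theorem h_0_sc0 : SCs 100 h_E1 h_G0 (⟨0, by decide⟩ : Fin 100) (SL.words h_0_sl0) :=
  scs_of_ok h_hn (det_lab h_hk ⊤) h_E1_ok h_G0_ok le_top le_top (by decide : 0 < 100) h_0_fix h_card1.le (by decide +kernel)

noncomputable def h_0_l : List ℕ := (appL (SL.words h_0_sl0) [])

theorem h_0_scs : SCs 100 h_E1 h_G0 (⟨0, by decide⟩ : Fin 100) h_0_l :=
  (SCs.append h_0_sc0 SCs.nil)

noncomputable def h_0_rl0_0 : RL := (RL.cons (nat_lit 0) (nat_lit 0) (nat_lit 0) (nat_lit 514) (nat_lit 1) (nat_lit 0x14120a0202) (RL.cons (nat_lit 1) (nat_lit 17) (nat_lit 0) (nat_lit 0) (nat_lit 0) (nat_lit 0) (RL.cons (nat_lit 1) (nat_lit 44) (nat_lit 1) (nat_lit 1296) (nat_lit 1) (nat_lit 0x12140b020a) (RL.cons (nat_lit 1) (nat_lit 82) (nat_lit 2) (nat_lit 1805) (nat_lit 1) (nat_lit 0x131301070c) (RL.cons (nat_lit 1) (nat_lit 13) (nat_lit 7) (nat_lit 270) (nat_lit 2) (nat_lit 0x11090b06) (RL.cons (nat_lit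 2) (nat_lit 20) (nat_lit 0) (nat_lit 0) (nat_lit 1) (nat_lit 0) (RL.cons (nat_lit 2) (nat_lit 39) (nat_lit 1) (nat_lit 523) (nat_lit 2) (nat_lit 0x14120907) RL.nil)))))))

theorem h_0_good0_0 : GoodSet 100 h_E1 h_G0 (⟨0, by decide⟩ : Fin 100) h_0_ts (nat_lit 1) (RL.pts h_0_rl0_0) :=
  goodSet_of_ok h_hn (det_lab h_hk ⊤) h_E1_ok h_G0_ok le_top le_top (by decide : 0 < 100) (sepAt_lab h_hk _) (by decide +kernel)

theorem h_0_step0 : Step 100 h_E1 h_G0 h_0_ts (2 * 0 + 1) :=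
  step_of_cover h_E1_ok h_0_dist (by decide +kernel) h_0_scs (by decide +kernel) h_0_good0_0 (kw := [nat_lit 9, nat_lit 11, nat_lit 13, nat_lit 15, nat_lit 17, nat_lit 19, nat_lit 21])
    (conj_mem_of_scs h_E1_ok h_G0_ok (by decide : 0 < 100) h_0_scs (c := 0) (d := 17) (by decide +kernel)) (by decide +kernel)

theorem h_0_lev : grp 100 h_G0 ⊓ MulAction.stabilizer (Equiv.Perm (Fin 100)) (⟨0, by decide⟩ : Fin 100) = grp 100 h_E1 :=
  sims_level (gs := h_V2) rfl (by decide) h_0_fix h_0_dist (forall_lt_one h_0_step0)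

theorem h_0_cardG : Nat.card (grp 100 h_G0) = 604800 :=
  card_of_level h_hn h_G0_ok (by decide : 0 < 100) h_0_lev h_card1 (m := 100) (by decide +kernel)

theorem h_le31 : grp 100 h_E0 ≤ grp 100 h_G0 :=
  grp_le_of_memB h_hn h_hk h_G0_ok h_E0_ok (ws := [nat_lit 1, nat_lit 0x1313150d090301010302, nat_lit 0x14150c03071401010111, nat_lit 3, nat_lit 5, nat_lit 7, nat_lit 9, nat_lit 11, nat_lit 13, nat_lit 15, nat_lit 17, nat_lit 19, nat_lit 21, nat_lit 23]) (by decide +kernel)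

theorem h_le32 : grp 100 h_G0 ≤ grp 100 h_E0 :=
  grp_le_of_memB h_hn h_hk h_E0_ok h_G0_ok (ws := [nat_lit 1, nat_lit 7, nat_lit 9, nat_lit 11, nat_lit 13, nat_lit 15, nat_lit 17, nat_lit 19, nat_lit 21, nat_lit 23, nat_lit 25, nat_lit 27]) (by decide +kernel)

theorem h_0_eq : grp 100 h_E0 = grp 100 h_G0 :=
  le_antisymm h_le31 h_le32

theorem h_card0 : Nat.card (grp 100 h_E0) = 604800 :=
  by rw [h_0_eq]; exact h_0_cardG

theorem h_stab0 : grp 100 h_E0 ⊓ MulAction.stabilizer (Equiv.Perm (Fin 100)) (⟨0, by decide⟩ : Fin 100) = grp 100 h_E1 :=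
  by rw [h_0_eq]; exact h_0_lev

theorem h_leO0 : grp 100 h_E0 ≤ grp 100 h_O :=
  h_0_eq.le.trans (grp_cons_le ((le_refl (grp 100 h_O)) (h_le3 (toPerm_mem_grp (E := h_V2) (by simp [h_V2])))) h_leO1)

theorem h_le33 : grp 100 h_O ≤ grp 100 h_E0 :=
  grp_le_of_memB h_hn h_hk h_E0_ok h_O_ok (ws := [nat_lit 9, nat_lit 13, nat_lit 3, nat_lit 5]) (by decide +kernel)

theorem h_eq : grp 100 h_O = grp 100 h_E0 :=
  le_antisymm h_le33 h_leO0

theorem h_card : Nat.card (grp 100 h_O) = 604800 :=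
  by rw [h_eq]; exact h_card0

noncomputable def h_ch : Ch := (Ch.cons (nat_lit 0) [nat_lit 1, nat_lit 3, nat_lit 5] (Ch.cons (nat_lit 17) [nat_lit 7, nat_lit 9, nat_lit 11, nat_lit 13] (Ch.cons (nat_lit 44) [nat_lit 15, nat_lit 17, nat_lit 19] (Ch.cons (nat_lit 9) [nat_lit 21, nat_lit 23, nat_lit 25, nat_lit 27] Ch.nil))))

theorem h_exact : Ch.Exact 100 h_E0 h_ch (grp 100 h_E0) :=
  Ch.exact (k := 7) (L := (lab 100 7)) h_hn h_E0_ok (by decide +kernel) (wgrp_le_grp _ _ _) h_card0.le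

theorem h_le36 : grp 100 h_F ≤ grp 100 h_E0 :=
  grp_le_of_memB h_hn h_hk h_E0_ok h_F_ok (ws := [nat_lit 0x161a1108080319, nat_lit 0x1a180f120d1a0315]) (by decide +kernel)

theorem h_le40 : grp 100 h_V39 ≤ grp 100 h_F :=
  grp_le_of_memB h_hn h_hk h_F_ok h_V39_ok (ws := [nat_lit 0x40101040104, nat_lit 0x2030204020402]) (by decide +kernel)

theorem h_le43 : grp 100 h_V42 ≤ grp 100 h_V39 :=
  grp_le_of_memB h_hn h_hk h_V39_ok h_V42_ok (ws := [nat_lit 0x3020302, nat_lit 0x203010104040101]) (by decide +kernel)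

theorem h_le48 : grp 100 h_V47 ≤ grp 100 h_V42 :=
  grp_le_of_memB h_hn h_hk h_V42_ok h_V47_ok (ws := [nat_lit 0x204010301040104, nat_lit 0x1040204020202040402, nat_lit 0x103010101040404020402]) (by decide +kernel)

theorem h_le52 : grp 100 h_V51 ≤ grp 100 h_V47 :=
  grp_le_of_memB h_hn h_hk h_V47_ok h_V51_ok (ws := [nat_lit 0x101060202, nat_lit 0x5030302]) (by decide +kernel)

theorem h_le55 : grp 100 h_V54 ≤ grp 100 h_V51 :=
  grp_le_of_memB h_hn h_hk h_V51_ok h_V54_ok (ws := [nat_lit 0x3030202, nat_lit 0x401010101]) (by decide +kernel)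

theorem h_le57 : grp 100 h_V56 ≤ grp 100 h_V54 :=
  grp_le_of_memB h_hn h_hk h_V54_ok h_V56_ok (ws := [nat_lit 516, nat_lit 0x30301030101]) (by decide +kernel)

theorem h_lb_le : grp 100 h_lb_E ≤ grp 100 h_F :=
  (grp_cons_le ((le_refl (grp 100 h_F)) (toPerm_mem_grp (E := h_F) (by simp [h_F]))) (grp_cons_le ((le_refl (grp 100 h_F)) (toPerm_mem_grp (E := h_F) (by simp [h_F]))) (grp_cons_le ((h_le40.trans (le_refl (grp 100 h_F))) (toPerm_mem_grp (E := h_V39) (by simp [h_V39]))) (grp_cons_le ((h_le40.trans (le_refl (grp 100 h_F))) (toPerm_mem_grp (E := h_V39) (by simp [h_V39]))) (grp_cons_le ((h_le43.trans (h_le40.trans (le_refl (grp 100 h_F)))) (toPerm_mem_grp (E := h_V42) (by simp [h_V42]))) (grp_cons_le ((h_le43.trans (h_le40.trans (le_refl (grp 100 h_F)))) (toPerm_mem_grp (E := h_V42) (by simp [h_V42]))) (grp_cons_le ((h_le48.trans (h_le43.trans (h_le40.trans (le_refl (grp 100 h_F)))))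 (toPerm_mem_grp (E := h_V47) (by simp [h_V47]))) (grp_cons_le ((h_le48.trans (h_le43.trans (h_le40.trans (le_refl (grp 100 h_F))))) (toPerm_mem_grp (E := h_V47) (by simp [h_V47]))) (grp_cons_le ((h_le48.trans (h_le43.trans (h_le40.trans (le_refl (grp 100 h_F))))) (toPerm_mem_grp (E := h_V47) (by simp [h_V47]))) (grp_cons_le ((h_le52.trans (h_le48.trans (h_le43.trans (h_le40.trans (le_refl (grp 100 h_F)))))) (toPerm_mem_grp (E := h_V51) (by simp [h_V51]))) (grp_cons_le ((h_le52.trans (h_le48.trans (h_le43.trans (h_le40.trans (le_refl (grp 100 h_F)))))) (toPerm_mem_grp (E := h_V51) (by simp [h_V51]))) (grp_cons_le ((h_le55.trans (h_le52.trans (h_le48.trans (h_le43.trans (h_le40.trans (le_refl (grp 100 h_F))))))) (toPerm_mem_grp (E := h_V54) (by simp [h_V54]))) (grp_cons_le ((h_le55.trans (h_le52.trans (h_le48.trans (h_le43.trans (h_le40.trans (le_refl (grp 100 h_F))))))) (toPerm_mem_grp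 (E := h_V54) (by simp [h_V54]))) (grp_cons_le ((h_le57.trans (h_le55.trans (h_le52.trans (h_le48.trans (h_le43.trans (h_le40.trans (le_refl (grp 100 h_F)))))))) (toPerm_mem_grp (E := h_V56) (by simp [h_V56]))) (grp_cons_le ((h_le57.trans (h_le55.trans (h_le52.trans (h_le48.trans (h_le43.trans (h_le40.trans (le_refl (grp 100 h_F)))))))) (toPerm_mem_grp (E := h_V56) (by simp [h_V56]))) (grp_nil_le _))))))))))))))))

noncomputable def h_lb_ch : Ch := (Ch.cons (nat_lit 0) [nat_lit 1, nat_lit 3] (Ch.cons (nat_lit 2) [nat_lit 5, nat_lit 7] (Ch.cons (nat_lit 3) [nat_lit 9, nat_lit 11] (Ch.cons (nat_lit 15) [nat_lit 13, nat_lit 15, nat_lit 17] (Ch.cons (nat_lit 1) [nat_lit 19, nat_lit 21] (Ch.cons (nat_lit 4) [nat_lit 23, nat_lit 25] (Ch.cons (nat_lit 8) [nat_lit 27, nat_lit 29] Ch.nil)))))))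

theorem h_lb_chk : Ch.chk 100 7 (lab 100 7) h_lb_E h_lb_ch 604800 = true :=
  by decide +kernel

theorem h_lb_ge : 604800 ≤ Nat.card (grp 100 h_F) :=
  (Ch.le_card_grp h_hn h_lb_E_ok h_lb_chk).trans (Subgroup.card_le_of_le h_lb_le)

theorem h_F_eq : grp 100 h_F = grp 100 h_O :=
  Subgroup.eq_of_le_of_card_ge (h_le36.trans h_eq.ge) (h_card.le.trans h_lb_ge)

theorem h_prim : PrimAt (grp 100 h_O) (⟨0, by decide⟩ : Fin 100) :=
  primAt_of_primB h_O_ok (by decide) (hw := [nat_lit 0x40607060608080806, nat_lit 0x40802020607060806, nat_lit 0x206070503080105040208]) (ts := [nat_lit 5, nat_lit 1287]) (by decide +kernel)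

theorem h_simple : IsSimpleGroup (grp 100 h_O) :=
  by
  rw [← h_F_eq]
  exact isSimpleGroup_grp h_hn h_hk h_F_ok (h_F_eq ▸ h_prim) (c := 6048) (m := 5) (by rw [h_F_eq]; exact h_card) (by decide) (by decide) (by decide +kernel)

theorem h_T58_s0 : Stab 100 (grp 100 h_E0) [] h_E0 604800 :=
  Stab.root h_E0_ok h_card0

theorem h_le65 : grp 100 ht_c1_K ≤ grp 100 h_E0 :=
  grp_le_of_memB h_hn h_hk h_E0_ok ht_c1_K_ok (ws := [nat_lit 0x1a0f120c0f010705, nat_lit 0x1717191008100205, nat_lit 0x19120710010d03, nat_lit 0x1a170f070b18010c0f, nat_lit 0x15170f12070d020209]) (by decide +kernel)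

theorem ht_c1_le : grp 100 ht_c1_K ≤ (grp 100 h_E0) :=
  (h_le65.trans h_T58_s0.le)

theorem ht_c1_mem : Net.toPerm 100 h_g59 ∈ (grp 100 h_E0) :=
  ht_c1_le (mem_grp_of_memB h_hn h_hk ht_c1_K_ok h_g59_ok (w := (nat_lit 1285)) (by decide +kernel))

theorem ht_c1_sym : Sym 100 (grp 100 h_E0) [h_g59] ht_c1_K 0 :=
  Sym.of_lab h_hn h_hk (okE_cons.2 ⟨h_g59_ok, okE_nil _⟩) ht_c1_K_ok ht_c1_le (kT := 0) (by decide +kernel)

theorem h_T58_s1 : Stab 100 (grp 100 h_E0) [nat_lit 0] h_V66 6048 :=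
  Stab.step (k := 7) (L := (lab 100 7)) h_hn h_T58_s0 h_V66_ok (grp_mono (List.subset_append_right [h_g1, h_a19, h_a27] _)) (c := (Ch.cons (nat_lit 17) [nat_lit 1, nat_lit 3, nat_lit 5, nat_lit 7] (Ch.cons (nat_lit 44) [nat_lit 9, nat_lit 11, nat_lit 13] (Ch.cons (nat_lit 9) [nat_lit 15, nat_lit 17, nat_lit 19, nat_lit 21] Ch.nil)))) (by decide +kernel)

theorem h_le72 : grp 100 h_V71 ≤ grp 100 h_V66 :=
  grp_le_of_memB h_hn h_hk h_V66_ok h_V71_ok (ws := [nat_lit 988161, nat_lit 0x141201, nat_lit 0x12010512, nat_lit 0xf120b070d]) (by decide +kernel)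

theorem h_T58_s2 : Stab 100 (grp 100 h_E0) [nat_lit 95, nat_lit 0] h_V71 96 :=
  Stab.step (k := 7) (L := (lab 100 7)) h_hn h_T58_s1 h_V71_ok h_le72 (c := (Ch.cons (nat_lit 9) [nat_lit 1] (Ch.cons (nat_lit 13) [nat_lit 3] (Ch.cons (nat_lit 99) [nat_lit 5] (Ch.cons (nat_lit 1) [nat_lit 7] Ch.nil))))) (by decide +kernel)

theorem h_T58_s3 : Stab 100 (grp 100 h_E0) [nat_lit 9, nat_lit 95, nat_lit 0] h_V73 16 :=
  Stab.step (k := 7) (L := (lab 100 7)) h_hn h_T58_s2 h_V73_ok (grp_mono (List.subset_append_right [h_g67] _)) (c := (Ch.cons (nat_lit 13) [nat_lit 1] (Ch.cons (nat_lit 99) [nat_lit 3] (Ch.cons (nat_lit 1) [nat_lit 5] Ch.nil)))) (by decide +kernel)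

theorem h_T58_s4 : Stab 100 (grp 100 h_E0) [nat_lit 13, nat_lit 9, nat_lit 95, nat_lit 0] h_V74 4 :=
  Stab.step (k := 7) (L := (lab 100 7)) h_hn h_T58_s3 h_V74_ok (grp_mono (List.subset_append_right [h_g68] _)) (c := (Ch.cons (nat_lit 99) [nat_lit 1] (Ch.cons (nat_lit 1) [nat_lit 3] Ch.nil))) (by decide +kernel)

theorem h_T58_s5 : Stab 100 (grp 100 h_E0) [nat_lit 99, nat_lit 13, nat_lit 9, nat_lit 95, nat_lit 0] h_V75 2 :=
  Stab.step (k := 7) (L := (lab 100 7)) h_hn h_T58_s4 h_V75_ok (grp_mono (List.subset_append_right [h_g69] _)) (c := (Ch.cons (nat_lit 1) [nat_lit 1] Ch.nil)) (by decide +kernel)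

theorem h_T58_s6 : Stab 100 (grp 100 h_E0) [nat_lit 1, nat_lit 99, nat_lit 13, nat_lit 9, nat_lit 95, nat_lit 0] h_V76 1 :=
  Stab.step (k := 7) (L := (lab 100 7)) h_hn h_T58_s5 h_V76_ok (grp_mono (List.subset_append_right [h_g70] _)) (c := Ch.nil) (by decide +kernel)

theorem h_g1_h_T58 : Net.toPerm 100 h_g1 ∈ (grp 100 h_E0) :=
  h_T58_s0.le (toPerm_mem_grp (E := h_E0) (List.Mem.head _))

theorem h_a19_h_T58 : Net.toPerm 100 h_a19 ∈ (grp 100 h_E0) :=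
  h_T58_s0.le (toPerm_mem_grp (E := h_E0) (List.Mem.tail _ (List.Mem.head _)))

theorem h_a27_h_T58 : Net.toPerm 100 h_a27 ∈ (grp 100 h_E0) :=
  h_T58_s0.le (toPerm_mem_grp (E := h_E0) (List.Mem.tail _ (List.Mem.tail _ (List.Mem.head _))))

theorem h_g7_h_T58 : Net.toPerm 100 h_g7 ∈ (grp 100 h_E0) :=
  h_T58_s0.le (toPerm_mem_grp (E := h_E0) (List.Mem.tail _ (List.Mem.tail _ (List.Mem.tail _ (List.Mem.head _)))))

theorem h_a0_h_T58 : Net.toPerm 100 h_a0 ∈ (grp 100 h_E0) :=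
  h_T58_s0.le (toPerm_mem_grp (E := h_E0) (List.Mem.tail _ (List.Mem.tail _ (List.Mem.tail _ (List.Mem.tail _ (List.Mem.head _))))))

theorem h_g4_h_T58 : Net.toPerm 100 h_g4 ∈ (grp 100 h_E0) :=
  h_T58_s0.le (toPerm_mem_grp (E := h_E0) (List.Mem.tail _ (List.Mem.tail _ (List.Mem.tail _ (List.Mem.tail _ (List.Mem.tail _ (List.Mem.head _)))))))

theorem h_a8_h_T58 : Net.toPerm 100 h_a8 ∈ (grp 100 h_E0) :=
  h_T58_s0.le (toPerm_mem_grp (E := h_E0) (List.Mem.tail _ (List.Mem.tail _ (List.Mem.tail _ (List.Mem.tail _ (List.Mem.tail _ (List.Mem.tail _ (List.Mem.head _))))))))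

theorem h_g14_h_T58 : Net.toPerm 100 h_g14 ∈ (grp 100 h_E0) :=
  h_T58_s0.le (toPerm_mem_grp (E := h_E0) (List.Mem.tail _ (List.Mem.tail _ (List.Mem.tail _ (List.Mem.tail _ (List.Mem.tail _ (List.Mem.tail _ (List.Mem.tail _ (List.Mem.head _)))))))))

theorem h_g10_h_T58 : Net.toPerm 100 h_g10 ∈ (grp 100 h_E0) :=
  h_T58_s0.le (toPerm_mem_grp (E := h_E0) (List.Mem.tail _ (List.Mem.tail _ (List.Mem.tail _ (List.Mem.tail _ (List.Mem.tail _ (List.Mem.tail _ (List.Mem.tail _ (List.Mem.tail _ (List.Mem.head _))))))))))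

theorem h_g11_h_T58 : Net.toPerm 100 h_g11 ∈ (grp 100 h_E0) :=
  h_T58_s0.le (toPerm_mem_grp (E := h_E0) (List.Mem.tail _ (List.Mem.tail _ (List.Mem.tail _ (List.Mem.tail _ (List.Mem.tail _ (List.Mem.tail _ (List.Mem.tail _ (List.Mem.tail _ (List.Mem.tail _ (List.Mem.head _)))))))))))

theorem h_g21_h_T58 : Net.toPerm 100 h_g21 ∈ (grp 100 h_E0) :=
  h_T58_s0.le (toPerm_mem_grp (E := h_E0) (List.Mem.tail _ (List.Mem.tail _ (List.Mem.tail _ (List.Mem.tail _ (List.Mem.tail _ (List.Mem.tail _ (List.Mem.tail _ (List.Mem.tail _ (List.Mem.tail _ (List.Mem.tail _ (List.Mem.head _))))))))))))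

theorem h_g22_h_T58 : Net.toPerm 100 h_g22 ∈ (grp 100 h_E0) :=
  h_T58_s0.le (toPerm_mem_grp (E := h_E0) (List.Mem.tail _ (List.Mem.tail _ (List.Mem.tail _ (List.Mem.tail _ (List.Mem.tail _ (List.Mem.tail _ (List.Mem.tail _ (List.Mem.tail _ (List.Mem.tail _ (List.Mem.tail _ (List.Mem.tail _ (List.Mem.head _)))))))))))))

theorem h_g17_h_T58 : Net.toPerm 100 h_g17 ∈ (grp 100 h_E0) :=
  h_T58_s0.le (toPerm_mem_grp (E := h_E0) (List.Mem.tail _ (List.Mem.tail _ (List.Mem.tail _ (List.Mem.tail _ (List.Mem.tail _ (List.Mem.tail _ (List.Mem.tail _ (List.Mem.tail _ (List.Mem.tail _ (List.Mem.tail _ (List.Mem.tail _ (List.Mem.tail _ (List.Mem.head _))))))))))))))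

theorem h_g18_h_T58 : Net.toPerm 100 h_g18 ∈ (grp 100 h_E0) :=
  h_T58_s0.le (toPerm_mem_grp (E := h_E0) (List.Mem.tail _ (List.Mem.tail _ (List.Mem.tail _ (List.Mem.tail _ (List.Mem.tail _ (List.Mem.tail _ (List.Mem.tail _ (List.Mem.tail _ (List.Mem.tail _ (List.Mem.tail _ (List.Mem.tail _ (List.Mem.tail _ (List.Mem.tail _ (List.Mem.head _)))))))))))))))

theorem h_g67_h_T58 : Net.toPerm 100 h_g67 ∈ (grp 100 h_E0) :=
  h_T58_s2.le (toPerm_mem_grp (E := h_V71) (List.Mem.head _))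

theorem h_g68_h_T58 : Net.toPerm 100 h_g68 ∈ (grp 100 h_E0) :=
  h_T58_s2.le (toPerm_mem_grp (E := h_V71) (List.Mem.tail _ (List.Mem.head _)))

theorem h_g69_h_T58 : Net.toPerm 100 h_g69 ∈ (grp 100 h_E0) :=
  h_T58_s2.le (toPerm_mem_grp (E := h_V71) (List.Mem.tail _ (List.Mem.tail _ (List.Mem.head _))))

theorem h_g70_h_T58 : Net.toPerm 100 h_g70 ∈ (grp 100 h_E0) :=
  h_T58_s2.le (toPerm_mem_grp (E := h_V71) (List.Mem.tail _ (List.Mem.tail _ (List.Mem.tail _ (List.Mem.head _)))))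

noncomputable def h_T58_s6_O : ℕ := (nat_lit 0xfffffffff0000000000000000f00000000ffffffff000000000ffff0000ffff0000ffff00000ff00ff00ff00ff00ff00ff000f0f0f0f0f0f0f0f0f0f0f0f0cccccccccccccccccccccccccaaaaaaaaaaaaaaaaaaaaaaaaa000000000000000000000000108000000000000000000000000000000000000000000000200000000000000000000000200080000000000000000000000000000000000000000000000002)

theorem h_T58_s6_F : Frame 100 (grp 100 h_E0) 6 13 h_T58_s6_O 1 1 :=
  IsBase.frame h_T58_s6.isBase (by decide +kernel)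

noncomputable def h_T58_s5_O : ℕ := (nat_lit 0x8000000000000000000000000080000000000000000000000000000008000000000000000000000000080000000000000000000000000008000000000000000000000000008000000000000000000000000004000000000000000000000000200000000000000000000000002000000000000000000000000080000000000000000000000001000000000000000000000000004000000000000000000000000100000000000000000000000002000000000000000000000000040020040000000000000000000000022000000000000000000010000000800000000000000000010000020000000000000000040000000800000000000000000020000020000000000000000100000000200000000000000000000020010000000000000000004000000200000000000000000002000010000000000000000000004000200000000000000000000010010000000000000000000000400400000000000000000800000020000000000000000000100001000000000000000100000000040000000000008000000000002000000000000000000000400100000000000004000000000008000000000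0000000000008002000000000000000010000000100000000000010000000000004000000000000000000004000200000000000000400000000010000000000000000000000040800000000000000004000000040000000000000000000080002000000000000004000000000100000000000080000000000008000000020000000000000000100000000000010000000000008000002000000000000000000100000000001000000000000002000000400000000000000000080000000000000000000000001800000000000000000000000408000000008000000000000000400000000000000000000400010400000000000000000000000800000000000000000000000010800000000000000000000000000000000000000000000020000000000000000000000020008000000000000000000000000)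

theorem h_T58_s5_F : Frame 100 (grp 100 h_E0) 5 59 h_T58_s5_O 0 1 :=
  Stab.frame h_hn h_T58_s5 (by decide +kernel)

noncomputable def h_T58_s4_O : ℕ := (nat_lit 0x800000000000000000000000000004000000000000000000000000020000000000000000000000000800000000800000800000000000000000800000008000000000000080000000000000008000000000000000000000000002010000000000000000000000000012000000000000000000000004040010000220100000000000000000200000240040000000000000200480000002000000000000000100000040050000000000008000000000802200000000000002200000040002000000000400004008000000100000000000400000000000c080000000100000008000080002000000000000800040000000480000000000003000010000000800000200100000000000040010000002000100000000000010200000140000000200000000008000000000010000000100000180000000000010010000000040800000000840002000000000040000000001000010000040001040004000000200000000000080000000000000000000000001080000000000000000000000000000000000000000000002000000000000000000000002000)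

theorem h_T58_s4_F : Frame 100 (grp 100 h_E0) 4 33 h_T58_s4_O 0 1 :=
  Stab.frame h_hn h_T58_s4 (by decide +kernel)

noncomputable def h_T58_s3_O : ℕ := (nat_lit 0x8000000000000100002201000000000000000000100000040050000000000800000000000000080201000000000000000000000042820000000000840002000000000040000080000080000000000012040004000000200000000000080008000000080000000000404008408300401802e0c8800000256104c0082002005001080000202010013401500001424090000000000000000000000000108000000000000000000000000000000000000000000000200)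

theorem h_T58_s3_F : Frame 100 (grp 100 h_E0) 3 15 h_T58_s3_O 0 1 :=
  Stab.frame h_hn h_T58_s3 (by decide +kernel)

noncomputable def h_T58_s2_O : ℕ := (nat_lit 0x1000000400d00000002004008c000008a000000000052ca57104c228300200d0211800002020108534035000056a60d000000000000000000000000010800000000000000000000000)

theorem h_T58_s2_F : Frame 100 (grp 100 h_E0) 2 6 h_T58_s2_O 0 1 :=
  Stab.frame h_hn h_T58_s2 (by decide +kernel)

noncomputable def h_T58_s1_O : ℕ := (nat_lit 0x420ac10853ca35000056a65fc0000000000000000000000001)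

theorem h_T58_s1_F : Frame 100 (grp 100 h_E0) 1 2 h_T58_s1_O 0 1 :=
  Stab.frame h_hn h_T58_s1 (by decide +kernel)

noncomputable def ht_c1_cnt_L : List ℕ := [1, 2, h_T58_s1_O, 0, 0, 2, 6, h_T58_s2_O, 0, 0, 3, 15, h_T58_s3_O, 0, 0, 4, 33, h_T58_s4_O, 0, 0, 5, 59, h_T58_s5_O, 0, 0, 6, 13, h_T58_s6_O, 1, 0]

theorem ht_c1_cnt_P : Prob 100 7 (grp 100 h_E0) ht_c1_cnt_EG [h_g59] [h_g59] ht_c1_K ht_c1_cnt_L 0 0 :=
  Sym.prob h_hn h_hk ht_c1_sym ht_c1_cnt_EG_ok (grp_cons_le h_g1_h_T58 (grp_cons_le h_a19_h_T58 (grp_cons_le h_a27_h_T58 (grp_cons_le h_g7_h_T58 (grp_cons_le h_a0_h_T58 (grp_cons_le h_g4_h_T58 (grp_cons_le h_a8_h_T58 (grp_cons_le h_g14_h_T58 (grp_cons_le h_g10_h_T58 (grp_cons_le h_g11_h_T58 (grp_cons_le h_g21_h_T58 (grp_cons_le h_g22_h_T58 (grp_cons_le h_g17_h_T58 (grp_cons_le h_g18_h_T58 (grp_cons_le h_g67_h_T58 (grp_cons_le h_g68_h_T58 (grp_cons_le h_g69_h_T58 (grp_cons_le h_g70_h_T58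 (grp_nil_le _))))))))))))))))))) (Frames.cons h_T58_s1_F (Frames.cons h_T58_s2_F (Frames.cons h_T58_s3_F (Frames.cons h_T58_s4_F (Frames.cons h_T58_s5_F (Frames.cons h_T58_s6_F Frames.nil)))))) (okE_cons.2 ⟨h_g59_ok, okE_nil _⟩) _

noncomputable def ht_c1_cnt_t : BT := (BT.fix (nat_lit 1) (BT.br (nat_lit 0) (nat_lit 31) [nat_lit 1, nat_lit 7] (BT.kid (nat_lit 31) (nat_lit 96) (BT.frm (nat_lit 0) (nat_lit 785) (nat_lit 785) [nat_lit 0] (BT.pln (nat_lit 0) (nat_lit 1) (BT.dif (nat_lit 3) (nat_lit 0) (BT.dif (nat_lit 0) (nat_lit 3) (BT.br (nat_lit 0) (nat_lit 47) [nat_lit 3, nat_lit 7] (BT.dead (nat_lit 57) (BT.frm (nat_lit 1) (nat_lit 0xb080311) (nat_lit 0xf1a0311) [nat_lit 0, nat_lit 5] (BT.pln (nat_lit 0) (nat_lit 2) (BT.and (nat_lit 0) (nat_lit 8) (BT.cnt (nat_lit 0))))) (BT.kid (nat_lit 47) (nat_lit 96) (BT.frm (nat_lit 1) (nat_lit 0xb080311) (nat_lit 0xb080311) [nat_lit 0, nat_lit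 5] (BT.pln (nat_lit 0) (nat_lit 5) (BT.and (nat_lit 4) (nat_lit 0) (BT.br (nat_lit 0) (nat_lit 57) [nat_lit 3, nat_lit 7] (BT.kid (nat_lit 57) (nat_lit 16) (BT.frm (nat_lit 2) (nat_lit 0x1d210b080311) (nat_lit 0x1d210b080311) [nat_lit 0, nat_lit 4, nat_lit 9] (BT.pln (nat_lit 0) (nat_lit 10) (BT.and (nat_lit 9) (nat_lit 0) (BT.br (nat_lit 0) (nat_lit 39) [nat_lit 5] (BT.kid (nat_lit 39) (nat_lit 4) (BT.frm (nat_lit 3) (nat_lit 0x1f1f1d210b080311) (nat_lit 0x1f1f1d210b080311) [nat_lit 0, nat_lit 4, nat_lit 8, nat_lit 13] (BT.pln (nat_lit 0) (nat_lit 26) (BT.br (nat_lit 0) (nat_lit 44) [nat_lit 7] (BT.kid (nat_lit 44) (nat_lit 2) (BT.dif (nat_lit 20) (nat_lit 14) (BT.dif (nat_lit 0) (nat_lit 18) (BT.pln (nat_lit 12) (nat_lit 3) (BT.dif (nat_lit 1) (nat_lit 0) (BT.pln (nat_lit 10) (nat_lit 5) (BT.dif (nat_lit 1) (nat_lit 0) (BT.pln (nat_lit 8) (nat_lit 8) (BT.dif (nat_lit 1) (nat_lit 0)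 (BT.pln (nat_lit 10) (nat_lit 14) (BT.dif (nat_lit 1) (nat_lit 0) (BT.pln (nat_lit 12) (nat_lit 17) (BT.dif (nat_lit 1) (nat_lit 0) (BT.frm (nat_lit 4) (nat_lit 0x1f1f1d210b080311) (nat_lit 0x1f1f1d210b080311) [nat_lit 12, nat_lit 15, nat_lit 19, nat_lit 23, nat_lit 28] (BT.pln (nat_lit 0) (nat_lit 16) (BT.dif (nat_lit 2) (nat_lit 0) (BT.br (nat_lit 0) (nat_lit 56) [nat_lit 9] (BT.kid (nat_lit 56) (nat_lit 1) (BT.one (nat_lit 5) (nat_lit 0x231f1f1d210b080311) (nat_lit 0x231f1f1d210b080311) [nat_lit 0, nat_lit 16, nat_lit 19, nat_lit 23, nat_lit 27, nat_lit 32]) BT.nil))))))))))))))))) BT.nil)))) BT.nil))))) BT.nil))))) BT.nil))))))) BT.nil)))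

theorem ht_c1_cnt : Cnt 100 (grp 100 h_E0) [h_g59] [h_g59] 0 0 0 0 1920 :=
  BT.sound ht_c1_cnt_P Known.nil (t := ht_c1_cnt_t) (d := 0) (by decide +kernel)

theorem ht_c1_ge : 1920 ≤ Nat.card (grp 100 ht_c1_K) :=
  Ch.le_card_grp (k := 7) (L := (lab 100 7)) h_hn ht_c1_K_ok (c := (Ch.cons (nat_lit 31) [nat_lit 1] (Ch.cons (nat_lit 57) [nat_lit 3] (Ch.cons (nat_lit 39) [nat_lit 5] (Ch.cons (nat_lit 44) [nat_lit 7] (Ch.cons (nat_lit 56) [nat_lit 9] Ch.nil)))))) (by decide +kernel)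

theorem ht_c1_eq : (grp 100 h_E0) ⊓ Subgroup.centralizer {Net.toPerm 100 h_g59} = grp 100 ht_c1_K :=
  cent_eq ht_c1_sym ht_c1_cnt ht_c1_ge

theorem ht_c1_card : Nat.card ↥((grp 100 h_E0) ⊓ Subgroup.centralizer {Net.toPerm 100 h_g59}) = 1920 :=
  card_cent ht_c1_sym ht_c1_cnt ht_c1_ge

theorem ht_c1_ord : orderOf (Net.toPerm 100 h_g59) = 2 :=
  orderOf_net h_hn h_hk h_g59_ok (by decide) (ps := [2]) (by set_option linter.unusedSimpArgs false in simp [Nat.primeFactorsList_ofNat]) (by decide +kernel)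

theorem h_le81 : grp 100 ht_c2_K ≤ grp 100 h_E0 :=
  grp_le_of_memB h_hn h_hk h_E0_ok ht_c2_K_ok (ws := [nat_lit 0x1518110b0b021005, nat_lit 0xf110808010c07, nat_lit 13, nat_lit 0x1717120c07]) (by decide +kernel)

theorem ht_c2_le : grp 100 ht_c2_K ≤ (grp 100 h_E0) :=
  (h_le81.trans h_T58_s0.le)

theorem ht_c2_mem : Net.toPerm 100 h_g77 ∈ (grp 100 h_E0) :=
  ht_c2_le (mem_grp_of_memB h_hn h_hk ht_c2_K_ok h_g77_ok (w := (nat_lit 0x5010404)) (by decide +kernel))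

theorem ht_c2_sym : Sym 100 (grp 100 h_E0) [h_g77] ht_c2_K 0 :=
  Sym.of_lab h_hn h_hk (okE_cons.2 ⟨h_g77_ok, okE_nil _⟩) ht_c2_K_ok ht_c2_le (kT := 0) (by decide +kernel)

theorem h_le85 : grp 100 h_V84 ≤ grp 100 h_V73 :=
  grp_le_of_memB h_hn h_hk h_V73_ok h_V84_ok (ws := [nat_lit 2, nat_lit 257]) (by decide +kernel)

theorem h_T58_s7 : Stab 100 (grp 100 h_E0) [nat_lit 40, nat_lit 9, nat_lit 95, nat_lit 0] h_V84 4 :=
  Stab.step (k := 7) (L := (lab 100 7)) h_hn h_T58_s3 h_V84_ok h_le85 (c := (Ch.cons (nat_lit 59) [nat_lit 1] (Ch.cons (nat_lit 29) [nat_lit 3] Ch.nil))) (by decide +kernel)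

theorem h_T58_s8 : Stab 100 (grp 100 h_E0) [nat_lit 59, nat_lit 40, nat_lit 9, nat_lit 95, nat_lit 0] h_V86 2 :=
  Stab.step (k := 7) (L := (lab 100 7)) h_hn h_T58_s7 h_V86_ok (grp_mono (List.subset_append_right [h_g82] _)) (c := (Ch.cons (nat_lit 29) [nat_lit 1] Ch.nil)) (by decide +kernel)

theorem h_T58_s9 : Stab 100 (grp 100 h_E0) [nat_lit 29, nat_lit 59, nat_lit 40, nat_lit 9, nat_lit 95, nat_lit 0] h_V87 1 :=
  Stab.step (k := 7) (L := (lab 100 7)) h_hn h_T58_s8 h_V87_ok (grp_mono (List.subset_append_right [h_g83] _)) (c := Ch.nil) (by decide +kernel)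

theorem h_g82_h_T58 : Net.toPerm 100 h_g82 ∈ (grp 100 h_E0) :=
  h_T58_s7.le (toPerm_mem_grp (E := h_V84) (List.Mem.head _))

theorem h_g83_h_T58 : Net.toPerm 100 h_g83 ∈ (grp 100 h_E0) :=
  h_T58_s7.le (toPerm_mem_grp (E := h_V84) (List.Mem.tail _ (List.Mem.head _)))

noncomputable def h_T58_s9_O : ℕ := (nat_lit 0xfffffffff0000000000000000f00000000ffffffff000000000ffff0000ffff0000ffff00000ff00ff00ff00ff00ff00ff000f0f0f0f0f0f0f0f0f0f0f0f0cccccccccccccccccccccccccaaaaaaaaaaaaaaaaaaaaaaaaa000000000000000000000000108000000000000000000000000000000000000000000000200000000000000001000000000000000000008000000000000000000000000000000020000000)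

theorem h_T58_s9_F : Frame 100 (grp 100 h_E0) 6 13 h_T58_s9_O 1 1 :=
  IsBase.frame h_T58_s9.isBase (by decide +kernel)

noncomputable def h_T58_s8_O : ℕ := (nat_lit 0x400000000000000000000000000080000000000000000000000000800000000000000000000000040000000000000000000000001000000000000000000000000000000080000000000000000000000004000000000000000000000000200000000000000000000000000080000000000000000000000004000000000000000000000000000000004000000000000000000000000100000000000000000000000002000000000000000000000000080000000000000000000000004044000000000000000000000002020000000000000000000000021000000000000000000000200000800000000000000000000040010000000000000000000010000020000000000000000008000000400000000000000000000100004000000000000000000004000200000000000000000000020010000000000000000000800000080000000000000000000080004000000000000000000004000200000000000000000200000008000000000000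00000200000000400000000080000000000000008000000000000040000000000400000000100000000000000020000000001000000000000001000000000000000000010000080000000000000000000002004000000000002000000000000200000000000000000000002008000000000000000200000000100000000000000000000080008000000000000001000000000400000000000000000020000010000000000000000000000002800000000000000000001000040000000000000000040000002000000000000000000000020100000000000008000000000008000000000000000010000000400000000000000000000040020000000000000000000010001000000000040000000000000080000000000100000000000000800000000800000000000000040000000000000100000000001000000000000000000000000010800000000000000000000000000000000000000000000020000000000000000100000000000000000000800000000000000)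

theorem h_T58_s8_F : Frame 100 (grp 100 h_E0) 5 59 h_T58_s8_O 0 1 :=
  Stab.frame h_hn h_T58_s8 (by decide +kernel)

noncomputable def h_T58_s7_O : ℕ := (nat_lit 0x1000000000000000000000000000000040000000000000000000000000008000000000000000000000000400000000000000400000020000000000000000000000008000000000040000008000000000000000001000000000000800000000000020400000000000000000000000800080000000000000000000040461000000000000000000000200000c000200000000000000001000022010000000000000000800000040100000800000000000002000000024040000000000400100000000200800000000000800000080080008000000000000003000000001400000010000000000020010010000000000000800040010000400008000000000000000802010000000004000800000040000800000000000000005000000240000000000000000000004282000000002000000080001000100000002004000000000200008000000010010400000000000080000000084000200000000004002020000000010000000000100000000000000000000000001080000000000000000000000000000000000000000000002000000000000000010000000000)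

theorem h_T58_s7_F : Frame 100 (grp 100 h_E0) 4 33 h_T58_s7_O 0 1 :=
  Stab.frame h_hn h_T58_s7 (by decide +kernel)

noncomputable def ht_c2_cnt_L : List ℕ := [1, 2, h_T58_s1_O, 0, 0, 2, 6, h_T58_s2_O, 0, 0, 3, 15, h_T58_s3_O, 0, 0, 4, 33, h_T58_s7_O, 0, 0, 5, 59, h_T58_s8_O, 0, 0, 6, 13, h_T58_s9_O, 1, 0]

theorem ht_c2_cnt_P : Prob 100 7 (grp 100 h_E0) ht_c2_cnt_EG [h_g77] [h_g77] ht_c2_K ht_c2_cnt_L 0 0 :=
  Sym.prob h_hn h_hk ht_c2_sym ht_c2_cnt_EG_ok (grp_cons_le h_g1_h_T58 (grp_cons_le h_a19_h_T58 (grp_cons_le h_a27_h_T58 (grp_cons_le h_g7_h_T58 (grp_cons_le h_a0_h_T58 (grp_cons_le h_g4_h_T58 (grp_cons_le h_a8_h_T58 (grp_cons_le h_g14_h_T58 (grp_cons_le h_g10_h_T58 (grp_cons_le h_g11_h_T58 (grp_cons_le h_g21_h_T58 (grp_cons_le h_g22_h_T58 (grp_cons_le h_g17_h_T58 (grp_cons_le h_g18_h_T58 (grp_cons_le h_g67_h_T58 (grp_cons_le h_g68_h_T58 (grp_cons_le h_g69_h_T58 (grp_cons_le h_g70_h_T58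 (grp_cons_le h_g82_h_T58 (grp_cons_le h_g83_h_T58 (grp_nil_le _))))))))))))))))))))) (Frames.cons h_T58_s1_F (Frames.cons h_T58_s2_F (Frames.cons h_T58_s3_F (Frames.cons h_T58_s7_F (Frames.cons h_T58_s8_F (Frames.cons h_T58_s9_F Frames.nil)))))) (okE_cons.2 ⟨h_g77_ok, okE_nil _⟩) _

noncomputable def ht_c2_cnt_t : BT := (BT.br (nat_lit 2) (nat_lit 0) [nat_lit 1, nat_lit 3] (BT.dead (nat_lit 1) (BT.frm (nat_lit 0) (nat_lit 0) (nat_lit 3) [nat_lit 0] (BT.pln (nat_lit 0) (nat_lit 1) (BT.img (nat_lit 1) (nat_lit 2) (BT.and (nat_lit 1) (nat_lit 0) (BT.cnt (nat_lit 0)))))) (BT.kid (nat_lit 0) (nat_lit 4) (BT.img (nat_lit 1) (nat_lit 0) (BT.frm (nat_lit 1) (nat_lit 8) (nat_lit 8) [nat_lit 0, nat_lit 1] (BT.pln (nat_lit 0) (nat_lit 5) (BT.br (nat_lit 0) (nat_lit 18) [nat_lit 5] (BT.dead (nat_lit 90) (BT.dif (nat_lit 1) (nat_lit 0) (BT.img (nat_lit 1) (nat_lit 1) (BT.dif (nat_lit 1) (nat_lit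 0) (BT.br (nat_lit 0) (nat_lit 37) [nat_lit 5] (BT.dead (nat_lit 92) (BT.frm (nat_lit 3) (nat_lit 0x221d1d08) (nat_lit 8968) [nat_lit 0, nat_lit 4, nat_lit 7, nat_lit 8] (BT.pln (nat_lit 0) (nat_lit 25) (BT.br (nat_lit 0) (nat_lit 2) [] (BT.dead (nat_lit 14) (BT.frm (nat_lit 4) (nat_lit 0x25221d1d08) (nat_lit 0x252308) [nat_lit 0, nat_lit 3, nat_lit 7, nat_lit 10, nat_lit 11] (BT.pln (nat_lit 0) (nat_lit 47) (BT.img (nat_lit 1) (nat_lit 2) (BT.and (nat_lit 1) (nat_lit 0) (BT.cnt (nat_lit 0)))))) (BT.dead (nat_lit 93) (BT.frm (nat_lit 4) (nat_lit 0x25221d1d08) (nat_lit 8968) [nat_lit 0, nat_lit 3, nat_lit 7, nat_lit 10, nat_lit 11] (BT.pln (nat_lit 0) (nat_lit 47) (BT.img (nat_lit 1) (nat_lit 2) (BT.and (nat_lit 1) (nat_lit 0) (BT.cnt (nat_lit 0)))))) BT.nil))))) (BT.dead (nat_lit 37) (BT.frm (nat_lit 3) (nat_lit 0x221d1d08) (nat_lit 8456) [nat_lit 0, nat_lit 4, nat_lit 7, nat_lit 8]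 (BT.pln (nat_lit 0) (nat_lit 29) (BT.img (nat_lit 1) (nat_lit 2) (BT.and (nat_lit 1) (nat_lit 0) (BT.cnt (nat_lit 0)))))) BT.nil)))))) (BT.dead (nat_lit 92) (BT.frm (nat_lit 2) (nat_lit 0x1d1d08) (nat_lit 0x1d2108) [nat_lit 0, nat_lit 3, nat_lit 4] (BT.pln (nat_lit 0) (nat_lit 12) (BT.img (nat_lit 1) (nat_lit 2) (BT.and (nat_lit 1) (nat_lit 0) (BT.cnt (nat_lit 0)))))) (BT.dead (nat_lit 37) (BT.frm (nat_lit 2) (nat_lit 0x1d1d08) (nat_lit 7432) [nat_lit 0, nat_lit 3, nat_lit 4] (BT.pln (nat_lit 0) (nat_lit 12) (BT.img (nat_lit 1) (nat_lit 2) (BT.and (nat_lit 1) (nat_lit 0) (BT.cnt (nat_lit 0)))))) (BT.kid (nat_lit 18) (nat_lit 4) (BT.dif (nat_lit 1) (nat_lit 0) (BT.img (nat_lit 1) (nat_lit 1) (BT.dif (nat_lit 1) (nat_lit 0) (BT.br (nat_lit 0) (nat_lit 37) [nat_lit 5] (BT.dead (nat_lit 92) (BT.frm (nat_lit 3) (nat_lit 0x221d1d08) (nat_lit 0x231d1d08) [nat_lit 0, nat_lit 4, nat_lit 7, nat_lit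 8] (BT.pln (nat_lit 0) (nat_lit 29) (BT.img (nat_lit 1) (nat_lit 2) (BT.and (nat_lit 1) (nat_lit 0) (BT.cnt (nat_lit 0)))))) (BT.kid (nat_lit 37) (nat_lit 2) (BT.frm (nat_lit 3) (nat_lit 0x221d1d08) (nat_lit 0x221d1d08) [nat_lit 0, nat_lit 4, nat_lit 7, nat_lit 8] (BT.pln (nat_lit 0) (nat_lit 25) (BT.br (nat_lit 0) (nat_lit 2) [] (BT.dead (nat_lit 76) (BT.frm (nat_lit 4) (nat_lit 0x25221d1d08) (nat_lit 0x221d1d08) [nat_lit 0, nat_lit 3, nat_lit 7, nat_lit 10, nat_lit 11] (BT.pln (nat_lit 0) (nat_lit 22) (BT.br (nat_lit 0) (nat_lit 11) [nat_lit 7] (BT.dead (nat_lit 39) (BT.frm (nat_lit 5) (nat_lit 0x2725221d1d08) (nat_lit 0x221d1d08) [nat_lit 0, nat_lit 3, nat_lit 6, nat_lit 10, nat_lit 13, nat_lit 14] (BT.pln (nat_lit 0) (nat_lit 10) (BT.img (nat_lit 1) (nat_lit 2) (BT.and (nat_lit 1) (nat_lit 0) (BT.cnt (nat_lit 0)))))) BT.nil)))) (BT.kid (nat_lit 2) (nat_lit 2) (BT.frm (nat_lit 4)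 (nat_lit 0x25221d1d08) (nat_lit 0x25221d1d08) [nat_lit 0, nat_lit 3, nat_lit 7, nat_lit 10, nat_lit 11] (BT.pln (nat_lit 0) (nat_lit 22) (BT.br (nat_lit 0) (nat_lit 11) [nat_lit 7] (BT.kid (nat_lit 11) (nat_lit 1) (BT.one (nat_lit 5) (nat_lit 0x2725221d1d08) (nat_lit 0x2725221d1d08) [nat_lit 0, nat_lit 3, nat_lit 6, nat_lit 10, nat_lit 13, nat_lit 14]) BT.nil)))) BT.nil))))) BT.nil)))))) BT.nil)))))))) BT.nil)))

theorem ht_c2_cnt : Cnt 100 (grp 100 h_E0) [h_g77] [h_g77] 0 0 0 0 240 :=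
  BT.sound ht_c2_cnt_P Known.nil (t := ht_c2_cnt_t) (d := 0) (by decide +kernel)

theorem ht_c2_ge : 240 ≤ Nat.card (grp 100 ht_c2_K) :=
  Ch.le_card_grp (k := 7) (L := (lab 100 7)) h_hn ht_c2_K_ok (c := (Ch.cons (nat_lit 0) [nat_lit 1, nat_lit 3] (Ch.cons (nat_lit 37) [nat_lit 5] (Ch.cons (nat_lit 11) [nat_lit 7] Ch.nil)))) (by decide +kernel)

theorem ht_c2_eq : (grp 100 h_E0) ⊓ Subgroup.centralizer {Net.toPerm 100 h_g77} = grp 100 ht_c2_K :=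
  cent_eq ht_c2_sym ht_c2_cnt ht_c2_ge

theorem ht_c2_card : Nat.card ↥((grp 100 h_E0) ⊓ Subgroup.centralizer {Net.toPerm 100 h_g77}) = 240 :=
  card_cent ht_c2_sym ht_c2_cnt ht_c2_ge

theorem ht_c2_ord : orderOf (Net.toPerm 100 h_g77) = 2 :=
  orderOf_net h_hn h_hk h_g77_ok (by decide) (ps := [2]) (by set_option linter.unusedSimpArgs false in simp [Nat.primeFactorsList_ofNat]) (by decide +kernel)

theorem h_le94 : grp 100 ht_c3_K ≤ grp 100 h_E0 :=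
  grp_le_of_memB h_hn h_hk h_E0_ok ht_c3_K_ok (ws := [nat_lit 0x1518100c0f030d, nat_lit 0x1618100808010516, nat_lit 0x1717110c010114, nat_lit 0x1719170b0217, nat_lit 0x171917120d18030d]) (by decide +kernel)

theorem ht_c3_le : grp 100 ht_c3_K ≤ (grp 100 h_E0) :=
  (h_le94.trans h_T58_s0.le)

theorem ht_c3_mem : Net.toPerm 100 h_g88 ∈ (grp 100 h_E0) :=
  ht_c3_le (mem_grp_of_memB h_hn h_hk ht_c3_K_ok h_g88_ok (w := (nat_lit 2310)) (by decide +kernel))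

theorem ht_c3_sym : Sym 100 (grp 100 h_E0) [h_g88] ht_c3_K 0 :=
  Sym.of_lab h_hn h_hk (okE_cons.2 ⟨h_g88_ok, okE_nil _⟩) ht_c3_K_ok ht_c3_le (kT := 0) (by decide +kernel)

noncomputable def ht_c3_cnt_L : List ℕ := [2, 6, h_T58_s2_O, 0, 0, 3, 15, h_T58_s3_O, 0, 0, 4, 33, h_T58_s7_O, 0, 0, 5, 59, h_T58_s8_O, 0, 0, 6, 13, h_T58_s9_O, 1, 0]

theorem ht_c3_cnt_P : Prob 100 7 (grp 100 h_E0) ht_c3_cnt_EG [h_g88] [h_g88] ht_c3_K ht_c3_cnt_L 0 0 :=
  Sym.prob h_hn h_hk ht_c3_sym ht_c3_cnt_EG_ok (grp_cons_le h_g7_h_T58 (grp_cons_le h_a0_h_T58 (grp_cons_le h_g4_h_T58 (grp_cons_le h_a8_h_T58 (grp_cons_le h_g14_h_T58 (grp_cons_le h_g10_h_T58 (grp_cons_le h_g11_h_T58 (grp_cons_le h_g21_h_T58 (grp_cons_le h_g22_h_T58 (grp_cons_le h_g17_h_T58 (grp_cons_le h_g18_h_T58 (grp_cons_le h_g1_h_T58 (grp_cons_le h_a19_h_T58 (grp_cons_le h_a27_h_T58 (grp_cons_le h_g67_h_T58 (grp_cons_le h_g68_h_T58 (grp_cons_le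 h_g69_h_T58 (grp_cons_le h_g70_h_T58 (grp_cons_le h_g82_h_T58 (grp_cons_le h_g83_h_T58 (grp_nil_le _))))))))))))))))))))) (Frames.cons h_T58_s2_F (Frames.cons h_T58_s3_F (Frames.cons h_T58_s7_F (Frames.cons h_T58_s8_F (Frames.cons h_T58_s9_F Frames.nil))))) (okE_cons.2 ⟨h_g88_ok, okE_nil _⟩) _

noncomputable def ht_c3_cnt_t : BT := (BT.fix (nat_lit 1) (BT.br (nat_lit 0) (nat_lit 2) [nat_lit 1, nat_lit 3] (BT.kid (nat_lit 2) (nat_lit 108) (BT.dif (nat_lit 1) (nat_lit 0) (BT.br (nat_lit 0) (nat_lit 11) [nat_lit 3, nat_lit 7] (BT.kid (nat_lit 11) (nat_lit 12) (BT.frm (nat_lit 0) (nat_lit 0x713170518) (nat_lit 0x713170518) [nat_lit 0, nat_lit 2] (BT.pln (nat_lit 0) (nat_lit 5) (BT.br (nat_lit 0) (nat_lit 96) [nat_lit 5] (BT.dead (nat_lit 84) (BT.img (nat_lit 1) (nat_lit 0) (BT.frm (nat_lit 2) (nat_lit 0x211d0713170518) (nat_lit 0x231d210713170518) [nat_lit 0, nat_lit 1, nat_lit 4, nat_lit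 6] (BT.pln (nat_lit 0) (nat_lit 4) (BT.frm (nat_lit 1) (nat_lit 0x1d0713170518) (nat_lit 0x1d210713170518) [nat_lit 3, nat_lit 6, nat_lit 8] (BT.pln (nat_lit 0) (nat_lit 9) (BT.img (nat_lit 1) (nat_lit 0) (BT.img (nat_lit 1) (nat_lit 0) (BT.and (nat_lit 4) (nat_lit 0) (BT.cnt (nat_lit 0)))))))))) (BT.kid (nat_lit 96) (nat_lit 4) (BT.img (nat_lit 1) (nat_lit 0) (BT.frm (nat_lit 2) (nat_lit 0x211d0713170518) (nat_lit 0x211d0713170518) [nat_lit 0, nat_lit 1, nat_lit 4, nat_lit 6] (BT.pln (nat_lit 0) (nat_lit 25) (BT.br (nat_lit 0) (nat_lit 18) [nat_lit 7] (BT.kid (nat_lit 18) (nat_lit 2) (BT.frm (nat_lit 3) (nat_lit 0x25211d0713170518) (nat_lit 0x25211d0713170518) [nat_lit 0, nat_lit 3, nat_lit 4, nat_lit 7, nat_lit 9] (BT.pln (nat_lit 0) (nat_lit 22) (BT.br (nat_lit 0) (nat_lit 70) [nat_lit 9] (BT.kid (nat_lit 70) (nat_lit 1) (BT.one (nat_lit 4) (nat_lit 0x2725211d0713170518) (nat_lit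 0x2725211d0713170518) [nat_lit 0, nat_lit 3, nat_lit 6, nat_lit 7, nat_lit 10, nat_lit 12]) BT.nil)))) BT.nil))))) BT.nil))))) BT.nil))) BT.nil)))

theorem ht_c3_cnt : Cnt 100 (grp 100 h_E0) [h_g88] [h_g88] 0 0 0 0 1080 :=
  BT.sound ht_c3_cnt_P Known.nil (t := ht_c3_cnt_t) (d := 0) (by decide +kernel)

theorem ht_c3_ge : 1080 ≤ Nat.card (grp 100 ht_c3_K) :=
  Ch.le_card_grp (k := 7) (L := (lab 100 7)) h_hn ht_c3_K_ok (c := (Ch.cons (nat_lit 2) [nat_lit 1] (Ch.cons (nat_lit 11) [nat_lit 3] (Ch.cons (nat_lit 96) [nat_lit 5] (Ch.cons (nat_lit 18) [nat_lit 7] (Ch.cons (nat_lit 70) [nat_lit 9] Ch.nil)))))) (by decide +kernel)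

theorem ht_c3_eq : (grp 100 h_E0) ⊓ Subgroup.centralizer {Net.toPerm 100 h_g88} = grp 100 ht_c3_K :=
  cent_eq ht_c3_sym ht_c3_cnt ht_c3_ge

theorem ht_c3_card : Nat.card ↥((grp 100 h_E0) ⊓ Subgroup.centralizer {Net.toPerm 100 h_g88}) = 1080 :=
  card_cent ht_c3_sym ht_c3_cnt ht_c3_ge

theorem ht_c3_ord : orderOf (Net.toPerm 100 h_g88) = 3 :=
  orderOf_net h_hn h_hk h_g88_ok (by decide) (ps := [3]) (by set_option linter.unusedSimpArgs false in simp [Nat.primeFactorsList_ofNat]) (by decide +kernel)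

theorem h_le98 : grp 100 ht_c4_K ≤ grp 100 h_E0 :=
  grp_le_of_memB h_hn h_hk h_E0_ok ht_c4_K_ok (ws := [nat_lit 0x151a180f110d1801070d, nat_lit 0x1a170f120711020b08, nat_lit 0x1618110d130316]) (by decide +kernel)

theorem ht_c4_le : grp 100 ht_c4_K ≤ (grp 100 h_E0) :=
  (h_le98.trans h_T58_s0.le)

theorem ht_c4_mem : Net.toPerm 100 h_g95 ∈ (grp 100 h_E0) :=
  ht_c4_le (toPerm_mem_grp (E := ht_c4_K) (List.Mem.tail _ (List.Mem.tail _ (List.Mem.head _))))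

theorem ht_c4_sym : Sym 100 (grp 100 h_E0) [h_g95] ht_c4_K 0 :=
  Sym.of_lab h_hn h_hk (okE_cons.2 ⟨h_g95_ok, okE_nil _⟩) ht_c4_K_ok ht_c4_le (kT := 0) (by decide +kernel)

theorem h_T58_s10 : Stab 100 (grp 100 h_E0) [nat_lit 17, nat_lit 0] h_V99 168 :=
  Stab.step (k := 7) (L := (lab 100 7)) h_hn h_T58_s1 h_V99_ok (grp_mono (List.subset_append_right [h_g7, h_a0, h_g4, h_a8] _)) (c := (Ch.cons (nat_lit 44) [nat_lit 1, nat_lit 3, nat_lit 5] (Ch.cons (nat_lit 9) [nat_lit 7, nat_lit 9, nat_lit 11, nat_lit 13] Ch.nil))) (by decide +kernel)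

theorem h_T58_s11 : Stab 100 (grp 100 h_E0) [nat_lit 44, nat_lit 17, nat_lit 0] h_V100 24 :=
  Stab.step (k := 7) (L := (lab 100 7)) h_hn h_T58_s10 h_V100_ok (grp_mono (List.subset_append_right [h_g14, h_g10, h_g11] _)) (c := (Ch.cons (nat_lit 9) [nat_lit 1, nat_lit 3, nat_lit 5, nat_lit 7] Ch.nil)) (by decide +kernel)

theorem h_le104 : grp 100 h_V103 ≤ grp 100 h_V100 :=
  grp_le_of_memB h_hn h_hk h_V100_ok h_V103_ok (ws := [nat_lit 1030, nat_lit 259]) (by decide +kernel)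

theorem h_T58_s12 : Stab 100 (grp 100 h_E0) [nat_lit 6, nat_lit 44, nat_lit 17, nat_lit 0] h_V103 6 :=
  Stab.step (k := 7) (L := (lab 100 7)) h_hn h_T58_s11 h_V103_ok h_le104 (c := (Ch.cons (nat_lit 10) [nat_lit 1] (Ch.cons (nat_lit 27) [nat_lit 3] Ch.nil))) (by decide +kernel)

theorem h_T58_s13 : Stab 100 (grp 100 h_E0) [nat_lit 10, nat_lit 6, nat_lit 44, nat_lit 17, nat_lit 0] h_V105 2 :=
  Stab.step (k := 7) (L := (lab 100 7)) h_hn h_T58_s12 h_V105_ok (grp_mono (List.subset_append_right [h_g101] _)) (c := (Ch.cons (nat_lit 27) [nat_lit 1] Ch.nil)) (by decide +kernel)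

theorem h_T58_s14 : Stab 100 (grp 100 h_E0) [nat_lit 27, nat_lit 10, nat_lit 6, nat_lit 44, nat_lit 17, nat_lit 0] h_V106 1 :=
  Stab.step (k := 7) (L := (lab 100 7)) h_hn h_T58_s13 h_V106_ok (grp_mono (List.subset_append_right [h_g102] _)) (c := Ch.nil) (by decide +kernel)

theorem h_g101_h_T58 : Net.toPerm 100 h_g101 ∈ (grp 100 h_E0) :=
  h_T58_s12.le (toPerm_mem_grp (E := h_V103) (List.Mem.head _))

theorem h_g102_h_T58 : Net.toPerm 100 h_g102 ∈ (grp 100 h_E0) :=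
  h_T58_s12.le (toPerm_mem_grp (E := h_V103) (List.Mem.tail _ (List.Mem.head _)))

noncomputable def h_T58_s14_O : ℕ := (nat_lit 0xfffffffff0000000000000000f00000000ffffffff000000000ffff0000ffff0000ffff00000ff00ff00ff00ff00ff00ff000f0f0f0f0f0f0f0f0f0f0f0f0cccccccccccccccccccccccccaaaaaaaaaaaaaaaaaaaaaaaaa000000000000000000000000100000000000000000000200000000000000000100000000000000000000000000000000004000000000000000000000004000000000000000000008000000)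

theorem h_T58_s14_F : Frame 100 (grp 100 h_E0) 6 13 h_T58_s14_O 1 1 :=
  IsBase.frame h_T58_s14.isBase (by decide +kernel)

noncomputable def h_T58_s13_O : ℕ := (nat_lit 0x20000000000000000000000001000000000000000000000000010000000000000000000000000080000000000000000000000004000000000000000000000000200000000000000000000000000004000000000000000000000000040000000000000000000000002000000000000000000000000100000000000000000000000000000200000000000000000000000000010000000000000000000000000008000000000000000000000000080000000000000000000000000080088000000000000000000000080400000000000000000000002020000000000000000000000000100200000000000000000000080008000000000000000000004000200000000000000000000010000800000000000000000020000000800000000000000400000000000800000000000400000000000040000000000010000000000002000000000000000000020000080000000000000000100000000800000000000000080000000040000000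00000004000000000200000000000000000000100010000000000000020000000000800000000000000010000000040000000000000800000000002000000000000000000040000100000000000000008000000008000000000000000000000400200000000000000000001000004000000000000000020000000200000000000000001000000008000000000000000020000000200000000000000000800000010000000000000000040000000400000000000400000000000010000000000000080000000000400000000100000000000000020000000000000000010000001000000000400000000000000080000000000000000000400002000000000010000000000000100000000000000200000000002000000000004000000000000100000000000000000000400008000000000000000000100000400000000000000000000000010000000000000000000020000000000000000010000000000000000000000000000000000400000000000000000000000400)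

theorem h_T58_s13_F : Frame 100 (grp 100 h_E0) 5 59 h_T58_s13_O 0 1 :=
  Stab.frame h_hn h_T58_s13 (by decide +kernel)

noncomputable def h_T58_s11_O : ℕ := (nat_lit 0x1000000000400001000000000000400000800000000004000400000000000040000000040000000000020010000040000401000000004008200010100000088008000000001020000100002000000010220000002000200002000040080000000480008041000150001082940001000000088108104000000010021940001222080100000888808002000000000000000000000000100000000000000000000200000000000000000100000000000)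

theorem h_T58_s11_F : Frame 100 (grp 100 h_E0) 3 14 h_T58_s11_O 0 1 :=
  Stab.frame h_hn h_T58_s11 (by decide +kernel)

noncomputable def h_T58_s10_O : ℕ := (nat_lit 0x400002801000004004040000200004008010000048000842088108114224000012025b4110122208414820099890800200000000000000000000000010000000000000000000020000)

theorem h_T58_s10_F : Frame 100 (grp 100 h_E0) 2 6 h_T58_s10_O 0 1 :=
  Stab.frame h_hn h_T58_s10 (by decide +kernel)

noncomputable def ht_c4_cnt_L : List ℕ := [1, 2, h_T58_s1_O, 0, 0, 2, 6, h_T58_s10_O, 0, 0, 3, 14, h_T58_s11_O, 0, 0, 5, 59, h_T58_s13_O, 0, 0, 6, 13, h_T58_s14_O, 1, 0]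

theorem ht_c4_cnt_P : Prob 100 7 (grp 100 h_E0) ht_c4_cnt_EG [h_g95] [h_g95] ht_c4_K ht_c4_cnt_L 0 0 :=
  Sym.prob h_hn h_hk ht_c4_sym ht_c4_cnt_EG_ok (grp_cons_le h_g1_h_T58 (grp_cons_le h_a19_h_T58 (grp_cons_le h_a27_h_T58 (grp_cons_le h_g7_h_T58 (grp_cons_le h_a0_h_T58 (grp_cons_le h_g4_h_T58 (grp_cons_le h_a8_h_T58 (grp_cons_le h_g14_h_T58 (grp_cons_le h_g10_h_T58 (grp_cons_le h_g11_h_T58 (grp_cons_le h_g21_h_T58 (grp_cons_le h_g22_h_T58 (grp_cons_le h_g17_h_T58 (grp_cons_le h_g18_h_T58 (grp_cons_le h_g101_h_T58 (grp_cons_le h_g102_h_T58 (grp_nil_le _))))))))))))))))) (Frames.cons h_T58_s1_F (Frames.cons h_T58_s10_F (Frames.cons h_T58_s11_F (Frames.cons h_T58_s13_F (Frames.cons h_T58_s14_F Frames.nil))))) (okE_cons.2 ⟨h_g95_ok, okE_nil _⟩) _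

noncomputable def ht_c4_cnt_t : BT := (BT.fix (nat_lit 1) (BT.br (nat_lit 0) (nat_lit 22) [nat_lit 1, nat_lit 3] (BT.kid (nat_lit 22) (nat_lit 9) (BT.dif (nat_lit 1) (nat_lit 0) (BT.br (nat_lit 0) (nat_lit 25) [nat_lit 3] (BT.kid (nat_lit 25) (nat_lit 3) (BT.frm (nat_lit 0) (nat_lit 67344) (nat_lit 67344) [nat_lit 2] (BT.pln (nat_lit 0) (nat_lit 1) (BT.frm (nat_lit 1) (nat_lit 0x710010710) (nat_lit 0x710010710) [nat_lit 2, nat_lit 4] (BT.pln (nat_lit 0) (nat_lit 4) (BT.and (nat_lit 7) (nat_lit 0) (BT.frm (nat_lit 2) (nat_lit 0x710010710) (nat_lit 0x710010710) [nat_lit 0, nat_lit 5, nat_lit 7] (BT.pln (nat_lit 0) (nat_lit 11) (BT.and (nat_lit 5) (nat_lit 0) (BT.br (nat_lit 0) (nat_lit 56) [nat_lit 5] (BT.kid (nat_lit 56) (nat_lit 1) (BT.pln (nat_lit 6) (nat_lit 2) (BT.pln (nat_lit 7) (nat_lit 5) (BT.and (nat_lit 14) (nat_lit 0) (BT.frm (nat_lit 3) (nat_lit 0x1e0710010710) (nat_lit 0x1e0710010710)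 [nat_lit 3, nat_lit 0, nat_lit 7, nat_lit 12, nat_lit 14] (BT.pln (nat_lit 0) (nat_lit 45) (BT.and (nat_lit 4) (nat_lit 0) (BT.img (nat_lit 1) (nat_lit 0) (BT.and (nat_lit 6) (nat_lit 0) (BT.one (nat_lit 4) (nat_lit 0x1e0710010710) (nat_lit 0x1e0710010710) [nat_lit 0, nat_lit 8, nat_lit 5, nat_lit 12, nat_lit 17, nat_lit 19]))))))))) BT.nil)))))))))) BT.nil))) BT.nil)))

theorem ht_c4_cnt : Cnt 100 (grp 100 h_E0) [h_g95] [h_g95] 0 0 0 0 36 :=
  BT.sound ht_c4_cnt_P Known.nil (t := ht_c4_cnt_t) (d := 0) (by decide +kernel)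

theorem ht_c4_ge : 36 ≤ Nat.card (grp 100 ht_c4_K) :=
  Ch.le_card_grp (k := 7) (L := (lab 100 7)) h_hn ht_c4_K_ok (c := (Ch.cons (nat_lit 22) [nat_lit 1] (Ch.cons (nat_lit 25) [nat_lit 3] (Ch.cons (nat_lit 56) [nat_lit 5] Ch.nil)))) (by decide +kernel)

theorem ht_c4_eq : (grp 100 h_E0) ⊓ Subgroup.centralizer {Net.toPerm 100 h_g95} = grp 100 ht_c4_K :=
  cent_eq ht_c4_sym ht_c4_cnt ht_c4_ge

theorem ht_c4_card : Nat.card ↥((grp 100 h_E0) ⊓ Subgroup.centralizer {Net.toPerm 100 h_g95}) = 36 :=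
  card_cent ht_c4_sym ht_c4_cnt ht_c4_ge

theorem ht_c4_ord : orderOf (Net.toPerm 100 h_g95) = 3 :=
  orderOf_net h_hn h_hk h_g95_ok (by decide) (ps := [3]) (by set_option linter.unusedSimpArgs false in simp [Nat.primeFactorsList_ofNat]) (by decide +kernel)

theorem h_le112 : grp 100 ht_c5_K ≤ grp 100 h_E0 :=
  grp_le_of_memB h_hn h_hk h_E0_ok ht_c5_K_ok (ws := [nat_lit 0x15170f120d07010c07, nat_lit 0x161a0f110813010114, nat_lit 0x1a18110c07020b01, nat_lit 0x1618110c010c07, nat_lit 0x171911080801010f, nat_lit 0x1807110512]) (by decide +kernel)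

theorem ht_c5_le : grp 100 ht_c5_K ≤ (grp 100 h_E0) :=
  (h_le112.trans h_T58_s0.le)

theorem ht_c5_mem : Net.toPerm 100 h_g107 ∈ (grp 100 h_E0) :=
  ht_c5_le (toPerm_mem_grp (E := ht_c5_K) (List.Mem.head _))

theorem ht_c5_sym : Sym 100 (grp 100 h_E0) [h_g107] ht_c5_K 0 :=
  Sym.of_lab h_hn h_hk (okE_cons.2 ⟨h_g107_ok, okE_nil _⟩) ht_c5_K_ok ht_c5_le (kT := 0) (by decide +kernel)

theorem h_le114 : grp 100 h_V113 ≤ grp 100 h_V84 :=
  grp_le_of_memB h_hn h_hk h_V84_ok h_V113_ok (ws := []) (by decide +kernel)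

theorem h_T58_s15 : Stab 100 (grp 100 h_E0) [nat_lit 96, nat_lit 40, nat_lit 9, nat_lit 95, nat_lit 0] h_V113 1 :=
  Stab.step (k := 7) (L := (lab 100 7)) h_hn h_T58_s7 h_V113_ok h_le114 (c := Ch.nil) (by decide +kernel)

noncomputable def h_T58_s15_O : ℕ := (nat_lit 0xfffffffff0000000000000000f00000000ffffffff000000000ffff0000ffff0000ffff00000ff00ff00ff00ff00ff00ff000f0f0f0f0f0f0f0f0f0f0f0f0cccccccccccccccccccccccccaaaaaaaaaaaaaaaaaaaaaaaaa00000000000000000000000010800000000000000000000000000000000000000000000020000000000000000100000000001000000000000000000000000)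

theorem h_T58_s15_F : Frame 100 (grp 100 h_E0) 5 12 h_T58_s15_O 1 1 :=
  IsBase.frame h_T58_s15.isBase (by decide +kernel)

noncomputable def ht_c5_cnt_L : List ℕ := [1, 2, h_T58_s1_O, 0, 0, 2, 6, h_T58_s2_O, 0, 0, 3, 15, h_T58_s3_O, 0, 0, 4, 33, h_T58_s7_O, 0, 0, 5, 12, h_T58_s15_O, 1, 0]

theorem ht_c5_cnt_P : Prob 100 7 (grp 100 h_E0) ht_c5_cnt_EG [h_g107] [h_g107] ht_c5_K ht_c5_cnt_L 0 0 :=
  Sym.prob h_hn h_hk ht_c5_sym ht_c5_cnt_EG_ok (grp_cons_le h_g1_h_T58 (grp_cons_le h_a19_h_T58 (grp_cons_le h_a27_h_T58 (grp_cons_le h_g7_h_T58 (grp_cons_le h_a0_h_T58 (grp_cons_le h_g4_h_T58 (grp_cons_le h_a8_h_T58 (grp_cons_le h_g14_h_T58 (grp_cons_le h_g10_h_T58 (grp_cons_le h_g11_h_T58 (grp_cons_le h_g21_h_T58 (grp_cons_le h_g22_h_T58 (grp_cons_le h_g17_h_T58 (grp_cons_le h_g18_h_T58 (grp_cons_le h_g67_h_T58 (grp_cons_le h_g68_h_T58 (grp_cons_le h_g69_h_T58 (grp_cons_le h_g70_h_T58 (grp_cons_le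 h_g82_h_T58 (grp_cons_le h_g83_h_T58 (grp_nil_le _))))))))))))))))))))) (Frames.cons h_T58_s1_F (Frames.cons h_T58_s2_F (Frames.cons h_T58_s3_F (Frames.cons h_T58_s7_F (Frames.cons h_T58_s15_F Frames.nil))))) (okE_cons.2 ⟨h_g107_ok, okE_nil _⟩) _

noncomputable def ht_c5_cnt_t : BT := (BT.fix (nat_lit 257) (BT.fix (nat_lit 1) (BT.dif (nat_lit 1) (nat_lit 0) (BT.br (nat_lit 0) (nat_lit 33) [nat_lit 3, nat_lit 5] (BT.kid (nat_lit 33) (nat_lit 8) (BT.img (nat_lit 1) (nat_lit 0) (BT.frm (nat_lit 1) (nat_lit 0xd19020214) (nat_lit 0xd19020214) [nat_lit 0, nat_lit 1] (BT.pln (nat_lit 0) (nat_lit 5) (BT.and (nat_lit 4) (nat_lit 0) (BT.br (nat_lit 0) (nat_lit 55) [nat_lit 7] (BT.dead (nat_lit 76) (BT.frm (nat_lit 2) (nat_lit 0x1d210d19020214) (nat_lit 0x1d1d0d19020214) [nat_lit 0, nat_lit 4, nat_lit 5] (BT.pln (nat_lit 0) (nat_lit 6) (BT.and (nat_lit 0) (nat_lit 9) (BT.cnt (nat_lit 0))))) (BT.kid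 (nat_lit 55) (nat_lit 4) (BT.dif (nat_lit 2) (nat_lit 7) (BT.dif (nat_lit 0) (nat_lit 1) (BT.img (nat_lit 1) (nat_lit 2) (BT.dif (nat_lit 1) (nat_lit 0) (BT.br (nat_lit 0) (nat_lit 76) [nat_lit 9] (BT.kid (nat_lit 76) (nat_lit 2) (BT.dif (nat_lit 16) (nat_lit 13) (BT.frm (nat_lit 0) (nat_lit 131604) (nat_lit 131604) [nat_lit 11] (BT.pln (nat_lit 0) (nat_lit 1) (BT.dif (nat_lit 2) (nat_lit 0) (BT.pln (nat_lit 12) (nat_lit 3) (BT.dif (nat_lit 1) (nat_lit 0) (BT.frm (nat_lit 2) (nat_lit 0x1d210d19020214) (nat_lit 0x1d210d19020214) [nat_lit 11, nat_lit 15, nat_lit 16] (BT.pln (nat_lit 0) (nat_lit 5) (BT.dif (nat_lit 2) (nat_lit 0) (BT.frm (nat_lit 3) (nat_lit 0x211d210d19020214) (nat_lit 0x211d210d19020214) [nat_lit 9, nat_lit 14, nat_lit 18, nat_lit 19] (BT.pln (nat_lit 0) (nat_lit 7) (BT.dif (nat_lit 2) (nat_lit 0) (BT.pln (nat_lit 2) (nat_lit 8) (BT.dif (nat_lit 1) (nat_lit 0) (BT.pln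 (nat_lit 4) (nat_lit 13) (BT.dif (nat_lit 1) (nat_lit 0) (BT.br (nat_lit 0) (nat_lit 5) [nat_lit 11] (BT.dead (nat_lit 56) (BT.frm (nat_lit 4) (nat_lit 0x25211d210d19020214) (nat_lit 0x27211d210d19020214) [nat_lit 0, nat_lit 17, nat_lit 22, nat_lit 26, nat_lit 27] (BT.pln (nat_lit 0) (nat_lit 6) (BT.img (nat_lit 1) (nat_lit 2) (BT.and (nat_lit 1) (nat_lit 0) (BT.cnt (nat_lit 0)))))) (BT.kid (nat_lit 5) (nat_lit 1) (BT.one (nat_lit 4) (nat_lit 0x25211d210d19020214) (nat_lit 0x25211d210d19020214) [nat_lit 0, nat_lit 17, nat_lit 22, nat_lit 26, nat_lit 27]) BT.nil))))))))))))))))))) BT.nil)))))) BT.nil))))))) BT.nil)))))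

theorem ht_c5_cnt : Cnt 100 (grp 100 h_E0) [h_g107] [h_g107] 0 0 0 0 96 :=
  BT.sound ht_c5_cnt_P Known.nil (t := ht_c5_cnt_t) (d := 0) (by decide +kernel)

theorem ht_c5_ge : 96 ≤ Nat.card (grp 100 ht_c5_K) :=
  Ch.le_card_grp (k := 7) (L := (lab 100 7)) h_hn ht_c5_K_ok (c := (Ch.cons (nat_lit 33) [nat_lit 1, nat_lit 3, nat_lit 5] (Ch.cons (nat_lit 55) [nat_lit 7] (Ch.cons (nat_lit 76) [nat_lit 9] (Ch.cons (nat_lit 5) [nat_lit 11] Ch.nil))))) (by decide +kernel)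

theorem ht_c5_eq : (grp 100 h_E0) ⊓ Subgroup.centralizer {Net.toPerm 100 h_g107} = grp 100 ht_c5_K :=
  cent_eq ht_c5_sym ht_c5_cnt ht_c5_ge

theorem ht_c5_card : Nat.card ↥((grp 100 h_E0) ⊓ Subgroup.centralizer {Net.toPerm 100 h_g107}) = 96 :=
  card_cent ht_c5_sym ht_c5_cnt ht_c5_ge

theorem ht_c5_ord : orderOf (Net.toPerm 100 h_g107) = 4 :=
  orderOf_net h_hn h_hk h_g107_ok (by decide) (ps := [2]) (by set_option linter.unusedSimpArgs false in simp [Nat.primeFactorsList_ofNat]) (by decide +kernel)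

theorem h_le118 : grp 100 ht_c6_K ≤ grp 100 h_E0 :=
  grp_le_of_memB h_hn h_hk h_E0_ok ht_c6_K_ok (ws := [nat_lit 0x1a170f0808020b01, nat_lit 5900]) (by decide +kernel)

theorem ht_c6_le : grp 100 ht_c6_K ≤ (grp 100 h_E0) :=
  (h_le118.trans h_T58_s0.le)

theorem ht_c6_mem : Net.toPerm 100 h_g115 ∈ (grp 100 h_E0) :=
  ht_c6_le (mem_grp_of_memB h_hn h_hk ht_c6_K_ok h_g115_ok (w := (nat_lit 131586)) (by decide +kernel))

theorem ht_c6_sym : Sym 100 (grp 100 h_E0) [h_g115] ht_c6_K 0 :=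
  Sym.of_lab h_hn h_hk (okE_cons.2 ⟨h_g115_ok, okE_nil _⟩) ht_c6_K_ok ht_c6_le (kT := 0) (by decide +kernel)

theorem h_le121 : grp 100 h_V120 ≤ grp 100 h_V71 :=
  grp_le_of_memB h_hn h_hk h_V71_ok h_V120_ok (ws := [nat_lit 328706]) (by decide +kernel)

theorem h_T58_s16 : Stab 100 (grp 100 h_E0) [nat_lit 91, nat_lit 95, nat_lit 0] h_V120 3 :=
  Stab.step (k := 7) (L := (lab 100 7)) h_hn h_T58_s2 h_V120_ok h_le121 (c := (Ch.cons (nat_lit 72) [nat_lit 1] Ch.nil)) (by decide +kernel)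

theorem h_T58_s17 : Stab 100 (grp 100 h_E0) [nat_lit 72, nat_lit 91, nat_lit 95, nat_lit 0] h_V122 1 :=
  Stab.step (k := 7) (L := (lab 100 7)) h_hn h_T58_s16 h_V122_ok (grp_mono (List.subset_append_right [h_g119] _)) (c := Ch.nil) (by decide +kernel)

theorem h_g119_h_T58 : Net.toPerm 100 h_g119 ∈ (grp 100 h_E0) :=
  h_T58_s16.le (toPerm_mem_grp (E := h_V120) (List.Mem.head _))

noncomputable def h_T58_s17_O : ℕ := (nat_lit 0xfffffffff0000000000000000f00000000ffffffff000000000ffff0000ffff0000ffff00000ff00ff00ff00ff00ff00ff000f0f0f0f0f0f0f0f0f0f0f0f0cccccccccccccccccccccccccaaaaaaaaaaaaaaaaaaaaaaaaa0000000000000000000000001080000000000000000000000000800000000000000000000000000001000000000000000000)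

theorem h_T58_s17_F : Frame 100 (grp 100 h_E0) 4 11 h_T58_s17_O 1 1 :=
  IsBase.frame h_T58_s17.isBase (by decide +kernel)

noncomputable def h_T58_s16_O : ℕ := (nat_lit 0x800000000000000000000000004000000000000000000000000001000000000000000000000000040000000000000000000000000001000000000000000000000000008000000000000000000000000000400008020000000200000000000000000400010000800000000000000000400001002000000000000000100000040080000000000000000040000080400000000000010040000000008000000000000000028000000100000000000020000000002001000000000000000000000082080000002040000000000000002000000000000000000240000100000010000000000000020008000000002000010000000000200000000000020000000040010000000000000420000000000200000400008000000000000010000011000000000000000000800000000008000000000004040000000000000401000000002000000000000000000006000100000000220000000000000008000000c00000000000000000400000000000000005000000020000000000000a000000000010002000000000000000000800800000000001000100000000040000001000000000000400001000080000008000000000000084000000000000000000000024000000000000000000000000108000000000000000000000000080000000000000000000000)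

theorem h_T58_s16_F : Frame 100 (grp 100 h_E0) 3 39 h_T58_s16_O 0 1 :=
  Stab.frame h_hn h_T58_s16 (by decide +kernel)

noncomputable def ht_c6_cnt_L : List ℕ := [1, 2, h_T58_s1_O, 0, 0, 2, 6, h_T58_s2_O, 0, 0, 3, 39, h_T58_s16_O, 0, 0, 4, 11, h_T58_s17_O, 1, 0]

theorem ht_c6_cnt_P : Prob 100 7 (grp 100 h_E0) ht_c6_cnt_EG [h_g115] [h_g115] ht_c6_K ht_c6_cnt_L 0 0 :=
  Sym.prob h_hn h_hk ht_c6_sym ht_c6_cnt_EG_ok (grp_cons_le h_g1_h_T58 (grp_cons_le h_a19_h_T58 (grp_cons_le h_a27_h_T58 (grp_cons_le h_g7_h_T58 (grp_cons_le h_a0_h_T58 (grp_cons_le h_g4_h_T58 (grp_cons_le h_a8_h_T58 (grp_cons_le h_g14_h_T58 (grp_cons_le h_g10_h_T58 (grp_cons_le h_g11_h_T58 (grp_cons_le h_g21_h_T58 (grp_cons_le h_g22_h_T58 (grp_cons_le h_g17_h_T58 (grp_cons_le h_g18_h_T58 (grp_cons_le h_g67_h_T58 (grp_cons_le h_g68_h_T58 (grp_cons_le h_g69_h_T58 (grp_cons_le h_g70_h_T58 (grp_cons_le h_g119_h_T58 (grp_nil_le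 _)))))))))))))))))))) (Frames.cons h_T58_s1_F (Frames.cons h_T58_s2_F (Frames.cons h_T58_s16_F (Frames.cons h_T58_s17_F Frames.nil)))) (okE_cons.2 ⟨h_g115_ok, okE_nil _⟩) _

noncomputable def ht_c6_cnt_t : BT := (BT.br (nat_lit 2) (nat_lit 0) [nat_lit 1, nat_lit 3] (BT.kid (nat_lit 0) (nat_lit 3) (BT.frm (nat_lit 0) (nat_lit 0) (nat_lit 0) [nat_lit 0] (BT.pln (nat_lit 0) (nat_lit 1) (BT.dif (nat_lit 5) (nat_lit 0) (BT.img (nat_lit 1) (nat_lit 1) (BT.dif (nat_lit 1) (nat_lit 0) (BT.img (nat_lit 1) (nat_lit 5) (BT.frm (nat_lit 1) (nat_lit 17) (nat_lit 17) [nat_lit 0, nat_lit 6] (BT.pln (nat_lit 0) (nat_lit 5) (BT.dif (nat_lit 3) (nat_lit 0) (BT.dif (nat_lit 5) (nat_lit 7) (BT.img (nat_lit 1) (nat_lit 0) (BT.dif (nat_lit 2) (nat_lit 0) (BT.dif (nat_lit 0) (nat_lit 12) (BT.dif (nat_lit 0) (nat_lit 7) (BT.img (nat_lit 1) (nat_lit 8) (BT.dif (nat_lit 1) (nat_lit 0) (BT.img (nat_lit 1) (nat_lit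 1) (BT.dif (nat_lit 1) (nat_lit 0) (BT.frm (nat_lit 2) (nat_lit 7441) (nat_lit 7441) [nat_lit 3, nat_lit 12, nat_lit 18] (BT.pln (nat_lit 0) (nat_lit 12) (BT.dif (nat_lit 2) (nat_lit 0) (BT.pln (nat_lit 2) (nat_lit 23) (BT.dif (nat_lit 1) (nat_lit 0) (BT.pln (nat_lit 4) (nat_lit 24) (BT.dif (nat_lit 1) (nat_lit 0) (BT.pln (nat_lit 6) (nat_lit 32) (BT.dif (nat_lit 1) (nat_lit 0) (BT.pln (nat_lit 8) (nat_lit 33) (BT.dif (nat_lit 1) (nat_lit 0) (BT.pln (nat_lit 10) (nat_lit 34) (BT.dif (nat_lit 1) (nat_lit 0) (BT.pln (nat_lit 12) (nat_lit 36) (BT.dif (nat_lit 1) (nat_lit 0) (BT.pln (nat_lit 14) (nat_lit 37) (BT.dif (nat_lit 1) (nat_lit 0) (BT.pln (nat_lit 16) (nat_lit 38) (BT.dif (nat_lit 1) (nat_lit 0) (BT.br (nat_lit 0) (nat_lit 84) [nat_lit 3] (BT.kid (nat_lit 84) (nat_lit 1) (BT.one (nat_lit 3) (nat_lit 0x251d11) (nat_lit 0x251d11) [nat_lit 0, nat_lit 23, nat_lit 32, nat_lit 38]) BT.nil)))))))))))))))))))))))))))))))))))))))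 BT.nil))

theorem ht_c6_cnt : Cnt 100 (grp 100 h_E0) [h_g115] [h_g115] 0 0 0 0 300 :=
  BT.sound ht_c6_cnt_P Known.nil (t := ht_c6_cnt_t) (d := 0) (by decide +kernel)

theorem ht_c6_ge : 300 ≤ Nat.card (grp 100 ht_c6_K) :=
  Ch.le_card_grp (k := 7) (L := (lab 100 7)) h_hn ht_c6_K_ok (c := (Ch.cons (nat_lit 0) [nat_lit 1] (Ch.cons (nat_lit 84) [nat_lit 3] Ch.nil))) (by decide +kernel)

theorem ht_c6_eq : (grp 100 h_E0) ⊓ Subgroup.centralizer {Net.toPerm 100 h_g115} = grp 100 ht_c6_K :=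
  cent_eq ht_c6_sym ht_c6_cnt ht_c6_ge

theorem ht_c6_card : Nat.card ↥((grp 100 h_E0) ⊓ Subgroup.centralizer {Net.toPerm 100 h_g115}) = 300 :=
  card_cent ht_c6_sym ht_c6_cnt ht_c6_ge

theorem ht_c6_ord : orderOf (Net.toPerm 100 h_g115) = 5 :=
  orderOf_net h_hn h_hk h_g115_ok (by decide) (ps := [5]) (by set_option linter.unusedSimpArgs false in simp [Nat.primeFactorsList_ofNat]) (by decide +kernel)

theorem h_le125 : grp 100 ht_c7_K ≤ grp 100 h_E0 :=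
  grp_le_of_memB h_hn h_hk h_E0_ok ht_c7_K_ok (ws := [nat_lit 0x190f0711010701, nat_lit 5900]) (by decide +kernel)

theorem ht_c7_le : grp 100 ht_c7_K ≤ (grp 100 h_E0) :=
  (h_le125.trans h_T58_s0.le)

theorem ht_c7_mem : Net.toPerm 100 h_g123 ∈ (grp 100 h_E0) :=
  ht_c7_le (mem_grp_of_memB h_hn h_hk ht_c7_K_ok h_g123_ok (w := (nat_lit 0x3010103010401)) (by decide +kernel))

theorem ht_c7_sym : Sym 100 (grp 100 h_E0) [h_g123] ht_c7_K 0 :=
  Sym.of_lab h_hn h_hk (okE_cons.2 ⟨h_g123_ok, okE_nil _⟩) ht_c7_K_ok ht_c7_le (kT := 0) (by decide +kernel)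

noncomputable def ht_c7_cnt_L : List ℕ := [1, 2, h_T58_s1_O, 0, 0, 2, 6, h_T58_s2_O, 0, 0, 3, 39, h_T58_s16_O, 0, 0, 4, 11, h_T58_s17_O, 1, 0]

theorem ht_c7_cnt_P : Prob 100 7 (grp 100 h_E0) ht_c7_cnt_EG [h_g123] [h_g123] ht_c7_K ht_c7_cnt_L 0 0 :=
  Sym.prob h_hn h_hk ht_c7_sym ht_c7_cnt_EG_ok (grp_cons_le h_g1_h_T58 (grp_cons_le h_a19_h_T58 (grp_cons_le h_a27_h_T58 (grp_cons_le h_g7_h_T58 (grp_cons_le h_a0_h_T58 (grp_cons_le h_g4_h_T58 (grp_cons_le h_a8_h_T58 (grp_cons_le h_g14_h_T58 (grp_cons_le h_g10_h_T58 (grp_cons_le h_g11_h_T58 (grp_cons_le h_g21_h_T58 (grp_cons_le h_g22_h_T58 (grp_cons_le h_g17_h_T58 (grp_cons_le h_g18_h_T58 (grp_cons_le h_g67_h_T58 (grp_cons_le h_g68_h_T58 (grp_cons_le h_g69_h_T58 (grp_cons_le h_g70_h_T58 (grp_cons_le h_g119_h_T58 (grp_nil_le _)))))))))))))))))))) (Frames.cons h_T58_s1_F (Frames.cons h_T58_s2_F (Frames.cons h_T58_s16_F (Frames.cons h_T58_s17_F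 Frames.nil)))) (okE_cons.2 ⟨h_g123_ok, okE_nil _⟩) _

noncomputable def ht_c7_cnt_t : BT := (BT.br (nat_lit 2) (nat_lit 0) [nat_lit 1, nat_lit 3] (BT.kid (nat_lit 0) (nat_lit 3) (BT.frm (nat_lit 0) (nat_lit 0) (nat_lit 0) [nat_lit 0] (BT.pln (nat_lit 0) (nat_lit 1) (BT.dif (nat_lit 5) (nat_lit 0) (BT.img (nat_lit 1) (nat_lit 1) (BT.dif (nat_lit 1) (nat_lit 0) (BT.img (nat_lit 1) (nat_lit 5) (BT.frm (nat_lit 1) (nat_lit 7) (nat_lit 7) [nat_lit 0, nat_lit 6] (BT.pln (nat_lit 0) (nat_lit 5) (BT.dif (nat_lit 3) (nat_lit 0) (BT.dif (nat_lit 0) (nat_lit 9) (BT.dif (nat_lit 0) (nat_lit 4) (BT.img (nat_lit 1) (nat_lit 5) (BT.dif (nat_lit 1) (nat_lit 0) (BT.img (nat_lit 1) (nat_lit 1) (BT.dif (nat_lit 1) (nat_lit 0) (BT.frm (nat_lit 2) (nat_lit 0x1e202207) (nat_lit 0x1e202207) [nat_lit 3, nat_lit 9, nat_lit 15] (BT.pln (nat_lit 0) (nat_lit 11) (BT.dif (nat_lit 2) (nat_lit 0) (BT.pln (nat_lit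 2) (nat_lit 12) (BT.dif (nat_lit 1) (nat_lit 0) (BT.pln (nat_lit 4) (nat_lit 20) (BT.dif (nat_lit 1) (nat_lit 0) (BT.pln (nat_lit 6) (nat_lit 23) (BT.dif (nat_lit 1) (nat_lit 0) (BT.pln (nat_lit 8) (nat_lit 24) (BT.dif (nat_lit 1) (nat_lit 0) (BT.pln (nat_lit 10) (nat_lit 27) (BT.dif (nat_lit 1) (nat_lit 0) (BT.pln (nat_lit 12) (nat_lit 30) (BT.dif (nat_lit 1) (nat_lit 0) (BT.pln (nat_lit 14) (nat_lit 33) (BT.dif (nat_lit 1) (nat_lit 0) (BT.pln (nat_lit 16) (nat_lit 34) (BT.dif (nat_lit 1) (nat_lit 0) (BT.pln (nat_lit 18) (nat_lit 35) (BT.dif (nat_lit 1) (nat_lit 0) (BT.pln (nat_lit 20) (nat_lit 36) (BT.dif (nat_lit 1) (nat_lit 0) (BT.pln (nat_lit 22) (nat_lit 37) (BT.dif (nat_lit 1) (nat_lit 0) (BT.pln (nat_lit 24) (nat_lit 38) (BT.dif (nat_lit 1) (nat_lit 0) (BT.br (nat_lit 0) (nat_lit 29) [nat_lit 3] (BT.kid (nat_lit 29) (nat_lit 1) (BT.one (nat_lit 3) (nat_lit 0x1e202207) (nat_lit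 0x1e202207) [nat_lit 0, nat_lit 31, nat_lit 37, nat_lit 43]) BT.nil)))))))))))))))))))))))))))))))))))))))))))) BT.nil))

theorem ht_c7_cnt : Cnt 100 (grp 100 h_E0) [h_g123] [h_g123] 0 0 0 0 300 :=
  BT.sound ht_c7_cnt_P Known.nil (t := ht_c7_cnt_t) (d := 0) (by decide +kernel)

theorem ht_c7_ge : 300 ≤ Nat.card (grp 100 ht_c7_K) :=
  Ch.le_card_grp (k := 7) (L := (lab 100 7)) h_hn ht_c7_K_ok (c := (Ch.cons (nat_lit 0) [nat_lit 1] (Ch.cons (nat_lit 29) [nat_lit 3] Ch.nil))) (by decide +kernel)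

theorem ht_c7_eq : (grp 100 h_E0) ⊓ Subgroup.centralizer {Net.toPerm 100 h_g123} = grp 100 ht_c7_K :=
  cent_eq ht_c7_sym ht_c7_cnt ht_c7_ge

theorem ht_c7_card : Nat.card ↥((grp 100 h_E0) ⊓ Subgroup.centralizer {Net.toPerm 100 h_g123}) = 300 :=
  card_cent ht_c7_sym ht_c7_cnt ht_c7_ge

theorem ht_c7_ord : orderOf (Net.toPerm 100 h_g123) = 5 :=
  orderOf_net h_hn h_hk h_g123_ok (by decide) (ps := [5]) (by set_option linter.unusedSimpArgs false in simp [Nat.primeFactorsList_ofNat]) (by decide +kernel)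

theorem h_le129 : grp 100 ht_c8_K ≤ grp 100 h_E0 :=
  grp_le_of_memB h_hn h_hk h_E0_ok ht_c8_K_ok (ws := [nat_lit 0x181a10081501010f, nat_lit 0x151a0710030d, nat_lit 0xf12070d]) (by decide +kernel)

theorem ht_c8_le : grp 100 ht_c8_K ≤ (grp 100 h_E0) :=
  (h_le129.trans h_T58_s0.le)

theorem ht_c8_mem : Net.toPerm 100 h_g126 ∈ (grp 100 h_E0) :=
  ht_c8_le (toPerm_mem_grp (E := ht_c8_K) (List.Mem.head _))

theorem ht_c8_sym : Sym 100 (grp 100 h_E0) [h_g126] ht_c8_K 0 :=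
  Sym.of_lab h_hn h_hk (okE_cons.2 ⟨h_g126_ok, okE_nil _⟩) ht_c8_K_ok ht_c8_le (kT := 0) (by decide +kernel)

theorem h_le133 : grp 100 h_V132 ≤ grp 100 h_V100 :=
  grp_le_of_memB h_hn h_hk h_V100_ok h_V132_ok (ws := [nat_lit 197381, nat_lit 1285]) (by decide +kernel)

theorem h_T58_s18 : Stab 100 (grp 100 h_E0) [nat_lit 20, nat_lit 44, nat_lit 17, nat_lit 0] h_V132 4 :=
  Stab.step (k := 7) (L := (lab 100 7)) h_hn h_T58_s11 h_V132_ok h_le133 (c := (Ch.cons (nat_lit 82) [nat_lit 1] (Ch.cons (nat_lit 61) [nat_lit 3] Ch.nil))) (by decide +kernel)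

theorem h_T58_s19 : Stab 100 (grp 100 h_E0) [nat_lit 82, nat_lit 20, nat_lit 44, nat_lit 17, nat_lit 0] h_V134 2 :=
  Stab.step (k := 7) (L := (lab 100 7)) h_hn h_T58_s18 h_V134_ok (grp_mono (List.subset_append_right [h_g130] _)) (c := (Ch.cons (nat_lit 61) [nat_lit 1] Ch.nil)) (by decide +kernel)

theorem h_T58_s20 : Stab 100 (grp 100 h_E0) [nat_lit 61, nat_lit 82, nat_lit 20, nat_lit 44, nat_lit 17, nat_lit 0] h_V135 1 :=
  Stab.step (k := 7) (L := (lab 100 7)) h_hn h_T58_s19 h_V135_ok (grp_mono (List.subset_append_right [h_g131] _)) (c := Ch.nil) (by decide +kernel)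

theorem h_g131_h_T58 : Net.toPerm 100 h_g131 ∈ (grp 100 h_E0) :=
  h_T58_s19.le (toPerm_mem_grp (E := h_V134) (List.Mem.head _))

theorem h_g130_h_T58 : Net.toPerm 100 h_g130 ∈ (grp 100 h_E0) :=
  h_T58_s18.le (toPerm_mem_grp (E := h_V132) (List.Mem.head _))

noncomputable def h_T58_s20_O : ℕ := (nat_lit 0xfffffffff0000000000000000f00000000ffffffff000000000ffff0000ffff0000ffff00000ff00ff00ff00ff00ff00ff000f0f0f0f0f0f0f0f0f0f0f0f0cccccccccccccccccccccccccaaaaaaaaaaaaaaaaaaaaaaaaa000000000000000000000000100000000000000000000200000000000000000100000000000000000000000000000010000000004000000000000000000000000000002000000000000000)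

theorem h_T58_s20_F : Frame 100 (grp 100 h_E0) 6 13 h_T58_s20_O 1 1 :=
  IsBase.frame h_T58_s20.isBase (by decide +kernel)

noncomputable def h_T58_s18_O : ℕ := (nat_lit 0x8000000000000000000000000400000000000000000000000020000000000000000000000000040000000000000000000000002000000000000000000000000000000004000000000000000000000000002000000000000000000000000080000400000800000000000000000000000200100000000000000000000000108000000000000800000000000010000000000000000010000000800000000001000000000000001000000000000020000000000080000000000000080000000000000200040000000000000000000004000000000000000000004000040000000000000000000100001000000000000000000008000020000104000200040000000000002000000800400200000000000002020001000008000000000400000400000020400000000800000020000000402000000010000000040080000100000000200000001002000000200000000200004000000000048000000040000200000000020400000010001000000001000010000000100008000000000800800000800800000000002000010000040040000000000040000800200000800000008000000020000008100004000000000001000000000000000000000000001000000000000000000002000000000000000001000000000000000000000000000000100000)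

theorem h_T58_s18_F : Frame 100 (grp 100 h_E0) 4 39 h_T58_s18_O 0 1 :=
  Stab.frame h_hn h_T58_s18 (by decide +kernel)

noncomputable def ht_c8_cnt_L : List ℕ := [1, 2, h_T58_s1_O, 0, 0, 2, 6, h_T58_s10_O, 0, 0, 3, 14, h_T58_s11_O, 0, 0, 4, 39, h_T58_s18_O, 0, 0, 6, 13, h_T58_s20_O, 1, 0]

theorem ht_c8_cnt_P : Prob 100 7 (grp 100 h_E0) ht_c8_cnt_EG [h_g126] [h_g126] ht_c8_K ht_c8_cnt_L 0 0 :=
  Sym.prob h_hn h_hk ht_c8_sym ht_c8_cnt_EG_ok (grp_cons_le h_g1_h_T58 (grp_cons_le h_a19_h_T58 (grp_cons_le h_a27_h_T58 (grp_cons_le h_g7_h_T58 (grp_cons_le h_a0_h_T58 (grp_cons_le h_g4_h_T58 (grp_cons_le h_a8_h_T58 (grp_cons_le h_g14_h_T58 (grp_cons_le h_g10_h_T58 (grp_cons_le h_g11_h_T58 (grp_cons_le h_g21_h_T58 (grp_cons_le h_g22_h_T58 (grp_cons_le h_g17_h_T58 (grp_cons_le h_g18_h_T58 (grp_cons_le h_g131_h_T58 (grp_cons_le h_g130_h_T58 (grp_nil_le _))))))))))))))))) (Frames.cons h_T58_s1_F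 (Frames.cons h_T58_s10_F (Frames.cons h_T58_s11_F (Frames.cons h_T58_s18_F (Frames.cons h_T58_s20_F Frames.nil))))) (okE_cons.2 ⟨h_g126_ok, okE_nil _⟩) _

noncomputable def ht_c8_cnt_t : BT := (BT.br (nat_lit 2) (nat_lit 0) [nat_lit 1, nat_lit 3] (BT.dead (nat_lit 4) (BT.img (nat_lit 1) (nat_lit 0) (BT.img (nat_lit 1) (nat_lit 0) (BT.frm (nat_lit 1) (nat_lit 2056) (nat_lit 0x815010d12) [nat_lit 0, nat_lit 2] (BT.pln (nat_lit 0) (nat_lit 4) (BT.frm (nat_lit 0) (nat_lit 0) (nat_lit 68882) [nat_lit 4] (BT.pln (nat_lit 0) (nat_lit 1) (BT.dif (nat_lit 9) (nat_lit 0) (BT.dif (nat_lit 1) (nat_lit 5) (BT.img (nat_lit 1) (nat_lit 6) (BT.dif (nat_lit 1) (nat_lit 0) (BT.img (nat_lit 1) (nat_lit 0) (BT.and (nat_lit 5) (nat_lit 0) (BT.img (nat_lit 1) (nat_lit 0) (BT.and (nat_lit 7) (nat_lit 0) (BT.img (nat_lit 1) (nat_lit 0) (BT.and (nat_lit 8) (nat_lit 0) (BT.img (nat_lit 1) (nat_lit 0) (BT.and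 (nat_lit 13) (nat_lit 0) (BT.frm (nat_lit 2) (nat_lit 0xf110808) (nat_lit 0xf110815010d12) [nat_lit 0, nat_lit 16, nat_lit 18] (BT.pln (nat_lit 0) (nat_lit 5) (BT.and (nat_lit 13) (nat_lit 7) (BT.dif (nat_lit 0) (nat_lit 6) (BT.img (nat_lit 1) (nat_lit 0) (BT.and (nat_lit 16) (nat_lit 0) (BT.img (nat_lit 1) (nat_lit 0) (BT.and (nat_lit 5) (nat_lit 0) (BT.cnt (nat_lit 0)))))))))))))))))))))))))))) (BT.dead (nat_lit 3) (BT.frm (nat_lit 0) (nat_lit 0) (nat_lit 67345) [nat_lit 0] (BT.pln (nat_lit 0) (nat_lit 1) (BT.img (nat_lit 1) (nat_lit 2) (BT.and (nat_lit 1) (nat_lit 0) (BT.cnt (nat_lit 0)))))) (BT.dead (nat_lit 2) (BT.frm (nat_lit 0) (nat_lit 0) (nat_lit 68354) [nat_lit 0] (BT.pln (nat_lit 0) (nat_lit 1) (BT.img (nat_lit 1) (nat_lit 2) (BT.and (nat_lit 1) (nat_lit 0) (BT.cnt (nat_lit 0)))))) (BT.kid (nat_lit 0) (nat_lit 2) (BT.img (nat_lit 1) (nat_lit 0) (BT.img (nat_lit 1) (nat_lit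 0) (BT.frm (nat_lit 1) (nat_lit 2056) (nat_lit 2056) [nat_lit 0, nat_lit 2] (BT.pln (nat_lit 0) (nat_lit 5) (BT.frm (nat_lit 0) (nat_lit 0) (nat_lit 0) [nat_lit 4] (BT.pln (nat_lit 0) (nat_lit 1) (BT.dif (nat_lit 0) (nat_lit 4) (BT.img (nat_lit 1) (nat_lit 5) (BT.dif (nat_lit 1) (nat_lit 0) (BT.img (nat_lit 1) (nat_lit 0) (BT.dif (nat_lit 6) (nat_lit 0) (BT.pln (nat_lit 8) (nat_lit 2) (BT.and (nat_lit 0) (nat_lit 2) (BT.pln (nat_lit 10) (nat_lit 4) (BT.and (nat_lit 0) (nat_lit 4) (BT.and (nat_lit 11) (nat_lit 5) (BT.and (nat_lit 10) (nat_lit 6) (BT.pln (nat_lit 14) (nat_lit 3) (BT.and (nat_lit 1) (nat_lit 0) (BT.dif (nat_lit 22) (nat_lit 13) (BT.img (nat_lit 1) (nat_lit 3) (BT.and (nat_lit 15) (nat_lit 0) (BT.img (nat_lit 1) (nat_lit 0) (BT.and (nat_lit 3) (nat_lit 0) (BT.img (nat_lit 1) (nat_lit 0) (BT.and (nat_lit 11) (nat_lit 0) (BT.img (nat_lit 1) (nat_lit 0) (BT.and (nat_lit 8)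 (nat_lit 0) (BT.img (nat_lit 1) (nat_lit 0) (BT.and (nat_lit 13) (nat_lit 0) (BT.img (nat_lit 1) (nat_lit 0) (BT.and (nat_lit 16) (nat_lit 0) (BT.img (nat_lit 1) (nat_lit 0) (BT.and (nat_lit 20) (nat_lit 0) (BT.frm (nat_lit 3) (nat_lit 0x160f110808) (nat_lit 0x160f110808) [nat_lit 0, nat_lit 8, nat_lit 32, nat_lit 34] (BT.pln (nat_lit 0) (nat_lit 29) (BT.and (nat_lit 25) (nat_lit 0) (BT.br (nat_lit 0) (nat_lit 64) [nat_lit 5] (BT.kid (nat_lit 64) (nat_lit 1) (BT.one (nat_lit 4) (nat_lit 0x1d1f160f110808) (nat_lit 0x1d1f160f110808) [nat_lit 0, nat_lit 8, nat_lit 4, nat_lit 12, nat_lit 36, nat_lit 38]) BT.nil))))))))))))))))))))))))))))))))))))))) BT.nil)))))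

theorem ht_c8_cnt : Cnt 100 (grp 100 h_E0) [h_g126] [h_g126] 0 0 0 0 50 :=
  BT.sound ht_c8_cnt_P Known.nil (t := ht_c8_cnt_t) (d := 0) (by decide +kernel)

theorem ht_c8_ge : 50 ≤ Nat.card (grp 100 ht_c8_K) :=
  Ch.le_card_grp (k := 7) (L := (lab 100 7)) h_hn ht_c8_K_ok (c := (Ch.cons (nat_lit 0) [nat_lit 1, nat_lit 3] (Ch.cons (nat_lit 64) [nat_lit 5] Ch.nil))) (by decide +kernel)

theorem ht_c8_eq : (grp 100 h_E0) ⊓ Subgroup.centralizer {Net.toPerm 100 h_g126} = grp 100 ht_c8_K :=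
  cent_eq ht_c8_sym ht_c8_cnt ht_c8_ge

theorem ht_c8_card : Nat.card ↥((grp 100 h_E0) ⊓ Subgroup.centralizer {Net.toPerm 100 h_g126}) = 50 :=
  card_cent ht_c8_sym ht_c8_cnt ht_c8_ge

theorem ht_c8_ord : orderOf (Net.toPerm 100 h_g126) = 5 :=
  orderOf_net h_hn h_hk h_g126_ok (by decide) (ps := [5]) (by set_option linter.unusedSimpArgs false in simp [Nat.primeFactorsList_ofNat]) (by decide +kernel)

theorem h_le137 : grp 100 ht_c9_K ≤ grp 100 h_E0 :=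
  grp_le_of_memB h_hn h_hk h_E0_ok ht_c9_K_ok (ws := [nat_lit 0x181a0f12071102, nat_lit 0x151a0710030d, nat_lit 0xf12070d]) (by decide +kernel)

theorem ht_c9_le : grp 100 ht_c9_K ≤ (grp 100 h_E0) :=
  (h_le137.trans h_T58_s0.le)

theorem ht_c9_mem : Net.toPerm 100 h_g136 ∈ (grp 100 h_E0) :=
  ht_c9_le (toPerm_mem_grp (E := ht_c9_K) (List.Mem.head _))

theorem ht_c9_sym : Sym 100 (grp 100 h_E0) [h_g136] ht_c9_K 0 :=
  Sym.of_lab h_hn h_hk (okE_cons.2 ⟨h_g136_ok, okE_nil _⟩) ht_c9_K_ok ht_c9_le (kT := 0) (by decide +kernel)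

noncomputable def ht_c9_cnt_L : List ℕ := [1, 2, h_T58_s1_O, 0, 0, 2, 6, h_T58_s10_O, 0, 0, 3, 14, h_T58_s11_O, 0, 0, 4, 39, h_T58_s18_O, 0, 0, 6, 13, h_T58_s20_O, 1, 0]

theorem ht_c9_cnt_P : Prob 100 7 (grp 100 h_E0) ht_c9_cnt_EG [h_g136] [h_g136] ht_c9_K ht_c9_cnt_L 0 0 :=
  Sym.prob h_hn h_hk ht_c9_sym ht_c9_cnt_EG_ok (grp_cons_le h_g1_h_T58 (grp_cons_le h_a19_h_T58 (grp_cons_le h_a27_h_T58 (grp_cons_le h_g7_h_T58 (grp_cons_le h_a0_h_T58 (grp_cons_le h_g4_h_T58 (grp_cons_le h_a8_h_T58 (grp_cons_le h_g14_h_T58 (grp_cons_le h_g10_h_T58 (grp_cons_le h_g11_h_T58 (grp_cons_le h_g21_h_T58 (grp_cons_le h_g22_h_T58 (grp_cons_le h_g17_h_T58 (grp_cons_le h_g18_h_T58 (grp_cons_le h_g131_h_T58 (grp_cons_le h_g130_h_T58 (grp_nil_le _))))))))))))))))) (Frames.cons h_T58_s1_F (Frames.cons h_T58_s10_F (Frames.cons h_T58_s11_F (Frames.cons h_T58_s18_F (Frames.cons h_T58_s20_F Frames.nil))))) (okE_cons.2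 ⟨h_g136_ok, okE_nil _⟩) _

noncomputable def ht_c9_cnt_t : BT := (BT.br (nat_lit 2) (nat_lit 0) [nat_lit 1, nat_lit 3] (BT.dead (nat_lit 4) (BT.img (nat_lit 1) (nat_lit 0) (BT.frm (nat_lit 1) (nat_lit 2056) (nat_lit 0x815010d12) [nat_lit 0, nat_lit 1] (BT.pln (nat_lit 0) (nat_lit 4) (BT.frm (nat_lit 0) (nat_lit 0) (nat_lit 68882) [nat_lit 3] (BT.pln (nat_lit 0) (nat_lit 1) (BT.dif (nat_lit 8) (nat_lit 0) (BT.dif (nat_lit 1) (nat_lit 5) (BT.img (nat_lit 1) (nat_lit 6) (BT.img (nat_lit 1) (nat_lit 0) (BT.img (nat_lit 1) (nat_lit 0) (BT.dif (nat_lit 3) (nat_lit 0) (BT.img (nat_lit 1) (nat_lit 0) (BT.and (nat_lit 6) (nat_lit 0) (BT.img (nat_lit 1) (nat_lit 0) (BT.and (nat_lit 9) (nat_lit 0) (BT.img (nat_lit 1) (nat_lit 0) (BT.and (nat_lit 11) (nat_lit 0) (BT.img (nat_lit 1) (nat_lit 0) (BT.and (nat_lit 15) (nat_lit 0) (BT.frm (nat_lit 2) (nat_lit 0xf110808) (nat_lit 0xf110815010d12) [nat_lit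 0, nat_lit 18, nat_lit 19] (BT.pln (nat_lit 0) (nat_lit 5) (BT.and (nat_lit 8) (nat_lit 5) (BT.img (nat_lit 1) (nat_lit 0) (BT.and (nat_lit 2) (nat_lit 0) (BT.cnt (nat_lit 0)))))))))))))))))))))))))) (BT.dead (nat_lit 3) (BT.frm (nat_lit 0) (nat_lit 0) (nat_lit 67345) [nat_lit 0] (BT.pln (nat_lit 0) (nat_lit 1) (BT.img (nat_lit 1) (nat_lit 2) (BT.and (nat_lit 1) (nat_lit 0) (BT.cnt (nat_lit 0)))))) (BT.dead (nat_lit 2) (BT.frm (nat_lit 0) (nat_lit 0) (nat_lit 68354) [nat_lit 0] (BT.pln (nat_lit 0) (nat_lit 1) (BT.img (nat_lit 1) (nat_lit 2) (BT.and (nat_lit 1) (nat_lit 0) (BT.cnt (nat_lit 0)))))) (BT.kid (nat_lit 0) (nat_lit 2) (BT.img (nat_lit 1) (nat_lit 0) (BT.frm (nat_lit 1) (nat_lit 2056) (nat_lit 2056) [nat_lit 0, nat_lit 1] (BT.pln (nat_lit 0) (nat_lit 5) (BT.pln (nat_lit 1) (nat_lit 2) (BT.pln (nat_lit 2) (nat_lit 4) (BT.frm (nat_lit 0) (nat_lit 0) (nat_lit 0) [nat_lit 5] (BT.pln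 (nat_lit 0) (nat_lit 1) (BT.dif (nat_lit 10) (nat_lit 0) (BT.dif (nat_lit 1) (nat_lit 7) (BT.img (nat_lit 1) (nat_lit 8) (BT.img (nat_lit 1) (nat_lit 0) (BT.img (nat_lit 1) (nat_lit 0) (BT.dif (nat_lit 3) (nat_lit 0) (BT.img (nat_lit 1) (nat_lit 0) (BT.and (nat_lit 6) (nat_lit 0) (BT.img (nat_lit 1) (nat_lit 0) (BT.and (nat_lit 9) (nat_lit 0) (BT.img (nat_lit 1) (nat_lit 0) (BT.and (nat_lit 11) (nat_lit 0) (BT.img (nat_lit 1) (nat_lit 0) (BT.and (nat_lit 15) (nat_lit 0) (BT.img (nat_lit 1) (nat_lit 0) (BT.and (nat_lit 19) (nat_lit 0) (BT.img (nat_lit 1) (nat_lit 0) (BT.and (nat_lit 20) (nat_lit 0) (BT.frm (nat_lit 3) (nat_lit 0x160f110808) (nat_lit 0x160f110808) [nat_lit 0, nat_lit 4, nat_lit 24, nat_lit 25] (BT.pln (nat_lit 0) (nat_lit 29) (BT.and (nat_lit 24) (nat_lit 0) (BT.br (nat_lit 0) (nat_lit 64) [nat_lit 5] (BT.kid (nat_lit 64) (nat_lit 1) (BT.one (nat_lit 4) (nat_lit 0x1d1f160f110808)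 (nat_lit 0x1d1f160f110808) [nat_lit 0, nat_lit 6, nat_lit 4, nat_lit 8, nat_lit 28, nat_lit 29]) BT.nil)))))))))))))))))))))))))))))) BT.nil)))))

theorem ht_c9_cnt : Cnt 100 (grp 100 h_E0) [h_g136] [h_g136] 0 0 0 0 50 :=
  BT.sound ht_c9_cnt_P Known.nil (t := ht_c9_cnt_t) (d := 0) (by decide +kernel)

theorem ht_c9_ge : 50 ≤ Nat.card (grp 100 ht_c9_K) :=
  Ch.le_card_grp (k := 7) (L := (lab 100 7)) h_hn ht_c9_K_ok (c := (Ch.cons (nat_lit 0) [nat_lit 1, nat_lit 3] (Ch.cons (nat_lit 64) [nat_lit 5] Ch.nil))) (by decide +kernel)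

theorem ht_c9_eq : (grp 100 h_E0) ⊓ Subgroup.centralizer {Net.toPerm 100 h_g136} = grp 100 ht_c9_K :=
  cent_eq ht_c9_sym ht_c9_cnt ht_c9_ge

theorem ht_c9_card : Nat.card ↥((grp 100 h_E0) ⊓ Subgroup.centralizer {Net.toPerm 100 h_g136}) = 50 :=
  card_cent ht_c9_sym ht_c9_cnt ht_c9_ge

theorem ht_c9_ord : orderOf (Net.toPerm 100 h_g136) = 5 :=
  orderOf_net h_hn h_hk h_g136_ok (by decide) (ps := [5]) (by set_option linter.unusedSimpArgs false in simp [Nat.primeFactorsList_ofNat]) (by decide +kernel)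

theorem h_le141 : grp 100 ht_c10_K ≤ grp 100 h_E0 :=
  grp_le_of_memB h_hn h_hk h_E0_ok ht_c10_K_ok (ws := [nat_lit 0x1a0f110707020d, nat_lit 0x181a110b0b010d02, nat_lit 0x19190c02]) (by decide +kernel)

theorem ht_c10_le : grp 100 ht_c10_K ≤ (grp 100 h_E0) :=
  (h_le141.trans h_T58_s0.le)

theorem ht_c10_mem : Net.toPerm 100 h_g138 ∈ (grp 100 h_E0) :=
  ht_c10_le (toPerm_mem_grp (E := ht_c10_K) (List.Mem.tail _ (List.Mem.head _)))

theorem ht_c10_sym : Sym 100 (grp 100 h_E0) [h_g138] ht_c10_K 0 :=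
  Sym.of_lab h_hn h_hk (okE_cons.2 ⟨h_g138_ok, okE_nil _⟩) ht_c10_K_ok ht_c10_le (kT := 0) (by decide +kernel)

noncomputable def ht_c10_cnt_L : List ℕ := [1, 2, h_T58_s1_O, 0, 0, 2, 6, h_T58_s2_O, 0, 0, 3, 15, h_T58_s3_O, 0, 0, 4, 33, h_T58_s7_O, 0, 0, 5, 12, h_T58_s15_O, 1, 0]

theorem ht_c10_cnt_P : Prob 100 7 (grp 100 h_E0) ht_c10_cnt_EG [h_g138] [h_g138] ht_c10_K ht_c10_cnt_L 0 0 :=
  Sym.prob h_hn h_hk ht_c10_sym ht_c10_cnt_EG_ok (grp_cons_le h_g1_h_T58 (grp_cons_le h_a19_h_T58 (grp_cons_le h_a27_h_T58 (grp_cons_le h_g7_h_T58 (grp_cons_le h_a0_h_T58 (grp_cons_le h_g4_h_T58 (grp_cons_le h_a8_h_T58 (grp_cons_le h_g14_h_T58 (grp_cons_le h_g10_h_T58 (grp_cons_le h_g11_h_T58 (grp_cons_le h_g21_h_T58 (grp_cons_le h_g22_h_T58 (grp_cons_le h_g17_h_T58 (grp_cons_le h_g18_h_T58 (grp_cons_le h_g67_h_T58 (grp_cons_le h_g68_h_T58 (grp_cons_le h_g69_h_T58 (grp_cons_le h_g70_h_T58 (grp_cons_le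 h_g82_h_T58 (grp_cons_le h_g83_h_T58 (grp_nil_le _))))))))))))))))))))) (Frames.cons h_T58_s1_F (Frames.cons h_T58_s2_F (Frames.cons h_T58_s3_F (Frames.cons h_T58_s7_F (Frames.cons h_T58_s15_F Frames.nil))))) (okE_cons.2 ⟨h_g138_ok, okE_nil _⟩) _

noncomputable def ht_c10_cnt_t : BT := (BT.fix (nat_lit 1) (BT.br (nat_lit 0) (nat_lit 9) [nat_lit 1] (BT.kid (nat_lit 9) (nat_lit 12) (BT.dif (nat_lit 1) (nat_lit 0) (BT.frm (nat_lit 1) (nat_lit 0x71210010516) (nat_lit 0x71210010516) [nat_lit 0, nat_lit 1] (BT.pln (nat_lit 0) (nat_lit 5) (BT.br (nat_lit 0) (nat_lit 20) [nat_lit 3] (BT.dead (nat_lit 32) (BT.img (nat_lit 1) (nat_lit 0) (BT.frm (nat_lit 3) (nat_lit 0x221d1d071210010516) (nat_lit 0x221d22071210010516) [nat_lit 0, nat_lit 1, nat_lit 4, nat_lit 5] (BT.pln (nat_lit 0) (nat_lit 4) (BT.frm (nat_lit 2) (nat_lit 0x1d1d071210010516) (nat_lit 0x1d22071210010516) [nat_lit 3, nat_lit 6,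 nat_lit 7] (BT.pln (nat_lit 0) (nat_lit 9) (BT.img (nat_lit 1) (nat_lit 0) (BT.img (nat_lit 1) (nat_lit 0) (BT.and (nat_lit 4) (nat_lit 0) (BT.cnt (nat_lit 0)))))))))) (BT.kid (nat_lit 20) (nat_lit 4) (BT.frm (nat_lit 0) (nat_lit 66838) (nat_lit 66838) [nat_lit 4] (BT.pln (nat_lit 0) (nat_lit 1) (BT.dif (nat_lit 10) (nat_lit 0) (BT.dif (nat_lit 0) (nat_lit 4) (BT.pln (nat_lit 6) (nat_lit 3) (BT.dif (nat_lit 1) (nat_lit 0) (BT.fix (nat_lit 257) (BT.dif (nat_lit 1) (nat_lit 0) (BT.frm (nat_lit 2) (nat_lit 0x1d1d071210010516) (nat_lit 0x1d1d071210010516) [nat_lit 8, nat_lit 11, nat_lit 12] (BT.pln (nat_lit 0) (nat_lit 5) (BT.dif (nat_lit 2) (nat_lit 0) (BT.dif (nat_lit 1) (nat_lit 4) (BT.img (nat_lit 1) (nat_lit 0) (BT.and (nat_lit 1) (nat_lit 0) (BT.img (nat_lit 1) (nat_lit 0) (BT.and (nat_lit 4) (nat_lit 0) (BT.br (nat_lit 0) (nat_lit 46) [nat_lit 5] (BT.kid (nat_lit 46) (nat_lit 1) (BT.img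 (nat_lit 1) (nat_lit 17) (BT.one (nat_lit 4) (nat_lit 0x25221d1d071210010516) (nat_lit 0x25221d1d071210010516) [nat_lit 1, nat_lit 0, nat_lit 18, nat_lit 21, nat_lit 22])) BT.nil)))))))))))))))))) BT.nil)))))) BT.nil)))

theorem ht_c10_cnt : Cnt 100 (grp 100 h_E0) [h_g138] [h_g138] 0 0 0 0 24 :=
  BT.sound ht_c10_cnt_P Known.nil (t := ht_c10_cnt_t) (d := 0) (by decide +kernel)

theorem ht_c10_ge : 24 ≤ Nat.card (grp 100 ht_c10_K) :=
  Ch.le_card_grp (k := 7) (L := (lab 100 7)) h_hn ht_c10_K_ok (c := (Ch.cons (nat_lit 9) [nat_lit 1] (Ch.cons (nat_lit 20) [nat_lit 3] (Ch.cons (nat_lit 46) [nat_lit 5] Ch.nil)))) (by decide +kernel)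

theorem ht_c10_eq : (grp 100 h_E0) ⊓ Subgroup.centralizer {Net.toPerm 100 h_g138} = grp 100 ht_c10_K :=
  cent_eq ht_c10_sym ht_c10_cnt ht_c10_ge

theorem ht_c10_card : Nat.card ↥((grp 100 h_E0) ⊓ Subgroup.centralizer {Net.toPerm 100 h_g138}) = 24 :=
  card_cent ht_c10_sym ht_c10_cnt ht_c10_ge

theorem ht_c10_ord : orderOf (Net.toPerm 100 h_g138) = 6 :=
  orderOf_net h_hn h_hk h_g138_ok (by decide) (ps := [2, 3]) (by set_option linter.unusedSimpArgs false in simp [Nat.primeFactorsList_ofNat]) (by decide +kernel)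

theorem h_le144 : grp 100 ht_c11_K ≤ grp 100 h_E0 :=
  grp_le_of_memB h_hn h_hk h_E0_ok ht_c11_K_ok (ws := [nat_lit 0x181919070b1802020f, nat_lit 0x181a0f070b01, nat_lit 0x1618110d130316]) (by decide +kernel)

theorem ht_c11_le : grp 100 ht_c11_K ≤ (grp 100 h_E0) :=
  (h_le144.trans h_T58_s0.le)

theorem ht_c11_mem : Net.toPerm 100 h_g142 ∈ (grp 100 h_E0) :=
  ht_c11_le (toPerm_mem_grp (E := ht_c11_K) (List.Mem.head _))

theorem ht_c11_sym : Sym 100 (grp 100 h_E0) [h_g142] ht_c11_K 0 :=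
  Sym.of_lab h_hn h_hk (okE_cons.2 ⟨h_g142_ok, okE_nil _⟩) ht_c11_K_ok ht_c11_le (kT := 0) (by decide +kernel)

noncomputable def ht_c11_cnt_L : List ℕ := [1, 2, h_T58_s1_O, 0, 0, 2, 6, h_T58_s10_O, 0, 0, 3, 14, h_T58_s11_O, 0, 0, 6, 13, h_T58_s14_O, 1, 0]

theorem ht_c11_cnt_P : Prob 100 7 (grp 100 h_E0) ht_c11_cnt_EG [h_g142] [h_g142] ht_c11_K ht_c11_cnt_L 0 0 :=
  Sym.prob h_hn h_hk ht_c11_sym ht_c11_cnt_EG_ok (grp_cons_le h_g1_h_T58 (grp_cons_le h_a19_h_T58 (grp_cons_le h_a27_h_T58 (grp_cons_le h_g7_h_T58 (grp_cons_le h_a0_h_T58 (grp_cons_le h_g4_h_T58 (grp_cons_le h_a8_h_T58 (grp_cons_le h_g14_h_T58 (grp_cons_le h_g10_h_T58 (grp_cons_le h_g11_h_T58 (grp_cons_le h_g21_h_T58 (grp_cons_le h_g22_h_T58 (grp_cons_le h_g17_h_T58 (grp_cons_le h_g18_h_T58 (grp_cons_le h_g102_h_T58 (grp_cons_le h_g101_h_T58 (grp_nil_le _))))))))))))))))) (Frames.cons h_T58_s1_F (Frames.cons h_T58_s10_F (Frames.cons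 h_T58_s11_F (Frames.cons h_T58_s14_F Frames.nil)))) (okE_cons.2 ⟨h_g142_ok, okE_nil _⟩) _

noncomputable def ht_c11_cnt_t : BT := (BT.fix (nat_lit 257) (BT.br (nat_lit 0) (nat_lit 22) [nat_lit 1, nat_lit 3] (BT.kid (nat_lit 22) (nat_lit 3) (BT.frm (nat_lit 0) (nat_lit 67344) (nat_lit 67344) [nat_lit 0] (BT.pln (nat_lit 0) (nat_lit 1) (BT.img (nat_lit 1) (nat_lit 2) (BT.frm (nat_lit 1) (nat_lit 0x70d010710) (nat_lit 0x70d010710) [nat_lit 0, nat_lit 3] (BT.pln (nat_lit 0) (nat_lit 4) (BT.and (nat_lit 6) (nat_lit 0) (BT.frm (nat_lit 2) (nat_lit 0xf070d010710) (nat_lit 0xf070d010710) [nat_lit 0, nat_lit 3, nat_lit 6] (BT.pln (nat_lit 0) (nat_lit 11) (BT.and (nat_lit 6) (nat_lit 0) (BT.br (nat_lit 0) (nat_lit 0) [nat_lit 5] (BT.kid (nat_lit 0) (nat_lit 1) (BT.img (nat_lit 1) (nat_lit 0) (BT.pln (nat_lit 7) (nat_lit 5) (BT.and (nat_lit 13) (nat_lit 0) (BT.one (nat_lit 3) (nat_lit 0x1d160f070d010710)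 (nat_lit 0x1d160f070d010710) [nat_lit 2, nat_lit 3, nat_lit 0, nat_lit 7, nat_lit 10, nat_lit 13])))) BT.nil))))))))))) BT.nil)))

theorem ht_c11_cnt : Cnt 100 (grp 100 h_E0) [h_g142] [h_g142] 0 0 0 0 12 :=
  BT.sound ht_c11_cnt_P Known.nil (t := ht_c11_cnt_t) (d := 0) (by decide +kernel)

theorem ht_c11_ge : 12 ≤ Nat.card (grp 100 ht_c11_K) :=
  Ch.le_card_grp (k := 7) (L := (lab 100 7)) h_hn ht_c11_K_ok (c := (Ch.cons (nat_lit 22) [nat_lit 1, nat_lit 3] (Ch.cons (nat_lit 0) [nat_lit 5] Ch.nil))) (by decide +kernel)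

theorem ht_c11_eq : (grp 100 h_E0) ⊓ Subgroup.centralizer {Net.toPerm 100 h_g142} = grp 100 ht_c11_K :=
  cent_eq ht_c11_sym ht_c11_cnt ht_c11_ge

theorem ht_c11_card : Nat.card ↥((grp 100 h_E0) ⊓ Subgroup.centralizer {Net.toPerm 100 h_g142}) = 12 :=
  card_cent ht_c11_sym ht_c11_cnt ht_c11_ge

theorem ht_c11_ord : orderOf (Net.toPerm 100 h_g142) = 6 :=
  orderOf_net h_hn h_hk h_g142_ok (by decide) (ps := [2, 3]) (by set_option linter.unusedSimpArgs false in simp [Nat.primeFactorsList_ofNat]) (by decide +kernel)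

theorem h_le146 : grp 100 ht_c12_K ≤ grp 100 h_E0 :=
  grp_le_of_memB h_hn h_hk h_E0_ok ht_c12_K_ok (ws := [nat_lit 0x1a1810070d12010515]) (by decide +kernel)

theorem ht_c12_le : grp 100 ht_c12_K ≤ (grp 100 h_E0) :=
  (h_le146.trans h_T58_s0.le)

theorem ht_c12_mem : Net.toPerm 100 h_g145 ∈ (grp 100 h_E0) :=
  ht_c12_le (toPerm_mem_grp (E := ht_c12_K) (List.Mem.head _))

theorem ht_c12_sym : Sym 100 (grp 100 h_E0) [h_g145] ht_c12_K 0 :=
  Sym.of_lab h_hn h_hk (okE_cons.2 ⟨h_g145_ok, okE_nil _⟩) ht_c12_K_ok ht_c12_le (kT := 0) (by decide +kernel)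

theorem h_le148 : grp 100 h_V147 ≤ grp 100 h_V100 :=
  grp_le_of_memB h_hn h_hk h_V100_ok h_V147_ok (ws := [nat_lit 259]) (by decide +kernel)

theorem h_T58_s21 : Stab 100 (grp 100 h_E0) [nat_lit 15, nat_lit 44, nat_lit 17, nat_lit 0] h_V147 2 :=
  Stab.step (k := 7) (L := (lab 100 7)) h_hn h_T58_s11 h_V147_ok h_le148 (c := (Ch.cons (nat_lit 3) [nat_lit 1] Ch.nil)) (by decide +kernel)

theorem h_T58_s22 : Stab 100 (grp 100 h_E0) [nat_lit 3, nat_lit 15, nat_lit 44, nat_lit 17, nat_lit 0] h_V149 1 :=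
  Stab.step (k := 7) (L := (lab 100 7)) h_hn h_T58_s21 h_V149_ok (grp_mono (List.subset_append_right [h_g102] _)) (c := Ch.nil) (by decide +kernel)

noncomputable def h_T58_s22_O : ℕ := (nat_lit 0xfffffffff0000000000000000f00000000ffffffff000000000ffff0000ffff0000ffff00000ff00ff00ff00ff00ff00ff000f0f0f0f0f0f0f0f0f0f0f0f0cccccccccccccccccccccccccaaaaaaaaaaaaaaaaaaaaaaaaa00000000000000000000000010000000000000000000020000000000000000010000000000000000000000000000000080000000000000000000000000008)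

theorem h_T58_s22_F : Frame 100 (grp 100 h_E0) 5 12 h_T58_s22_O 1 1 :=
  IsBase.frame h_T58_s22.isBase (by decide +kernel)

noncomputable def ht_c12_cnt_L : List ℕ := [2, 6, h_T58_s10_O, 0, 0, 3, 14, h_T58_s11_O, 0, 0, 5, 12, h_T58_s22_O, 1, 0]

theorem ht_c12_cnt_P : Prob 100 7 (grp 100 h_E0) ht_c12_cnt_EG [h_g145] [h_g145] ht_c12_K ht_c12_cnt_L 0 0 :=
  Sym.prob h_hn h_hk ht_c12_sym ht_c12_cnt_EG_ok (grp_cons_le h_g7_h_T58 (grp_cons_le h_a0_h_T58 (grp_cons_le h_g4_h_T58 (grp_cons_le h_a8_h_T58 (grp_cons_le h_g14_h_T58 (grp_cons_le h_g10_h_T58 (grp_cons_le h_g11_h_T58 (grp_cons_le h_g21_h_T58 (grp_cons_le h_g22_h_T58 (grp_cons_le h_g17_h_T58 (grp_cons_le h_g18_h_T58 (grp_cons_le h_g1_h_T58 (grp_cons_le h_a19_h_T58 (grp_cons_le h_a27_h_T58 (grp_cons_le h_g102_h_T58 (grp_nil_le _)))))))))))))))) (Frames.cons h_T58_s10_F (Frames.cons h_T58_s11_F (Frames.cons h_T58_s22_F Frames.nil)))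 (okE_cons.2 ⟨h_g145_ok, okE_nil _⟩) _

noncomputable def ht_c12_cnt_t : BT := (BT.fix (nat_lit 1) (BT.br (nat_lit 0) (nat_lit 25) [] (BT.dead (nat_lit 99) (BT.dif (nat_lit 1) (nat_lit 0) (BT.frm (nat_lit 0) (nat_lit 0x20d1907) (nat_lit 0x1050d181918) [nat_lit 0, nat_lit 1] (BT.pln (nat_lit 0) (nat_lit 4) (BT.br (nat_lit 0) (nat_lit 91) [nat_lit 1] (BT.dead (nat_lit 78) (BT.pln (nat_lit 2) (nat_lit 5) (BT.frm (nat_lit 1) (nat_lit 0x9020d1907) (nat_lit 0xb01050d181918) [nat_lit 1, nat_lit 4, nat_lit 5] (BT.pln (nat_lit 0) (nat_lit 10) (BT.and (nat_lit 2) (nat_lit 0) (BT.pln (nat_lit 2) (nat_lit 12) (BT.img (nat_lit 1) (nat_lit 0) (BT.and (nat_lit 1) (nat_lit 0) (BT.img (nat_lit 1) (nat_lit 0) (BT.and (nat_lit 4) (nat_lit 0) (BT.img (nat_lit 1) (nat_lit 0) (BT.and (nat_lit 0) (nat_lit 7) (BT.cnt (nat_lit 0))))))))))))) BT.nil))))) (BT.kid (nat_lit 25) (nat_lit 7) (BT.dif (nat_lit 1) (nat_lit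 0) (BT.frm (nat_lit 0) (nat_lit 0x20d1907) (nat_lit 0x20d1907) [nat_lit 0, nat_lit 1] (BT.pln (nat_lit 0) (nat_lit 4) (BT.br (nat_lit 0) (nat_lit 91) [nat_lit 1] (BT.kid (nat_lit 91) (nat_lit 1) (BT.img (nat_lit 1) (nat_lit 0) (BT.img (nat_lit 1) (nat_lit 0) (BT.frm (nat_lit 1) (nat_lit 0x9020d1907) (nat_lit 0x9020d1907) [nat_lit 2, nat_lit 5, nat_lit 6] (BT.pln (nat_lit 0) (nat_lit 3) (BT.pln (nat_lit 1) (nat_lit 13) (BT.pln (nat_lit 2) (nat_lit 9) (BT.img (nat_lit 1) (nat_lit 0) (BT.and (nat_lit 2) (nat_lit 0) (BT.img (nat_lit 1) (nat_lit 0) (BT.and (nat_lit 5) (nat_lit 0) (BT.one (nat_lit 2) (nat_lit 0x1d1309020d1907) (nat_lit 0x1d1309020d1907) [nat_lit 8, nat_lit 0, nat_lit 10, nat_lit 13, nat_lit 14]))))))))))) BT.nil))))) BT.nil))))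

theorem ht_c12_cnt : Cnt 100 (grp 100 h_E0) [h_g145] [h_g145] 0 0 0 0 7 :=
  BT.sound ht_c12_cnt_P Known.nil (t := ht_c12_cnt_t) (d := 0) (by decide +kernel)

theorem ht_c12_ge : 7 ≤ Nat.card (grp 100 ht_c12_K) :=
  Ch.le_card_grp (k := 7) (L := (lab 100 7)) h_hn ht_c12_K_ok (c := (Ch.cons (nat_lit 91) [nat_lit 1] Ch.nil)) (by decide +kernel)

theorem ht_c12_eq : (grp 100 h_E0) ⊓ Subgroup.centralizer {Net.toPerm 100 h_g145} = grp 100 ht_c12_K :=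
  cent_eq ht_c12_sym ht_c12_cnt ht_c12_ge

theorem ht_c12_card : Nat.card ↥((grp 100 h_E0) ⊓ Subgroup.centralizer {Net.toPerm 100 h_g145}) = 7 :=
  card_cent ht_c12_sym ht_c12_cnt ht_c12_ge

theorem ht_c12_ord : orderOf (Net.toPerm 100 h_g145) = 7 :=
  orderOf_net h_hn h_hk h_g145_ok (by decide) (ps := [7]) (by set_option linter.unusedSimpArgs false in simp [Nat.primeFactorsList_ofNat]) (by decide +kernel)

theorem h_le151 : grp 100 ht_c13_K ≤ grp 100 h_E0 :=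
  grp_le_of_memB h_hn h_hk h_E0_ok ht_c13_K_ok (ws := [nat_lit 0x19170f120c07010114]) (by decide +kernel)

theorem ht_c13_le : grp 100 ht_c13_K ≤ (grp 100 h_E0) :=
  (h_le151.trans h_T58_s0.le)

theorem ht_c13_mem : Net.toPerm 100 h_g150 ∈ (grp 100 h_E0) :=
  ht_c13_le (toPerm_mem_grp (E := ht_c13_K) (List.Mem.head _))

theorem ht_c13_sym : Sym 100 (grp 100 h_E0) [h_g150] ht_c13_K 0 :=
  Sym.of_lab h_hn h_hk (okE_cons.2 ⟨h_g150_ok, okE_nil _⟩) ht_c13_K_ok ht_c13_le (kT := 0) (by decide +kernel)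

noncomputable def ht_c13_cnt_L : List ℕ := [1, 2, h_T58_s1_O, 0, 0, 2, 6, h_T58_s2_O, 0, 0, 3, 39, h_T58_s16_O, 0, 0, 4, 11, h_T58_s17_O, 1, 0]

theorem ht_c13_cnt_P : Prob 100 7 (grp 100 h_E0) ht_c13_cnt_EG [h_g150] [h_g150] ht_c13_K ht_c13_cnt_L 0 0 :=
  Sym.prob h_hn h_hk ht_c13_sym ht_c13_cnt_EG_ok (grp_cons_le h_g1_h_T58 (grp_cons_le h_a19_h_T58 (grp_cons_le h_a27_h_T58 (grp_cons_le h_g7_h_T58 (grp_cons_le h_a0_h_T58 (grp_cons_le h_g4_h_T58 (grp_cons_le h_a8_h_T58 (grp_cons_le h_g14_h_T58 (grp_cons_le h_g10_h_T58 (grp_cons_le h_g11_h_T58 (grp_cons_le h_g21_h_T58 (grp_cons_le h_g22_h_T58 (grp_cons_le h_g17_h_T58 (grp_cons_le h_g18_h_T58 (grp_cons_le h_g67_h_T58 (grp_cons_le h_g68_h_T58 (grp_cons_le h_g69_h_T58 (grp_cons_le h_g70_h_T58 (grp_cons_le h_g119_h_T58 (grp_nil_le _)))))))))))))))))))) (Frames.cons h_T58_s1_F (Frames.cons h_T58_s2_F (Frames.cons h_T58_s16_F (Frames.cons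 h_T58_s17_F Frames.nil)))) (okE_cons.2 ⟨h_g150_ok, okE_nil _⟩) _

noncomputable def ht_c13_cnt_t : BT := (BT.fix (nat_lit 1) (BT.br (nat_lit 0) (nat_lit 59) [] (BT.dead (nat_lit 75) (BT.frm (nat_lit 0) (nat_lit 525) (nat_lit 131861) [nat_lit 0] (BT.pln (nat_lit 0) (nat_lit 1) (BT.dif (nat_lit 6) (nat_lit 0) (BT.dif (nat_lit 4) (nat_lit 3) (BT.frm (nat_lit 1) (nat_lit 0xd11020d) (nat_lit 0x7070d020315) [nat_lit 0, nat_lit 4] (BT.pln (nat_lit 0) (nat_lit 3) (BT.dif (nat_lit 3) (nat_lit 0) (BT.fix (nat_lit 257) (BT.dif (nat_lit 1) (nat_lit 0) (BT.br (nat_lit 0) (nat_lit 1) [nat_lit 1] (BT.dead (nat_lit 1) (BT.frm (nat_lit 2) (nat_lit 0x231e0d11020d) (nat_lit 0x1d231e07070d020315) [nat_lit 0, nat_lit 6, nat_lit 10] (BT.pln (nat_lit 0) (nat_lit 20) (BT.img (nat_lit 1) (nat_lit 2) (BT.img (nat_lit 1) (nat_lit 0) (BT.img (nat_lit 1) (nat_lit 0) (BT.and (nat_lit 3) (nat_lit 0) (BT.cnt (nat_lit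 0)))))))) (BT.dead (nat_lit 11) (BT.frm (nat_lit 2) (nat_lit 0x231e0d11020d) (nat_lit 0x1d1d07070d020315) [nat_lit 0, nat_lit 6, nat_lit 10] (BT.pln (nat_lit 0) (nat_lit 20) (BT.img (nat_lit 1) (nat_lit 2) (BT.img (nat_lit 1) (nat_lit 0) (BT.img (nat_lit 1) (nat_lit 0) (BT.img (nat_lit 1) (nat_lit 0) (BT.img (nat_lit 1) (nat_lit 0) (BT.and (nat_lit 5) (nat_lit 0) (BT.cnt (nat_lit 0)))))))))) (BT.dead (nat_lit 4) (BT.frm (nat_lit 2) (nat_lit 0x231e0d11020d) (nat_lit 0x1e2307070d020315) [nat_lit 0, nat_lit 6, nat_lit 10] (BT.pln (nat_lit 0) (nat_lit 20) (BT.img (nat_lit 1) (nat_lit 2) (BT.img (nat_lit 1) (nat_lit 0) (BT.img (nat_lit 1) (nat_lit 0) (BT.img (nat_lit 1) (nat_lit 0) (BT.img (nat_lit 1) (nat_lit 0) (BT.and (nat_lit 5) (nat_lit 0) (BT.cnt (nat_lit 0)))))))))) (BT.dead (nat_lit 8) (BT.frm (nat_lit 2) (nat_lit 0x231e0d11020d) (nat_lit 0x1d07070d020315) [nat_lit 0, nat_lit 6, nat_lit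 10] (BT.pln (nat_lit 0) (nat_lit 20) (BT.img (nat_lit 1) (nat_lit 2) (BT.img (nat_lit 1) (nat_lit 0) (BT.img (nat_lit 1) (nat_lit 0) (BT.img (nat_lit 1) (nat_lit 0) (BT.img (nat_lit 1) (nat_lit 0) (BT.and (nat_lit 5) (nat_lit 0) (BT.cnt (nat_lit 0)))))))))) BT.nil)))))))))))))) (BT.kid (nat_lit 59) (nat_lit 8) (BT.frm (nat_lit 0) (nat_lit 525) (nat_lit 525) [nat_lit 0] (BT.pln (nat_lit 0) (nat_lit 1) (BT.dif (nat_lit 6) (nat_lit 0) (BT.dif (nat_lit 4) (nat_lit 3) (BT.frm (nat_lit 1) (nat_lit 0xd11020d) (nat_lit 0xd11020d) [nat_lit 0, nat_lit 4] (BT.pln (nat_lit 0) (nat_lit 3) (BT.dif (nat_lit 3) (nat_lit 0) (BT.fix (nat_lit 257) (BT.dif (nat_lit 1) (nat_lit 0) (BT.br (nat_lit 0) (nat_lit 1) [nat_lit 1] (BT.dead (nat_lit 4) (BT.frm (nat_lit 2) (nat_lit 0x231e0d11020d) (nat_lit 0x1d231e0d11020d) [nat_lit 0, nat_lit 6, nat_lit 10] (BT.pln (nat_lit 0) (nat_lit 20) (BT.img (nat_lit 1) (nat_lit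 2) (BT.img (nat_lit 1) (nat_lit 0) (BT.img (nat_lit 1) (nat_lit 0) (BT.img (nat_lit 1) (nat_lit 0) (BT.img (nat_lit 1) (nat_lit 0) (BT.and (nat_lit 5) (nat_lit 0) (BT.cnt (nat_lit 0)))))))))) (BT.dead (nat_lit 11) (BT.frm (nat_lit 2) (nat_lit 0x231e0d11020d) (nat_lit 0x1e200d11020d) [nat_lit 0, nat_lit 6, nat_lit 10] (BT.pln (nat_lit 0) (nat_lit 20) (BT.img (nat_lit 1) (nat_lit 2) (BT.img (nat_lit 1) (nat_lit 0) (BT.img (nat_lit 1) (nat_lit 0) (BT.img (nat_lit 1) (nat_lit 0) (BT.img (nat_lit 1) (nat_lit 0) (BT.and (nat_lit 5) (nat_lit 0) (BT.cnt (nat_lit 0)))))))))) (BT.dead (nat_lit 8) (BT.frm (nat_lit 2) (nat_lit 0x231e0d11020d) (nat_lit 0x1e210d11020d) [nat_lit 0, nat_lit 6, nat_lit 10] (BT.pln (nat_lit 0) (nat_lit 20) (BT.img (nat_lit 1) (nat_lit 2) (BT.and (nat_lit 1) (nat_lit 0) (BT.cnt (nat_lit 0)))))) (BT.kid (nat_lit 1) (nat_lit 1) (BT.img (nat_lit 1) (nat_lit 0) (BT.img (nat_lit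 1) (nat_lit 0) (BT.img (nat_lit 1) (nat_lit 0) (BT.img (nat_lit 1) (nat_lit 0) (BT.img (nat_lit 1) (nat_lit 0) (BT.img (nat_lit 1) (nat_lit 0) (BT.img (nat_lit 1) (nat_lit 0) (BT.one (nat_lit 3) (nat_lit 0x231e0d11020d) (nat_lit 0x231e0d11020d) [nat_lit 0, nat_lit 7, nat_lit 13, nat_lit 17])))))))) BT.nil)))))))))))))) BT.nil))))

theorem ht_c13_cnt : Cnt 100 (grp 100 h_E0) [h_g150] [h_g150] 0 0 0 0 8 :=
  BT.sound ht_c13_cnt_P Known.nil (t := ht_c13_cnt_t) (d := 0) (by decide +kernel)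

theorem ht_c13_ge : 8 ≤ Nat.card (grp 100 ht_c13_K) :=
  Ch.le_card_grp (k := 7) (L := (lab 100 7)) h_hn ht_c13_K_ok (c := (Ch.cons (nat_lit 1) [nat_lit 1] Ch.nil)) (by decide +kernel)

theorem ht_c13_eq : (grp 100 h_E0) ⊓ Subgroup.centralizer {Net.toPerm 100 h_g150} = grp 100 ht_c13_K :=
  cent_eq ht_c13_sym ht_c13_cnt ht_c13_ge

theorem ht_c13_card : Nat.card ↥((grp 100 h_E0) ⊓ Subgroup.centralizer {Net.toPerm 100 h_g150}) = 8 :=
  card_cent ht_c13_sym ht_c13_cnt ht_c13_ge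

theorem ht_c13_ord : orderOf (Net.toPerm 100 h_g150) = 8 :=
  orderOf_net h_hn h_hk h_g150_ok (by decide) (ps := [2]) (by set_option linter.unusedSimpArgs false in simp [Nat.primeFactorsList_ofNat]) (by decide +kernel)

theorem h_le154 : grp 100 ht_c14_K ≤ grp 100 h_E0 :=
  grp_le_of_memB h_hn h_hk h_E0_ok ht_c14_K_ok (ws := [nat_lit 0x1007100516, nat_lit 0x151a0f120d120316]) (by decide +kernel)

theorem ht_c14_le : grp 100 ht_c14_K ≤ (grp 100 h_E0) :=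
  (h_le154.trans h_T58_s0.le)

theorem ht_c14_mem : Net.toPerm 100 h_g152 ∈ (grp 100 h_E0) :=
  ht_c14_le (toPerm_mem_grp (E := ht_c14_K) (List.Mem.head _))

theorem ht_c14_sym : Sym 100 (grp 100 h_E0) [h_g152] ht_c14_K 0 :=
  Sym.of_lab h_hn h_hk (okE_cons.2 ⟨h_g152_ok, okE_nil _⟩) ht_c14_K_ok ht_c14_le (kT := 0) (by decide +kernel)

noncomputable def ht_c14_cnt_L : List ℕ := [1, 2, h_T58_s1_O, 0, 0, 4, 11, h_T58_s17_O, 1, 0]

theorem ht_c14_cnt_P : Prob 100 7 (grp 100 h_E0) ht_c14_cnt_EG [h_g152] [h_g152] ht_c14_K ht_c14_cnt_L 0 0 :=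
  Sym.prob h_hn h_hk ht_c14_sym ht_c14_cnt_EG_ok (grp_cons_le h_g1_h_T58 (grp_cons_le h_a19_h_T58 (grp_cons_le h_a27_h_T58 (grp_cons_le h_g7_h_T58 (grp_cons_le h_a0_h_T58 (grp_cons_le h_g4_h_T58 (grp_cons_le h_a8_h_T58 (grp_cons_le h_g14_h_T58 (grp_cons_le h_g10_h_T58 (grp_cons_le h_g11_h_T58 (grp_cons_le h_g21_h_T58 (grp_cons_le h_g22_h_T58 (grp_cons_le h_g17_h_T58 (grp_cons_le h_g18_h_T58 (grp_cons_le h_g119_h_T58 (grp_cons_le h_g67_h_T58 (grp_cons_le h_g68_h_T58 (grp_cons_le h_g69_h_T58 (grp_cons_le h_g70_h_T58 (grp_nil_le _)))))))))))))))))))) (Frames.cons h_T58_s1_F (Frames.cons h_T58_s17_F Frames.nil)) (okE_cons.2 ⟨h_g152_ok, okE_nil _⟩) _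

noncomputable def ht_c14_cnt_t : BT := (BT.br (nat_lit 2) (nat_lit 0) [nat_lit 1, nat_lit 3] (BT.dead (nat_lit 2) (BT.frm (nat_lit 0) (nat_lit 0) (nat_lit 68354) [nat_lit 0] (BT.pln (nat_lit 0) (nat_lit 1) (BT.img (nat_lit 1) (nat_lit 2) (BT.img (nat_lit 1) (nat_lit 0) (BT.img (nat_lit 1) (nat_lit 0) (BT.and (nat_lit 3) (nat_lit 0) (BT.cnt (nat_lit 0)))))))) (BT.dead (nat_lit 3) (BT.frm (nat_lit 0) (nat_lit 0) (nat_lit 67345) [nat_lit 0] (BT.pln (nat_lit 0) (nat_lit 1) (BT.img (nat_lit 1) (nat_lit 2) (BT.and (nat_lit 1) (nat_lit 0) (BT.cnt (nat_lit 0)))))) (BT.dead (nat_lit 5) (BT.frm (nat_lit 0) (nat_lit 0) (nat_lit 535) [nat_lit 0] (BT.pln (nat_lit 0) (nat_lit 1) (BT.img (nat_lit 1) (nat_lit 2) (BT.img (nat_lit 1) (nat_lit 0) (BT.img (nat_lit 1) (nat_lit 0) (BT.and (nat_lit 3) (nat_lit 0) (BT.cnt (nat_lit 0)))))))) (BT.dead (nat_lit 1) (BT.frm (nat_lit 0) (nat_lit 0) (nat_lit 3) [nat_lit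 0] (BT.pln (nat_lit 0) (nat_lit 1) (BT.img (nat_lit 1) (nat_lit 2) (BT.and (nat_lit 1) (nat_lit 0) (BT.cnt (nat_lit 0)))))) (BT.kid (nat_lit 0) (nat_lit 1) (BT.frm (nat_lit 0) (nat_lit 0) (nat_lit 0) [nat_lit 0] (BT.pln (nat_lit 0) (nat_lit 1) (BT.dif (nat_lit 5) (nat_lit 0) (BT.img (nat_lit 1) (nat_lit 1) (BT.dif (nat_lit 1) (nat_lit 0) (BT.dif (nat_lit 1) (nat_lit 3) (BT.and (nat_lit 4) (nat_lit 2) (BT.dif (nat_lit 5) (nat_lit 3) (BT.img (nat_lit 1) (nat_lit 2) (BT.and (nat_lit 1) (nat_lit 0) (BT.img (nat_lit 1) (nat_lit 0) (BT.and (nat_lit 4) (nat_lit 0) (BT.img (nat_lit 1) (nat_lit 0) (BT.and (nat_lit 7) (nat_lit 0) (BT.img (nat_lit 1) (nat_lit 0) (BT.and (nat_lit 10) (nat_lit 0) (BT.img (nat_lit 1) (nat_lit 0) (BT.and (nat_lit 12) (nat_lit 0) (BT.img (nat_lit 1) (nat_lit 0) (BT.and (nat_lit 14) (nat_lit 0) (BT.img (nat_lit 1) (nat_lit 0) (BT.and (nat_lit 16) (nat_lit 0) (BT.br (nat_lit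 0) (nat_lit 56) [] (BT.dead (nat_lit 88) (BT.img (nat_lit 1) (nat_lit 23) (BT.img (nat_lit 1) (nat_lit 0) (BT.frm (nat_lit 1) (nat_lit 0x1d230918) (nat_lit 0x230918) [nat_lit 2, nat_lit 0, nat_lit 1, nat_lit 25] (BT.pln (nat_lit 0) (nat_lit 4) (BT.img (nat_lit 1) (nat_lit 4) (BT.img (nat_lit 1) (nat_lit 0) (BT.img (nat_lit 1) (nat_lit 0) (BT.img (nat_lit 1) (nat_lit 0) (BT.img (nat_lit 1) (nat_lit 0) (BT.and (nat_lit 5) (nat_lit 0) (BT.cnt (nat_lit 0)))))))))))) (BT.dead (nat_lit 95) (BT.img (nat_lit 1) (nat_lit 23) (BT.img (nat_lit 1) (nat_lit 0) (BT.frm (nat_lit 1) (nat_lit 0x1d230918) (nat_lit 0x1e230918) [nat_lit 2, nat_lit 0, nat_lit 1, nat_lit 25] (BT.pln (nat_lit 0) (nat_lit 4) (BT.img (nat_lit 1) (nat_lit 4) (BT.and (nat_lit 1) (nat_lit 0) (BT.cnt (nat_lit 0)))))))) (BT.kid (nat_lit 56) (nat_lit 1) (BT.img (nat_lit 1) (nat_lit 23) (BT.img (nat_lit 1) (nat_lit 0) (BT.one (nat_lit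 1) (nat_lit 0x1d230918) (nat_lit 0x1d230918) [nat_lit 2, nat_lit 0, nat_lit 1, nat_lit 25]))) BT.nil)))))))))))))))))))))))))) BT.nil))))))

theorem ht_c14_cnt : Cnt 100 (grp 100 h_E0) [h_g152] [h_g152] 0 0 0 0 20 :=
  BT.sound ht_c14_cnt_P Known.nil (t := ht_c14_cnt_t) (d := 0) (by decide +kernel)

theorem ht_c14_ge : 20 ≤ Nat.card (grp 100 ht_c14_K) :=
  Ch.le_card_grp (k := 7) (L := (lab 100 7)) h_hn ht_c14_K_ok (c := (Ch.cons (nat_lit 0) [nat_lit 1, nat_lit 3] Ch.nil)) (by decide +kernel)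

theorem ht_c14_eq : (grp 100 h_E0) ⊓ Subgroup.centralizer {Net.toPerm 100 h_g152} = grp 100 ht_c14_K :=
  cent_eq ht_c14_sym ht_c14_cnt ht_c14_ge

theorem ht_c14_card : Nat.card ↥((grp 100 h_E0) ⊓ Subgroup.centralizer {Net.toPerm 100 h_g152}) = 20 :=
  card_cent ht_c14_sym ht_c14_cnt ht_c14_ge

theorem ht_c14_ord : orderOf (Net.toPerm 100 h_g152) = 10 :=
  orderOf_net h_hn h_hk h_g152_ok (by decide) (ps := [2, 5]) (by set_option linter.unusedSimpArgs false in simp [Nat.primeFactorsList_ofNat]) (by decide +kernel)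

theorem h_le157 : grp 100 ht_c15_K ≤ grp 100 h_E0 :=
  grp_le_of_memB h_hn h_hk h_E0_ok ht_c15_K_ok (ws := [nat_lit 0x19190f0c02030f, nat_lit 0x1917100711010d12]) (by decide +kernel)

theorem ht_c15_le : grp 100 ht_c15_K ≤ (grp 100 h_E0) :=
  (h_le157.trans h_T58_s0.le)

theorem ht_c15_mem : Net.toPerm 100 h_g155 ∈ (grp 100 h_E0) :=
  ht_c15_le (toPerm_mem_grp (E := ht_c15_K) (List.Mem.head _))

theorem ht_c15_sym : Sym 100 (grp 100 h_E0) [h_g155] ht_c15_K 0 :=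
  Sym.of_lab h_hn h_hk (okE_cons.2 ⟨h_g155_ok, okE_nil _⟩) ht_c15_K_ok ht_c15_le (kT := 0) (by decide +kernel)

noncomputable def ht_c15_cnt_L : List ℕ := [1, 2, h_T58_s1_O, 0, 0, 2, 6, h_T58_s2_O, 0, 0, 4, 11, h_T58_s17_O, 1, 0]

theorem ht_c15_cnt_P : Prob 100 7 (grp 100 h_E0) ht_c15_cnt_EG [h_g155] [h_g155] ht_c15_K ht_c15_cnt_L 0 0 :=
  Sym.prob h_hn h_hk ht_c15_sym ht_c15_cnt_EG_ok (grp_cons_le h_g1_h_T58 (grp_cons_le h_a19_h_T58 (grp_cons_le h_a27_h_T58 (grp_cons_le h_g7_h_T58 (grp_cons_le h_a0_h_T58 (grp_cons_le h_g4_h_T58 (grp_cons_le h_a8_h_T58 (grp_cons_le h_g14_h_T58 (grp_cons_le h_g10_h_T58 (grp_cons_le h_g11_h_T58 (grp_cons_le h_g21_h_T58 (grp_cons_le h_g22_h_T58 (grp_cons_le h_g17_h_T58 (grp_cons_le h_g18_h_T58 (grp_cons_le h_g119_h_T58 (grp_cons_le h_g67_h_T58 (grp_cons_le h_g68_h_T58 (grp_cons_le h_g69_h_T58 (grp_cons_le h_g70_h_T58 (grp_nil_le _)))))))))))))))))))) (Frames.cons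 h_T58_s1_F (Frames.cons h_T58_s2_F (Frames.cons h_T58_s17_F Frames.nil))) (okE_cons.2 ⟨h_g155_ok, okE_nil _⟩) _

noncomputable def ht_c15_cnt_t : BT := (BT.br (nat_lit 2) (nat_lit 0) [nat_lit 1, nat_lit 3] (BT.dead (nat_lit 3) (BT.frm (nat_lit 0) (nat_lit 0) (nat_lit 67345) [nat_lit 0] (BT.pln (nat_lit 0) (nat_lit 1) (BT.img (nat_lit 1) (nat_lit 2) (BT.img (nat_lit 1) (nat_lit 0) (BT.img (nat_lit 1) (nat_lit 0) (BT.and (nat_lit 3) (nat_lit 0) (BT.cnt (nat_lit 0)))))))) (BT.dead (nat_lit 2) (BT.frm (nat_lit 0) (nat_lit 0) (nat_lit 68354) [nat_lit 0] (BT.pln (nat_lit 0) (nat_lit 1) (BT.img (nat_lit 1) (nat_lit 2) (BT.and (nat_lit 1) (nat_lit 0) (BT.cnt (nat_lit 0)))))) (BT.dead (nat_lit 5) (BT.frm (nat_lit 0) (nat_lit 0) (nat_lit 535) [nat_lit 0] (BT.pln (nat_lit 0) (nat_lit 1) (BT.img (nat_lit 1) (nat_lit 2) (BT.and (nat_lit 1) (nat_lit 0) (BT.cnt (nat_lit 0)))))) (BT.dead (nat_lit 1)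 (BT.frm (nat_lit 0) (nat_lit 0) (nat_lit 3) [nat_lit 0] (BT.pln (nat_lit 0) (nat_lit 1) (BT.img (nat_lit 1) (nat_lit 2) (BT.img (nat_lit 1) (nat_lit 0) (BT.img (nat_lit 1) (nat_lit 0) (BT.and (nat_lit 3) (nat_lit 0) (BT.cnt (nat_lit 0)))))))) (BT.kid (nat_lit 0) (nat_lit 1) (BT.frm (nat_lit 0) (nat_lit 0) (nat_lit 0) [nat_lit 0] (BT.pln (nat_lit 0) (nat_lit 1) (BT.dif (nat_lit 5) (nat_lit 0) (BT.img (nat_lit 1) (nat_lit 1) (BT.dif (nat_lit 1) (nat_lit 0) (BT.img (nat_lit 1) (nat_lit 5) (BT.frm (nat_lit 1) (nat_lit 2074) (nat_lit 2074) [nat_lit 0, nat_lit 6] (BT.pln (nat_lit 0) (nat_lit 5) (BT.dif (nat_lit 3) (nat_lit 0) (BT.dif (nat_lit 0) (nat_lit 9) (BT.and (nat_lit 8) (nat_lit 6) (BT.img (nat_lit 1) (nat_lit 0) (BT.dif (nat_lit 0) (nat_lit 10) (BT.and (nat_lit 11) (nat_lit 1) (BT.img (nat_lit 1) (nat_lit 0) (BT.dif (nat_lit 2) (nat_lit 0) (BT.img (nat_lit 1) (nat_lit 0) (BT.and (nat_lit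 12) (nat_lit 0) (BT.img (nat_lit 1) (nat_lit 0) (BT.and (nat_lit 9) (nat_lit 0) (BT.br (nat_lit 0) (nat_lit 68) [] (BT.dead (nat_lit 77) (BT.img (nat_lit 1) (nat_lit 15) (BT.frm (nat_lit 2) (nat_lit 0x2024081a) (nat_lit 0x1e2024081a) [nat_lit 1, nat_lit 0, nat_lit 16, nat_lit 22] (BT.pln (nat_lit 0) (nat_lit 4) (BT.img (nat_lit 1) (nat_lit 3) (BT.img (nat_lit 1) (nat_lit 0) (BT.img (nat_lit 1) (nat_lit 0) (BT.img (nat_lit 1) (nat_lit 0) (BT.img (nat_lit 1) (nat_lit 0) (BT.and (nat_lit 5) (nat_lit 0) (BT.cnt (nat_lit 0))))))))))) (BT.dead (nat_lit 20) (BT.img (nat_lit 1) (nat_lit 15) (BT.frm (nat_lit 2) (nat_lit 0x2024081a) (nat_lit 0x1d2024081a) [nat_lit 1, nat_lit 0, nat_lit 16, nat_lit 22] (BT.pln (nat_lit 0) (nat_lit 4) (BT.img (nat_lit 1) (nat_lit 3) (BT.and (nat_lit 1) (nat_lit 0) (BT.cnt (nat_lit 0))))))) (BT.kid (nat_lit 68) (nat_lit 1) (BT.img (nat_lit 1) (nat_lit 15) (BT.one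 (nat_lit 2) (nat_lit 0x2024081a) (nat_lit 0x2024081a) [nat_lit 1, nat_lit 0, nat_lit 16, nat_lit 22])) BT.nil)))))))))))))))))))))))) BT.nil))))))

theorem ht_c15_cnt : Cnt 100 (grp 100 h_E0) [h_g155] [h_g155] 0 0 0 0 20 :=
  BT.sound ht_c15_cnt_P Known.nil (t := ht_c15_cnt_t) (d := 0) (by decide +kernel)

theorem ht_c15_ge : 20 ≤ Nat.card (grp 100 ht_c15_K) :=
  Ch.le_card_grp (k := 7) (L := (lab 100 7)) h_hn ht_c15_K_ok (c := (Ch.cons (nat_lit 0) [nat_lit 1, nat_lit 3] Ch.nil)) (by decide +kernel)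

theorem ht_c15_eq : (grp 100 h_E0) ⊓ Subgroup.centralizer {Net.toPerm 100 h_g155} = grp 100 ht_c15_K :=
  cent_eq ht_c15_sym ht_c15_cnt ht_c15_ge

theorem ht_c15_card : Nat.card ↥((grp 100 h_E0) ⊓ Subgroup.centralizer {Net.toPerm 100 h_g155}) = 20 :=
  card_cent ht_c15_sym ht_c15_cnt ht_c15_ge

theorem ht_c15_ord : orderOf (Net.toPerm 100 h_g155) = 10 :=
  orderOf_net h_hn h_hk h_g155_ok (by decide) (ps := [2, 5]) (by set_option linter.unusedSimpArgs false in simp [Nat.primeFactorsList_ofNat]) (by decide +kernel)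

theorem h_le159 : grp 100 ht_c16_K ≤ grp 100 h_E0 :=
  grp_le_of_memB h_hn h_hk h_E0_ok ht_c16_K_ok (ws := [nat_lit 0x181912080318, nat_lit 3]) (by decide +kernel)

theorem ht_c16_le : grp 100 ht_c16_K ≤ (grp 100 h_E0) :=
  (h_le159.trans h_T58_s0.le)

theorem ht_c16_mem : Net.toPerm 100 h_g158 ∈ (grp 100 h_E0) :=
  ht_c16_le (toPerm_mem_grp (E := ht_c16_K) (List.Mem.head _))

theorem ht_c16_sym : Sym 100 (grp 100 h_E0) [h_g158] ht_c16_K 0 :=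
  Sym.of_lab h_hn h_hk (okE_cons.2 ⟨h_g158_ok, okE_nil _⟩) ht_c16_K_ok ht_c16_le (kT := 0) (by decide +kernel)

noncomputable def ht_c16_cnt_L : List ℕ := [1, 2, h_T58_s1_O, 0, 0, 2, 6, h_T58_s10_O, 0, 0, 3, 14, h_T58_s11_O, 0, 0, 6, 13, h_T58_s20_O, 1, 0]

theorem ht_c16_cnt_P : Prob 100 7 (grp 100 h_E0) ht_c16_cnt_EG [h_g158] [h_g158] ht_c16_K ht_c16_cnt_L 0 0 :=
  Sym.prob h_hn h_hk ht_c16_sym ht_c16_cnt_EG_ok (grp_cons_le h_g1_h_T58 (grp_cons_le h_a19_h_T58 (grp_cons_le h_a27_h_T58 (grp_cons_le h_g7_h_T58 (grp_cons_le h_a0_h_T58 (grp_cons_le h_g4_h_T58 (grp_cons_le h_a8_h_T58 (grp_cons_le h_g14_h_T58 (grp_cons_le h_g10_h_T58 (grp_cons_le h_g11_h_T58 (grp_cons_le h_g21_h_T58 (grp_cons_le h_g22_h_T58 (grp_cons_le h_g17_h_T58 (grp_cons_le h_g18_h_T58 (grp_cons_le h_g131_h_T58 (grp_cons_le h_g130_h_T58 (grp_nil_le _))))))))))))))))) (Frames.cons h_T58_s1_F (Frames.cons h_T58_s10_F (Frames.cons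 h_T58_s11_F (Frames.cons h_T58_s20_F Frames.nil)))) (okE_cons.2 ⟨h_g158_ok, okE_nil _⟩) _

noncomputable def ht_c16_cnt_t : BT := (BT.fix (nat_lit 0x101010101) (BT.br (nat_lit 0) (nat_lit 14) [nat_lit 1] (BT.dead (nat_lit 15) (BT.img (nat_lit 1) (nat_lit 0) (BT.img (nat_lit 1) (nat_lit 0) (BT.frm (nat_lit 1) (nat_lit 0x70d12010801) (nat_lit 0x709020d01) [nat_lit 0, nat_lit 2] (BT.pln (nat_lit 0) (nat_lit 4) (BT.frm (nat_lit 0) (nat_lit 67585) (nat_lit 134401) [nat_lit 4] (BT.pln (nat_lit 0) (nat_lit 1) (BT.dif (nat_lit 7) (nat_lit 0) (BT.dif (nat_lit 0) (nat_lit 7) (BT.dif (nat_lit 0) (nat_lit 7) (BT.img (nat_lit 1) (nat_lit 7) (BT.img (nat_lit 1) (nat_lit 0) (BT.dif (nat_lit 2) (nat_lit 0) (BT.img (nat_lit 1) (nat_lit 0) (BT.and (nat_lit 9) (nat_lit 0) (BT.frm (nat_lit 2) (nat_lit 0x11070d12010801) (nat_lit 0xf0709020d01) [nat_lit 0, nat_lit 12, nat_lit 14] (BT.pln (nat_lit 0) (nat_lit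 5) (BT.dif (nat_lit 10) (nat_lit 17) (BT.img (nat_lit 1) (nat_lit 0) (BT.and (nat_lit 12) (nat_lit 0) (BT.img (nat_lit 1) (nat_lit 0) (BT.img (nat_lit 1) (nat_lit 0) (BT.dif (nat_lit 0) (nat_lit 15) (BT.img (nat_lit 1) (nat_lit 0) (BT.and (nat_lit 7) (nat_lit 0) (BT.cnt (nat_lit 0)))))))))))))))))))))))))) (BT.dead (nat_lit 18) (BT.frm (nat_lit 0) (nat_lit 67585) (nat_lit 66837) [nat_lit 0] (BT.pln (nat_lit 0) (nat_lit 1) (BT.img (nat_lit 1) (nat_lit 2) (BT.and (nat_lit 1) (nat_lit 0) (BT.cnt (nat_lit 0)))))) (BT.dead (nat_lit 17) (BT.frm (nat_lit 0) (nat_lit 67585) (nat_lit 1) [nat_lit 0] (BT.pln (nat_lit 0) (nat_lit 1) (BT.img (nat_lit 1) (nat_lit 2) (BT.and (nat_lit 1) (nat_lit 0) (BT.cnt (nat_lit 0)))))) (BT.kid (nat_lit 14) (nat_lit 2) (BT.img (nat_lit 1) (nat_lit 0) (BT.img (nat_lit 1) (nat_lit 0) (BT.frm (nat_lit 1) (nat_lit 0x70d12010801) (nat_lit 0x70d12010801) [nat_lit 0, nat_lit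 2] (BT.pln (nat_lit 0) (nat_lit 5) (BT.dif (nat_lit 0) (nat_lit 5) (BT.frm (nat_lit 0) (nat_lit 67585) (nat_lit 67585) [nat_lit 5] (BT.pln (nat_lit 0) (nat_lit 1) (BT.dif (nat_lit 11) (nat_lit 0) (BT.dif (nat_lit 1) (nat_lit 9) (BT.img (nat_lit 1) (nat_lit 0) (BT.and (nat_lit 2) (nat_lit 0) (BT.and (nat_lit 4) (nat_lit 1) (BT.img (nat_lit 1) (nat_lit 0) (BT.img (nat_lit 1) (nat_lit 0) (BT.and (nat_lit 7) (nat_lit 0) (BT.img (nat_lit 1) (nat_lit 0) (BT.and (nat_lit 5) (nat_lit 0) (BT.img (nat_lit 1) (nat_lit 0) (BT.dif (nat_lit 13) (nat_lit 0) (BT.br (nat_lit 0) (nat_lit 79) [nat_lit 3] (BT.kid (nat_lit 79) (nat_lit 1) (BT.dif (nat_lit 16) (nat_lit 0) (BT.and (nat_lit 0) (nat_lit 22) (BT.dif (nat_lit 23) (nat_lit 15) (BT.dif (nat_lit 0) (nat_lit 23) (BT.dif (nat_lit 0) (nat_lit 23) (BT.img (nat_lit 1) (nat_lit 23) (BT.img (nat_lit 1) (nat_lit 0) (BT.dif (nat_lit 2) (nat_lit 0) (BT.img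 (nat_lit 1) (nat_lit 0) (BT.dif (nat_lit 7) (nat_lit 0) (BT.pln (nat_lit 27) (nat_lit 4) (BT.and (nat_lit 0) (nat_lit 32) (BT.dif (nat_lit 0) (nat_lit 3) (BT.and (nat_lit 26) (nat_lit 34) (BT.pln (nat_lit 31) (nat_lit 3) (BT.and (nat_lit 1) (nat_lit 0) (BT.dif (nat_lit 0) (nat_lit 10) (BT.and (nat_lit 6) (nat_lit 8) (BT.img (nat_lit 1) (nat_lit 0) (BT.and (nat_lit 2) (nat_lit 0) (BT.img (nat_lit 1) (nat_lit 0) (BT.and (nat_lit 8) (nat_lit 0) (BT.img (nat_lit 1) (nat_lit 0) (BT.and (nat_lit 13) (nat_lit 0) (BT.one (nat_lit 3) (nat_lit 0x1d1f1911070d12010801) (nat_lit 0x1d1f1911070d12010801) [nat_lit 24, nat_lit 0, nat_lit 17, nat_lit 6, nat_lit 42, nat_lit 44]))))))))))))))))))))))))) BT.nil))))))))))))))))))))) BT.nil))))))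

theorem ht_c16_cnt : Cnt 100 (grp 100 h_E0) [h_g158] [h_g158] 0 0 0 0 10 :=
  BT.sound ht_c16_cnt_P Known.nil (t := ht_c16_cnt_t) (d := 0) (by decide +kernel)

theorem ht_c16_ge : 10 ≤ Nat.card (grp 100 ht_c16_K) :=
  Ch.le_card_grp (k := 7) (L := (lab 100 7)) h_hn ht_c16_K_ok (c := (Ch.cons (nat_lit 14) [nat_lit 1] (Ch.cons (nat_lit 79) [nat_lit 3] Ch.nil))) (by decide +kernel)

theorem ht_c16_eq : (grp 100 h_E0) ⊓ Subgroup.centralizer {Net.toPerm 100 h_g158} = grp 100 ht_c16_K :=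
  cent_eq ht_c16_sym ht_c16_cnt ht_c16_ge

theorem ht_c16_card : Nat.card ↥((grp 100 h_E0) ⊓ Subgroup.centralizer {Net.toPerm 100 h_g158}) = 10 :=
  card_cent ht_c16_sym ht_c16_cnt ht_c16_ge

theorem ht_c16_ord : orderOf (Net.toPerm 100 h_g158) = 10 :=
  orderOf_net h_hn h_hk h_g158_ok (by decide) (ps := [2, 5]) (by set_option linter.unusedSimpArgs false in simp [Nat.primeFactorsList_ofNat]) (by decide +kernel)

theorem h_le161 : grp 100 ht_c17_K ≤ grp 100 h_E0 :=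
  grp_le_of_memB h_hn h_hk h_E0_ok ht_c17_K_ok (ws := [nat_lit 0x16180f0c0f020f, nat_lit 3]) (by decide +kernel)

theorem ht_c17_le : grp 100 ht_c17_K ≤ (grp 100 h_E0) :=
  (h_le161.trans h_T58_s0.le)

theorem ht_c17_mem : Net.toPerm 100 h_g160 ∈ (grp 100 h_E0) :=
  ht_c17_le (toPerm_mem_grp (E := ht_c17_K) (List.Mem.head _))

theorem ht_c17_sym : Sym 100 (grp 100 h_E0) [h_g160] ht_c17_K 0 :=
  Sym.of_lab h_hn h_hk (okE_cons.2 ⟨h_g160_ok, okE_nil _⟩) ht_c17_K_ok ht_c17_le (kT := 0) (by decide +kernel)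

noncomputable def ht_c17_cnt_L : List ℕ := [1, 2, h_T58_s1_O, 0, 0, 2, 6, h_T58_s10_O, 0, 0, 3, 14, h_T58_s11_O, 0, 0, 6, 13, h_T58_s20_O, 1, 0]

theorem ht_c17_cnt_P : Prob 100 7 (grp 100 h_E0) ht_c17_cnt_EG [h_g160] [h_g160] ht_c17_K ht_c17_cnt_L 0 0 :=
  Sym.prob h_hn h_hk ht_c17_sym ht_c17_cnt_EG_ok (grp_cons_le h_g1_h_T58 (grp_cons_le h_a19_h_T58 (grp_cons_le h_a27_h_T58 (grp_cons_le h_g7_h_T58 (grp_cons_le h_a0_h_T58 (grp_cons_le h_g4_h_T58 (grp_cons_le h_a8_h_T58 (grp_cons_le h_g14_h_T58 (grp_cons_le h_g10_h_T58 (grp_cons_le h_g11_h_T58 (grp_cons_le h_g21_h_T58 (grp_cons_le h_g22_h_T58 (grp_cons_le h_g17_h_T58 (grp_cons_le h_g18_h_T58 (grp_cons_le h_g131_h_T58 (grp_cons_le h_g130_h_T58 (grp_nil_le _))))))))))))))))) (Frames.cons h_T58_s1_F (Frames.cons h_T58_s10_F (Frames.cons h_T58_s11_F (Frames.cons h_T58_s20_F Frames.nil)))) (okE_cons.2 ⟨h_g160_ok, okE_nil _⟩) _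

noncomputable def ht_c17_cnt_t : BT := (BT.fix (nat_lit 0x101010101) (BT.br (nat_lit 0) (nat_lit 14) [nat_lit 1] (BT.dead (nat_lit 15) (BT.img (nat_lit 1) (nat_lit 0) (BT.frm (nat_lit 1) (nat_lit 0x8010801) (nat_lit 0x710020d01) [nat_lit 0, nat_lit 1] (BT.pln (nat_lit 0) (nat_lit 4) (BT.and (nat_lit 0) (nat_lit 4) (BT.frm (nat_lit 0) (nat_lit 67585) (nat_lit 134401) [nat_lit 4] (BT.pln (nat_lit 0) (nat_lit 1) (BT.and (nat_lit 0) (nat_lit 7) (BT.dif (nat_lit 0) (nat_lit 6) (BT.img (nat_lit 1) (nat_lit 7) (BT.img (nat_lit 1) (nat_lit 0) (BT.img (nat_lit 1) (nat_lit 0) (BT.dif (nat_lit 3) (nat_lit 0) (BT.dif (nat_lit 13) (nat_lit 6) (BT.dif (nat_lit 0) (nat_lit 13) (BT.dif (nat_lit 0) (nat_lit 5) (BT.dif (nat_lit 0) (nat_lit 5) (BT.img (nat_lit 1) (nat_lit 0) (BT.dif (nat_lit 5) (nat_lit 0) (BT.and (nat_lit 11) (nat_lit 1) (BT.and (nat_lit 6) (nat_lit 2) (BT.img (nat_lit 1) (nat_lit 0)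 (BT.dif (nat_lit 2) (nat_lit 0) (BT.and (nat_lit 15) (nat_lit 1) (BT.img (nat_lit 1) (nat_lit 0) (BT.and (nat_lit 10) (nat_lit 0) (BT.img (nat_lit 1) (nat_lit 0) (BT.dif (nat_lit 4) (nat_lit 0) (BT.img (nat_lit 1) (nat_lit 0) (BT.and (nat_lit 10) (nat_lit 0) (BT.img (nat_lit 1) (nat_lit 0) (BT.and (nat_lit 26) (nat_lit 0) (BT.frm (nat_lit 2) (nat_lit 0xf1208010801) (nat_lit 0x710020d01) [nat_lit 0, nat_lit 30, nat_lit 31] (BT.pln (nat_lit 0) (nat_lit 5) (BT.dif (nat_lit 37) (nat_lit 27) (BT.dif (nat_lit 28) (nat_lit 35) (BT.img (nat_lit 1) (nat_lit 0) (BT.and (nat_lit 2) (nat_lit 0) (BT.and (nat_lit 31) (nat_lit 1) (BT.img (nat_lit 1) (nat_lit 0) (BT.and (nat_lit 33) (nat_lit 0) (BT.img (nat_lit 1) (nat_lit 0) (BT.and (nat_lit 4) (nat_lit 0) (BT.img (nat_lit 1) (nat_lit 0) (BT.and (nat_lit 10) (nat_lit 0) (BT.cnt (nat_lit 0)))))))))))))))))))))))))))))))))))))))))))))) (BT.dead (nat_lit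 18) (BT.frm (nat_lit 0) (nat_lit 67585) (nat_lit 66837) [nat_lit 0] (BT.pln (nat_lit 0) (nat_lit 1) (BT.img (nat_lit 1) (nat_lit 2) (BT.and (nat_lit 1) (nat_lit 0) (BT.cnt (nat_lit 0)))))) (BT.dead (nat_lit 17) (BT.frm (nat_lit 0) (nat_lit 67585) (nat_lit 1) [nat_lit 0] (BT.pln (nat_lit 0) (nat_lit 1) (BT.img (nat_lit 1) (nat_lit 2) (BT.and (nat_lit 1) (nat_lit 0) (BT.cnt (nat_lit 0)))))) (BT.kid (nat_lit 14) (nat_lit 2) (BT.img (nat_lit 1) (nat_lit 0) (BT.frm (nat_lit 1) (nat_lit 0x8010801) (nat_lit 0x8010801) [nat_lit 0, nat_lit 1] (BT.pln (nat_lit 0) (nat_lit 5) (BT.dif (nat_lit 0) (nat_lit 4) (BT.frm (nat_lit 0) (nat_lit 67585) (nat_lit 67585) [nat_lit 4] (BT.pln (nat_lit 0) (nat_lit 1) (BT.dif (nat_lit 0) (nat_lit 7) (BT.img (nat_lit 1) (nat_lit 0) (BT.and (nat_lit 2) (nat_lit 0) (BT.img (nat_lit 1) (nat_lit 0) (BT.dif (nat_lit 6) (nat_lit 0) (BT.br (nat_lit 0) (nat_lit 4) [nat_lit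 3] (BT.kid (nat_lit 4) (nat_lit 1) (BT.dif (nat_lit 9) (nat_lit 0) (BT.and (nat_lit 0) (nat_lit 14) (BT.and (nat_lit 8) (nat_lit 15) (BT.pln (nat_lit 13) (nat_lit 3) (BT.and (nat_lit 1) (nat_lit 0) (BT.img (nat_lit 1) (nat_lit 16) (BT.img (nat_lit 1) (nat_lit 0) (BT.img (nat_lit 1) (nat_lit 0) (BT.dif (nat_lit 3) (nat_lit 0) (BT.pln (nat_lit 19) (nat_lit 2) (BT.and (nat_lit 0) (nat_lit 23) (BT.dif (nat_lit 0) (nat_lit 5) (BT.pln (nat_lit 22) (nat_lit 4) (BT.and (nat_lit 0) (nat_lit 26) (BT.dif (nat_lit 11) (nat_lit 25) (BT.dif (nat_lit 0) (nat_lit 7) (BT.dif (nat_lit 29) (nat_lit 22) (BT.dif (nat_lit 0) (nat_lit 29) (BT.dif (nat_lit 0) (nat_lit 12) (BT.dif (nat_lit 0) (nat_lit 12) (BT.img (nat_lit 1) (nat_lit 0) (BT.dif (nat_lit 5) (nat_lit 0) (BT.and (nat_lit 19) (nat_lit 1) (BT.and (nat_lit 6) (nat_lit 2) (BT.img (nat_lit 1) (nat_lit 0) (BT.dif (nat_lit 2) (nat_lit 0) (BT.and (nat_lit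 23) (nat_lit 1) (BT.img (nat_lit 1) (nat_lit 0) (BT.and (nat_lit 10) (nat_lit 0) (BT.img (nat_lit 1) (nat_lit 0) (BT.dif (nat_lit 4) (nat_lit 0) (BT.img (nat_lit 1) (nat_lit 0) (BT.and (nat_lit 10) (nat_lit 0) (BT.img (nat_lit 1) (nat_lit 0) (BT.and (nat_lit 20) (nat_lit 0) (BT.img (nat_lit 1) (nat_lit 0) (BT.and (nat_lit 22) (nat_lit 0) (BT.img (nat_lit 1) (nat_lit 0) (BT.and (nat_lit 26) (nat_lit 0) (BT.img (nat_lit 1) (nat_lit 0) (BT.and (nat_lit 31) (nat_lit 0) (BT.img (nat_lit 1) (nat_lit 0) (BT.and (nat_lit 40) (nat_lit 0) (BT.one (nat_lit 3) (nat_lit 0x1f160f1208010801) (nat_lit 0x1f160f1208010801) [nat_lit 43, nat_lit 0, nat_lit 37, nat_lit 8, nat_lit 54, nat_lit 55])))))))))))))))))))))))))))))))))))))))))))) BT.nil))))))))))))) BT.nil))))))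

theorem ht_c17_cnt : Cnt 100 (grp 100 h_E0) [h_g160] [h_g160] 0 0 0 0 10 :=
  BT.sound ht_c17_cnt_P Known.nil (t := ht_c17_cnt_t) (d := 0) (by decide +kernel)

theorem ht_c17_ge : 10 ≤ Nat.card (grp 100 ht_c17_K) :=
  Ch.le_card_grp (k := 7) (L := (lab 100 7)) h_hn ht_c17_K_ok (c := (Ch.cons (nat_lit 14) [nat_lit 1] (Ch.cons (nat_lit 4) [nat_lit 3] Ch.nil))) (by decide +kernel)

theorem ht_c17_eq : (grp 100 h_E0) ⊓ Subgroup.centralizer {Net.toPerm 100 h_g160} = grp 100 ht_c17_K :=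
  cent_eq ht_c17_sym ht_c17_cnt ht_c17_ge

theorem ht_c17_card : Nat.card ↥((grp 100 h_E0) ⊓ Subgroup.centralizer {Net.toPerm 100 h_g160}) = 10 :=
  card_cent ht_c17_sym ht_c17_cnt ht_c17_ge

theorem ht_c17_ord : orderOf (Net.toPerm 100 h_g160) = 10 :=
  orderOf_net h_hn h_hk h_g160_ok (by decide) (ps := [2, 5]) (by set_option linter.unusedSimpArgs false in simp [Nat.primeFactorsList_ofNat]) (by decide +kernel)

theorem h_le164 : grp 100 ht_c18_K ≤ grp 100 h_E0 :=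
  grp_le_of_memB h_hn h_hk h_E0_ok ht_c18_K_ok (ws := [nat_lit 0x1a180f120c0f0213, nat_lit 0x16180f07110517]) (by decide +kernel)

theorem ht_c18_le : grp 100 ht_c18_K ≤ (grp 100 h_E0) :=
  (h_le164.trans h_T58_s0.le)

theorem ht_c18_mem : Net.toPerm 100 h_g162 ∈ (grp 100 h_E0) :=
  ht_c18_le (toPerm_mem_grp (E := ht_c18_K) (List.Mem.head _))

theorem ht_c18_sym : Sym 100 (grp 100 h_E0) [h_g162] ht_c18_K 0 :=
  Sym.of_lab h_hn h_hk (okE_cons.2 ⟨h_g162_ok, okE_nil _⟩) ht_c18_K_ok ht_c18_le (kT := 0) (by decide +kernel)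

noncomputable def ht_c18_cnt_L : List ℕ := [2, 6, h_T58_s10_O, 0, 0, 3, 14, h_T58_s11_O, 0, 0, 6, 13, h_T58_s20_O, 1, 0]

theorem ht_c18_cnt_P : Prob 100 7 (grp 100 h_E0) ht_c18_cnt_EG [h_g162] [h_g162] ht_c18_K ht_c18_cnt_L 0 0 :=
  Sym.prob h_hn h_hk ht_c18_sym ht_c18_cnt_EG_ok (grp_cons_le h_g7_h_T58 (grp_cons_le h_a0_h_T58 (grp_cons_le h_g4_h_T58 (grp_cons_le h_a8_h_T58 (grp_cons_le h_g14_h_T58 (grp_cons_le h_g10_h_T58 (grp_cons_le h_g11_h_T58 (grp_cons_le h_g21_h_T58 (grp_cons_le h_g22_h_T58 (grp_cons_le h_g17_h_T58 (grp_cons_le h_g18_h_T58 (grp_cons_le h_g1_h_T58 (grp_cons_le h_a19_h_T58 (grp_cons_le h_a27_h_T58 (grp_cons_le h_g131_h_T58 (grp_cons_le h_g130_h_T58 (grp_nil_le _))))))))))))))))) (Frames.cons h_T58_s10_F (Frames.cons h_T58_s11_F (Frames.cons h_T58_s20_F Frames.nil))) (okE_cons.2 ⟨h_g162_ok, okE_nil _⟩) _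

noncomputable def ht_c18_cnt_t : BT := (BT.fix (nat_lit 0x10101010101) (BT.fix (nat_lit 65793) (BT.dif (nat_lit 1) (nat_lit 0) (BT.br (nat_lit 0) (nat_lit 5) [nat_lit 1] (BT.dead (nat_lit 21) (BT.img (nat_lit 1) (nat_lit 0) (BT.frm (nat_lit 0) (nat_lit 464913) (nat_lit 0x107180a) [nat_lit 0, nat_lit 1] (BT.pln (nat_lit 0) (nat_lit 4) (BT.and (nat_lit 0) (nat_lit 5) (BT.cnt (nat_lit 0)))))) (BT.kid (nat_lit 5) (nat_lit 2) (BT.img (nat_lit 1) (nat_lit 0) (BT.frm (nat_lit 0) (nat_lit 464913) (nat_lit 464913) [nat_lit 0, nat_lit 1] (BT.pln (nat_lit 0) (nat_lit 5) (BT.dif (nat_lit 0) (nat_lit 5) (BT.img (nat_lit 1) (nat_lit 3) (BT.frm (nat_lit 1) (nat_lit 0xb071811) (nat_lit 0xb071811) [nat_lit 0, nat_lit 4, nat_lit 5] (BT.pln (nat_lit 0) (nat_lit 10) (BT.dif (nat_lit 3) (nat_lit 0) (BT.br (nat_lit 0) (nat_lit 14) [nat_lit 3] (BT.kid (nat_lit 14) (nat_lit 1) (BT.img (nat_lit 1) (nat_lit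 0) (BT.img (nat_lit 1) (nat_lit 5) (BT.one (nat_lit 2) (nat_lit 0x1d1f0f110b071811) (nat_lit 0x1d1f0f110b071811) [nat_lit 1, nat_lit 2, nat_lit 0, nat_lit 6, nat_lit 10, nat_lit 11]))) BT.nil)))))))))) BT.nil))))))

theorem ht_c18_cnt : Cnt 100 (grp 100 h_E0) [h_g162] [h_g162] 0 0 0 0 12 :=
  BT.sound ht_c18_cnt_P Known.nil (t := ht_c18_cnt_t) (d := 0) (by decide +kernel)

theorem ht_c18_ge : 12 ≤ Nat.card (grp 100 ht_c18_K) :=
  Ch.le_card_grp (k := 7) (L := (lab 100 7)) h_hn ht_c18_K_ok (c := (Ch.cons (nat_lit 5) [nat_lit 1] (Ch.cons (nat_lit 14) [nat_lit 3] Ch.nil))) (by decide +kernel)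

theorem ht_c18_eq : (grp 100 h_E0) ⊓ Subgroup.centralizer {Net.toPerm 100 h_g162} = grp 100 ht_c18_K :=
  cent_eq ht_c18_sym ht_c18_cnt ht_c18_ge

theorem ht_c18_card : Nat.card ↥((grp 100 h_E0) ⊓ Subgroup.centralizer {Net.toPerm 100 h_g162}) = 12 :=
  card_cent ht_c18_sym ht_c18_cnt ht_c18_ge

theorem ht_c18_ord : orderOf (Net.toPerm 100 h_g162) = 12 :=
  orderOf_net h_hn h_hk h_g162_ok (by decide) (ps := [2, 3]) (by set_option linter.unusedSimpArgs false in simp [Nat.primeFactorsList_ofNat]) (by decide +kernel)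

theorem h_le167 : grp 100 ht_c19_K ≤ grp 100 h_E0 :=
  grp_le_of_memB h_hn h_hk h_E0_ok ht_c19_K_ok (ws := [nat_lit 0xf120709020212, nat_lit 0x161a0f110d12020b08]) (by decide +kernel)

theorem ht_c19_le : grp 100 ht_c19_K ≤ (grp 100 h_E0) :=
  (h_le167.trans h_T58_s0.le)

theorem ht_c19_mem : Net.toPerm 100 h_g165 ∈ (grp 100 h_E0) :=
  ht_c19_le (toPerm_mem_grp (E := ht_c19_K) (List.Mem.head _))

theorem ht_c19_sym : Sym 100 (grp 100 h_E0) [h_g165] ht_c19_K 0 :=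
  Sym.of_lab h_hn h_hk (okE_cons.2 ⟨h_g165_ok, okE_nil _⟩) ht_c19_K_ok ht_c19_le (kT := 0) (by decide +kernel)

noncomputable def ht_c19_cnt_L : List ℕ := [1, 2, h_T58_s1_O, 0, 0, 2, 6, h_T58_s2_O, 0, 0, 3, 39, h_T58_s16_O, 0, 0, 4, 11, h_T58_s17_O, 1, 0]

theorem ht_c19_cnt_P : Prob 100 7 (grp 100 h_E0) ht_c19_cnt_EG [h_g165] [h_g165] ht_c19_K ht_c19_cnt_L 0 0 :=
  Sym.prob h_hn h_hk ht_c19_sym ht_c19_cnt_EG_ok (grp_cons_le h_g1_h_T58 (grp_cons_le h_a19_h_T58 (grp_cons_le h_a27_h_T58 (grp_cons_le h_g7_h_T58 (grp_cons_le h_a0_h_T58 (grp_cons_le h_g4_h_T58 (grp_cons_le h_a8_h_T58 (grp_cons_le h_g14_h_T58 (grp_cons_le h_g10_h_T58 (grp_cons_le h_g11_h_T58 (grp_cons_le h_g21_h_T58 (grp_cons_le h_g22_h_T58 (grp_cons_le h_g17_h_T58 (grp_cons_le h_g18_h_T58 (grp_cons_le h_g67_h_T58 (grp_cons_le h_g68_h_T58 (grp_cons_le h_g69_h_T58 (grp_cons_le h_g70_h_T58 (grp_cons_le h_g119_h_T58 (grp_nil_le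 _)))))))))))))))))))) (Frames.cons h_T58_s1_F (Frames.cons h_T58_s2_F (Frames.cons h_T58_s16_F (Frames.cons h_T58_s17_F Frames.nil)))) (okE_cons.2 ⟨h_g165_ok, okE_nil _⟩) _

noncomputable def ht_c19_cnt_t : BT := (BT.fix (nat_lit 0x101010101) (BT.br (nat_lit 0) (nat_lit 2) [nat_lit 1] (BT.dead (nat_lit 23) (BT.frm (nat_lit 0) (nat_lit 68354) (nat_lit 135173) [nat_lit 0] (BT.pln (nat_lit 0) (nat_lit 1) (BT.dif (nat_lit 6) (nat_lit 0) (BT.dif (nat_lit 0) (nat_lit 4) (BT.img (nat_lit 1) (nat_lit 2) (BT.dif (nat_lit 1) (nat_lit 0) (BT.img (nat_lit 1) (nat_lit 6) (BT.frm (nat_lit 1) (nat_lit 0xd19010b02) (nat_lit 0x70712021005) [nat_lit 0, nat_lit 7] (BT.pln (nat_lit 0) (nat_lit 5) (BT.dif (nat_lit 3) (nat_lit 0) (BT.img (nat_lit 1) (nat_lit 3) (BT.frm (nat_lit 2) (nat_lit 0x1e210d19010b02) (nat_lit 0x231d070712021005) [nat_lit 0, nat_lit 4, nat_lit 11] (BT.pln (nat_lit 0) (nat_lit 11) (BT.dif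 (nat_lit 3) (nat_lit 0) (BT.pln (nat_lit 2) (nat_lit 12) (BT.dif (nat_lit 1) (nat_lit 0) (BT.pln (nat_lit 4) (nat_lit 20) (BT.dif (nat_lit 1) (nat_lit 0) (BT.pln (nat_lit 6) (nat_lit 23) (BT.dif (nat_lit 1) (nat_lit 0) (BT.pln (nat_lit 8) (nat_lit 24) (BT.dif (nat_lit 1) (nat_lit 0) (BT.pln (nat_lit 10) (nat_lit 27) (BT.dif (nat_lit 1) (nat_lit 0) (BT.pln (nat_lit 12) (nat_lit 30) (BT.dif (nat_lit 1) (nat_lit 0) (BT.br (nat_lit 0) (nat_lit 64) [nat_lit 4] (BT.dead (nat_lit 16) (BT.frm (nat_lit 3) (nat_lit 0x261e210d19010b02) (nat_lit 0x231d070712021005) [nat_lit 0, nat_lit 16, nat_lit 20, nat_lit 27] (BT.pln (nat_lit 0) (nat_lit 4) (BT.img (nat_lit 1) (nat_lit 2) (BT.and (nat_lit 1) (nat_lit 0) (BT.cnt (nat_lit 0)))))) BT.nil)))))))))))))))))))))))))))) (BT.kid (nat_lit 2) (nat_lit 3) (BT.frm (nat_lit 0) (nat_lit 68354) (nat_lit 68354) [nat_lit 0] (BT.pln (nat_lit 0) (nat_lit 1) (BT.dif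 (nat_lit 6) (nat_lit 0) (BT.dif (nat_lit 0) (nat_lit 4) (BT.img (nat_lit 1) (nat_lit 2) (BT.dif (nat_lit 1) (nat_lit 0) (BT.img (nat_lit 1) (nat_lit 6) (BT.frm (nat_lit 1) (nat_lit 0xd19010b02) (nat_lit 0xd19010b02) [nat_lit 0, nat_lit 7] (BT.pln (nat_lit 0) (nat_lit 5) (BT.dif (nat_lit 3) (nat_lit 0) (BT.img (nat_lit 1) (nat_lit 3) (BT.frm (nat_lit 2) (nat_lit 0x1e210d19010b02) (nat_lit 0x1e210d19010b02) [nat_lit 0, nat_lit 4, nat_lit 11] (BT.pln (nat_lit 0) (nat_lit 11) (BT.dif (nat_lit 3) (nat_lit 0) (BT.pln (nat_lit 2) (nat_lit 12) (BT.dif (nat_lit 1) (nat_lit 0) (BT.pln (nat_lit 4) (nat_lit 20) (BT.dif (nat_lit 1) (nat_lit 0) (BT.pln (nat_lit 6) (nat_lit 23) (BT.dif (nat_lit 1) (nat_lit 0) (BT.pln (nat_lit 8) (nat_lit 24) (BT.dif (nat_lit 1) (nat_lit 0) (BT.pln (nat_lit 10) (nat_lit 27) (BT.dif (nat_lit 1) (nat_lit 0) (BT.pln (nat_lit 12) (nat_lit 30) (BT.dif (nat_lit 1) (nat_lit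 0) (BT.br (nat_lit 0) (nat_lit 64) [nat_lit 3] (BT.kid (nat_lit 64) (nat_lit 1) (BT.one (nat_lit 3) (nat_lit 0x261e210d19010b02) (nat_lit 0x261e210d19010b02) [nat_lit 0, nat_lit 16, nat_lit 20, nat_lit 27]) BT.nil)))))))))))))))))))))))))))) BT.nil))))

theorem ht_c19_cnt : Cnt 100 (grp 100 h_E0) [h_g165] [h_g165] 0 0 0 0 15 :=
  BT.sound ht_c19_cnt_P Known.nil (t := ht_c19_cnt_t) (d := 0) (by decide +kernel)

theorem ht_c19_ge : 15 ≤ Nat.card (grp 100 ht_c19_K) :=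
  Ch.le_card_grp (k := 7) (L := (lab 100 7)) h_hn ht_c19_K_ok (c := (Ch.cons (nat_lit 2) [nat_lit 1] (Ch.cons (nat_lit 64) [nat_lit 3] Ch.nil))) (by decide +kernel)

theorem ht_c19_eq : (grp 100 h_E0) ⊓ Subgroup.centralizer {Net.toPerm 100 h_g165} = grp 100 ht_c19_K :=
  cent_eq ht_c19_sym ht_c19_cnt ht_c19_ge

theorem ht_c19_card : Nat.card ↥((grp 100 h_E0) ⊓ Subgroup.centralizer {Net.toPerm 100 h_g165}) = 15 :=
  card_cent ht_c19_sym ht_c19_cnt ht_c19_ge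

theorem ht_c19_ord : orderOf (Net.toPerm 100 h_g165) = 15 :=
  orderOf_net h_hn h_hk h_g165_ok (by decide) (ps := [3, 5]) (by set_option linter.unusedSimpArgs false in simp [Nat.primeFactorsList_ofNat]) (by decide +kernel)

theorem h_le169 : grp 100 ht_c20_K ≤ grp 100 h_E0 :=
  grp_le_of_memB h_hn h_hk h_E0_ok ht_c20_K_ok (ws := [nat_lit 0x151812070713030d, nat_lit 0x161a0f110d12020b08]) (by decide +kernel)

theorem ht_c20_le : grp 100 ht_c20_K ≤ (grp 100 h_E0) :=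
  (h_le169.trans h_T58_s0.le)

theorem ht_c20_mem : Net.toPerm 100 h_g168 ∈ (grp 100 h_E0) :=
  ht_c20_le (toPerm_mem_grp (E := ht_c20_K) (List.Mem.head _))

theorem ht_c20_sym : Sym 100 (grp 100 h_E0) [h_g168] ht_c20_K 0 :=
  Sym.of_lab h_hn h_hk (okE_cons.2 ⟨h_g168_ok, okE_nil _⟩) ht_c20_K_ok ht_c20_le (kT := 0) (by decide +kernel)

noncomputable def ht_c20_cnt_L : List ℕ := [1, 2, h_T58_s1_O, 0, 0, 2, 6, h_T58_s2_O, 0, 0, 3, 39, h_T58_s16_O, 0, 0, 4, 11, h_T58_s17_O, 1, 0]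

theorem ht_c20_cnt_P : Prob 100 7 (grp 100 h_E0) ht_c20_cnt_EG [h_g168] [h_g168] ht_c20_K ht_c20_cnt_L 0 0 :=
  Sym.prob h_hn h_hk ht_c20_sym ht_c20_cnt_EG_ok (grp_cons_le h_g1_h_T58 (grp_cons_le h_a19_h_T58 (grp_cons_le h_a27_h_T58 (grp_cons_le h_g7_h_T58 (grp_cons_le h_a0_h_T58 (grp_cons_le h_g4_h_T58 (grp_cons_le h_a8_h_T58 (grp_cons_le h_g14_h_T58 (grp_cons_le h_g10_h_T58 (grp_cons_le h_g11_h_T58 (grp_cons_le h_g21_h_T58 (grp_cons_le h_g22_h_T58 (grp_cons_le h_g17_h_T58 (grp_cons_le h_g18_h_T58 (grp_cons_le h_g67_h_T58 (grp_cons_le h_g68_h_T58 (grp_cons_le h_g69_h_T58 (grp_cons_le h_g70_h_T58 (grp_cons_le h_g119_h_T58 (grp_nil_le _)))))))))))))))))))) (Frames.cons h_T58_s1_F (Frames.cons h_T58_s2_F (Frames.cons h_T58_s16_F (Frames.cons h_T58_s17_F Frames.nil)))) (okE_cons.2 ⟨h_g168_ok, okE_nil _⟩) _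

noncomputable def ht_c20_cnt_t : BT := (BT.fix (nat_lit 0x101010101) (BT.br (nat_lit 0) (nat_lit 2) [nat_lit 1] (BT.dead (nat_lit 23) (BT.frm (nat_lit 0) (nat_lit 68354) (nat_lit 135173) [nat_lit 0] (BT.pln (nat_lit 0) (nat_lit 1) (BT.dif (nat_lit 6) (nat_lit 0) (BT.dif (nat_lit 0) (nat_lit 4) (BT.img (nat_lit 1) (nat_lit 2) (BT.dif (nat_lit 1) (nat_lit 0) (BT.dif (nat_lit 1) (nat_lit 4) (BT.img (nat_lit 1) (nat_lit 0) (BT.dif (nat_lit 2) (nat_lit 0) (BT.img (nat_lit 1) (nat_lit 9) (BT.frm (nat_lit 1) (nat_lit 0x1308010b02) (nat_lit 0x14021005) [nat_lit 0, nat_lit 10] (BT.pln (nat_lit 0) (nat_lit 5) (BT.dif (nat_lit 3) (nat_lit 0) (BT.img (nat_lit 1) (nat_lit 3) (BT.frm (nat_lit 2) (nat_lit 0x1e1f1308010b02) (nat_lit 0x1d1d2214021005) [nat_lit 0, nat_lit 4, nat_lit 14] (BT.pln (nat_lit 0) (nat_lit 12) (BT.dif (nat_lit 3) (nat_lit 0) (BT.pln (nat_lit 2) (nat_lit 23) (BT.dif (nat_lit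 1) (nat_lit 0) (BT.pln (nat_lit 4) (nat_lit 24) (BT.dif (nat_lit 1) (nat_lit 0) (BT.br (nat_lit 0) (nat_lit 7) [nat_lit 3] (BT.dead (nat_lit 9) (BT.frm (nat_lit 3) (nat_lit 0x261e1f1308010b02) (nat_lit 0x261d1d2214021005) [nat_lit 0, nat_lit 8, nat_lit 12, nat_lit 22] (BT.pln (nat_lit 0) (nat_lit 4) (BT.img (nat_lit 1) (nat_lit 2) (BT.img (nat_lit 1) (nat_lit 0) (BT.img (nat_lit 1) (nat_lit 0) (BT.img (nat_lit 1) (nat_lit 0) (BT.img (nat_lit 1) (nat_lit 0) (BT.img (nat_lit 1) (nat_lit 0) (BT.img (nat_lit 1) (nat_lit 0) (BT.img (nat_lit 1) (nat_lit 0) (BT.and (nat_lit 8) (nat_lit 0) (BT.cnt (nat_lit 0))))))))))))) BT.nil))))))))))))))))))))))) (BT.kid (nat_lit 2) (nat_lit 3) (BT.frm (nat_lit 0) (nat_lit 68354) (nat_lit 68354) [nat_lit 0] (BT.pln (nat_lit 0) (nat_lit 1) (BT.dif (nat_lit 6) (nat_lit 0) (BT.dif (nat_lit 0) (nat_lit 4) (BT.img (nat_lit 1) (nat_lit 2) (BT.dif (nat_lit 1) (nat_lit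 0) (BT.dif (nat_lit 1) (nat_lit 4) (BT.img (nat_lit 1) (nat_lit 0) (BT.dif (nat_lit 2) (nat_lit 0) (BT.img (nat_lit 1) (nat_lit 9) (BT.frm (nat_lit 1) (nat_lit 0x1308010b02) (nat_lit 0x1308010b02) [nat_lit 0, nat_lit 10] (BT.pln (nat_lit 0) (nat_lit 5) (BT.dif (nat_lit 3) (nat_lit 0) (BT.img (nat_lit 1) (nat_lit 3) (BT.frm (nat_lit 2) (nat_lit 0x1e1f1308010b02) (nat_lit 0x1e1f1308010b02) [nat_lit 0, nat_lit 4, nat_lit 14] (BT.pln (nat_lit 0) (nat_lit 12) (BT.dif (nat_lit 3) (nat_lit 0) (BT.pln (nat_lit 2) (nat_lit 23) (BT.dif (nat_lit 1) (nat_lit 0) (BT.pln (nat_lit 4) (nat_lit 24) (BT.dif (nat_lit 1) (nat_lit 0) (BT.br (nat_lit 0) (nat_lit 7) [nat_lit 3] (BT.kid (nat_lit 7) (nat_lit 1) (BT.one (nat_lit 3) (nat_lit 0x261e1f1308010b02) (nat_lit 0x261e1f1308010b02) [nat_lit 0, nat_lit 8, nat_lit 12, nat_lit 22]) BT.nil))))))))))))))))))))))) BT.nil))))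

theorem ht_c20_cnt : Cnt 100 (grp 100 h_E0) [h_g168] [h_g168] 0 0 0 0 15 :=
  BT.sound ht_c20_cnt_P Known.nil (t := ht_c20_cnt_t) (d := 0) (by decide +kernel)

theorem ht_c20_ge : 15 ≤ Nat.card (grp 100 ht_c20_K) :=
  Ch.le_card_grp (k := 7) (L := (lab 100 7)) h_hn ht_c20_K_ok (c := (Ch.cons (nat_lit 2) [nat_lit 1] (Ch.cons (nat_lit 7) [nat_lit 3] Ch.nil))) (by decide +kernel)

theorem ht_c20_eq : (grp 100 h_E0) ⊓ Subgroup.centralizer {Net.toPerm 100 h_g168} = grp 100 ht_c20_K :=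
  cent_eq ht_c20_sym ht_c20_cnt ht_c20_ge

theorem ht_c20_card : Nat.card ↥((grp 100 h_E0) ⊓ Subgroup.centralizer {Net.toPerm 100 h_g168}) = 15 :=
  card_cent ht_c20_sym ht_c20_cnt ht_c20_ge

theorem ht_c20_ord : orderOf (Net.toPerm 100 h_g168) = 15 :=
  orderOf_net h_hn h_hk h_g168_ok (by decide) (ps := [3, 5]) (by set_option linter.unusedSimpArgs false in simp [Nat.primeFactorsList_ofNat]) (by decide +kernel)

noncomputable def ht_xs : List Net := [Net.nil, h_g59, h_g77, h_g88, h_g95, h_g107, h_g115, h_g123, h_g126, h_g136, h_g138, h_g142, h_g145, h_g150, h_g152, h_g155, h_g158, h_g160, h_g162, h_g165, h_g168]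

noncomputable def ht_cs : List ℕ := [604800, 1920, 240, 1080, 36, 96, 300, 300, 50, 50, 24, 12, 7, 8, 20, 20, 10, 10, 12, 15, 15]

noncomputable def ht_os : List ℕ := [1, 2, 2, 3, 3, 4, 5, 5, 5, 5, 6, 6, 7, 8, 10, 10, 10, 10, 12, 15, 15]

theorem ht_reps : Reps 100 (grp 100 h_E0) ht_xs ht_cs ht_os :=
  (Reps.cons rfl (one_mem _) (card_cent_nil h_card0) orderOf_one (Reps.cons h_g59_ok ht_c1_mem ht_c1_card ht_c1_ord (Reps.cons h_g77_ok ht_c2_mem ht_c2_card ht_c2_ord (Reps.cons h_g88_ok ht_c3_mem ht_c3_card ht_c3_ord (Reps.cons h_g95_ok ht_c4_mem ht_c4_card ht_c4_ord (Reps.cons h_g107_ok ht_c5_mem ht_c5_card ht_c5_ord (Reps.cons h_g115_ok ht_c6_mem ht_c6_card ht_c6_ord (Reps.cons h_g123_ok ht_c7_mem ht_c7_card ht_c7_ord (Reps.cons h_g126_ok ht_c8_mem ht_c8_card ht_c8_ord (Reps.cons h_g136_ok ht_c9_mem ht_c9_card ht_c9_ord (Reps.cons h_g138_ok ht_c10_mem ht_c10_card ht_c10_ord (Reps.cons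 h_g142_ok ht_c11_mem ht_c11_card ht_c11_ord (Reps.cons h_g145_ok ht_c12_mem ht_c12_card ht_c12_ord (Reps.cons h_g150_ok ht_c13_mem ht_c13_card ht_c13_ord (Reps.cons h_g152_ok ht_c14_mem ht_c14_card ht_c14_ord (Reps.cons h_g155_ok ht_c15_mem ht_c15_card ht_c15_ord (Reps.cons h_g158_ok ht_c16_mem ht_c16_card ht_c16_ord (Reps.cons h_g160_ok ht_c17_mem ht_c17_card ht_c17_ord (Reps.cons h_g162_ok ht_c18_mem ht_c18_card ht_c18_ord (Reps.cons h_g165_ok ht_c19_mem ht_c19_card ht_c19_ord (Reps.cons h_g168_ok ht_c20_mem ht_c20_card ht_c20_ord Reps.nil)))))))))))))))))))))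

noncomputable def ht_nc7_6_cnt_L : List ℕ := [1, 2, h_T58_s1_O, 0, 0, 3, 39, h_T58_s16_O, 0, 0]

theorem ht_nc7_6_cnt_P : Prob 100 7 (grp 100 h_E0) ht_nc7_6_cnt_EG [h_g123] [h_g115] ht_c6_K ht_nc7_6_cnt_L 0 0 :=
  Sym.prob h_hn h_hk ht_c6_sym ht_nc7_6_cnt_EG_ok (grp_cons_le h_g1_h_T58 (grp_cons_le h_a19_h_T58 (grp_cons_le h_a27_h_T58 (grp_cons_le h_g7_h_T58 (grp_cons_le h_a0_h_T58 (grp_cons_le h_g4_h_T58 (grp_cons_le h_a8_h_T58 (grp_cons_le h_g14_h_T58 (grp_cons_le h_g10_h_T58 (grp_cons_le h_g11_h_T58 (grp_cons_le h_g21_h_T58 (grp_cons_le h_g22_h_T58 (grp_cons_le h_g17_h_T58 (grp_cons_le h_g18_h_T58 (grp_cons_le h_g67_h_T58 (grp_cons_le h_g68_h_T58 (grp_cons_le h_g69_h_T58 (grp_cons_le h_g70_h_T58 (grp_nil_le _))))))))))))))))))) (Frames.cons h_T58_s1_F (Frames.cons h_T58_s16_F Frames.nil)) (okE_cons.2 ⟨h_g123_ok, okE_nil _⟩) _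

noncomputable def ht_nc7_6_cnt_t : BT := (BT.br (nat_lit 2) (nat_lit 0) [nat_lit 1, nat_lit 3] (BT.dead (nat_lit 0) (BT.img (nat_lit 1) (nat_lit 0) (BT.img (nat_lit 1) (nat_lit 0) (BT.frm (nat_lit 1) (nat_lit 0x1e202207) (nat_lit 7441) [nat_lit 0, nat_lit 1, nat_lit 2] (BT.pln (nat_lit 0) (nat_lit 3) (BT.frm (nat_lit 0) (nat_lit 0) (nat_lit 0) [nat_lit 4] (BT.pln (nat_lit 0) (nat_lit 1) (BT.img (nat_lit 1) (nat_lit 0) (BT.dif (nat_lit 1) (nat_lit 0) (BT.dif (nat_lit 1) (nat_lit 2) (BT.and (nat_lit 3) (nat_lit 2) (BT.img (nat_lit 1) (nat_lit 0) (BT.dif (nat_lit 2) (nat_lit 0) (BT.dif (nat_lit 1) (nat_lit 6) (BT.and (nat_lit 7) (nat_lit 2) (BT.img (nat_lit 1) (nat_lit 0) (BT.dif (nat_lit 2) (nat_lit 0) (BT.img (nat_lit 1) (nat_lit 0) (BT.and (nat_lit 9) (nat_lit 0) (BT.img (nat_lit 1) (nat_lit 0) (BT.and (nat_lit 7) (nat_lit 0) (BT.img (nat_lit 1) (nat_lit 0) (BT.and (nat_lit 13) (nat_lit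 0) (BT.img (nat_lit 1) (nat_lit 0) (BT.and (nat_lit 19) (nat_lit 0) (BT.cnt (nat_lit 0)))))))))))))))))))))))))) BT.nil))

theorem ht_nc7_6_cnt : Cnt 100 (grp 100 h_E0) [h_g123] [h_g115] 0 0 0 0 0 :=
  BT.sound ht_nc7_6_cnt_P Known.nil (t := ht_nc7_6_cnt_t) (d := 0) (by decide +kernel)

theorem ht_nc7_6 : ¬ CjIn (grp 100 h_E0) (Net.toPerm 100 h_g123) (Net.toPerm 100 h_g115) :=
  not_cjIn ht_nc7_6_cnt

noncomputable def ht_nc9_8_cnt_L : List ℕ := [1, 2, h_T58_s1_O, 0, 0, 2, 6, h_T58_s10_O, 0, 0]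

theorem ht_nc9_8_cnt_P : Prob 100 7 (grp 100 h_E0) ht_nc9_8_cnt_EG [h_g136] [h_g126] ht_c8_K ht_nc9_8_cnt_L 0 0 :=
  Sym.prob h_hn h_hk ht_c8_sym ht_nc9_8_cnt_EG_ok (grp_cons_le h_g1_h_T58 (grp_cons_le h_a19_h_T58 (grp_cons_le h_a27_h_T58 (grp_cons_le h_g7_h_T58 (grp_cons_le h_a0_h_T58 (grp_cons_le h_g4_h_T58 (grp_cons_le h_a8_h_T58 (grp_cons_le h_g14_h_T58 (grp_cons_le h_g10_h_T58 (grp_cons_le h_g11_h_T58 (grp_cons_le h_g21_h_T58 (grp_cons_le h_g22_h_T58 (grp_cons_le h_g17_h_T58 (grp_cons_le h_g18_h_T58 (grp_nil_le _))))))))))))))) (Frames.cons h_T58_s1_F (Frames.cons h_T58_s10_F Frames.nil)) (okE_cons.2 ⟨h_g136_ok, okE_nil _⟩) _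

noncomputable def ht_nc9_8_cnt_t : BT := (BT.br (nat_lit 2) (nat_lit 0) [nat_lit 1, nat_lit 3] (BT.dead (nat_lit 2) (BT.img (nat_lit 1) (nat_lit 0) (BT.frm (nat_lit 1) (nat_lit 2056) (nat_lit 0x70d12010b02) [nat_lit 0, nat_lit 1] (BT.pln (nat_lit 0) (nat_lit 4) (BT.frm (nat_lit 0) (nat_lit 0) (nat_lit 68354) [nat_lit 3] (BT.pln (nat_lit 0) (nat_lit 1) (BT.dif (nat_lit 8) (nat_lit 0) (BT.dif (nat_lit 1) (nat_lit 5) (BT.img (nat_lit 1) (nat_lit 6) (BT.img (nat_lit 1) (nat_lit 0) (BT.img (nat_lit 1) (nat_lit 0) (BT.dif (nat_lit 3) (nat_lit 0) (BT.img (nat_lit 1) (nat_lit 0) (BT.and (nat_lit 6) (nat_lit 0) (BT.img (nat_lit 1) (nat_lit 0) (BT.and (nat_lit 9) (nat_lit 0) (BT.img (nat_lit 1) (nat_lit 0) (BT.and (nat_lit 13) (nat_lit 0) (BT.cnt (nat_lit 0))))))))))))))))))) (BT.dead (nat_lit 3) (BT.img (nat_lit 1) (nat_lit 0) (BT.frm (nat_lit 1) (nat_lit 2056) (nat_lit 0xc0f010711) [nat_lit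 0, nat_lit 1] (BT.pln (nat_lit 0) (nat_lit 4) (BT.frm (nat_lit 0) (nat_lit 0) (nat_lit 67345) [nat_lit 3] (BT.pln (nat_lit 0) (nat_lit 1) (BT.dif (nat_lit 8) (nat_lit 0) (BT.dif (nat_lit 1) (nat_lit 5) (BT.img (nat_lit 1) (nat_lit 6) (BT.img (nat_lit 1) (nat_lit 0) (BT.img (nat_lit 1) (nat_lit 0) (BT.dif (nat_lit 3) (nat_lit 0) (BT.img (nat_lit 1) (nat_lit 0) (BT.and (nat_lit 6) (nat_lit 0) (BT.img (nat_lit 1) (nat_lit 0) (BT.and (nat_lit 9) (nat_lit 0) (BT.img (nat_lit 1) (nat_lit 0) (BT.and (nat_lit 13) (nat_lit 0) (BT.cnt (nat_lit 0))))))))))))))))))) (BT.dead (nat_lit 4) (BT.frm (nat_lit 0) (nat_lit 0) (nat_lit 68882) [nat_lit 0] (BT.pln (nat_lit 0) (nat_lit 1) (BT.img (nat_lit 1) (nat_lit 2) (BT.and (nat_lit 1) (nat_lit 0) (BT.cnt (nat_lit 0)))))) (BT.dead (nat_lit 0) (BT.frm (nat_lit 0) (nat_lit 0) (nat_lit 0) [nat_lit 0] (BT.pln (nat_lit 0) (nat_lit 1) (BT.img (nat_lit 1) (nat_lit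 2) (BT.and (nat_lit 1) (nat_lit 0) (BT.cnt (nat_lit 0)))))) BT.nil)))))

theorem ht_nc9_8_cnt : Cnt 100 (grp 100 h_E0) [h_g136] [h_g126] 0 0 0 0 0 :=
  BT.sound ht_nc9_8_cnt_P Known.nil (t := ht_nc9_8_cnt_t) (d := 0) (by decide +kernel)

theorem ht_nc9_8 : ¬ CjIn (grp 100 h_E0) (Net.toPerm 100 h_g136) (Net.toPerm 100 h_g126) :=
  not_cjIn ht_nc9_8_cnt

noncomputable def ht_nc15_14_cnt_L : List ℕ := [1, 2, h_T58_s1_O, 0, 0, 3, 39, h_T58_s16_O, 0, 0]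

theorem ht_nc15_14_cnt_P : Prob 100 7 (grp 100 h_E0) ht_nc15_14_cnt_EG [h_g155] [h_g152] ht_c14_K ht_nc15_14_cnt_L 0 0 :=
  Sym.prob h_hn h_hk ht_c14_sym ht_nc15_14_cnt_EG_ok (grp_cons_le h_g1_h_T58 (grp_cons_le h_a19_h_T58 (grp_cons_le h_a27_h_T58 (grp_cons_le h_g7_h_T58 (grp_cons_le h_a0_h_T58 (grp_cons_le h_g4_h_T58 (grp_cons_le h_a8_h_T58 (grp_cons_le h_g14_h_T58 (grp_cons_le h_g10_h_T58 (grp_cons_le h_g11_h_T58 (grp_cons_le h_g21_h_T58 (grp_cons_le h_g22_h_T58 (grp_cons_le h_g17_h_T58 (grp_cons_le h_g18_h_T58 (grp_cons_le h_g67_h_T58 (grp_cons_le h_g68_h_T58 (grp_cons_le h_g69_h_T58 (grp_cons_le h_g70_h_T58 (grp_nil_le _))))))))))))))))))) (Frames.cons h_T58_s1_F (Frames.cons h_T58_s16_F Frames.nil)) (okE_cons.2 ⟨h_g155_ok, okE_nil _⟩) _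

noncomputable def ht_nc15_14_cnt_t : BT := (BT.br (nat_lit 2) (nat_lit 0) [nat_lit 1, nat_lit 3] (BT.dead (nat_lit 0) (BT.img (nat_lit 1) (nat_lit 0) (BT.img (nat_lit 1) (nat_lit 0) (BT.frm (nat_lit 1) (nat_lit 0x1e22081a) (nat_lit 0x210918) [nat_lit 0, nat_lit 1, nat_lit 2] (BT.pln (nat_lit 0) (nat_lit 3) (BT.frm (nat_lit 0) (nat_lit 0) (nat_lit 0) [nat_lit 4] (BT.pln (nat_lit 0) (nat_lit 1) (BT.img (nat_lit 1) (nat_lit 0) (BT.and (nat_lit 1) (nat_lit 0) (BT.img (nat_lit 1) (nat_lit 0) (BT.and (nat_lit 3) (nat_lit 0) (BT.img (nat_lit 1) (nat_lit 0) (BT.img (nat_lit 1) (nat_lit 0) (BT.img (nat_lit 1) (nat_lit 0) (BT.img (nat_lit 1) (nat_lit 0) (BT.and (nat_lit 8) (nat_lit 0) (BT.img (nat_lit 1) (nat_lit 0) (BT.and (nat_lit 9) (nat_lit 0) (BT.img (nat_lit 1) (nat_lit 0) (BT.img (nat_lit 1) (nat_lit 0) (BT.img (nat_lit 1) (nat_lit 0) (BT.and (nat_lit 14) (nat_lit 0) (BT.img (nat_lit 1)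 (nat_lit 0) (BT.and (nat_lit 18) (nat_lit 0) (BT.cnt (nat_lit 0))))))))))))))))))))))))) (BT.dead (nat_lit 2) (BT.frm (nat_lit 0) (nat_lit 0) (nat_lit 68354) [nat_lit 0] (BT.pln (nat_lit 0) (nat_lit 1) (BT.img (nat_lit 1) (nat_lit 2) (BT.img (nat_lit 1) (nat_lit 0) (BT.img (nat_lit 1) (nat_lit 0) (BT.and (nat_lit 3) (nat_lit 0) (BT.cnt (nat_lit 0)))))))) (BT.dead (nat_lit 3) (BT.frm (nat_lit 0) (nat_lit 0) (nat_lit 67345) [nat_lit 0] (BT.pln (nat_lit 0) (nat_lit 1) (BT.img (nat_lit 1) (nat_lit 2) (BT.and (nat_lit 1) (nat_lit 0) (BT.cnt (nat_lit 0)))))) (BT.dead (nat_lit 5) (BT.frm (nat_lit 0) (nat_lit 0) (nat_lit 535) [nat_lit 0] (BT.pln (nat_lit 0) (nat_lit 1) (BT.img (nat_lit 1) (nat_lit 2) (BT.img (nat_lit 1) (nat_lit 0) (BT.img (nat_lit 1) (nat_lit 0) (BT.and (nat_lit 3) (nat_lit 0) (BT.cnt (nat_lit 0)))))))) (BT.dead (nat_lit 1) (BT.frm (nat_lit 0) (nat_lit 0) (nat_lit 3) [nat_lit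 0] (BT.pln (nat_lit 0) (nat_lit 1) (BT.img (nat_lit 1) (nat_lit 2) (BT.and (nat_lit 1) (nat_lit 0) (BT.cnt (nat_lit 0)))))) BT.nil))))))

theorem ht_nc15_14_cnt : Cnt 100 (grp 100 h_E0) [h_g155] [h_g152] 0 0 0 0 0 :=
  BT.sound ht_nc15_14_cnt_P Known.nil (t := ht_nc15_14_cnt_t) (d := 0) (by decide +kernel)

theorem ht_nc15_14 : ¬ CjIn (grp 100 h_E0) (Net.toPerm 100 h_g155) (Net.toPerm 100 h_g152) :=
  not_cjIn ht_nc15_14_cnt

noncomputable def ht_nc17_16_cnt_L : List ℕ := [1, 2, h_T58_s1_O, 0, 0, 2, 6, h_T58_s10_O, 0, 0]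

theorem ht_nc17_16_cnt_P : Prob 100 7 (grp 100 h_E0) ht_nc17_16_cnt_EG [h_g160] [h_g158] ht_c16_K ht_nc17_16_cnt_L 0 0 :=
  Sym.prob h_hn h_hk ht_c16_sym ht_nc17_16_cnt_EG_ok (grp_cons_le h_g1_h_T58 (grp_cons_le h_a19_h_T58 (grp_cons_le h_a27_h_T58 (grp_cons_le h_g7_h_T58 (grp_cons_le h_a0_h_T58 (grp_cons_le h_g4_h_T58 (grp_cons_le h_a8_h_T58 (grp_cons_le h_g14_h_T58 (grp_cons_le h_g10_h_T58 (grp_cons_le h_g11_h_T58 (grp_cons_le h_g21_h_T58 (grp_cons_le h_g22_h_T58 (grp_cons_le h_g17_h_T58 (grp_cons_le h_g18_h_T58 (grp_nil_le _))))))))))))))) (Frames.cons h_T58_s1_F (Frames.cons h_T58_s10_F Frames.nil)) (okE_cons.2 ⟨h_g160_ok, okE_nil _⟩) _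

noncomputable def ht_nc17_16_cnt_t : BT := (BT.fix (nat_lit 0x101010101) (BT.br (nat_lit 0) (nat_lit 14) [nat_lit 1] (BT.dead (nat_lit 18) (BT.img (nat_lit 1) (nat_lit 0) (BT.frm (nat_lit 1) (nat_lit 0x8010801) (nat_lit 0x70b13010515) [nat_lit 0, nat_lit 1] (BT.pln (nat_lit 0) (nat_lit 4) (BT.frm (nat_lit 0) (nat_lit 67585) (nat_lit 66837) [nat_lit 3] (BT.pln (nat_lit 0) (nat_lit 1) (BT.dif (nat_lit 0) (nat_lit 6) (BT.img (nat_lit 1) (nat_lit 0) (BT.and (nat_lit 2) (nat_lit 0) (BT.img (nat_lit 1) (nat_lit 0) (BT.and (nat_lit 6) (nat_lit 0) (BT.cnt (nat_lit 0)))))))))))) (BT.dead (nat_lit 17) (BT.img (nat_lit 1) (nat_lit 0) (BT.frm (nat_lit 1) (nat_lit 0x8010801) (nat_lit 0x7071101) [nat_lit 0, nat_lit 1] (BT.pln (nat_lit 0) (nat_lit 4) (BT.frm (nat_lit 0) (nat_lit 67585) (nat_lit 1) [nat_lit 3] (BT.pln (nat_lit 0) (nat_lit 1) (BT.dif (nat_lit 0) (nat_lit 6) (BT.img (nat_lit 1) (nat_lit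 0) (BT.and (nat_lit 2) (nat_lit 0) (BT.img (nat_lit 1) (nat_lit 0) (BT.and (nat_lit 6) (nat_lit 0) (BT.cnt (nat_lit 0)))))))))))) (BT.dead (nat_lit 15) (BT.frm (nat_lit 0) (nat_lit 67585) (nat_lit 134401) [nat_lit 0] (BT.pln (nat_lit 0) (nat_lit 1) (BT.img (nat_lit 1) (nat_lit 2) (BT.and (nat_lit 1) (nat_lit 0) (BT.cnt (nat_lit 0)))))) (BT.dead (nat_lit 14) (BT.frm (nat_lit 0) (nat_lit 67585) (nat_lit 67585) [nat_lit 0] (BT.pln (nat_lit 0) (nat_lit 1) (BT.img (nat_lit 1) (nat_lit 2) (BT.and (nat_lit 1) (nat_lit 0) (BT.cnt (nat_lit 0)))))) BT.nil))))))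

theorem ht_nc17_16_cnt : Cnt 100 (grp 100 h_E0) [h_g160] [h_g158] 0 0 0 0 0 :=
  BT.sound ht_nc17_16_cnt_P Known.nil (t := ht_nc17_16_cnt_t) (d := 0) (by decide +kernel)

theorem ht_nc17_16 : ¬ CjIn (grp 100 h_E0) (Net.toPerm 100 h_g160) (Net.toPerm 100 h_g158) :=
  not_cjIn ht_nc17_16_cnt

noncomputable def ht_nc20_19_cnt_L : List ℕ := [1, 2, h_T58_s1_O, 0, 0, 3, 39, h_T58_s16_O, 0, 0]

theorem ht_nc20_19_cnt_P : Prob 100 7 (grp 100 h_E0) ht_nc20_19_cnt_EG [h_g168] [h_g165] ht_c19_K ht_nc20_19_cnt_L 0 0 :=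
  Sym.prob h_hn h_hk ht_c19_sym ht_nc20_19_cnt_EG_ok (grp_cons_le h_g1_h_T58 (grp_cons_le h_a19_h_T58 (grp_cons_le h_a27_h_T58 (grp_cons_le h_g7_h_T58 (grp_cons_le h_a0_h_T58 (grp_cons_le h_g4_h_T58 (grp_cons_le h_a8_h_T58 (grp_cons_le h_g14_h_T58 (grp_cons_le h_g10_h_T58 (grp_cons_le h_g11_h_T58 (grp_cons_le h_g21_h_T58 (grp_cons_le h_g22_h_T58 (grp_cons_le h_g17_h_T58 (grp_cons_le h_g18_h_T58 (grp_cons_le h_g67_h_T58 (grp_cons_le h_g68_h_T58 (grp_cons_le h_g69_h_T58 (grp_cons_le h_g70_h_T58 (grp_nil_le _))))))))))))))))))) (Frames.cons h_T58_s1_F (Frames.cons h_T58_s16_F Frames.nil)) (okE_cons.2 ⟨h_g168_ok, okE_nil _⟩) _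

noncomputable def ht_nc20_19_cnt_t : BT := (BT.fix (nat_lit 0x101010101) (BT.br (nat_lit 0) (nat_lit 2) [nat_lit 1] (BT.dead (nat_lit 23) (BT.img (nat_lit 1) (nat_lit 0) (BT.img (nat_lit 1) (nat_lit 0) (BT.frm (nat_lit 1) (nat_lit 0x1e1f1308010b02) (nat_lit 0x231d070712021005) [nat_lit 0, nat_lit 1, nat_lit 2] (BT.pln (nat_lit 0) (nat_lit 3) (BT.frm (nat_lit 0) (nat_lit 68354) (nat_lit 135173) [nat_lit 4] (BT.pln (nat_lit 0) (nat_lit 1) (BT.img (nat_lit 1) (nat_lit 0) (BT.dif (nat_lit 1) (nat_lit 0) (BT.dif (nat_lit 1) (nat_lit 2) (BT.img (nat_lit 1) (nat_lit 0) (BT.dif (nat_lit 2) (nat_lit 0) (BT.dif (nat_lit 15) (nat_lit 5) (BT.and (nat_lit 0) (nat_lit 2) (BT.img (nat_lit 1) (nat_lit 0) (BT.dif (nat_lit 3) (nat_lit 0) (BT.dif (nat_lit 3) (nat_lit 8) (BT.dif (nat_lit 0) (nat_lit 17) (BT.dif (nat_lit 0) (nat_lit 7) (BT.dif (nat_lit 0) (nat_lit 4) (BT.img (nat_lit 1) (nat_lit 0) (BT.dif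 (nat_lit 5) (nat_lit 0) (BT.img (nat_lit 1) (nat_lit 0) (BT.and (nat_lit 18) (nat_lit 0) (BT.cnt (nat_lit 0))))))))))))))))))))))))) (BT.dead (nat_lit 2) (BT.img (nat_lit 1) (nat_lit 0) (BT.img (nat_lit 1) (nat_lit 0) (BT.frm (nat_lit 1) (nat_lit 0x1e1f1308010b02) (nat_lit 0x1e210d19010b02) [nat_lit 0, nat_lit 1, nat_lit 2] (BT.pln (nat_lit 0) (nat_lit 3) (BT.frm (nat_lit 0) (nat_lit 68354) (nat_lit 68354) [nat_lit 4] (BT.pln (nat_lit 0) (nat_lit 1) (BT.img (nat_lit 1) (nat_lit 0) (BT.dif (nat_lit 1) (nat_lit 0) (BT.dif (nat_lit 1) (nat_lit 2) (BT.img (nat_lit 1) (nat_lit 0) (BT.dif (nat_lit 2) (nat_lit 0) (BT.dif (nat_lit 15) (nat_lit 5) (BT.and (nat_lit 0) (nat_lit 2) (BT.img (nat_lit 1) (nat_lit 0) (BT.dif (nat_lit 3) (nat_lit 0) (BT.dif (nat_lit 3) (nat_lit 8) (BT.dif (nat_lit 0) (nat_lit 17) (BT.dif (nat_lit 0) (nat_lit 7) (BT.dif (nat_lit 0) (nat_lit 4) (BT.img (nat_lit 1) (nat_lit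 0) (BT.dif (nat_lit 5) (nat_lit 0) (BT.img (nat_lit 1) (nat_lit 0) (BT.and (nat_lit 18) (nat_lit 0) (BT.cnt (nat_lit 0))))))))))))))))))))))))) BT.nil))))

theorem ht_nc20_19_cnt : Cnt 100 (grp 100 h_E0) [h_g168] [h_g165] 0 0 0 0 0 :=
  BT.sound ht_nc20_19_cnt_P Known.nil (t := ht_nc20_19_cnt_t) (d := 0) (by decide +kernel)

theorem ht_nc20_19 : ¬ CjIn (grp 100 h_E0) (Net.toPerm 100 h_g168) (Net.toPerm 100 h_g165) :=
  not_cjIn ht_nc20_19_cnt

theorem ht_exc : Exc 100 (grp 100 h_E0) ht_xs [20019, 17016, 15014, 9008, 7006] :=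
  (Exc.cons 20 19 (by decide) ht_nc20_19 (Exc.cons 17 16 (by decide) ht_nc17_16 (Exc.cons 15 14 (by decide) ht_nc15_14 (Exc.cons 9 8 (by decide) ht_nc9_8 (Exc.cons 7 6 (by decide) ht_nc7_6 Exc.nil)))))

theorem ht : Table 100 (grp 100 h_E0) ht_xs ht_cs ht_os :=
  Reps.table (D := 1) h_hn h_hk ht_reps ht_exc h_card0 (by decide +kernel)

end Cfsg.Agent.H47.J2P
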