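import Mathlib
import Cfsg.Agent.H43.Cent
import Cfsg.Agent.H47.J2H
import Cfsg.Agent.H47.NetLoc

set_option autoImplicit false
set_option maxRecDepth 200000
set_option linter.style.longLine false

namespace Cfsg.Agent.H47.J2P

open Cfsg.Agent.H43

theorem f_hn : NOk 5 := by decide

theorem f_hk : 5 ≤ 2 ^ 3 := by decide

noncomputable def f_g1 : Net := (Net.cons (nat_lit 1) (nat_lit 5) (Net.cons (nat_lit 2) (nat_lit 2) (Net.cons (nat_lit 4) (nat_lit 1) (Net.cons (nat_lit 1) (nat_lit 5) Net.nil))))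

theorem f_g1_ok : Net.ok 5 f_g1 = true := by decide +kernel

noncomputable def f_g2 : Net := (Net.cons (nat_lit 1) (nat_lit 1) (Net.cons (nat_lit 2) (nat_lit 3) (Net.cons (nat_lit 4) (nat_lit 1) (Net.cons (nat_lit 2) (nat_lit 1) (Net.cons (nat_lit 1) (nat_lit 1) Net.nil)))))

theorem f_g2_ok : Net.ok 5 f_g2 = true := by decide +kernel

noncomputable def f_g3 : Net := (Net.cons (nat_lit 2) (nat_lit 2) (Net.cons (nat_lit 2) (nat_lit 1) Net.nil))

theorem f_g3_ok : Net.ok 5 f_g3 = true := by decide +kernel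

noncomputable def f_K : List Net := [f_g1, f_g2, f_g3]

theorem f_K_ok : okE 5 f_K = true := (okE_cons.2 ⟨f_g1_ok, (okE_cons.2 ⟨f_g2_ok, (okE_cons.2 ⟨f_g3_ok, (okE_nil 5)⟩)⟩)⟩)

noncomputable def f_V4 : List Net := [f_g1]

theorem f_V4_ok : okE 5 f_V4 = true := (okE_cons.2 ⟨f_g1_ok, (okE_nil 5)⟩)

noncomputable def f_g6 : Net := (Net.cons (nat_lit 1) (nat_lit 5) (Net.cons (nat_lit 4) (nat_lit 1) (Net.cons (nat_lit 2) (nat_lit 1) (Net.cons (nat_lit 1) (nat_lit 5) Net.nil))))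

theorem f_g6_ok : Net.ok 5 f_g6 = true := by decide +kernel

noncomputable def f_g7 : Net := (Net.cons (nat_lit 2) (nat_lit 2) (Net.cons (nat_lit 1) (nat_lit 4) Net.nil))

theorem f_g7_ok : Net.ok 5 f_g7 = true := by decide +kernel

noncomputable def f_V8 : List Net := [f_g6, f_g7]

theorem f_V8_ok : okE 5 f_V8 = true := (okE_cons.2 ⟨f_g6_ok, (okE_cons.2 ⟨f_g7_ok, (okE_nil 5)⟩)⟩)

noncomputable def f_g10 : Net := (Net.cons (nat_lit 1) (nat_lit 1) (Net.cons (nat_lit 2) (nat_lit 1) (Net.cons (nat_lit 4) (nat_lit 1) (Net.cons (nat_lit 1) (nat_lit 1) Net.nil))))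

theorem f_g10_ok : Net.ok 5 f_g10 = true := by decide +kernel

noncomputable def f_V11 : List Net := [f_g10]

theorem f_V11_ok : okE 5 f_V11 = true := (okE_cons.2 ⟨f_g10_ok, (okE_nil 5)⟩)

noncomputable def f_g13 : Net := (Net.cons (nat_lit 1) (nat_lit 5) (Net.cons (nat_lit 2) (nat_lit 1) (Net.cons (nat_lit 4) (nat_lit 1) (Net.cons (nat_lit 1) (nat_lit 5) Net.nil))))

theorem f_g13_ok : Net.ok 5 f_g13 = true := by decide +kernel

noncomputable def f_V14 : List Net := [f_g13, f_g13]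

theorem f_V14_ok : okE 5 f_V14 = true := (okE_cons.2 ⟨f_g13_ok, (okE_cons.2 ⟨f_g13_ok, (okE_nil 5)⟩)⟩)

noncomputable def f_V16 : List Net := [f_g13]

theorem f_V16_ok : okE 5 f_V16 = true := (okE_cons.2 ⟨f_g13_ok, (okE_nil 5)⟩)

noncomputable def f_o_E3 : List Net := []

theorem f_o_E3_ok : okE 5 f_o_E3 = true := (okE_nil 5)

noncomputable def f_o_G2 : List Net := [f_g13]

theorem f_o_G2_ok : okE 5 f_o_G2 = true := (okE_cons.2 ⟨f_g13_ok, (okE_nil 5)⟩)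

noncomputable def f_o_E2 : List Net := [f_g13]

theorem f_o_E2_ok : okE 5 f_o_E2 = true := (okE_cons.2 ⟨f_g13_ok, (okE_nil 5)⟩)

noncomputable def f_o_G1 : List Net := [f_g10, f_g13]

theorem f_o_G1_ok : okE 5 f_o_G1 = true := (okE_cons.2 ⟨f_g10_ok, (okE_cons.2 ⟨f_g13_ok, (okE_nil 5)⟩)⟩)

noncomputable def f_o_E1 : List Net := [f_g10, f_g6, f_g7, f_g13]

theorem f_o_E1_ok : okE 5 f_o_E1 = true := (okE_cons.2 ⟨f_g10_ok, (okE_cons.2 ⟨f_g6_ok, (okE_cons.2 ⟨f_g7_ok, (okE_cons.2 ⟨f_g13_ok, (okE_nil 5)⟩)⟩)⟩)⟩)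

noncomputable def f_o_G0 : List Net := [f_g1, f_g10, f_g6, f_g7, f_g13]

theorem f_o_G0_ok : okE 5 f_o_G0 = true := (okE_cons.2 ⟨f_g1_ok, (okE_cons.2 ⟨f_g10_ok, (okE_cons.2 ⟨f_g6_ok, (okE_cons.2 ⟨f_g7_ok, (okE_cons.2 ⟨f_g13_ok, (okE_nil 5)⟩)⟩)⟩)⟩)⟩)

noncomputable def f_o_E0 : List Net := [f_g1, f_g2, f_g3, f_g10, f_g6, f_g7, f_g13]

theorem f_o_E0_ok : okE 5 f_o_E0 = true := (okE_cons.2 ⟨f_g1_ok, (okE_cons.2 ⟨f_g2_ok, (okE_cons.2 ⟨f_g3_ok, (okE_cons.2 ⟨f_g10_ok, (okE_cons.2 ⟨f_g6_ok, (okE_cons.2 ⟨f_g7_ok, (okE_cons.2 ⟨f_g13_ok, (okE_nil 5)⟩)⟩)⟩)⟩)⟩)⟩)⟩)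

theorem l_hn : NOk 100 := by decide

theorem l_hk : 100 ≤ 2 ^ 7 := by decide

noncomputable def l_g1 : Net := (Net.cons (nat_lit 1) (nat_lit 0x145550000000000004045050) (Net.cons (nat_lit 2) (nat_lit 0x211331220000030000210100) (Net.cons (nat_lit 4) (nat_lit 0x70005080207030806040400) (Net.cons (nat_lit 8) (nat_lit 0xb900000081008b00060001) (Net.cons (nat_lit 16) (nat_lit 0x64ae000000ca00000000) (Net.cons (nat_lit 32) (nat_lit 0x30000000093ce7c30) (Net.cons (nat_lit 64) (nat_lit 0x393ce7c30) (Net.cons (nat_lit 32) (nat_lit 0x80000000003085c31) (Net.cons (nat_lit 16) (nat_lit 0x84f5000002ce0000db36) (Net.cons (nat_lit 8) (nat_lit 0x3a00a7009a003e00250047) (Net.cons (nat_lit 4) (nat_lit 0xa0107010306070e0a090808) (Net.cons (nat_lit 2) (nat_lit 0x1110211131102003320130300) (Net.cons (nat_lit 1) (nat_lit 0x1400044010400154114415) Net.nil)))))))))))))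

theorem l_g1_ok : Net.ok 100 l_g1 = true := by decide +kernel

noncomputable def l_g2 : Net := (Net.cons (nat_lit 1) (nat_lit 0x1100111001040444440001010) (Net.cons (nat_lit 2) (nat_lit 0x220201001000000002112010) (Net.cons (nat_lit 4) (nat_lit 0x4030b040f040f080f080000) (Net.cons (nat_lit 8) (nat_lit 0xbb00d40000008400e70000) (Net.cons (nat_lit 16) (nat_lit 0x58020000130d00000002) (Net.cons (nat_lit 32) (nat_lit 0x900000000e3461800) (Net.cons (nat_lit 64) (nat_lit 0x9e3461800) (Net.cons (nat_lit 32) (nat_lit 0x600000000cf438702) (Net.cons (nat_lit 16) (nat_lit 0xec200000180d0000ec02) (Net.cons (nat_lit 8) (nat_lit 0xeb008a00fd0078001b0000) (Net.cons (nat_lit 4) (nat_lit 0xe000900040c070007070104) (Net.cons (nat_lit 2) (nat_lit 0x3100130031323022221330330) (Net.cons (nat_lit 1) (nat_lit 0x411104141515005050554454) Net.nil)))))))))))))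

theorem l_g2_ok : Net.ok 100 l_g2 = true := by decide +kernel

noncomputable def l_g3 : Net := (Net.cons (nat_lit 1) (nat_lit 0x5545404001101000440005110) (Net.cons (nat_lit 2) (nat_lit 0x3000003303132030302201000) (Net.cons (nat_lit 4) (nat_lit 0x9020a0c0e090a0a050f0c08) (Net.cons (nat_lit 8) (nat_lit 0x92008900a200e500ad0004) (Net.cons (nat_lit 16) (nat_lit 0x1d940000cb0600000001) (Net.cons (nat_lit 32) (nat_lit 0xd00000000540608b0) (Net.cons (nat_lit 64) (nat_lit 0xb5c0629b4) (Net.cons (nat_lit 32) (nat_lit 0x54b2cbb5) (Net.cons (nat_lit 16) (nat_lit 0xf39f0000c3ee0000f4b9) (Net.cons (nat_lit 8) (nat_lit 0xb900ab003c006c00d500fc) (Net.cons (nat_lit 4) (nat_lit 0x702080c02090a050d070a0c) (Net.cons (nat_lit 2) (nat_lit 0x332030021300312210210300) (Net.cons (nat_lit 1) (nat_lit 0x545454004540111114001154) Net.nil)))))))))))))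

theorem l_g3_ok : Net.ok 100 l_g3 = true := by decide +kernel

noncomputable def l_g4 : Net := (Net.cons (nat_lit 1) (nat_lit 0x140001400000000501511040) (Net.cons (nat_lit 2) (nat_lit 0x1210011200000022013102000) (Net.cons (nat_lit 4) (nat_lit 0xa020c0f000202020f000100) (Net.cons (nat_lit 8) (nat_lit 0x4200fe00d200000004000b) (Net.cons (nat_lit 16) (nat_lit 0xb2420000040000000006) (Net.cons (nat_lit 32) (nat_lit 0x42d29f0) (Net.cons (nat_lit 64) (nat_lit 0xf0f6fbdff) (Net.cons (nat_lit 32) (nat_lit 0x300000000042d29f3) (Net.cons (nat_lit 16) (nat_lit 0xb2420000d60000002006) (Net.cons (nat_lit 8) (nat_lit 0x4200ff00d200010040000b) (Net.cons (nat_lit 4) (nat_lit 0xa02090f0f0202030b0c0104) (Net.cons (nat_lit 2) (nat_lit 0x1210311203333322013102000) (Net.cons (nat_lit 1) (nat_lit 0x150005400050541501511040) Net.nil)))))))))))))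

theorem l_g4_ok : Net.ok 100 l_g4 = true := by decide +kernel

noncomputable def lz_K : List Net := [l_g1, l_g2, l_g3, l_g4]

theorem lz_K_ok : okE 100 lz_K = true := (okE_cons.2 ⟨l_g1_ok, (okE_cons.2 ⟨l_g2_ok, (okE_cons.2 ⟨l_g3_ok, (okE_cons.2 ⟨l_g4_ok, (okE_nil 100)⟩)⟩)⟩)⟩)

noncomputable def l_V6 : List Net := [h_g7, h_a0, h_g4, h_a8, h_g14, h_g10, h_g11, h_g21, h_g22, h_g17, h_g18]

theorem l_V6_ok : okE 100 l_V6 = true := (okE_cons.2 ⟨h_g7_ok, (okE_cons.2 ⟨h_a0_ok, (okE_cons.2 ⟨h_g4_ok, (okE_cons.2 ⟨h_a8_ok, (okE_cons.2 ⟨h_g14_ok, (okE_cons.2 ⟨h_g10_ok, (okE_cons.2 ⟨h_g11_ok, (okE_cons.2 ⟨h_g21_ok, (okE_cons.2 ⟨h_g22_ok, (okE_cons.2 ⟨h_g17_ok, (okE_cons.2 ⟨h_g18_ok, (okE_nil 100)⟩)⟩)⟩)⟩)⟩)⟩)⟩)⟩)⟩)⟩)⟩)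

noncomputable def l_V7 : List Net := [h_g14, h_g10, h_g11, h_g21, h_g22, h_g17, h_g18]

theorem l_V7_ok : okE 100 l_V7 = true := (okE_cons.2 ⟨h_g14_ok, (okE_cons.2 ⟨h_g10_ok, (okE_cons.2 ⟨h_g11_ok, (okE_cons.2 ⟨h_g21_ok, (okE_cons.2 ⟨h_g22_ok, (okE_cons.2 ⟨h_g17_ok, (okE_cons.2 ⟨h_g18_ok, (okE_nil 100)⟩)⟩)⟩)⟩)⟩)⟩)⟩)

noncomputable def l_V8 : List Net := [h_g21, h_g22, h_g17, h_g18]

theorem l_V8_ok : okE 100 l_V8 = true := (okE_cons.2 ⟨h_g21_ok, (okE_cons.2 ⟨h_g22_ok, (okE_cons.2 ⟨h_g17_ok, (okE_cons.2 ⟨h_g18_ok, (okE_nil 100)⟩)⟩)⟩)⟩)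

noncomputable def l_g9 : Net := (Net.cons (nat_lit 1) (nat_lit 0x1001554141104104040015000) (Net.cons (nat_lit 2) (nat_lit 0x3002310001011203222002000) (Net.cons (nat_lit 4) (nat_lit 0xd030d05080d0e0400000000) (Net.cons (nat_lit 8) (nat_lit 0x5e0044000100a600000002) (Net.cons (nat_lit 16) (nat_lit 0xf42d0000ac7e00000004) (Net.cons (nat_lit 32) (nat_lit 0x20000000085394100) (Net.cons (nat_lit 64) (nat_lit 0x485b9f3be) (Net.cons (nat_lit 32) (nat_lit 0x600000000a7374d4c) (Net.cons (nat_lit 16) (nat_lit 0xf8630000b8f20000410c) (Net.cons (nat_lit 8) (nat_lit 0x7a0040002500a200100026) (Net.cons (nat_lit 4) (nat_lit 0xd030d05080d0e0408000000) (Net.cons (nat_lit 2) (nat_lit 0x3002310001011203222002000) (Net.cons (nat_lit 1) (nat_lit 0x1001554141104104040015000) Net.nil)))))))))))))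

theorem l_g9_ok : Net.ok 100 l_g9 = true := by decide +kernel

noncomputable def l_g10 : Net := (Net.cons (nat_lit 1) (nat_lit 0x1045040111100154101041500) (Net.cons (nat_lit 2) (nat_lit 0x2133202211211030120210300) (Net.cons (nat_lit 4) (nat_lit 0xe000000020d000606080800) (Net.cons (nat_lit 8) (nat_lit 0x8000c40011000500060000) (Net.cons (nat_lit 16) (nat_lit 0x38ed0000186800000000) (Net.cons (nat_lit 32) (nat_lit 0xa489390) (Net.cons (nat_lit 64) (nat_lit 0x22aed9f90) (Net.cons (nat_lit 32) (nat_lit 0x100000000d6589bfc) (Net.cons (nat_lit 16) (nat_lit 0x60ff0000047d00000d06) (Net.cons (nat_lit 8) (nat_lit 0xb000f00005001100320094) (Net.cons (nat_lit 4) (nat_lit 0xe080000020d000606080800) (Net.cons (nat_lit 2) (nat_lit 0x2133202211211030120210300) (Net.cons (nat_lit 1) (nat_lit 0x1045040111100154101041500) Net.nil)))))))))))))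

theorem l_g10_ok : Net.ok 100 l_g10 = true := by decide +kernel

noncomputable def l_g11 : Net := (Net.cons (nat_lit 1) (nat_lit 0x5045044445000110001050000) (Net.cons (nat_lit 2) (nat_lit 0x2311110321110213203002000) (Net.cons (nat_lit 4) (nat_lit 0xb05060002000000080e0208) (Net.cons (nat_lit 8) (nat_lit 0xa3006f0040001b00010000) (Net.cons (nat_lit 16) (nat_lit 0x728a0000227e00000000) (Net.cons (nat_lit 32) (nat_lit 0x450a0480) (Net.cons (nat_lit 64) (nat_lit 0xd65ae1f9e) (Net.cons (nat_lit 32) (nat_lit 0x47992462) (Net.cons (nat_lit 16) (nat_lit 0xd669000036fc00008082) (Net.cons (nat_lit 8) (nat_lit 0x83004f0040003b00290000) (Net.cons (nat_lit 4) (nat_lit 0xb050600020000040c0e0208) (Net.cons (nat_lit 2) (nat_lit 0x2311110321110213203002000) (Net.cons (nat_lit 1) (nat_lit 0x5045044445000110001050000) Net.nil)))))))))))))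

theorem l_g11_ok : Net.ok 100 l_g11 = true := by decide +kernel

noncomputable def l_V12 : List Net := [l_g9, l_g10, l_g11]

theorem l_V12_ok : okE 100 l_V12 = true := (okE_cons.2 ⟨l_g9_ok, (okE_cons.2 ⟨l_g10_ok, (okE_cons.2 ⟨l_g11_ok, (okE_nil 100)⟩)⟩)⟩)

noncomputable def l_V14 : List Net := [l_g10, l_g11]

theorem l_V14_ok : okE 100 l_V14 = true := (okE_cons.2 ⟨l_g10_ok, (okE_cons.2 ⟨l_g11_ok, (okE_nil 100)⟩)⟩)

noncomputable def l_V15 : List Net := []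

theorem l_V15_ok : okE 100 l_V15 = true := (okE_nil 100)

noncomputable def lz_cnt_EG : List Net := [h_g1, h_a19, h_a27, h_g7, h_a0, h_g4, h_a8, h_g14, h_g10, h_g11, h_g21, h_g22, h_g17, h_g18, l_g9, l_g10, l_g11]

theorem lz_cnt_EG_ok : okE 100 lz_cnt_EG = true := (okE_cons.2 ⟨h_g1_ok, (okE_cons.2 ⟨h_a19_ok, (okE_cons.2 ⟨h_a27_ok, (okE_cons.2 ⟨h_g7_ok, (okE_cons.2 ⟨h_a0_ok, (okE_cons.2 ⟨h_g4_ok, (okE_cons.2 ⟨h_a8_ok, (okE_cons.2 ⟨h_g14_ok, (okE_cons.2 ⟨h_g10_ok, (okE_cons.2 ⟨h_g11_ok, (okE_cons.2 ⟨h_g21_ok, (okE_cons.2 ⟨h_g22_ok, (okE_cons.2 ⟨h_g17_ok, (okE_cons.2 ⟨h_g18_ok, (okE_cons.2 ⟨l_g9_ok, (okE_cons.2 ⟨l_g10_ok, (okE_cons.2 ⟨l_g11_ok, (okE_nil 100)⟩)⟩)⟩)⟩)⟩)⟩)⟩)⟩)⟩)⟩)⟩)⟩)⟩)⟩)⟩)⟩)⟩)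

noncomputable def l_g16 : Net := (Net.cons (nat_lit 1) (nat_lit 0x4515510400550050001400040) (Net.cons (nat_lit 2) (nat_lit 0x133322000330031100000000) (Net.cons (nat_lit 4) (nat_lit 0x70b000d000404020b020000) (Net.cons (nat_lit 8) (nat_lit 0x33002b003a000100030000) (Net.cons (nat_lit 16) (nat_lit 0xc8220000000300000003) (Net.cons (nat_lit 32) (nat_lit 0x90000000033cffff0) (Net.cons (nat_lit 64) (nat_lit 0xc7bcffff3) (Net.cons (nat_lit 32) (nat_lit 0x60000000033cffff0) (Net.cons (nat_lit 16) (nat_lit 0x2c140000024300008003) (Net.cons (nat_lit 8) (nat_lit 0x3700b200a300d100230000) (Net.cons (nat_lit 4) (nat_lit 0x3040c0b0f0b02030b020008) (Net.cons (nat_lit 2) (nat_lit 0x323310100330032020100000) (Net.cons (nat_lit 1) (nat_lit 0x1455541000550050551400040) Net.nil)))))))))))))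

theorem l_g16_ok : Net.ok 100 l_g16 = true := by decide +kernel

noncomputable def l_Q : List Net := [h_g130, h_a19, l_g16, h_g50]

theorem l_Q_ok : okE 100 l_Q = true := (okE_cons.2 ⟨h_g130_ok, (okE_cons.2 ⟨h_a19_ok, (okE_cons.2 ⟨l_g16_ok, (okE_cons.2 ⟨h_g50_ok, (okE_nil 100)⟩)⟩)⟩)⟩)

noncomputable def l_g17 : Net := (Net.cons (nat_lit 1) (nat_lit 0x1555551000550050501400000) (Net.cons (nat_lit 2) (nat_lit 0x2213322300330000003223000) (Net.cons (nat_lit 4) (nat_lit 0xc0c0003040a0c0700000100) (Net.cons (nat_lit 8) (nat_lit 0x6400240040005800800006) (Net.cons (nat_lit 16) (nat_lit 0x50000000100000000001) (Net.cons (nat_lit 32) (nat_lit 0xd00000000641a2410) (Net.cons (nat_lit 64) (nat_lit 0x8e41afc17) (Net.cons (nat_lit 32) (nat_lit 0xe00000000341a6410) (Net.cons (nat_lit 16) (nat_lit 0x85c000074000000c001) (Net.cons (nat_lit 8) (nat_lit 0x6400a7002600da008c0006) (Net.cons (nat_lit 4) (nat_lit 0x70a0803020c0c070002050c)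 (Net.cons (nat_lit 2) (nat_lit 0x213300100330011113323200) (Net.cons (nat_lit 1) (nat_lit 0x45044105055005051401444) Net.nil)))))))))))))

theorem l_g17_ok : Net.ok 100 l_g17 = true := by decide +kernel

noncomputable def l_g18 : Net := (Net.cons (nat_lit 1) (nat_lit 0x555501400550050500151040) (Net.cons (nat_lit 2) (nat_lit 0x223303100330030300020000) (Net.cons (nat_lit 4) (nat_lit 0x2080301010808030d090000) (Net.cons (nat_lit 8) (nat_lit 0xc6008e009800240000000e) (Net.cons (nat_lit 16) (nat_lit 0x34840000240000000001) (Net.cons (nat_lit 32) (nat_lit 0x60000000082010400) (Net.cons (nat_lit 64) (nat_lit 0x8281350f) (Net.cons (nat_lit 32) (nat_lit 0x900000000a6010400) (Net.cons (nat_lit 16) (nat_lit 0x1c5800003c000000c001) (Net.cons (nat_lit 8) (nat_lit 0xce0007001f00a50012000e) (Net.cons (nat_lit 4) (nat_lit 0xa0807010e0808030d090308) (Net.cons (nat_lit 2) (nat_lit 0x3200331130300330030020100) (Net.cons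 (nat_lit 1) (nat_lit 0x145505500550005500151050) Net.nil)))))))))))))

theorem l_g18_ok : Net.ok 100 l_g18 = true := by decide +kernel

noncomputable def l_V19 : List Net := [l_g16, l_g17, l_g18]

theorem l_V19_ok : okE 100 l_V19 = true := (okE_cons.2 ⟨l_g16_ok, (okE_cons.2 ⟨l_g17_ok, (okE_cons.2 ⟨l_g18_ok, (okE_nil 100)⟩)⟩)⟩)

noncomputable def l_g21 : Net := (Net.cons (nat_lit 1) (nat_lit 0x555501400550050500151040) (Net.cons (nat_lit 2) (nat_lit 0x2323322000330030303131000) (Net.cons (nat_lit 4) (nat_lit 0xa000f0e060000060f0e0200) (Net.cons (nat_lit 8) (nat_lit 0x90007006000090080000b) (Net.cons (nat_lit 16) (nat_lit 0xe9080000090000000004) (Net.cons (nat_lit 32) (nat_lit 0xc0000000000060900) (Net.cons (nat_lit 64) (nat_lit 0x80066d0f) (Net.cons (nat_lit 32) (nat_lit 0x30000000009060900) (Net.cons (nat_lit 16) (nat_lit 0xaf61000069000000b004) (Net.cons (nat_lit 8) (nat_lit 0x9000b006f000f0060000b) (Net.cons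 (nat_lit 4) (nat_lit 0xe00020e090000060f0e0008) (Net.cons (nat_lit 2) (nat_lit 0x1330313030300330031113100) (Net.cons (nat_lit 1) (nat_lit 0x145505500550005500151050) Net.nil)))))))))))))

theorem l_g21_ok : Net.ok 100 l_g21 = true := by decide +kernel

noncomputable def l_V22 : List Net := [l_g16, l_g21]

theorem l_V22_ok : okE 100 l_V22 = true := (okE_cons.2 ⟨l_g16_ok, (okE_cons.2 ⟨l_g21_ok, (okE_nil 100)⟩)⟩)

noncomputable def l_V24 : List Net := [h_g53, h_g50]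

theorem l_V24_ok : okE 100 l_V24 = true := (okE_cons.2 ⟨h_g53_ok, (okE_cons.2 ⟨h_g50_ok, (okE_nil 100)⟩)⟩)

noncomputable def l_V26 : List Net := [h_a0, h_a0]

theorem l_V26_ok : okE 100 l_V26 = true := (okE_cons.2 ⟨h_a0_ok, (okE_cons.2 ⟨h_a0_ok, (okE_nil 100)⟩)⟩)

noncomputable def l_Qlb_E : List Net := [h_g130, h_a19, l_g16, h_g50, l_g16, l_g17, l_g18, l_g16, l_g21, h_g53, h_g50, h_a0, h_a0]

theorem l_Qlb_E_ok : okE 100 l_Qlb_E = true := (okE_cons.2 ⟨h_g130_ok, (okE_cons.2 ⟨h_a19_ok, (okE_cons.2 ⟨l_g16_ok, (okE_cons.2 ⟨h_g50_ok, (okE_cons.2 ⟨l_g16_ok, (okE_cons.2 ⟨l_g17_ok, (okE_cons.2 ⟨l_g18_ok, (okE_cons.2 ⟨l_g16_ok, (okE_cons.2 ⟨l_g21_ok, (okE_cons.2 ⟨h_g53_ok, (okE_cons.2 ⟨h_g50_ok, (okE_cons.2 ⟨h_a0_ok, (okE_cons.2 ⟨h_a0_ok, (okE_nil 100)⟩)⟩)⟩)⟩)⟩)⟩)⟩)⟩)⟩)⟩)⟩)⟩)⟩)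

noncomputable def l_g29 : Net := (Net.cons (nat_lit 1) (nat_lit 0x4510114545401441414014040) (Net.cons (nat_lit 2) (nat_lit 0x1101120002100301232310010) (Net.cons (nat_lit 4) (nat_lit 0x7010807070d0004060a090e) (Net.cons (nat_lit 8) (nat_lit 0xdf009c000e005e00ac000c) (Net.cons (nat_lit 16) (nat_lit 0x23e000040f100000008) (Net.cons (nat_lit 32) (nat_lit 0x30000000041148220) (Net.cons (nat_lit 64) (nat_lit 0xf51b69628) (Net.cons (nat_lit 32) (nat_lit 0xd00000000d279c59c) (Net.cons (nat_lit 16) (nat_lit 0x7d5d000044ff0000a744) (Net.cons (nat_lit 8) (nat_lit 0x9b00d30011000a0030000e) (Net.cons (nat_lit 4) (nat_lit 0x4010b040f0e0d00070d0b08) (Net.cons (nat_lit 2) (nat_lit 0x103122203122102230000012) (Net.cons (nat_lit 1) (nat_lit 0x140550140155515144454414) Net.nil)))))))))))))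

theorem l_g29_ok : Net.ok 100 l_g29 = true := by decide +kernel

noncomputable def l_g30 : Net := (Net.cons (nat_lit 1) (nat_lit 0x5004004004014005411450540) (Net.cons (nat_lit 2) (nat_lit 0x312110210201323013112000) (Net.cons (nat_lit 4) (nat_lit 0x40b010b0b0d01070d0c0407) (Net.cons (nat_lit 8) (nat_lit 0x410045002c0022004a0000) (Net.cons (nat_lit 16) (nat_lit 0xc1d0000e9010000000a) (Net.cons (nat_lit 32) (nat_lit 0x9000000002a090250) (Net.cons (nat_lit 64) (nat_lit 0x62e6d4659) (Net.cons (nat_lit 32) (nat_lit 0xe0000000062efb7b9) (Net.cons (nat_lit 16) (nat_lit 0x10660000a0ed000076a3) (Net.cons (nat_lit 8) (nat_lit 0xea0042007400d600bb0088) (Net.cons (nat_lit 4) (nat_lit 0x60e0f0e070f0c0c040a0509) (Net.cons (nat_lit 2) (nat_lit 0x2332010022013322113010332) (Net.cons (nat_lit 1) (nat_lit 0x5441401140005111511011054) Net.nil)))))))))))))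

theorem l_g30_ok : Net.ok 100 l_g30 = true := by decide +kernel

noncomputable def l_g31 : Net := (Net.cons (nat_lit 1) (nat_lit 0x5155000514150140105110010) (Net.cons (nat_lit 2) (nat_lit 0x2122010130110130221012000) (Net.cons (nat_lit 4) (nat_lit 0x70801040805010802000208) (Net.cons (nat_lit 8) (nat_lit 0xaf00c4008500c1008b0001) (Net.cons (nat_lit 16) (nat_lit 0x540c00003c2200000002) (Net.cons (nat_lit 32) (nat_lit 0xc0000000091024620) (Net.cons (nat_lit 64) (nat_lit 0xcd72ad633) (Net.cons (nat_lit 32) (nat_lit 0x3000000004422ba01) (Net.cons (nat_lit 16) (nat_lit 0xc015000044220000a89a) (Net.cons (nat_lit 8) (nat_lit 0xc50028003e001f000b00bb) (Net.cons (nat_lit 4) (nat_lit 0xa030607010c0f05060a0700) (Net.cons (nat_lit 2) (nat_lit 0x1310132231332031003212020) (Net.cons (nat_lit 1) (nat_lit 0x1151400105511054515111410) Net.nil)))))))))))))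

theorem l_g31_ok : Net.ok 100 l_g31 = true := by decide +kernel

noncomputable def l_V32 : List Net := [l_g29, l_g30, l_g31, h_a0]

theorem l_V32_ok : okE 100 l_V32 = true := (okE_cons.2 ⟨l_g29_ok, (okE_cons.2 ⟨l_g30_ok, (okE_cons.2 ⟨l_g31_ok, (okE_cons.2 ⟨h_a0_ok, (okE_nil 100)⟩)⟩)⟩)⟩)

noncomputable def l_V34 : List Net := [l_g31, h_a0]

theorem l_V34_ok : okE 100 l_V34 = true := (okE_cons.2 ⟨l_g31_ok, (okE_cons.2 ⟨h_a0_ok, (okE_nil 100)⟩)⟩)

noncomputable def l_V35 : List Net := [h_a0]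

theorem l_V35_ok : okE 100 l_V35 = true := (okE_cons.2 ⟨h_a0_ok, (okE_nil 100)⟩)

noncomputable def l_V36 : List Net := []

theorem l_V36_ok : okE 100 l_V36 = true := (okE_nil 100)

noncomputable def l_cQ_cnt_EG : List Net := [h_g1, h_a19, h_a27, h_g7, h_a0, h_g4, h_a8, h_g14, h_g10, h_g11, h_g21, h_g22, h_g17, h_g18, l_g29, l_g30, l_g31]

theorem l_cQ_cnt_EG_ok : okE 100 l_cQ_cnt_EG = true := (okE_cons.2 ⟨h_g1_ok, (okE_cons.2 ⟨h_a19_ok, (okE_cons.2 ⟨h_a27_ok, (okE_cons.2 ⟨h_g7_ok, (okE_cons.2 ⟨h_a0_ok, (okE_cons.2 ⟨h_g4_ok, (okE_cons.2 ⟨h_a8_ok, (okE_cons.2 ⟨h_g14_ok, (okE_cons.2 ⟨h_g10_ok, (okE_cons.2 ⟨h_g11_ok, (okE_cons.2 ⟨h_g21_ok, (okE_cons.2 ⟨h_g22_ok, (okE_cons.2 ⟨h_g17_ok, (okE_cons.2 ⟨h_g18_ok, (okE_cons.2 ⟨l_g29_ok, (okE_cons.2 ⟨l_g30_ok, (okE_cons.2 ⟨l_g31_ok, (okE_nil 100)⟩)⟩)⟩)⟩)⟩)⟩)⟩)⟩)⟩)⟩)⟩)⟩)⟩)⟩)⟩)⟩)⟩)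

noncomputable def l_g37 : Net := (Net.cons (nat_lit 1) (nat_lit 0x400004000550044440010050) (Net.cons (nat_lit 2) (nat_lit 0x1222030000000030300331200) (Net.cons (nat_lit 4) (nat_lit 0xe020e000804000f04020000) (Net.cons (nat_lit 8) (nat_lit 0x70008600380009000e0000) (Net.cons (nat_lit 16) (nat_lit 0x77000000a00c00000004) (Net.cons (nat_lit 32) (nat_lit 0x40000000040300ff0) (Net.cons (nat_lit 64) (nat_lit 0x8f0300ff4) (Net.cons (nat_lit 32) (nat_lit 0xb00000000f0300ff4) (Net.cons (nat_lit 16) (nat_lit 0x6f6b00000ff30000003f) (Net.cons (nat_lit 8) (nat_lit 0x9f002000bf007d000d0080) (Net.cons (nat_lit 4) (nat_lit 0xa00070b0f080c0f04050608) (Net.cons (nat_lit 2) (nat_lit 0x3111102222103233330231200) (Net.cons (nat_lit 1) (nat_lit 0x5415505500550544441451441) Net.nil)))))))))))))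

theorem l_g37_ok : Net.ok 100 l_g37 = true := by decide +kernel

noncomputable def l_g38 : Net := (Net.cons (nat_lit 1) (nat_lit 0x5555104101000000441554400) (Net.cons (nat_lit 2) (nat_lit 0x3000230001330030002102000) (Net.cons (nat_lit 4) (nat_lit 0x804070e04090e0205010f06) (Net.cons (nat_lit 8) (nat_lit 0x8e007c00c900c800820007) (Net.cons (nat_lit 16) (nat_lit 0x8d100000110f00000001) (Net.cons (nat_lit 32) (nat_lit 0x40000000082550820) (Net.cons (nat_lit 64) (nat_lit 0xfa7d50820) (Net.cons (nat_lit 32) (nat_lit 0xa00000000a594f020) (Net.cons (nat_lit 16) (nat_lit 0xc2050000fd060000eadd) (Net.cons (nat_lit 8) (nat_lit 0xda006c00d70025000c00c9) (Net.cons (nat_lit 4) (nat_lit 0xc01020b060d0a0d01050c0e) (Net.cons (nat_lit 2) (nat_lit 0x3221102211002322221120320) (Net.cons (nat_lit 1) (nat_lit 0x1115011105444144145550444) Net.nil)))))))))))))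

theorem l_g38_ok : Net.ok 100 l_g38 = true := by decide +kernel

noncomputable def l_g39 : Net := (Net.cons (nat_lit 1) (nat_lit 0x4101400004000500000150440) (Net.cons (nat_lit 2) (nat_lit 0x2210311230300200301031000) (Net.cons (nat_lit 4) (nat_lit 0x8020105000e090403020000) (Net.cons (nat_lit 8) (nat_lit 0x5900a1000e000200090000) (Net.cons (nat_lit 16) (nat_lit 0x2830000040b00000000) (Net.cons (nat_lit 32) (nat_lit 0x10000000001e40000) (Net.cons (nat_lit 64) (nat_lit 0xb09f46f00) (Net.cons (nat_lit 32) (nat_lit 0xf000000000bf56f00) (Net.cons (nat_lit 16) (nat_lit 0xdb920000fbbd00000a00) (Net.cons (nat_lit 8) (nat_lit 0xff006f00f40092002d0000) (Net.cons (nat_lit 4) (nat_lit 0x50b00030b090604030b060b) (Net.cons (nat_lit 2) (nat_lit 0x1212231232112312301301300) (Net.cons (nat_lit 1) (nat_lit 0x4400541555401405411401105) Net.nil)))))))))))))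

theorem l_g39_ok : Net.ok 100 l_g39 = true := by decide +kernel

noncomputable def l_K : List Net := [l_g37, l_g38, l_g39]

theorem l_K_ok : okE 100 l_K = true := (okE_cons.2 ⟨l_g37_ok, (okE_cons.2 ⟨l_g38_ok, (okE_cons.2 ⟨l_g39_ok, (okE_nil 100)⟩)⟩)⟩)

noncomputable def l_g41 : Net := (Net.cons (nat_lit 1) (nat_lit 0x5415050000540050001115000) (Net.cons (nat_lit 2) (nat_lit 0x110301130000130302221000) (Net.cons (nat_lit 4) (nat_lit 0x80b040b050d020801030700) (Net.cons (nat_lit 8) (nat_lit 0xe90001000000c000e0000c) (Net.cons (nat_lit 16) (nat_lit 0x50a000001c400000000) (Net.cons (nat_lit 32) (nat_lit 0xc0000000084048000) (Net.cons (nat_lit 64) (nat_lit 0x385edf20c) (Net.cons (nat_lit 32) (nat_lit 0x30000000085edf20c) (Net.cons (nat_lit 16) (nat_lit 0x4b82000001c100006cd8) (Net.cons (nat_lit 8) (nat_lit 0xe600f00054008d001800ec) (Net.cons (nat_lit 4) (nat_lit 0x90b0a03050d0903090c0904) (Net.cons (nat_lit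 2) (nat_lit 0x211301200131102213123230) (Net.cons (nat_lit 1) (nat_lit 0x155105404005550500445054) Net.nil)))))))))))))

theorem l_g41_ok : Net.ok 100 l_g41 = true := by decide +kernel

noncomputable def l_g42 : Net := (Net.cons (nat_lit 1) (nat_lit 0x5545404001101000440005110) (Net.cons (nat_lit 2) (nat_lit 0x3000003303130030302201000) (Net.cons (nat_lit 4) (nat_lit 0xa0800040d0a0b03010b080c) (Net.cons (nat_lit 8) (nat_lit 0xe0099003d004500800008) (Net.cons (nat_lit 16) (nat_lit 0x713d0000860800000008) (Net.cons (nat_lit 32) (nat_lit 0x80000000080257180) (Net.cons (nat_lit 64) (nat_lit 0xe8035f780) (Net.cons (nat_lit 32) (nat_lit 0x100000000e1b59688) (Net.cons (nat_lit 16) (nat_lit 0xe6640000758f0000fdf8) (Net.cons (nat_lit 8) (nat_lit 0x8f002c001a00e2009c0094) (Net.cons (nat_lit 4) (nat_lit 0x2090705090b0a0809030e08) (Net.cons (nat_lit 2) (nat_lit 0x331230013300312210210100) (Net.cons (nat_lit 1) (nat_lit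 0x5405405404510411114001154) Net.nil)))))))))))))

theorem l_g42_ok : Net.ok 100 l_g42 = true := by decide +kernel

noncomputable def l_V43 : List Net := [l_g41, l_g42]

theorem l_V43_ok : okE 100 l_V43 = true := (okE_cons.2 ⟨l_g41_ok, (okE_cons.2 ⟨l_g42_ok, (okE_nil 100)⟩)⟩)

noncomputable def l_V45 : List Net := [l_g41, l_g17]

theorem l_V45_ok : okE 100 l_V45 = true := (okE_cons.2 ⟨l_g41_ok, (okE_cons.2 ⟨l_g17_ok, (okE_nil 100)⟩)⟩)

noncomputable def l_V47 : List Net := [h_g53, h_a0]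

theorem l_V47_ok : okE 100 l_V47 = true := (okE_cons.2 ⟨h_g53_ok, (okE_cons.2 ⟨h_a0_ok, (okE_nil 100)⟩)⟩)

noncomputable def l_V49 : List Net := [h_a0, h_a0]

theorem l_V49_ok : okE 100 l_V49 = true := (okE_cons.2 ⟨h_a0_ok, (okE_cons.2 ⟨h_a0_ok, (okE_nil 100)⟩)⟩)

noncomputable def l_Klb_E : List Net := [l_g37, l_g38, l_g39, l_g41, l_g42, l_g41, l_g17, h_g53, h_a0, h_a0, h_a0]

theorem l_Klb_E_ok : okE 100 l_Klb_E = true := (okE_cons.2 ⟨l_g37_ok, (okE_cons.2 ⟨l_g38_ok, (okE_cons.2 ⟨l_g39_ok, (okE_cons.2 ⟨l_g41_ok, (okE_cons.2 ⟨l_g42_ok, (okE_cons.2 ⟨l_g41_ok, (okE_cons.2 ⟨l_g17_ok, (okE_cons.2 ⟨h_g53_ok, (okE_cons.2 ⟨h_a0_ok, (okE_cons.2 ⟨h_a0_ok, (okE_cons.2 ⟨h_a0_ok, (okE_nil 100)⟩)⟩)⟩)⟩)⟩)⟩)⟩)⟩)⟩)⟩)⟩)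

noncomputable def l_g51 : Net := (Net.cons (nat_lit 1) (nat_lit 0x1444045040101000000110010) (Net.cons (nat_lit 2) (nat_lit 0x2120322100012030300021000) (Net.cons (nat_lit 4) (nat_lit 0x6000801060102000c000200) (Net.cons (nat_lit 8) (nat_lit 0xd2004e00060008000c0000) (Net.cons (nat_lit 16) (nat_lit 0x22d60000670700000000) (Net.cons (nat_lit 32) (nat_lit 0x200000000d2e09000) (Net.cons (nat_lit 64) (nat_lit 0x7d2f0bc00) (Net.cons (nat_lit 32) (nat_lit 0x500000000dafcff00) (Net.cons (nat_lit 16) (nat_lit 0xfecd0000f33f00000800) (Net.cons (nat_lit 8) (nat_lit 0x6d0048000400d000040000) (Net.cons (nat_lit 4) (nat_lit 0xc030c030b0c01000c00040a) (Net.cons (nat_lit 2) (nat_lit 0x3322032321120211030031333) (Net.cons (nat_lit 1) (nat_lit 0x5141451415441144415115001) Net.nil)))))))))))))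

theorem l_g51_ok : Net.ok 100 l_g51 = true := by decide +kernel

noncomputable def l_g52 : Net := (Net.cons (nat_lit 1) (nat_lit 0x4455540400550000500551010) (Net.cons (nat_lit 2) (nat_lit 0x2333310000330010301021000) (Net.cons (nat_lit 4) (nat_lit 0x20806000b07000e08000c00) (Net.cons (nat_lit 8) (nat_lit 0x4900a700d2008000010001) (Net.cons (nat_lit 16) (nat_lit 0xf150000680200000000) (Net.cons (nat_lit 32) (nat_lit 0xc000000001cba6710) (Net.cons (nat_lit 64) (nat_lit 0xc1cba6710) (Net.cons (nat_lit 32) (nat_lit 0x30000000004a28111) (Net.cons (nat_lit 16) (nat_lit 0x88590000199800009801) (Net.cons (nat_lit 8) (nat_lit 0x5f006400b9009e00010001) (Net.cons (nat_lit 4) (nat_lit 0xb040d070c0b070701040705) (Net.cons (nat_lit 2) (nat_lit 0x1012101012221101301221233) (Net.cons (nat_lit 1) (nat_lit 0x5005501400005550504555001) Net.nil)))))))))))))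

theorem l_g52_ok : Net.ok 100 l_g52 = true := by decide +kernel

noncomputable def l_S : List Net := [l_g51, l_g52, h_g130, h_a19, l_g16, h_g50]

theorem l_S_ok : okE 100 l_S = true := (okE_cons.2 ⟨l_g51_ok, (okE_cons.2 ⟨l_g52_ok, (okE_cons.2 ⟨h_g130_ok, (okE_cons.2 ⟨h_a19_ok, (okE_cons.2 ⟨l_g16_ok, (okE_cons.2 ⟨h_g50_ok, (okE_nil 100)⟩)⟩)⟩)⟩)⟩)⟩)

noncomputable def l_V53 : List Net := [l_g51]

theorem l_V53_ok : okE 100 l_V53 = true := (okE_cons.2 ⟨l_g51_ok, (okE_nil 100)⟩)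

noncomputable def l_g55 : Net := (Net.cons (nat_lit 1) (nat_lit 0x4515510400550050000110040) (Net.cons (nat_lit 2) (nat_lit 0x123302100330022202003000) (Net.cons (nat_lit 4) (nat_lit 0xe09030008080007010000) (Net.cons (nat_lit 8) (nat_lit 0x2600210020000200070000) (Net.cons (nat_lit 16) (nat_lit 0x99200000000000000005) (Net.cons (nat_lit 32) (nat_lit 0xa0000000026d9fff0) (Net.cons (nat_lit 64) (nat_lit 0xfa6dbfff5) (Net.cons (nat_lit 32) (nat_lit 0xb0000000026d9fff4) (Net.cons (nat_lit 16) (nat_lit 0x193a0000001800002305) (Net.cons (nat_lit 8) (nat_lit 0x3e00670046005c00170000) (Net.cons (nat_lit 4) (nat_lit 0xa080d070f0e0c0e07010c08) (Net.cons (nat_lit 2) (nat_lit 0x1303310300330000132203000) (Net.cons (nat_lit 1) (nat_lit 0x4515510400550050000111440) Net.nil)))))))))))))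

theorem l_g55_ok : Net.ok 100 l_g55 = true := by decide +kernel

noncomputable def l_g56 : Net := (Net.cons (nat_lit 1) (nat_lit 0x4455040400404050000150440) (Net.cons (nat_lit 2) (nat_lit 0x3113310000000030301031000) (Net.cons (nat_lit 4) (nat_lit 0x504000d00070b08040c0900) (Net.cons (nat_lit 8) (nat_lit 0xe700d70001004100040000) (Net.cons (nat_lit 16) (nat_lit 0x25c30000709600000000) (Net.cons (nat_lit 32) (nat_lit 0x7000000008110fee0) (Net.cons (nat_lit 64) (nat_lit 0x78110fee0) (Net.cons (nat_lit 32) (nat_lit 0xc00000000018408e0) (Net.cons (nat_lit 16) (nat_lit 0xb62200008eef00000000) (Net.cons (nat_lit 8) (nat_lit 0x8c0085008e008100c60000) (Net.cons (nat_lit 4) (nat_lit 0x10b0c030806000804050f07) (Net.cons (nat_lit 2) (nat_lit 0x2222222211011022301301200) (Net.cons (nat_lit 1) (nat_lit 0x5144151411454050141401114) Net.nil)))))))))))))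

theorem l_g56_ok : Net.ok 100 l_g56 = true := by decide +kernel

noncomputable def l_g57 : Net := (Net.cons (nat_lit 1) (nat_lit 0x4455040400404050000150440) (Net.cons (nat_lit 2) (nat_lit 0x3112010003000030301031000) (Net.cons (nat_lit 4) (nat_lit 0xa0f000e0e0d0e01020b0200) (Net.cons (nat_lit 8) (nat_lit 0x9900760022005400020006) (Net.cons (nat_lit 16) (nat_lit 0x99d0000108800000000) (Net.cons (nat_lit 32) (nat_lit 0xc000000002c877b10) (Net.cons (nat_lit 64) (nat_lit 0xc2c877b10) (Net.cons (nat_lit 32) (nat_lit 0x2000000003c041216) (Net.cons (nat_lit 16) (nat_lit 0x7d290000d37b00000002) (Net.cons (nat_lit 8) (nat_lit 0x670039007100d500260006) (Net.cons (nat_lit 4) (nat_lit 0xb0e030c01030d0102020207) (Net.cons (nat_lit 2) (nat_lit 0x2222222211233211301301300) (Net.cons (nat_lit 1) (nat_lit 0x411104141454050411401114) Net.nil)))))))))))))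

theorem l_g57_ok : Net.ok 100 l_g57 = true := by decide +kernel

noncomputable def l_V58 : List Net := [l_g55, l_g56, l_g57]

theorem l_V58_ok : okE 100 l_V58 = true := (okE_cons.2 ⟨l_g55_ok, (okE_cons.2 ⟨l_g56_ok, (okE_cons.2 ⟨l_g57_ok, (okE_nil 100)⟩)⟩)⟩)

noncomputable def l_V60 : List Net := [l_g55]

theorem l_V60_ok : okE 100 l_V60 = true := (okE_cons.2 ⟨l_g55_ok, (okE_nil 100)⟩)

noncomputable def l_g62 : Net := (Net.cons (nat_lit 1) (nat_lit 0x4101400004000500000150440) (Net.cons (nat_lit 2) (nat_lit 0x121322130100300301031000) (Net.cons (nat_lit 4) (nat_lit 0x50b04000b0600020c0c0900) (Net.cons (nat_lit 8) (nat_lit 0x62008900b4000400980002) (Net.cons (nat_lit 16) (nat_lit 0x4210000000a00000000) (Net.cons (nat_lit 32) (nat_lit 0x20000000020f50000) (Net.cons (nat_lit 64) (nat_lit 0x8b0f5f402) (Net.cons (nat_lit 32) (nat_lit 0x900000000b4fdf402) (Net.cons (nat_lit 16) (nat_lit 0x26cc00006fdc00001400)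 (Net.cons (nat_lit 8) (nat_lit 0xbf00f80024004600da0002) (Net.cons (nat_lit 4) (nat_lit 0xe040d0d000d02020c05090b) (Net.cons (nat_lit 2) (nat_lit 0x1100230112132112301301200) (Net.cons (nat_lit 1) (nat_lit 0x110055050144505141401105) Net.nil)))))))))))))

theorem l_g62_ok : Net.ok 100 l_g62 = true := by decide +kernel

noncomputable def l_g63 : Net := (Net.cons (nat_lit 1) (nat_lit 0x5000050000000000501551000) (Net.cons (nat_lit 2) (nat_lit 0x3113302200330030002301000) (Net.cons (nat_lit 4) (nat_lit 0x80c070e0c01000802000000) (Net.cons (nat_lit 8) (nat_lit 0xcd006a0031008400020000) (Net.cons (nat_lit 16) (nat_lit 0x83090000800400000002) (Net.cons (nat_lit 32) (nat_lit 0x80000000050068b70) (Net.cons (nat_lit 64) (nat_lit 0x850068b70) (Net.cons (nat_lit 32) (nat_lit 0xf00000000d0068b72) (Net.cons (nat_lit 16) (nat_lit 0xa07c0000b10400000202) (Net.cons (nat_lit 8) (nat_lit 0xfc0047003d008c000b0000) (Net.cons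 (nat_lit 4) (nat_lit 0x40d020f0f00010802060400) (Net.cons (nat_lit 2) (nat_lit 0x1330020033003312222031000) (Net.cons (nat_lit 1) (nat_lit 0x144401411441155050000511) Net.nil)))))))))))))

theorem l_g63_ok : Net.ok 100 l_g63 = true := by decide +kernel

noncomputable def l_V64 : List Net := [l_g62, l_g63]

theorem l_V64_ok : okE 100 l_V64 = true := (okE_cons.2 ⟨l_g62_ok, (okE_cons.2 ⟨l_g63_ok, (okE_nil 100)⟩)⟩)

noncomputable def l_g66 : Net := (Net.cons (nat_lit 1) (nat_lit 0x1555551000550050500000000) (Net.cons (nat_lit 2) (nat_lit 0x33331200330000003120000) (Net.cons (nat_lit 4) (nat_lit 0x300080f0009000f00020200) (Net.cons (nat_lit 8) (nat_lit 0x5900c4005900a000020007) (Net.cons (nat_lit 16) (nat_lit 0x22900000b00000000001) (Net.cons (nat_lit 32) (nat_lit 0x5000000005930c0a0) (Net.cons (nat_lit 64) (nat_lit 0x5b31f8a7) (Net.cons (nat_lit 32) (nat_lit 0x300000000f930c0a0) (Net.cons (nat_lit 16) (nat_lit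 0xd2280000b00000000000) (Net.cons (nat_lit 8) (nat_lit 0xc9005100c000a5000e0007) (Net.cons (nat_lit 4) (nat_lit 0x5090a0f0900000f0001020c) (Net.cons (nat_lit 2) (nat_lit 0x2033301200330022223210200) (Net.cons (nat_lit 1) (nat_lit 0x5105015505055005051550144) Net.nil)))))))))))))

theorem l_g66_ok : Net.ok 100 l_g66 = true := by decide +kernel

noncomputable def l_V67 : List Net := [l_g66, l_g39]

theorem l_V67_ok : okE 100 l_V67 = true := (okE_cons.2 ⟨l_g66_ok, (okE_cons.2 ⟨l_g39_ok, (okE_nil 100)⟩)⟩)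

noncomputable def l_So_E3 : List Net := []

theorem l_So_E3_ok : okE 100 l_So_E3 = true := (okE_nil 100)

noncomputable def l_So_G2 : List Net := [l_g66, l_g39]

theorem l_So_G2_ok : okE 100 l_So_G2 = true := (okE_cons.2 ⟨l_g66_ok, (okE_cons.2 ⟨l_g39_ok, (okE_nil 100)⟩)⟩)

noncomputable def l_So_E2 : List Net := [l_g66, l_g39, l_g62, l_g63]

theorem l_So_E2_ok : okE 100 l_So_E2 = true := (okE_cons.2 ⟨l_g66_ok, (okE_cons.2 ⟨l_g39_ok, (okE_cons.2 ⟨l_g62_ok, (okE_cons.2 ⟨l_g63_ok, (okE_nil 100)⟩)⟩)⟩)⟩)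

noncomputable def l_So_G1 : List Net := [l_g55, l_g66, l_g39, l_g62, l_g63]

theorem l_So_G1_ok : okE 100 l_So_G1 = true := (okE_cons.2 ⟨l_g55_ok, (okE_cons.2 ⟨l_g66_ok, (okE_cons.2 ⟨l_g39_ok, (okE_cons.2 ⟨l_g62_ok, (okE_cons.2 ⟨l_g63_ok, (okE_nil 100)⟩)⟩)⟩)⟩)⟩)

noncomputable def l_So_E1 : List Net := [l_g55, l_g56, l_g57, l_g66, l_g39, l_g62, l_g63]

theorem l_So_E1_ok : okE 100 l_So_E1 = true := (okE_cons.2 ⟨l_g55_ok, (okE_cons.2 ⟨l_g56_ok, (okE_cons.2 ⟨l_g57_ok, (okE_cons.2 ⟨l_g66_ok, (okE_cons.2 ⟨l_g39_ok, (okE_cons.2 ⟨l_g62_ok, (okE_cons.2 ⟨l_g63_ok, (okE_nil 100)⟩)⟩)⟩)⟩)⟩)⟩)⟩)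

noncomputable def l_So_G0 : List Net := [l_g51, l_g55, l_g56, l_g57, l_g66, l_g39, l_g62, l_g63]

theorem l_So_G0_ok : okE 100 l_So_G0 = true := (okE_cons.2 ⟨l_g51_ok, (okE_cons.2 ⟨l_g55_ok, (okE_cons.2 ⟨l_g56_ok, (okE_cons.2 ⟨l_g57_ok, (okE_cons.2 ⟨l_g66_ok, (okE_cons.2 ⟨l_g39_ok, (okE_cons.2 ⟨l_g62_ok, (okE_cons.2 ⟨l_g63_ok, (okE_nil 100)⟩)⟩)⟩)⟩)⟩)⟩)⟩)⟩)

noncomputable def l_So_E0 : List Net := [l_g51, l_g52, h_g130, h_a19, l_g16, h_g50, l_g55, l_g56, l_g57, l_g66, l_g39, l_g62, l_g63]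

theorem l_So_E0_ok : okE 100 l_So_E0 = true := (okE_cons.2 ⟨l_g51_ok, (okE_cons.2 ⟨l_g52_ok, (okE_cons.2 ⟨h_g130_ok, (okE_cons.2 ⟨h_a19_ok, (okE_cons.2 ⟨l_g16_ok, (okE_cons.2 ⟨h_g50_ok, (okE_cons.2 ⟨l_g55_ok, (okE_cons.2 ⟨l_g56_ok, (okE_cons.2 ⟨l_g57_ok, (okE_cons.2 ⟨l_g66_ok, (okE_cons.2 ⟨l_g39_ok, (okE_cons.2 ⟨l_g62_ok, (okE_cons.2 ⟨l_g63_ok, (okE_nil 100)⟩)⟩)⟩)⟩)⟩)⟩)⟩)⟩)⟩)⟩)⟩)⟩)⟩)

noncomputable def l_u : Net := (Net.cons (nat_lit 1) (nat_lit 0x5415550000550050501501040) (Net.cons (nat_lit 2) (nat_lit 0x10001000000030003002000) (Net.cons (nat_lit 4) (nat_lit 0xa0a0f07080002030f050000) (Net.cons (nat_lit 8) (nat_lit 0x500630028000200070000) (Net.cons (nat_lit 16) (nat_lit 0xb8010000000200000006) (Net.cons (nat_lit 32) (nat_lit 0xa0000000020fad030) (Net.cons (nat_lit 64) (nat_lit 0xc28fbd036) (Net.cons (nat_lit 32) (nat_lit 0x10000000020fad034) (Net.cons (nat_lit 16) (nat_lit 0xa2850000000a00002106)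 (Net.cons (nat_lit 8) (nat_lit 0x85007d00a2009b00470000) (Net.cons (nat_lit 4) (nat_lit 0xb02080f00080a0b0f0c0808) (Net.cons (nat_lit 2) (nat_lit 0x1201110211111130213002000) (Net.cons (nat_lit 1) (nat_lit 0x140005555005505051500551) Net.nil)))))))))))))

theorem l_u_ok : Net.ok 100 l_u = true := by decide +kernel

noncomputable def l_om : Net := (Net.cons (nat_lit 1) (nat_lit 0x1555545040100444114405540) (Net.cons (nat_lit 2) (nat_lit 0x2222122030130003113301310) (Net.cons (nat_lit 4) (nat_lit 0xb09000b0103030303080c04) (Net.cons (nat_lit 8) (nat_lit 0x4000e000b00a80088000a) (Net.cons (nat_lit 16) (nat_lit 0x86890000120000000008) (Net.cons (nat_lit 32) (nat_lit 0xa000000000012b0c0) (Net.cons (nat_lit 64) (nat_lit 0x64adab5cc) (Net.cons (nat_lit 32) (nat_lit 0xd00000000b189965c) (Net.cons (nat_lit 16) (nat_lit 0x67920000d86b0000b5da) (Net.cons (nat_lit 8) (nat_lit 0x85005900b3006a0044002c) (Net.cons (nat_lit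 4) (nat_lit 0xc0d090b050809020f0d040f) (Net.cons (nat_lit 2) (nat_lit 0x1020320302133003301100103) (Net.cons (nat_lit 1) (nat_lit 0x1154114511005515555550410) Net.nil)))))))))))))

theorem l_om_ok : Net.ok 100 l_om = true := by decide +kernel

theorem f_le5 : grp 5 f_V4 ≤ grp 5 f_K :=
  grp_le_of_memB f_hn f_hk f_K_ok f_V4_ok (ws := [nat_lit 1]) (by decide +kernel)

theorem f_le9 : grp 5 f_V8 ≤ grp 5 f_K :=
  grp_le_of_memB f_hn f_hk f_K_ok f_V8_ok (ws := [nat_lit 0x2020406060106020402, nat_lit 0x2060406030205050402]) (by decide +kernel)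

theorem f_le12 : grp 5 f_V11 ≤ grp 5 f_V8 :=
  grp_le_of_memB f_hn f_hk f_V8_ok f_V11_ok (ws := [nat_lit 770]) (by decide +kernel)

theorem f_le15 : grp 5 f_V14 ≤ grp 5 f_V8 :=
  grp_le_of_memB f_hn f_hk f_V8_ok f_V14_ok (ws := [nat_lit 0x2020202, nat_lit 0x101030303]) (by decide +kernel)

theorem f_le17 : grp 5 f_V16 ≤ grp 5 f_V14 :=
  grp_le_of_memB f_hn f_hk f_V14_ok f_V16_ok (ws := [nat_lit 1]) (by decide +kernel)

theorem f_o_card3 : Nat.card (grp 5 f_o_E3) = 1 :=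
  card_grp_nil 5

theorem f_o_leO3 : grp 5 f_o_E3 ≤ grp 5 f_K :=
  grp_nil_le _

theorem f_o_2_fix : grp 5 f_o_E3 ≤ MulAction.stabilizer (Equiv.Perm (Fin 5)) (⟨4, by decide⟩ : Fin 5) :=
  grp_le_stab f_o_E3_ok (by decide : 4 < 5) (by decide +kernel)

noncomputable def f_o_2_ts : List ℕ := [nat_lit 0, nat_lit 1, nat_lit 2]

noncomputable def f_o_2_ds : List ℕ := [nat_lit 4, nat_lit 1, nat_lit 3]

theorem f_o_2_dist : Dist 5 f_o_E3 f_o_G2 (⟨4, by decide⟩ : Fin 5) f_o_2_ts f_o_2_ds :=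
  dist_of_distB (k := 2) f_hn f_o_E3_ok f_o_G2_ok (by decide : 4 < 5) (by decide +kernel)

noncomputable def f_o_2_sl0 : SL := (SL.cons (nat_lit 1) (nat_lit 1) Ch.nil [] (SL.cons (nat_lit 2) (nat_lit 3) Ch.nil [] SL.nil))

theorem f_o_2_sc0 : SCs 5 f_o_E3 f_o_G2 (⟨4, by decide⟩ : Fin 5) (SL.words f_o_2_sl0) :=
  scs_of_ok f_hn (det_lab f_hk ⊤) f_o_E3_ok f_o_G2_ok le_top le_top (by decide : 4 < 5) f_o_2_fix f_o_card3.le (by decide +kernel)

noncomputable def f_o_2_l : List ℕ := (appL (SL.words f_o_2_sl0) [])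

theorem f_o_2_scs : SCs 5 f_o_E3 f_o_G2 (⟨4, by decide⟩ : Fin 5) f_o_2_l :=
  (SCs.append f_o_2_sc0 SCs.nil)

noncomputable def f_o_2_rl0_0 : RL := (RL.cons (nat_lit 0) (nat_lit 4) (nat_lit 0) (nat_lit 0) (nat_lit 2) (nat_lit 0) (RL.cons (nat_lit 1) (nat_lit 1) (nat_lit 0) (nat_lit 0) (nat_lit 0) (nat_lit 0) (RL.cons (nat_lit 2) (nat_lit 3) (nat_lit 0) (nat_lit 0) (nat_lit 1) (nat_lit 0) RL.nil)))

theorem f_o_2_good0_0 : GoodSet 5 f_o_E3 f_o_G2 (⟨4, by decide⟩ : Fin 5) f_o_2_ts (nat_lit 1) (RL.pts f_o_2_rl0_0) :=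
  goodSet_of_ok f_hn (det_lab f_hk ⊤) f_o_E3_ok f_o_G2_ok le_top le_top (by decide : 4 < 5) (sepAt_lab f_hk _) (by decide +kernel)

theorem f_o_2_step0 : Step 5 f_o_E3 f_o_G2 f_o_2_ts (2 * 0 + 1) :=
  step_of_cover f_o_E3_ok f_o_2_dist (by decide +kernel) f_o_2_scs (by decide +kernel) f_o_2_good0_0 (kw := [])
    (conj_mem_of_scs f_o_E3_ok f_o_G2_ok (by decide : 4 < 5) f_o_2_scs (c := 0) (d := 1) (by decide +kernel)) (by decide +kernel)

theorem f_o_2_lev : grp 5 f_o_G2 ⊓ MulAction.stabilizer (Equiv.Perm (Fin 5)) (⟨4, by decide⟩ : Fin 5) = grp 5 f_o_E3 :=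
  sims_level (gs := f_V16) rfl (by decide) f_o_2_fix f_o_2_dist (forall_lt_one f_o_2_step0)

theorem f_o_2_cardG : Nat.card (grp 5 f_o_G2) = 3 :=
  card_of_level f_hn f_o_G2_ok (by decide : 4 < 5) f_o_2_lev f_o_card3 (m := 3) (by decide +kernel)

theorem f_le18 : grp 5 f_o_E2 ≤ grp 5 f_o_G2 :=
  grp_le_of_memB f_hn f_hk f_o_G2_ok f_o_E2_ok (ws := [nat_lit 1]) (by decide +kernel)

theorem f_le19 : grp 5 f_o_G2 ≤ grp 5 f_o_E2 :=
  grp_le_of_memB f_hn f_hk f_o_E2_ok f_o_G2_ok (ws := [nat_lit 1]) (by decide +kernel)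

theorem f_o_2_eq : grp 5 f_o_E2 = grp 5 f_o_G2 :=
  le_antisymm f_le18 f_le19

theorem f_o_card2 : Nat.card (grp 5 f_o_E2) = 3 :=
  by rw [f_o_2_eq]; exact f_o_2_cardG

theorem f_o_stab2 : grp 5 f_o_E2 ⊓ MulAction.stabilizer (Equiv.Perm (Fin 5)) (⟨4, by decide⟩ : Fin 5) = grp 5 f_o_E3 :=
  by rw [f_o_2_eq]; exact f_o_2_lev

theorem f_o_leO2 : grp 5 f_o_E2 ≤ grp 5 f_K :=
  f_o_2_eq.le.trans (grp_cons_le ((f_le15.trans (f_le9.trans (le_refl (grp 5 f_K)))) (f_le17 (toPerm_mem_grp (E := f_V16) (by simp [f_V16])))) f_o_leO3)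

theorem f_o_1_fix : grp 5 f_o_E2 ≤ MulAction.stabilizer (Equiv.Perm (Fin 5)) (⟨2, by decide⟩ : Fin 5) :=
  grp_le_stab f_o_E2_ok (by decide : 2 < 5) (by decide +kernel)

noncomputable def f_o_1_ts : List ℕ := [nat_lit 0, nat_lit 1]

noncomputable def f_o_1_ds : List ℕ := [nat_lit 2, nat_lit 4]

theorem f_o_1_dist : Dist 5 f_o_E2 f_o_G1 (⟨2, by decide⟩ : Fin 5) f_o_1_ts f_o_1_ds :=
  dist_of_distB (k := 1) f_hn f_o_E2_ok f_o_G1_ok (by decide : 2 < 5) (by decide +kernel)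

noncomputable def f_o_1_sl0 : SL := (SL.cons (nat_lit 1) (nat_lit 4) Ch.nil [] SL.nil)

theorem f_o_1_sc0 : SCs 5 f_o_E2 f_o_G1 (⟨2, by decide⟩ : Fin 5) (SL.words f_o_1_sl0) :=
  scs_of_ok f_hn (det_lab f_hk ⊤) f_o_E2_ok f_o_G1_ok le_top le_top (by decide : 2 < 5) f_o_1_fix f_o_card2.le (by decide +kernel)

noncomputable def f_o_1_l : List ℕ := (appL (SL.words f_o_1_sl0) [])

theorem f_o_1_scs : SCs 5 f_o_E2 f_o_G1 (⟨2, by decide⟩ : Fin 5) f_o_1_l :=
  (SCs.append f_o_1_sc0 SCs.nil)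

noncomputable def f_o_1_rl0_0 : RL := (RL.cons (nat_lit 0) (nat_lit 2) (nat_lit 0) (nat_lit 1) (nat_lit 1) (nat_lit 1) (RL.cons (nat_lit 1) (nat_lit 4) (nat_lit 0) (nat_lit 0) (nat_lit 0) (nat_lit 0) (RL.cons (nat_lit 1) (nat_lit 1) (nat_lit 1) (nat_lit 0) (nat_lit 1) (nat_lit 2) (RL.cons (nat_lit 1) (nat_lit 3) (nat_lit 2) (nat_lit 2) (nat_lit 1) (nat_lit 1) RL.nil))))

theorem f_o_1_good0_0 : GoodSet 5 f_o_E2 f_o_G1 (⟨2, by decide⟩ : Fin 5) f_o_1_ts (nat_lit 1) (RL.pts f_o_1_rl0_0) :=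
  goodSet_of_ok f_hn (det_lab f_hk ⊤) f_o_E2_ok f_o_G1_ok le_top le_top (by decide : 2 < 5) (sepAt_lab f_hk _) (by decide +kernel)

theorem f_o_1_step0 : Step 5 f_o_E2 f_o_G1 f_o_1_ts (2 * 0 + 1) :=
  step_of_cover f_o_E2_ok f_o_1_dist (by decide +kernel) f_o_1_scs (by decide +kernel) f_o_1_good0_0 (kw := [])
    (conj_mem_of_scs f_o_E2_ok f_o_G1_ok (by decide : 2 < 5) f_o_1_scs (c := 0) (d := 4) (by decide +kernel)) (by decide +kernel)

theorem f_o_1_lev : grp 5 f_o_G1 ⊓ MulAction.stabilizer (Equiv.Perm (Fin 5)) (⟨2, by decide⟩ : Fin 5) = grp 5 f_o_E2 :=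
  sims_level (gs := f_V11) rfl (by decide) f_o_1_fix f_o_1_dist (forall_lt_one f_o_1_step0)

theorem f_o_1_cardG : Nat.card (grp 5 f_o_G1) = 12 :=
  card_of_level f_hn f_o_G1_ok (by decide : 2 < 5) f_o_1_lev f_o_card2 (m := 4) (by decide +kernel)

theorem f_le20 : grp 5 f_o_E1 ≤ grp 5 f_o_G1 :=
  grp_le_of_memB f_hn f_hk f_o_G1_ok f_o_E1_ok (ws := [nat_lit 1, nat_lit 4, nat_lit 260, nat_lit 3]) (by decide +kernel)

theorem f_le21 : grp 5 f_o_G1 ≤ grp 5 f_o_E1 :=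
  grp_le_of_memB f_hn f_hk f_o_E1_ok f_o_G1_ok (ws := [nat_lit 1, nat_lit 7]) (by decide +kernel)

theorem f_o_1_eq : grp 5 f_o_E1 = grp 5 f_o_G1 :=
  le_antisymm f_le20 f_le21

theorem f_o_card1 : Nat.card (grp 5 f_o_E1) = 12 :=
  by rw [f_o_1_eq]; exact f_o_1_cardG

theorem f_o_stab1 : grp 5 f_o_E1 ⊓ MulAction.stabilizer (Equiv.Perm (Fin 5)) (⟨2, by decide⟩ : Fin 5) = grp 5 f_o_E2 :=
  by rw [f_o_1_eq]; exact f_o_1_lev

theorem f_o_leO1 : grp 5 f_o_E1 ≤ grp 5 f_K :=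
  f_o_1_eq.le.trans (grp_cons_le ((f_le9.trans (le_refl (grp 5 f_K))) (f_le12 (toPerm_mem_grp (E := f_V11) (by simp [f_V11])))) f_o_leO2)

theorem f_o_0_fix : grp 5 f_o_E1 ≤ MulAction.stabilizer (Equiv.Perm (Fin 5)) (⟨0, by decide⟩ : Fin 5) :=
  grp_le_stab f_o_E1_ok (by decide : 0 < 5) (by decide +kernel)

noncomputable def f_o_0_ts : List ℕ := [nat_lit 0, nat_lit 1]

noncomputable def f_o_0_ds : List ℕ := [nat_lit 0, nat_lit 2]

theorem f_o_0_dist : Dist 5 f_o_E1 f_o_G0 (⟨0, by decide⟩ : Fin 5) f_o_0_ts f_o_0_ds :=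
  dist_of_distB (k := 1) f_hn f_o_E1_ok f_o_G0_ok (by decide : 0 < 5) (by decide +kernel)

noncomputable def f_o_0_sl0 : SL := (SL.cons (nat_lit 1) (nat_lit 2) (Ch.cons (nat_lit 4) [nat_lit 7] Ch.nil) [nat_lit 8] SL.nil)

theorem f_o_0_sc0 : SCs 5 f_o_E1 f_o_G0 (⟨0, by decide⟩ : Fin 5) (SL.words f_o_0_sl0) :=
  scs_of_ok f_hn (det_lab f_hk ⊤) f_o_E1_ok f_o_G0_ok le_top le_top (by decide : 0 < 5) f_o_0_fix f_o_card1.le (by decide +kernel)

noncomputable def f_o_0_l : List ℕ := (appL (SL.words f_o_0_sl0) [])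

theorem f_o_0_scs : SCs 5 f_o_E1 f_o_G0 (⟨0, by decide⟩ : Fin 5) f_o_0_l :=
  (SCs.append f_o_0_sc0 SCs.nil)

noncomputable def f_o_0_rl0_0 : RL := (RL.cons (nat_lit 0) (nat_lit 0) (nat_lit 0) (nat_lit 0) (nat_lit 1) (nat_lit 0) (RL.cons (nat_lit 1) (nat_lit 2) (nat_lit 0) (nat_lit 0) (nat_lit 0) (nat_lit 0) (RL.cons (nat_lit 1) (nat_lit 4) (nat_lit 1) (nat_lit 2) (nat_lit 1) (nat_lit 2) RL.nil)))

theorem f_o_0_good0_0 : GoodSet 5 f_o_E1 f_o_G0 (⟨0, by decide⟩ : Fin 5) f_o_0_ts (nat_lit 1) (RL.pts f_o_0_rl0_0) :=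
  goodSet_of_ok f_hn (det_lab f_hk ⊤) f_o_E1_ok f_o_G0_ok le_top le_top (by decide : 0 < 5) (sepAt_lab f_hk _) (by decide +kernel)

theorem f_o_0_step0 : Step 5 f_o_E1 f_o_G0 f_o_0_ts (2 * 0 + 1) :=
  step_of_cover f_o_E1_ok f_o_0_dist (by decide +kernel) f_o_0_scs (by decide +kernel) f_o_0_good0_0 (kw := [nat_lit 7])
    (conj_mem_of_scs f_o_E1_ok f_o_G0_ok (by decide : 0 < 5) f_o_0_scs (c := 0) (d := 2) (by decide +kernel)) (by decide +kernel)

theorem f_o_0_lev : grp 5 f_o_G0 ⊓ MulAction.stabilizer (Equiv.Perm (Fin 5)) (⟨0, by decide⟩ : Fin 5) = grp 5 f_o_E1 :=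
  sims_level (gs := f_V4) rfl (by decide) f_o_0_fix f_o_0_dist (forall_lt_one f_o_0_step0)

theorem f_o_0_cardG : Nat.card (grp 5 f_o_G0) = 60 :=
  card_of_level f_hn f_o_G0_ok (by decide : 0 < 5) f_o_0_lev f_o_card1 (m := 5) (by decide +kernel)

theorem f_le22 : grp 5 f_o_E0 ≤ grp 5 f_o_G0 :=
  grp_le_of_memB f_hn f_hk f_o_G0_ok f_o_E0_ok (ws := [nat_lit 1, nat_lit 0x9040107, nat_lit 2305, nat_lit 3, nat_lit 5, nat_lit 7, nat_lit 9]) (by decide +kernel)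

theorem f_le23 : grp 5 f_o_G0 ≤ grp 5 f_o_E0 :=
  grp_le_of_memB f_hn f_hk f_o_E0_ok f_o_G0_ok (ws := [nat_lit 1, nat_lit 7, nat_lit 9, nat_lit 11, nat_lit 13]) (by decide +kernel)

theorem f_o_0_eq : grp 5 f_o_E0 = grp 5 f_o_G0 :=
  le_antisymm f_le22 f_le23

theorem f_o_card0 : Nat.card (grp 5 f_o_E0) = 60 :=
  by rw [f_o_0_eq]; exact f_o_0_cardG

theorem f_o_stab0 : grp 5 f_o_E0 ⊓ MulAction.stabilizer (Equiv.Perm (Fin 5)) (⟨0, by decide⟩ : Fin 5) = grp 5 f_o_E1 :=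
  by rw [f_o_0_eq]; exact f_o_0_lev

theorem f_o_leO0 : grp 5 f_o_E0 ≤ grp 5 f_K :=
  f_o_0_eq.le.trans (grp_cons_le ((le_refl (grp 5 f_K)) (f_le5 (toPerm_mem_grp (E := f_V4) (by simp [f_V4])))) f_o_leO1)

theorem f_le24 : grp 5 f_K ≤ grp 5 f_o_E0 :=
  grp_le_of_memB f_hn f_hk f_o_E0_ok f_K_ok (ws := [nat_lit 1, nat_lit 3, nat_lit 5]) (by decide +kernel)

theorem f_o_eq : grp 5 f_K = grp 5 f_o_E0 :=
  le_antisymm f_le24 f_o_leO0

theorem f_o_card : Nat.card (grp 5 f_K) = 60 :=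
  by rw [f_o_eq]; exact f_o_card0

noncomputable def f_o_ch : Ch := (Ch.cons (nat_lit 0) [nat_lit 1, nat_lit 3, nat_lit 5] (Ch.cons (nat_lit 2) [nat_lit 7, nat_lit 9, nat_lit 11] (Ch.cons (nat_lit 4) [nat_lit 13] Ch.nil)))

theorem f_o_exact : Ch.Exact 5 f_o_E0 f_o_ch (grp 5 f_o_E0) :=
  Ch.exact (k := 3) (L := (lab 5 3)) f_hn f_o_E0_ok (by decide +kernel) (wgrp_le_grp _ _ _) f_o_card0.le

theorem l_T_s0 : Stab 100 (grp 100 h_E0) [] h_E0 604800 :=
  Stab.root h_E0_ok h_card0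

theorem l_le5 : grp 100 lz_K ≤ grp 100 h_E0 :=
  grp_le_of_memB l_hn l_hk h_E0_ok lz_K_ok (ws := [nat_lit 0x15120808010710, nat_lit 0x161a0f110710, nat_lit 0x1717100d12, nat_lit 6674]) (by decide +kernel)

theorem lz_le : grp 100 lz_K ≤ (grp 100 h_E0) :=
  (l_le5.trans l_T_s0.le)

theorem lz_mem : Net.toPerm 100 h_a0 ∈ (grp 100 h_E0) :=
  lz_le (mem_grp_of_memB l_hn l_hk lz_K_ok h_a0_ok (w := (nat_lit 197379)) (by decide +kernel))

theorem lz_sym : Sym 100 (grp 100 h_E0) [h_a0] lz_K 0 :=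
  Sym.of_lab l_hn l_hk (okE_cons.2 ⟨h_a0_ok, okE_nil _⟩) lz_K_ok lz_le (kT := 0) (by decide +kernel)

theorem l_T_s1 : Stab 100 (grp 100 h_E0) [nat_lit 0] l_V6 6048 :=
  Stab.step (k := 7) (L := (lab 100 7)) l_hn l_T_s0 l_V6_ok (grp_mono (List.subset_append_right [h_g1, h_a19, h_a27] _)) (c := (Ch.cons (nat_lit 17) [nat_lit 1, nat_lit 3, nat_lit 5, nat_lit 7] (Ch.cons (nat_lit 44) [nat_lit 9, nat_lit 11, nat_lit 13] (Ch.cons (nat_lit 9) [nat_lit 15, nat_lit 17, nat_lit 19, nat_lit 21] Ch.nil)))) (by decide +kernel)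

theorem l_T_s2 : Stab 100 (grp 100 h_E0) [nat_lit 17, nat_lit 0] l_V7 168 :=
  Stab.step (k := 7) (L := (lab 100 7)) l_hn l_T_s1 l_V7_ok (grp_mono (List.subset_append_right [h_g7, h_a0, h_g4, h_a8] _)) (c := (Ch.cons (nat_lit 44) [nat_lit 1, nat_lit 3, nat_lit 5] (Ch.cons (nat_lit 9) [nat_lit 7, nat_lit 9, nat_lit 11, nat_lit 13] Ch.nil))) (by decide +kernel)

theorem l_T_s3 : Stab 100 (grp 100 h_E0) [nat_lit 44, nat_lit 17, nat_lit 0] l_V8 24 :=
  Stab.step (k := 7) (L := (lab 100 7)) l_hn l_T_s2 l_V8_ok (grp_mono (List.subset_append_right [h_g14, h_g10, h_g11] _)) (c := (Ch.cons (nat_lit 9) [nat_lit 1, nat_lit 3, nat_lit 5, nat_lit 7] Ch.nil)) (by decide +kernel)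

theorem l_le13 : grp 100 l_V12 ≤ grp 100 l_V8 :=
  grp_le_of_memB l_hn l_hk l_V8_ok l_V12_ok (ws := [nat_lit 263429, nat_lit 771, nat_lit 67076]) (by decide +kernel)

theorem l_T_s4 : Stab 100 (grp 100 h_E0) [nat_lit 98, nat_lit 44, nat_lit 17, nat_lit 0] l_V12 8 :=
  Stab.step (k := 7) (L := (lab 100 7)) l_hn l_T_s3 l_V12_ok l_le13 (c := (Ch.cons (nat_lit 92) [nat_lit 1] (Ch.cons (nat_lit 38) [nat_lit 3, nat_lit 5] Ch.nil))) (by decide +kernel)

theorem l_T_s5 : Stab 100 (grp 100 h_E0) [nat_lit 92, nat_lit 98, nat_lit 44, nat_lit 17, nat_lit 0] l_V14 4 :=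
  Stab.step (k := 7) (L := (lab 100 7)) l_hn l_T_s4 l_V14_ok (grp_mono (List.subset_append_right [l_g9] _)) (c := (Ch.cons (nat_lit 38) [nat_lit 1, nat_lit 3] Ch.nil)) (by decide +kernel)

theorem l_T_s6 : Stab 100 (grp 100 h_E0) [nat_lit 38, nat_lit 92, nat_lit 98, nat_lit 44, nat_lit 17, nat_lit 0] l_V15 1 :=
  Stab.step (k := 7) (L := (lab 100 7)) l_hn l_T_s5 l_V15_ok (grp_mono (List.subset_append_right [l_g10, l_g11] _)) (c := Ch.nil) (by decide +kernel)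

theorem h_g1_l_T : Net.toPerm 100 h_g1 ∈ (grp 100 h_E0) :=
  l_T_s0.le (toPerm_mem_grp (E := h_E0) (List.Mem.head _))

theorem h_a19_l_T : Net.toPerm 100 h_a19 ∈ (grp 100 h_E0) :=
  l_T_s0.le (toPerm_mem_grp (E := h_E0) (List.Mem.tail _ (List.Mem.head _)))

theorem h_a27_l_T : Net.toPerm 100 h_a27 ∈ (grp 100 h_E0) :=
  l_T_s0.le (toPerm_mem_grp (E := h_E0) (List.Mem.tail _ (List.Mem.tail _ (List.Mem.head _))))

theorem h_g7_l_T : Net.toPerm 100 h_g7 ∈ (grp 100 h_E0) :=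
  l_T_s0.le (toPerm_mem_grp (E := h_E0) (List.Mem.tail _ (List.Mem.tail _ (List.Mem.tail _ (List.Mem.head _)))))

theorem h_a0_l_T : Net.toPerm 100 h_a0 ∈ (grp 100 h_E0) :=
  l_T_s0.le (toPerm_mem_grp (E := h_E0) (List.Mem.tail _ (List.Mem.tail _ (List.Mem.tail _ (List.Mem.tail _ (List.Mem.head _))))))

theorem h_g4_l_T : Net.toPerm 100 h_g4 ∈ (grp 100 h_E0) :=
  l_T_s0.le (toPerm_mem_grp (E := h_E0) (List.Mem.tail _ (List.Mem.tail _ (List.Mem.tail _ (List.Mem.tail _ (List.Mem.tail _ (List.Mem.head _)))))))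

theorem h_a8_l_T : Net.toPerm 100 h_a8 ∈ (grp 100 h_E0) :=
  l_T_s0.le (toPerm_mem_grp (E := h_E0) (List.Mem.tail _ (List.Mem.tail _ (List.Mem.tail _ (List.Mem.tail _ (List.Mem.tail _ (List.Mem.tail _ (List.Mem.head _))))))))

theorem h_g14_l_T : Net.toPerm 100 h_g14 ∈ (grp 100 h_E0) :=
  l_T_s0.le (toPerm_mem_grp (E := h_E0) (List.Mem.tail _ (List.Mem.tail _ (List.Mem.tail _ (List.Mem.tail _ (List.Mem.tail _ (List.Mem.tail _ (List.Mem.tail _ (List.Mem.head _)))))))))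

theorem h_g10_l_T : Net.toPerm 100 h_g10 ∈ (grp 100 h_E0) :=
  l_T_s0.le (toPerm_mem_grp (E := h_E0) (List.Mem.tail _ (List.Mem.tail _ (List.Mem.tail _ (List.Mem.tail _ (List.Mem.tail _ (List.Mem.tail _ (List.Mem.tail _ (List.Mem.tail _ (List.Mem.head _))))))))))

theorem h_g11_l_T : Net.toPerm 100 h_g11 ∈ (grp 100 h_E0) :=
  l_T_s0.le (toPerm_mem_grp (E := h_E0) (List.Mem.tail _ (List.Mem.tail _ (List.Mem.tail _ (List.Mem.tail _ (List.Mem.tail _ (List.Mem.tail _ (List.Mem.tail _ (List.Mem.tail _ (List.Mem.tail _ (List.Mem.head _)))))))))))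

theorem h_g21_l_T : Net.toPerm 100 h_g21 ∈ (grp 100 h_E0) :=
  l_T_s0.le (toPerm_mem_grp (E := h_E0) (List.Mem.tail _ (List.Mem.tail _ (List.Mem.tail _ (List.Mem.tail _ (List.Mem.tail _ (List.Mem.tail _ (List.Mem.tail _ (List.Mem.tail _ (List.Mem.tail _ (List.Mem.tail _ (List.Mem.head _))))))))))))

theorem h_g22_l_T : Net.toPerm 100 h_g22 ∈ (grp 100 h_E0) :=
  l_T_s0.le (toPerm_mem_grp (E := h_E0) (List.Mem.tail _ (List.Mem.tail _ (List.Mem.tail _ (List.Mem.tail _ (List.Mem.tail _ (List.Mem.tail _ (List.Mem.tail _ (List.Mem.tail _ (List.Mem.tail _ (List.Mem.tail _ (List.Mem.tail _ (List.Mem.head _)))))))))))))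

theorem h_g17_l_T : Net.toPerm 100 h_g17 ∈ (grp 100 h_E0) :=
  l_T_s0.le (toPerm_mem_grp (E := h_E0) (List.Mem.tail _ (List.Mem.tail _ (List.Mem.tail _ (List.Mem.tail _ (List.Mem.tail _ (List.Mem.tail _ (List.Mem.tail _ (List.Mem.tail _ (List.Mem.tail _ (List.Mem.tail _ (List.Mem.tail _ (List.Mem.tail _ (List.Mem.head _))))))))))))))

theorem h_g18_l_T : Net.toPerm 100 h_g18 ∈ (grp 100 h_E0) :=
  l_T_s0.le (toPerm_mem_grp (E := h_E0) (List.Mem.tail _ (List.Mem.tail _ (List.Mem.tail _ (List.Mem.tail _ (List.Mem.tail _ (List.Mem.tail _ (List.Mem.tail _ (List.Mem.tail _ (List.Mem.tail _ (List.Mem.tail _ (List.Mem.tail _ (List.Mem.tail _ (List.Mem.tail _ (List.Mem.head _)))))))))))))))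

theorem l_g9_l_T : Net.toPerm 100 l_g9 ∈ (grp 100 h_E0) :=
  l_T_s4.le (toPerm_mem_grp (E := l_V12) (List.Mem.head _))

theorem l_g10_l_T : Net.toPerm 100 l_g10 ∈ (grp 100 h_E0) :=
  l_T_s4.le (toPerm_mem_grp (E := l_V12) (List.Mem.tail _ (List.Mem.head _)))

theorem l_g11_l_T : Net.toPerm 100 l_g11 ∈ (grp 100 h_E0) :=
  l_T_s4.le (toPerm_mem_grp (E := l_V12) (List.Mem.tail _ (List.Mem.tail _ (List.Mem.head _))))

noncomputable def l_T_s6_O : ℕ := (nat_lit 0xfffffffff0000000000000000f00000000ffffffff000000000ffff0000ffff0000ffff00000ff00ff00ff00ff00ff00ff000f0f0f0f0f0f0f0f0f0f0f0f0cccccccccccccccccccccccccaaaaaaaaaaaaaaaaaaaaaaaaa000000000000000000000000100000000000000000000200000000000000000100000000000400000000000000000000000001000000000000000000000000000000000000004000000000)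

theorem l_T_s6_F : Frame 100 (grp 100 h_E0) 6 13 l_T_s6_O 1 1 :=
  IsBase.frame l_T_s6.isBase (by decide +kernel)

noncomputable def l_T_s5_O : ℕ := (nat_lit 0x40000000000000000000000000000008000000000000000000000000040000000000000000000000000040000000000000000000000000001000000000000000000000000000004000000000000000000000000040002000000010000000000000001000000000008000000000000080000000000001000000000000000800000000002000000000000000004000000010000000000200000000000000040000000000000000020000002000000000000000000200000100000000000004000000000008000000800000000000000000010000000000000020000000000020000000000008000000000000820001080000000400000000000000000100010808000000000800000020000400200000000004000010000000014000000000020000008000004020000000000000008010000080800000000440400000000000000400000010000400000020000010000000120200000000000000800000000000200000000420008000000004000200080000000200000080001000000000000018000000000020010000040000400000000800000000001002010000801000040000000000000400000000000000000000000010000000000000000000020000000000000000010000000000040000000000000000000000000100000000000000000000000)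

theorem l_T_s5_F : Frame 100 (grp 100 h_E0) 5 39 l_T_s5_O 0 1 :=
  Stab.frame l_hn l_T_s5 (by decide +kernel)

noncomputable def l_T_s3_O : ℕ := (nat_lit 0x1000000000400001000000000000400000800000000004000400000000000040000000040000000000020010000040000401000000004008200010100000088008000000001020000100002000000010220000002000200002000040080000000480008041000150001082940001000000088108104000000010021940001222080100000888808002000000000000000000000000100000000000000000000200000000000000000100000000000)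

theorem l_T_s3_F : Frame 100 (grp 100 h_E0) 3 14 l_T_s3_O 0 1 :=
  Stab.frame l_hn l_T_s3 (by decide +kernel)

noncomputable def l_T_s2_O : ℕ := (nat_lit 0x400002801000004004040000200004008010000048000842088108114224000012025b4110122208414820099890800200000000000000000000000010000000000000000000020000)

theorem l_T_s2_F : Frame 100 (grp 100 h_E0) 2 6 l_T_s2_O 0 1 :=
  Stab.frame l_hn l_T_s2 (by decide +kernel)

noncomputable def l_T_s1_O : ℕ := (nat_lit 0x420ac10853ca35000056a65fc0000000000000000000000001)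

theorem l_T_s1_F : Frame 100 (grp 100 h_E0) 1 2 l_T_s1_O 0 1 :=
  Stab.frame l_hn l_T_s1 (by decide +kernel)

noncomputable def lz_cnt_L : List ℕ := [1, 2, l_T_s1_O, 0, 0, 2, 6, l_T_s2_O, 0, 0, 3, 14, l_T_s3_O, 0, 0, 5, 39, l_T_s5_O, 0, 0, 6, 13, l_T_s6_O, 1, 0]

theorem lz_cnt_P : Prob 100 7 (grp 100 h_E0) lz_cnt_EG [h_a0] [h_a0] lz_K lz_cnt_L 0 0 :=
  Sym.prob l_hn l_hk lz_sym lz_cnt_EG_ok (grp_cons_le h_g1_l_T (grp_cons_le h_a19_l_T (grp_cons_le h_a27_l_T (grp_cons_le h_g7_l_T (grp_cons_le h_a0_l_T (grp_cons_le h_g4_l_T (grp_cons_le h_a8_l_T (grp_cons_le h_g14_l_T (grp_cons_le h_g10_l_T (grp_cons_le h_g11_l_T (grp_cons_le h_g21_l_T (grp_cons_le h_g22_l_T (grp_cons_le h_g17_l_T (grp_cons_le h_g18_l_T (grp_cons_le l_g9_l_T (grp_cons_le l_g10_l_T (grp_cons_le l_g11_l_T (grp_nil_le _)))))))))))))))))) (Frames.cons l_T_s1_F (Frames.cons l_T_s2_F (Frames.cons l_T_s3_F (Frames.cons l_T_s5_F (Frames.cons l_T_s6_F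 Frames.nil))))) (okE_cons.2 ⟨h_a0_ok, okE_nil _⟩) _

noncomputable def lz_cnt_t : BT := (BT.fix (nat_lit 1) (BT.br (nat_lit 0) (nat_lit 0) [nat_lit 1, nat_lit 5] (BT.kid (nat_lit 0) (nat_lit 96) (BT.frm (nat_lit 0) (nat_lit 0) (nat_lit 0) [nat_lit 0] (BT.pln (nat_lit 0) (nat_lit 1) (BT.dif (nat_lit 0) (nat_lit 3) (BT.br (nat_lit 0) (nat_lit 66) [nat_lit 3, nat_lit 5] (BT.kid (nat_lit 66) (nat_lit 4) (BT.dif (nat_lit 8) (nat_lit 2) (BT.frm (nat_lit 1) (nat_lit 1807) (nat_lit 1807) [nat_lit 1, nat_lit 5] (BT.pln (nat_lit 0) (nat_lit 2) (BT.and (nat_lit 2) (nat_lit 0) (BT.dif (nat_lit 1) (nat_lit 9) (BT.img (nat_lit 1) (nat_lit 0) (BT.and (nat_lit 2) (nat_lit 0) (BT.pln (nat_lit 5) (nat_lit 4) (BT.dif (nat_lit 0) (nat_lit 13) (BT.pln (nat_lit 7) (nat_lit 3) (BT.and (nat_lit 11) (nat_lit 0) (BT.img (nat_lit 1) (nat_lit 2) (BT.and (nat_lit 1) (nat_lit 0) (BT.img (nat_lit 1) (nat_lit 0) (BT.dif (nat_lit 5) (nat_lit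 0) (BT.frm (nat_lit 2) (nat_lit 0xf12070f) (nat_lit 0xf12070f) [nat_lit 0, nat_lit 15, nat_lit 19] (BT.pln (nat_lit 0) (nat_lit 9) (BT.dif (nat_lit 10) (nat_lit 0) (BT.br (nat_lit 0) (nat_lit 67) [nat_lit 5] (BT.kid (nat_lit 67) (nat_lit 2) (BT.dif (nat_lit 18) (nat_lit 16) (BT.dif (nat_lit 0) (nat_lit 14) (BT.dif (nat_lit 0) (nat_lit 26) (BT.img (nat_lit 1) (nat_lit 22) (BT.frm (nat_lit 3) (nat_lit 0x1d0f12070f) (nat_lit 0x1d0f12070f) [nat_lit 4, nat_lit 0, nat_lit 8, nat_lit 23, nat_lit 27] (BT.pln (nat_lit 0) (nat_lit 15) (BT.and (nat_lit 3) (nat_lit 0) (BT.br (nat_lit 0) (nat_lit 47) [nat_lit 7] (BT.kid (nat_lit 47) (nat_lit 1) (BT.one (nat_lit 4) (nat_lit 0x1d0f12070f) (nat_lit 0x1d0f12070f) [nat_lit 0, nat_lit 8, nat_lit 4, nat_lit 12, nat_lit 27, nat_lit 31]) BT.nil))))))))) BT.nil)))))))))))))))))))) BT.nil))))) BT.nil)))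

theorem lz_cnt : Cnt 100 (grp 100 h_E0) [h_a0] [h_a0] 0 0 0 0 1920 :=
  BT.sound lz_cnt_P Known.nil (t := lz_cnt_t) (d := 0) (by decide +kernel)

theorem lz_ge : 1920 ≤ Nat.card (grp 100 lz_K) :=
  Ch.le_card_grp (k := 7) (L := (lab 100 7)) l_hn lz_K_ok (c := (Ch.cons (nat_lit 0) [nat_lit 1] (Ch.cons (nat_lit 66) [nat_lit 3] (Ch.cons (nat_lit 67) [nat_lit 5] (Ch.cons (nat_lit 47) [nat_lit 7] Ch.nil))))) (by decide +kernel)

theorem lz_eq : (grp 100 h_E0) ⊓ Subgroup.centralizer {Net.toPerm 100 h_a0} = grp 100 lz_K :=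
  cent_eq lz_sym lz_cnt lz_ge

theorem lz_card : Nat.card ↥((grp 100 h_E0) ⊓ Subgroup.centralizer {Net.toPerm 100 h_a0}) = 1920 :=
  card_cent lz_sym lz_cnt lz_ge

theorem lz_ord : orderOf (Net.toPerm 100 h_a0) = 2 :=
  orderOf_net l_hn l_hk h_a0_ok (by decide) (ps := [2]) (by set_option linter.unusedSimpArgs false in simp [Nat.primeFactorsList_ofNat]) (by decide +kernel)

theorem l_le20 : grp 100 l_V19 ≤ grp 100 l_Q :=
  grp_le_of_memB l_hn l_hk l_Q_ok l_V19_ok (ws := [nat_lit 0x10405040406020604, nat_lit 0x5020204070406010706, nat_lit 0x2060702]) (by decide +kernel)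

theorem l_le23 : grp 100 l_V22 ≤ grp 100 l_V19 :=
  grp_le_of_memB l_hn l_hk l_V19_ok l_V22_ok (ws := [nat_lit 65793, nat_lit 0x20502040103030104]) (by decide +kernel)

theorem l_le25 : grp 100 l_V24 ≤ grp 100 l_V22 :=
  grp_le_of_memB l_hn l_hk l_V22_ok l_V24_ok (ws := [nat_lit 515, nat_lit 0x40202040103]) (by decide +kernel)

theorem l_le27 : grp 100 l_V26 ≤ grp 100 l_V24 :=
  grp_le_of_memB l_hn l_hk l_V24_ok l_V26_ok (ws := [nat_lit 0x1010104, nat_lit 0x2020401]) (by decide +kernel)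

theorem l_Qlb_le : grp 100 l_Qlb_E ≤ grp 100 l_Q :=
  (grp_cons_le ((le_refl (grp 100 l_Q)) (toPerm_mem_grp (E := l_Q) (by simp [l_Q]))) (grp_cons_le ((le_refl (grp 100 l_Q)) (toPerm_mem_grp (E := l_Q) (by simp [l_Q]))) (grp_cons_le ((le_refl (grp 100 l_Q)) (toPerm_mem_grp (E := l_Q) (by simp [l_Q]))) (grp_cons_le ((le_refl (grp 100 l_Q)) (toPerm_mem_grp (E := l_Q) (by simp [l_Q]))) (grp_cons_le ((l_le20.trans (le_refl (grp 100 l_Q))) (toPerm_mem_grp (E := l_V19) (by simp [l_V19]))) (grp_cons_le ((l_le20.trans (le_refl (grp 100 l_Q))) (toPerm_mem_grp (E := l_V19) (by simp [l_V19]))) (grp_cons_le ((l_le20.trans (le_refl (grp 100 l_Q))) (toPerm_mem_grp (E := l_V19) (by simp [l_V19]))) (grp_cons_le ((l_le23.trans (l_le20.trans (le_refl (grp 100 l_Q)))) (toPerm_mem_grp (E := l_V22) (by simp [l_V22]))) (grp_cons_le ((l_le23.trans (l_le20.trans (le_refl (grp 100 l_Q)))) (toPerm_mem_grp (E := l_V22) (by simp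 [l_V22]))) (grp_cons_le ((l_le25.trans (l_le23.trans (l_le20.trans (le_refl (grp 100 l_Q))))) (toPerm_mem_grp (E := l_V24) (by simp [l_V24]))) (grp_cons_le ((l_le25.trans (l_le23.trans (l_le20.trans (le_refl (grp 100 l_Q))))) (toPerm_mem_grp (E := l_V24) (by simp [l_V24]))) (grp_cons_le ((l_le27.trans (l_le25.trans (l_le23.trans (l_le20.trans (le_refl (grp 100 l_Q)))))) (toPerm_mem_grp (E := l_V26) (by simp [l_V26]))) (grp_cons_le ((l_le27.trans (l_le25.trans (l_le23.trans (l_le20.trans (le_refl (grp 100 l_Q)))))) (toPerm_mem_grp (E := l_V26) (by simp [l_V26]))) (grp_nil_le _))))))))))))))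

noncomputable def l_Qlb_ch : Ch := (Ch.cons (nat_lit 0) [nat_lit 1, nat_lit 3, nat_lit 5, nat_lit 7] (Ch.cons (nat_lit 2) [nat_lit 9, nat_lit 11, nat_lit 13] (Ch.cons (nat_lit 3) [nat_lit 15, nat_lit 17] (Ch.cons (nat_lit 4) [nat_lit 19, nat_lit 21] (Ch.cons (nat_lit 8) [nat_lit 23, nat_lit 25] Ch.nil)))))

theorem l_Qlb_chk : Ch.chk 100 7 (lab 100 7) l_Qlb_E l_Qlb_ch 32 = true :=
  by decide +kernel

theorem l_Qlb_ge : 32 ≤ Nat.card (grp 100 l_Q) :=
  (Ch.le_card_grp l_hn l_Qlb_E_ok l_Qlb_chk).trans (Subgroup.card_le_of_le l_Qlb_le)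

theorem l_le28 : grp 100 l_Q ≤ grp 100 lz_K :=
  grp_le_of_memB l_hn l_hk lz_K_ok l_Q_ok (ws := [nat_lit 0x7030303, nat_lit 67330, nat_lit 0x5030503, nat_lit 263939]) (by decide +kernel)

theorem l_Q_leK : grp 100 l_Q ≤ grp 100 lz_K :=
  le_trans (le_refl _) l_le28

theorem l_z_memQ : Net.toPerm 100 h_a0 ∈ grp 100 l_Q :=
  mem_grp_of_memB l_hn l_hk l_Q_ok h_a0_ok (w := (nat_lit 0x3010301)) (by decide +kernel)

theorem l_cj0 : CjIn (grp 100 h_E0) (Net.toPerm 100 h_a0) (Net.toPerm 100 h_g130) :=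
  cjIn_of_cjB l_hn l_hk h_E0_ok h_a0_ok h_g130_ok (w := (nat_lit 0x1a120707010701)) (by decide +kernel)

theorem l_cj1 : CjIn (grp 100 h_E0) (Net.toPerm 100 h_a0) (Net.toPerm 100 h_a19) :=
  cjIn_of_cjB l_hn l_hk h_E0_ok h_a0_ok h_a19_ok (w := (nat_lit 0x161a0b0b030d)) (by decide +kernel)

theorem l_cj2 : CjIn (grp 100 h_E0) (Net.toPerm 100 h_a0) (Net.toPerm 100 l_g16) :=
  cjIn_of_cjB l_hn l_hk h_E0_ok h_a0_ok l_g16_ok (w := (nat_lit 0x17190f1208080217)) (by decide +kernel)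

theorem l_cj3 : CjIn (grp 100 h_E0) (Net.toPerm 100 h_a0) (Net.toPerm 100 h_g50) :=
  cjIn_of_cjB l_hn l_hk h_E0_ok h_a0_ok h_g50_ok (w := (nat_lit 0x1912070d1201070d)) (by decide +kernel)

theorem l_cQ_sym : Sym 100 (grp 100 h_E0) l_Q [h_a0] 0 :=
  Sym.of_lab l_hn l_hk l_Q_ok (okE_cons.2 ⟨h_a0_ok, okE_nil _⟩) (grp_cons_le lz_mem (grp_nil_le _)) (kT := 0) (by decide +kernel)

theorem l_le33 : grp 100 l_V32 ≤ grp 100 l_V6 :=
  grp_le_of_memB l_hn l_hk l_V6_ok l_V32_ok (ws := [nat_lit 0x1113010b, nat_lit 0x120a01010d, nat_lit 0x1213130c, nat_lit 0x11110c]) (by decide +kernel)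

theorem l_T_s7 : Stab 100 (grp 100 h_E0) [nat_lit 27, nat_lit 0] l_V32 96 :=
  Stab.step (k := 7) (L := (lab 100 7)) l_hn l_T_s1 l_V32_ok l_le33 (c := (Ch.cons (nat_lit 6) [nat_lit 1, nat_lit 3] (Ch.cons (nat_lit 23) [nat_lit 5] (Ch.cons (nat_lit 80) [nat_lit 7] Ch.nil)))) (by decide +kernel)

theorem l_T_s8 : Stab 100 (grp 100 h_E0) [nat_lit 6, nat_lit 27, nat_lit 0] l_V34 8 :=
  Stab.step (k := 7) (L := (lab 100 7)) l_hn l_T_s7 l_V34_ok (grp_mono (List.subset_append_right [l_g29, l_g30] _)) (c := (Ch.cons (nat_lit 23) [nat_lit 1] (Ch.cons (nat_lit 80) [nat_lit 3] Ch.nil))) (by decide +kernel)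

theorem l_T_s9 : Stab 100 (grp 100 h_E0) [nat_lit 23, nat_lit 6, nat_lit 27, nat_lit 0] l_V35 2 :=
  Stab.step (k := 7) (L := (lab 100 7)) l_hn l_T_s8 l_V35_ok (grp_mono (List.subset_append_right [l_g31] _)) (c := (Ch.cons (nat_lit 80) [nat_lit 1] Ch.nil)) (by decide +kernel)

theorem l_T_s10 : Stab 100 (grp 100 h_E0) [nat_lit 80, nat_lit 23, nat_lit 6, nat_lit 27, nat_lit 0] l_V36 1 :=
  Stab.step (k := 7) (L := (lab 100 7)) l_hn l_T_s9 l_V36_ok (grp_mono (List.subset_append_right [h_a0] _)) (c := Ch.nil) (by decide +kernel)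

theorem l_g29_l_T : Net.toPerm 100 l_g29 ∈ (grp 100 h_E0) :=
  l_T_s7.le (toPerm_mem_grp (E := l_V32) (List.Mem.head _))

theorem l_g30_l_T : Net.toPerm 100 l_g30 ∈ (grp 100 h_E0) :=
  l_T_s7.le (toPerm_mem_grp (E := l_V32) (List.Mem.tail _ (List.Mem.head _)))

theorem l_g31_l_T : Net.toPerm 100 l_g31 ∈ (grp 100 h_E0) :=
  l_T_s7.le (toPerm_mem_grp (E := l_V32) (List.Mem.tail _ (List.Mem.tail _ (List.Mem.head _))))

noncomputable def l_T_s10_O : ℕ := (nat_lit 0xfffffffff0000000000000000f00000000ffffffff000000000ffff0000ffff0000ffff00000ff00ff00ff00ff00ff00ff000f0f0f0f0f0f0f0f0f0f0f0f0cccccccccccccccccccccccccaaaaaaaaaaaaaaaaaaaaaaaaa00000000000000000000000010000000000000000008000000000000000000000000000004000000000000000000008000000000100000000000000000000)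

theorem l_T_s10_F : Frame 100 (grp 100 h_E0) 5 12 l_T_s10_O 1 1 :=
  IsBase.frame l_T_s10.isBase (by decide +kernel)

noncomputable def l_T_s9_O : ℕ := (nat_lit 0x400000000000000000000000020000000000000000000000001000000000000000000000000040000000000000000000000001000000000000000000000000080000000000000000000000004000000000000000000000000200000000000000000000000008000000000000000000000000400000000000000000000000000800000000000000000000000020000000000000000000000001000000000000000000000000080000000000000000000000004000000000000000000000000200400800000000000000000000080040000000000000000000010002000000000000000000002000100000000000000000000010008000000000000000000002000400000000000000000010000020000000000000000002000001000000000000000000400000080000000000000000080000004000000000000000000400000200000000000000000080000010000000000000000000010000800000000000000000002000040000000000000000000400002000000000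00000000008000010000000000000000000010000800000000000000000002000040000000000000000000400002000000000000000000080000100000000000000000000000001080000000000000000000000204000000000000000000000040200000000000000000000008010000000000000000000000010800000000000000000000002040000000000000000000000402000000000000000000000080100000000000000000000000001800000000000000000000000240000000000000000000000042000000000000000000000008100000000000000000000000001800000000000000000000000240000000000000000000000042000000000000000000000008100000000000000000000000000001800000000000000000000000240000000000000000000000102000000000000000000000000001000000000000000000800000000000000000000000000000400000000000000000000800000)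

theorem l_T_s9_F : Frame 100 (grp 100 h_E0) 4 59 l_T_s9_O 0 1 :=
  Stab.frame l_hn l_T_s9 (by decide +kernel)

noncomputable def l_T_s8_O : ℕ := (nat_lit 0x4000000000000000000000000020000000000000000000000000000400000000001080000000000000000000000204000000000000000000000040200000000000000000000008010000000000000000000000000000001000080000000000000000000008000800000000000000000000080020002000040080100000000000040000020000008100000000010000020000000001800000000000200004000000000900000000010000800000000204000000004000020000000040040004000000800000000000200100000080000100000000000003000140080200108240000000008020004400000018240000000010102008004020081000000020800410000000004200018000208010010020400000002400000000000000000000000000100000000000000000080000000000000000000000000000040)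

theorem l_T_s8_F : Frame 100 (grp 100 h_E0) 3 26 l_T_s8_O 0 1 :=
  Stab.frame l_hn l_T_s8 (by decide +kernel)

noncomputable def l_cQ_cnt_L : List ℕ := [1, 2, l_T_s1_O, 0, 0, 3, 26, l_T_s8_O, 0, 0, 4, 59, l_T_s9_O, 0, 0, 5, 12, l_T_s10_O, 1, 0]

theorem l_cQ_cnt_P : Prob 100 7 (grp 100 h_E0) l_cQ_cnt_EG l_Q l_Q [h_a0] l_cQ_cnt_L 0 0 :=
  Sym.prob l_hn l_hk l_cQ_sym l_cQ_cnt_EG_ok (grp_cons_le h_g1_l_T (grp_cons_le h_a19_l_T (grp_cons_le h_a27_l_T (grp_cons_le h_g7_l_T (grp_cons_le h_a0_l_T (grp_cons_le h_g4_l_T (grp_cons_le h_a8_l_T (grp_cons_le h_g14_l_T (grp_cons_le h_g10_l_T (grp_cons_le h_g11_l_T (grp_cons_le h_g21_l_T (grp_cons_le h_g22_l_T (grp_cons_le h_g17_l_T (grp_cons_le h_g18_l_T (grp_cons_le l_g29_l_T (grp_cons_le l_g30_l_T (grp_cons_le l_g31_l_T (grp_nil_le _)))))))))))))))))) (Frames.cons l_T_s1_F (Frames.cons l_T_s8_F (Frames.cons l_T_s9_F (Frames.cons l_T_s10_F Frames.nil)))) l_Q_ok _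

noncomputable def l_cQ_cnt_t : BT := (BT.fix (nat_lit 1) (BT.fix (nat_lit 3) (BT.and (nat_lit 1) (nat_lit 0) (BT.fix (nat_lit 5) (BT.dif (nat_lit 1) (nat_lit 0) (BT.fix (nat_lit 7) (BT.dif (nat_lit 1) (nat_lit 0) (BT.br (nat_lit 0) (nat_lit 20) [] (BT.dead (nat_lit 23) (BT.and (nat_lit 7) (nat_lit 4) (BT.dif (nat_lit 0) (nat_lit 7) (BT.dif (nat_lit 0) (nat_lit 4) (BT.br (nat_lit 0) (nat_lit 4) [] (BT.dead (nat_lit 5) (BT.frm (nat_lit 0) (nat_lit 257) (nat_lit 135173) [nat_lit 4] (BT.pln (nat_lit 0) (nat_lit 1) (BT.dif (nat_lit 13) (nat_lit 0) (BT.dif (nat_lit 0) (nat_lit 13) (BT.dif (nat_lit 0) (nat_lit 12) (BT.dif (nat_lit 14) (nat_lit 3) (BT.dif (nat_lit 0) (nat_lit 10) (BT.frm (nat_lit 1) (nat_lit 0x1d1d07090101) (nat_lit 0x1d2007021005) [nat_lit 7, nat_lit 0, nat_lit 11] (BT.pln (nat_lit 0) (nat_lit 11) (BT.dif (nat_lit 4) (nat_lit 0) (BT.br (nat_lit 0) (nat_lit 47) [nat_lit 1] (BT.dead (nat_lit 44)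 (BT.frm (nat_lit 2) (nat_lit 0x221d1d07090101) (nat_lit 0x21211d2007021005) [nat_lit 0, nat_lit 11, nat_lit 4, nat_lit 15] (BT.pln (nat_lit 0) (nat_lit 46) (BT.img (nat_lit 7) (nat_lit 2) (BT.img (nat_lit 3) (nat_lit 0) (BT.and (nat_lit 2) (nat_lit 0) (BT.cnt (nat_lit 0))))))) BT.nil)))))))))))) (BT.dead (nat_lit 4) (BT.frm (nat_lit 0) (nat_lit 257) (nat_lit 135173) [nat_lit 4] (BT.pln (nat_lit 0) (nat_lit 1) (BT.dif (nat_lit 13) (nat_lit 0) (BT.dif (nat_lit 0) (nat_lit 13) (BT.dif (nat_lit 0) (nat_lit 12) (BT.dif (nat_lit 14) (nat_lit 3) (BT.dif (nat_lit 0) (nat_lit 10) (BT.frm (nat_lit 1) (nat_lit 0x1d1d07090101) (nat_lit 0x1d1f07021005) [nat_lit 7, nat_lit 0, nat_lit 11] (BT.pln (nat_lit 0) (nat_lit 11) (BT.dif (nat_lit 4) (nat_lit 0) (BT.br (nat_lit 0) (nat_lit 47) [nat_lit 1] (BT.dead (nat_lit 46) (BT.frm (nat_lit 2) (nat_lit 0x221d1d07090101) (nat_lit 0x1d1f07021005) [nat_lit 0, nat_lit 11, nat_lit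 4, nat_lit 15] (BT.pln (nat_lit 0) (nat_lit 49) (BT.img (nat_lit 7) (nat_lit 2) (BT.img (nat_lit 5) (nat_lit 0) (BT.img (nat_lit 3) (nat_lit 0) (BT.img (nat_lit 7) (nat_lit 0) (BT.and (nat_lit 4) (nat_lit 0) (BT.cnt (nat_lit 0))))))))) BT.nil)))))))))))) BT.nil)))))) (BT.kid (nat_lit 20) (nat_lit 2) (BT.and (nat_lit 7) (nat_lit 4) (BT.dif (nat_lit 0) (nat_lit 7) (BT.dif (nat_lit 0) (nat_lit 4) (BT.br (nat_lit 0) (nat_lit 4) [] (BT.dead (nat_lit 5) (BT.frm (nat_lit 0) (nat_lit 257) (nat_lit 257) [nat_lit 4] (BT.pln (nat_lit 0) (nat_lit 1) (BT.dif (nat_lit 13) (nat_lit 0) (BT.dif (nat_lit 0) (nat_lit 13) (BT.dif (nat_lit 0) (nat_lit 12) (BT.dif (nat_lit 14) (nat_lit 3) (BT.dif (nat_lit 0) (nat_lit 10) (BT.frm (nat_lit 1) (nat_lit 0x1d1d07090101) (nat_lit 0x1e07090101) [nat_lit 7, nat_lit 0, nat_lit 11] (BT.pln (nat_lit 0) (nat_lit 11) (BT.dif (nat_lit 4) (nat_lit 0) (BT.br (nat_lit 0) (nat_lit 47) [nat_lit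 1] (BT.dead (nat_lit 45) (BT.frm (nat_lit 2) (nat_lit 0x221d1d07090101) (nat_lit 0x211e07090101) [nat_lit 0, nat_lit 11, nat_lit 4, nat_lit 15] (BT.pln (nat_lit 0) (nat_lit 46) (BT.img (nat_lit 7) (nat_lit 2) (BT.img (nat_lit 3) (nat_lit 0) (BT.and (nat_lit 2) (nat_lit 0) (BT.cnt (nat_lit 0))))))) BT.nil)))))))))))) (BT.kid (nat_lit 4) (nat_lit 2) (BT.frm (nat_lit 0) (nat_lit 257) (nat_lit 257) [nat_lit 4] (BT.pln (nat_lit 0) (nat_lit 1) (BT.dif (nat_lit 13) (nat_lit 0) (BT.dif (nat_lit 0) (nat_lit 13) (BT.dif (nat_lit 0) (nat_lit 12) (BT.dif (nat_lit 14) (nat_lit 3) (BT.dif (nat_lit 0) (nat_lit 10) (BT.frm (nat_lit 1) (nat_lit 0x1d1d07090101) (nat_lit 0x1d1d07090101) [nat_lit 7, nat_lit 0, nat_lit 11] (BT.pln (nat_lit 0) (nat_lit 11) (BT.dif (nat_lit 4) (nat_lit 0) (BT.br (nat_lit 0) (nat_lit 47) [nat_lit 1] (BT.kid (nat_lit 47) (nat_lit 1) (BT.img (nat_lit 3) (nat_lit 0) (BT.one (nat_lit 3) (nat_lit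 0x9221d1d07090101) (nat_lit 0x9221d1d07090101) [nat_lit 0, nat_lit 1, nat_lit 12, nat_lit 5, nat_lit 16])) BT.nil)))))))))))) BT.nil)))))) BT.nil))))))))))

theorem l_cQ_cnt : Cnt 100 (grp 100 h_E0) l_Q l_Q 0 0 0 0 2 :=
  BT.sound l_cQ_cnt_P Known.nil (t := l_cQ_cnt_t) (d := 0) (by decide +kernel)

theorem l_cQ_ge : 2 ≤ Nat.card (grp 100 [h_a0]) :=
  Ch.le_card_grp (k := 7) (L := (lab 100 7)) l_hn (okE_cons.2 ⟨h_a0_ok, okE_nil _⟩) (c := (Ch.cons (nat_lit 47) [nat_lit 1] Ch.nil)) (by decide +kernel)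

theorem l_cQ : (grp 100 h_E0) ⊓ Subgroup.centralizer (grp 100 l_Q : Set (Equiv.Perm (Fin 100))) = grp 100 [h_a0] :=
  cent_grp_eq l_cQ_sym l_cQ_cnt l_cQ_ge

theorem l_K_ord0 : orderOf (Net.toPerm 100 l_g37) = 4 :=
  orderOf_net l_hn l_hk l_g37_ok (by decide) (ps := [2]) (by set_option linter.unusedSimpArgs false in simp [Nat.primeFactorsList_ofNat]) (by decide +kernel)

theorem l_K_ord1 : orderOf (Net.toPerm 100 l_g38) = 4 :=
  orderOf_net l_hn l_hk l_g38_ok (by decide) (ps := [2]) (by set_option linter.unusedSimpArgs false in simp [Nat.primeFactorsList_ofNat]) (by decide +kernel)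

theorem l_K_ord2 : orderOf (Net.toPerm 100 l_g39) = 4 :=
  orderOf_net l_hn l_hk l_g39_ok (by decide) (ps := [2]) (by set_option linter.unusedSimpArgs false in simp [Nat.primeFactorsList_ofNat]) (by decide +kernel)

theorem l_le40 : grp 100 l_K ≤ grp 100 lz_K :=
  grp_le_of_memB l_hn l_hk lz_K_ok l_K_ok (ws := [nat_lit 0x406020501, nat_lit 0x705030303, nat_lit 0x70503070205]) (by decide +kernel)

theorem l_le44 : grp 100 l_V43 ≤ grp 100 l_K :=
  grp_le_of_memB l_hn l_hk l_K_ok l_V43_ok (ws := [nat_lit 0x40402040502020402, nat_lit 0x60601060103010602]) (by decide +kernel)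

theorem l_le46 : grp 100 l_V45 ≤ grp 100 l_V43 :=
  grp_le_of_memB l_hn l_hk l_V43_ok l_V45_ok (ws := [nat_lit 0x402040204, nat_lit 0x30303020204]) (by decide +kernel)

theorem l_le48 : grp 100 l_V47 ≤ grp 100 l_V45 :=
  grp_le_of_memB l_hn l_hk l_V45_ok l_V47_ok (ws := [nat_lit 0x3020402, nat_lit 0x3010302]) (by decide +kernel)

theorem l_le50 : grp 100 l_V49 ≤ grp 100 l_V47 :=
  grp_le_of_memB l_hn l_hk l_V47_ok l_V49_ok (ws := [nat_lit 0x303010302, nat_lit 0x302040203]) (by decide +kernel)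

theorem l_Klb_le : grp 100 l_Klb_E ≤ grp 100 l_K :=
  (grp_cons_le ((le_refl (grp 100 l_K)) (toPerm_mem_grp (E := l_K) (by simp [l_K]))) (grp_cons_le ((le_refl (grp 100 l_K)) (toPerm_mem_grp (E := l_K) (by simp [l_K]))) (grp_cons_le ((le_refl (grp 100 l_K)) (toPerm_mem_grp (E := l_K) (by simp [l_K]))) (grp_cons_le ((l_le44.trans (le_refl (grp 100 l_K))) (toPerm_mem_grp (E := l_V43) (by simp [l_V43]))) (grp_cons_le ((l_le44.trans (le_refl (grp 100 l_K))) (toPerm_mem_grp (E := l_V43) (by simp [l_V43]))) (grp_cons_le ((l_le46.trans (l_le44.trans (le_refl (grp 100 l_K)))) (toPerm_mem_grp (E := l_V45) (by simp [l_V45]))) (grp_cons_le ((l_le46.trans (l_le44.trans (le_refl (grp 100 l_K)))) (toPerm_mem_grp (E := l_V45) (by simp [l_V45]))) (grp_cons_le ((l_le48.trans (l_le46.trans (l_le44.trans (le_refl (grp 100 l_K))))) (toPerm_mem_grp (E := l_V47) (by simp [l_V47]))) (grp_cons_le ((l_le48.trans (l_le46.trans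 (l_le44.trans (le_refl (grp 100 l_K))))) (toPerm_mem_grp (E := l_V47) (by simp [l_V47]))) (grp_cons_le ((l_le50.trans (l_le48.trans (l_le46.trans (l_le44.trans (le_refl (grp 100 l_K)))))) (toPerm_mem_grp (E := l_V49) (by simp [l_V49]))) (grp_cons_le ((l_le50.trans (l_le48.trans (l_le46.trans (l_le44.trans (le_refl (grp 100 l_K)))))) (toPerm_mem_grp (E := l_V49) (by simp [l_V49]))) (grp_nil_le _))))))))))))

noncomputable def l_Klb_ch : Ch := (Ch.cons (nat_lit 0) [nat_lit 1, nat_lit 3, nat_lit 5] (Ch.cons (nat_lit 15) [nat_lit 7, nat_lit 9] (Ch.cons (nat_lit 2) [nat_lit 11, nat_lit 13] (Ch.cons (nat_lit 4) [nat_lit 15, nat_lit 17] (Ch.cons (nat_lit 8) [nat_lit 19, nat_lit 21] Ch.nil)))))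

theorem l_Klb_chk : Ch.chk 100 7 (lab 100 7) l_Klb_E l_Klb_ch 1920 = true :=
  by decide +kernel

theorem l_Klb_ge : 1920 ≤ Nat.card (grp 100 l_K) :=
  (Ch.le_card_grp l_hn l_Klb_E_ok l_Klb_chk).trans (Subgroup.card_le_of_le l_Klb_le)

theorem l_K_eq : grp 100 l_K = grp 100 lz_K :=
  Subgroup.eq_of_le_of_card_ge l_le40 ((lz_eq ▸ lz_card : Nat.card (grp 100 lz_K) = 1920).le.trans l_Klb_ge)

theorem l_le54 : grp 100 l_V53 ≤ grp 100 l_S :=
  grp_le_of_memB l_hn l_hk l_S_ok l_V53_ok (ws := [nat_lit 1]) (by decide +kernel)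

theorem l_le59 : grp 100 l_V58 ≤ grp 100 l_S :=
  grp_le_of_memB l_hn l_hk l_S_ok l_V58_ok (ws := [nat_lit 723468, nat_lit 0xa0b020c010905050104, nat_lit 0x5040702080c]) (by decide +kernel)

theorem l_le61 : grp 100 l_V60 ≤ grp 100 l_V58 :=
  grp_le_of_memB l_hn l_hk l_V58_ok l_V60_ok (ws := [nat_lit 1]) (by decide +kernel)

theorem l_le65 : grp 100 l_V64 ≤ grp 100 l_V58 :=
  grp_le_of_memB l_hn l_hk l_V58_ok l_V64_ok (ws := [nat_lit 0x202050503, nat_lit 0x404050105050302]) (by decide +kernel)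

theorem l_le68 : grp 100 l_V67 ≤ grp 100 l_V64 :=
  grp_le_of_memB l_hn l_hk l_V64_ok l_V67_ok (ws := [nat_lit 65795, nat_lit 66307]) (by decide +kernel)

theorem l_So_card3 : Nat.card (grp 100 l_So_E3) = 1 :=
  card_grp_nil 100

theorem l_So_leO3 : grp 100 l_So_E3 ≤ grp 100 l_S :=
  grp_nil_le _

theorem l_So_2_fix : grp 100 l_So_E3 ≤ MulAction.stabilizer (Equiv.Perm (Fin 100)) (⟨8, by decide⟩ : Fin 100) :=
  grp_le_stab l_So_E3_ok (by decide : 8 < 100) (by decide +kernel)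

noncomputable def l_So_2_ts : List ℕ := [nat_lit 0, nat_lit 1, nat_lit 2, nat_lit 3, nat_lit 4, nat_lit 257, nat_lit 259, nat_lit 260, nat_lit 515, nat_lit 516, nat_lit 771, nat_lit 65795, nat_lit 65796, nat_lit 66307, nat_lit 131843, nat_lit 0x1010303]

noncomputable def l_So_2_ds : List ℕ := [nat_lit 8, nat_lit 93, nat_lit 76, nat_lit 84, nat_lit 55, nat_lit 21, nat_lit 47, nat_lit 87, nat_lit 52, nat_lit 64, nat_lit 97, nat_lit 67, nat_lit 44, nat_lit 9, nat_lit 16, nat_lit 72]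

theorem l_So_2_dist : Dist 100 l_So_E3 l_So_G2 (⟨8, by decide⟩ : Fin 100) l_So_2_ts l_So_2_ds :=
  dist_of_distB (k := 4) l_hn l_So_E3_ok l_So_G2_ok (by decide : 8 < 100) (by decide +kernel)

noncomputable def l_So_2_sl0 : SL := (SL.cons (nat_lit 1) (nat_lit 93) Ch.nil [] (SL.cons (nat_lit 2) (nat_lit 76) Ch.nil [] (SL.cons (nat_lit 3) (nat_lit 84) Ch.nil [] (SL.cons (nat_lit 4) (nat_lit 55) Ch.nil [] (SL.cons (nat_lit 257) (nat_lit 21) Ch.nil [] (SL.cons (nat_lit 259) (nat_lit 47) Ch.nil [] (SL.cons (nat_lit 260) (nat_lit 87) Ch.nil [] (SL.cons (nat_lit 515) (nat_lit 52) Ch.nil [] (SL.cons (nat_lit 516) (nat_lit 64) Ch.nil [] (SL.cons (nat_lit 771) (nat_lit 97) Ch.nil [] (SL.cons (nat_lit 65795) (nat_lit 67) Ch.nil [] (SL.cons (nat_lit 65796) (nat_lit 44) Ch.nil [] (SL.cons (nat_lit 66307) (nat_lit 9) Ch.nil [] (SL.cons (nat_lit 131843) (nat_lit 16) Ch.nil [] (SL.cons (nat_lit 0x1010303) (nat_lit 72)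 Ch.nil [] SL.nil)))))))))))))))

theorem l_So_2_sc0 : SCs 100 l_So_E3 l_So_G2 (⟨8, by decide⟩ : Fin 100) (SL.words l_So_2_sl0) :=
  scs_of_ok l_hn (det_lab l_hk ⊤) l_So_E3_ok l_So_G2_ok le_top le_top (by decide : 8 < 100) l_So_2_fix l_So_card3.le (by decide +kernel)

noncomputable def l_So_2_l : List ℕ := (appL (SL.words l_So_2_sl0) [])

theorem l_So_2_scs : SCs 100 l_So_E3 l_So_G2 (⟨8, by decide⟩ : Fin 100) l_So_2_l :=
  (SCs.append l_So_2_sc0 SCs.nil)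

noncomputable def l_So_2_rl0_0 : RL := (RL.cons (nat_lit 0) (nat_lit 8) (nat_lit 0) (nat_lit 0) (nat_lit 2) (nat_lit 0) (RL.cons (nat_lit 1) (nat_lit 93) (nat_lit 0) (nat_lit 0) (nat_lit 0) (nat_lit 0) (RL.cons (nat_lit 2) (nat_lit 76) (nat_lit 0) (nat_lit 0) (nat_lit 5) (nat_lit 0) (RL.cons (nat_lit 3) (nat_lit 84) (nat_lit 0) (nat_lit 0) (nat_lit 8) (nat_lit 0) (RL.cons (nat_lit 4) (nat_lit 55) (nat_lit 0) (nat_lit 0) (nat_lit 9) (nat_lit 0) (RL.cons (nat_lit 5) (nat_lit 21) (nat_lit 0) (nat_lit 0) (nat_lit 1) (nat_lit 0) (RL.cons (nat_lit 6) (nat_lit 47) (nat_lit 0) (nat_lit 0) (nat_lit 3) (nat_lit 0) (RL.cons (nat_lit 7) (nat_lit 87) (nat_lit 0) (nat_lit 0) (nat_lit 4) (nat_lit 0) (RL.cons (nat_lit 8) (nat_lit 52) (nat_lit 0) (nat_lit 0) (nat_lit 11) (nat_lit 0) (RL.cons (nat_lit 9) (nat_lit 64) (nat_lit 0) (nat_lit 0) (nat_lit 12) (nat_lit 0) (RL.cons (nat_lit 10) (nat_lit 97) (nat_lit 0) (nat_lit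 0) (nat_lit 14) (nat_lit 0) (RL.cons (nat_lit 11) (nat_lit 67) (nat_lit 0) (nat_lit 0) (nat_lit 6) (nat_lit 0) (RL.cons (nat_lit 12) (nat_lit 44) (nat_lit 0) (nat_lit 0) (nat_lit 7) (nat_lit 0) (RL.cons (nat_lit 13) (nat_lit 9) (nat_lit 0) (nat_lit 0) (nat_lit 10) (nat_lit 0) (RL.cons (nat_lit 14) (nat_lit 16) (nat_lit 0) (nat_lit 0) (nat_lit 15) (nat_lit 0) (RL.cons (nat_lit 15) (nat_lit 72) (nat_lit 0) (nat_lit 0) (nat_lit 13) (nat_lit 0) RL.nil))))))))))))))))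

theorem l_So_2_good0_0 : GoodSet 100 l_So_E3 l_So_G2 (⟨8, by decide⟩ : Fin 100) l_So_2_ts (nat_lit 1) (RL.pts l_So_2_rl0_0) :=
  goodSet_of_ok l_hn (det_lab l_hk ⊤) l_So_E3_ok l_So_G2_ok le_top le_top (by decide : 8 < 100) (sepAt_lab l_hk _) (by decide +kernel)

theorem l_So_2_step0 : Step 100 l_So_E3 l_So_G2 l_So_2_ts (2 * 0 + 1) :=
  step_of_cover l_So_E3_ok l_So_2_dist (by decide +kernel) l_So_2_scs (by decide +kernel) l_So_2_good0_0 (kw := [])
    (conj_mem_of_scs l_So_E3_ok l_So_G2_ok (by decide : 8 < 100) l_So_2_scs (c := 0) (d := 93) (by decide +kernel)) (by decide +kernel)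

noncomputable def l_So_2_rl1_0 : RL := (RL.cons (nat_lit 0) (nat_lit 8) (nat_lit 0) (nat_lit 0) (nat_lit 4) (nat_lit 0) (RL.cons (nat_lit 1) (nat_lit 93) (nat_lit 0) (nat_lit 0) (nat_lit 7) (nat_lit 0) (RL.cons (nat_lit 2) (nat_lit 76) (nat_lit 0) (nat_lit 0) (nat_lit 9) (nat_lit 0) (RL.cons (nat_lit 3) (nat_lit 84) (nat_lit 0) (nat_lit 0) (nat_lit 0) (nat_lit 0) (RL.cons (nat_lit 4) (nat_lit 55) (nat_lit 0) (nat_lit 0) (nat_lit 10) (nat_lit 0) (RL.cons (nat_lit 5) (nat_lit 21) (nat_lit 0) (nat_lit 0) (nat_lit 12) (nat_lit 0) (RL.cons (nat_lit 6) (nat_lit 47) (nat_lit 0) (nat_lit 0) (nat_lit 1) (nat_lit 0) (RL.cons (nat_lit 7) (nat_lit 87) (nat_lit 0) (nat_lit 0) (nat_lit 13) (nat_lit 0) (RL.cons (nat_lit 8) (nat_lit 52) (nat_lit 0) (nat_lit 0) (nat_lit 2) (nat_lit 0) (RL.cons (nat_lit 9) (nat_lit 64) (nat_lit 0) (nat_lit 0) (nat_lit 14) (nat_lit 0) (RL.cons (nat_lit 10) (nat_lit 97) (nat_lit 0) (nat_lit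 0) (nat_lit 3) (nat_lit 0) (RL.cons (nat_lit 11) (nat_lit 67) (nat_lit 0) (nat_lit 0) (nat_lit 5) (nat_lit 0) (RL.cons (nat_lit 12) (nat_lit 44) (nat_lit 0) (nat_lit 0) (nat_lit 15) (nat_lit 0) (RL.cons (nat_lit 13) (nat_lit 9) (nat_lit 0) (nat_lit 0) (nat_lit 6) (nat_lit 0) (RL.cons (nat_lit 14) (nat_lit 16) (nat_lit 0) (nat_lit 0) (nat_lit 8) (nat_lit 0) (RL.cons (nat_lit 15) (nat_lit 72) (nat_lit 0) (nat_lit 0) (nat_lit 11) (nat_lit 0) RL.nil))))))))))))))))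

theorem l_So_2_good1_0 : GoodSet 100 l_So_E3 l_So_G2 (⟨8, by decide⟩ : Fin 100) l_So_2_ts (nat_lit 3) (RL.pts l_So_2_rl1_0) :=
  goodSet_of_ok l_hn (det_lab l_hk ⊤) l_So_E3_ok l_So_G2_ok le_top le_top (by decide : 8 < 100) (sepAt_lab l_hk _) (by decide +kernel)

theorem l_So_2_step1 : Step 100 l_So_E3 l_So_G2 l_So_2_ts (2 * 1 + 1) :=
  step_of_cover l_So_E3_ok l_So_2_dist (by decide +kernel) l_So_2_scs (by decide +kernel) l_So_2_good1_0 (kw := [])
    (conj_mem_of_scs l_So_E3_ok l_So_G2_ok (by decide : 8 < 100) l_So_2_scs (c := 2) (d := 84) (by decide +kernel)) (by decide +kernel)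

theorem l_So_2_lev : grp 100 l_So_G2 ⊓ MulAction.stabilizer (Equiv.Perm (Fin 100)) (⟨8, by decide⟩ : Fin 100) = grp 100 l_So_E3 :=
  sims_level (gs := l_V67) rfl (by decide) l_So_2_fix l_So_2_dist (forall_lt_succ' (forall_lt_one l_So_2_step0) l_So_2_step1)

theorem l_So_2_cardG : Nat.card (grp 100 l_So_G2) = 16 :=
  card_of_level l_hn l_So_G2_ok (by decide : 8 < 100) l_So_2_lev l_So_card3 (m := 16) (by decide +kernel)

theorem l_le69 : grp 100 l_So_E2 ≤ grp 100 l_So_G2 :=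
  grp_le_of_memB l_hn l_hk l_So_G2_ok l_So_E2_ok (ws := [nat_lit 1, nat_lit 3, nat_lit 65795, nat_lit 66307]) (by decide +kernel)

theorem l_le70 : grp 100 l_So_G2 ≤ grp 100 l_So_E2 :=
  grp_le_of_memB l_hn l_hk l_So_E2_ok l_So_G2_ok (ws := [nat_lit 1, nat_lit 3]) (by decide +kernel)

theorem l_So_2_eq : grp 100 l_So_E2 = grp 100 l_So_G2 :=
  le_antisymm l_le69 l_le70

theorem l_So_card2 : Nat.card (grp 100 l_So_E2) = 16 :=
  by rw [l_So_2_eq]; exact l_So_2_cardG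

theorem l_So_stab2 : grp 100 l_So_E2 ⊓ MulAction.stabilizer (Equiv.Perm (Fin 100)) (⟨8, by decide⟩ : Fin 100) = grp 100 l_So_E3 :=
  by rw [l_So_2_eq]; exact l_So_2_lev

theorem l_So_leO2 : grp 100 l_So_E2 ≤ grp 100 l_S :=
  l_So_2_eq.le.trans (grp_cons_le ((l_le65.trans (l_le59.trans (le_refl (grp 100 l_S)))) (l_le68 (toPerm_mem_grp (E := l_V67) (by simp [l_V67])))) (grp_cons_le ((l_le65.trans (l_le59.trans (le_refl (grp 100 l_S)))) (l_le68 (toPerm_mem_grp (E := l_V67) (by simp [l_V67])))) l_So_leO3))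

theorem l_So_1_fix : grp 100 l_So_E2 ≤ MulAction.stabilizer (Equiv.Perm (Fin 100)) (⟨15, by decide⟩ : Fin 100) :=
  grp_le_stab l_So_E2_ok (by decide : 15 < 100) (by decide +kernel)

noncomputable def l_So_1_ts : List ℕ := [nat_lit 0, nat_lit 1]

noncomputable def l_So_1_ds : List ℕ := [nat_lit 15, nat_lit 27]

theorem l_So_1_dist : Dist 100 l_So_E2 l_So_G1 (⟨15, by decide⟩ : Fin 100) l_So_1_ts l_So_1_ds :=
  dist_of_distB (k := 1) l_hn l_So_E2_ok l_So_G1_ok (by decide : 15 < 100) (by decide +kernel)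

noncomputable def l_So_1_sl0 : SL := (SL.cons (nat_lit 1) (nat_lit 27) (Ch.cons (nat_lit 8) [nat_lit 1, nat_lit 5] Ch.nil) [nat_lit 2, nat_lit 259] SL.nil)

theorem l_So_1_sc0 : SCs 100 l_So_E2 l_So_G1 (⟨15, by decide⟩ : Fin 100) (SL.words l_So_1_sl0) :=
  scs_of_ok l_hn (det_lab l_hk ⊤) l_So_E2_ok l_So_G1_ok le_top le_top (by decide : 15 < 100) l_So_1_fix l_So_card2.le (by decide +kernel)

noncomputable def l_So_1_l : List ℕ := (appL (SL.words l_So_1_sl0) [])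

theorem l_So_1_scs : SCs 100 l_So_E2 l_So_G1 (⟨15, by decide⟩ : Fin 100) l_So_1_l :=
  (SCs.append l_So_1_sc0 SCs.nil)

noncomputable def l_So_1_rl0_0 : RL := (RL.cons (nat_lit 0) (nat_lit 15) (nat_lit 0) (nat_lit 0) (nat_lit 1) (nat_lit 0) (RL.cons (nat_lit 1) (nat_lit 27) (nat_lit 0) (nat_lit 0) (nat_lit 0) (nat_lit 0) RL.nil))

theorem l_So_1_good0_0 : GoodSet 100 l_So_E2 l_So_G1 (⟨15, by decide⟩ : Fin 100) l_So_1_ts (nat_lit 1) (RL.pts l_So_1_rl0_0) :=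
  goodSet_of_ok l_hn (det_lab l_hk ⊤) l_So_E2_ok l_So_G1_ok le_top le_top (by decide : 15 < 100) (sepAt_lab l_hk _) (by decide +kernel)

theorem l_So_1_step0 : Step 100 l_So_E2 l_So_G1 l_So_1_ts (2 * 0 + 1) :=
  step_of_cover l_So_E2_ok l_So_1_dist (by decide +kernel) l_So_1_scs (by decide +kernel) l_So_1_good0_0 (kw := [nat_lit 1, nat_lit 5])
    (conj_mem_of_scs l_So_E2_ok l_So_G1_ok (by decide : 15 < 100) l_So_1_scs (c := 0) (d := 27) (by decide +kernel)) (by decide +kernel)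

theorem l_So_1_lev : grp 100 l_So_G1 ⊓ MulAction.stabilizer (Equiv.Perm (Fin 100)) (⟨15, by decide⟩ : Fin 100) = grp 100 l_So_E2 :=
  sims_level (gs := l_V60) rfl (by decide) l_So_1_fix l_So_1_dist (forall_lt_one l_So_1_step0)

theorem l_So_1_cardG : Nat.card (grp 100 l_So_G1) = 32 :=
  card_of_level l_hn l_So_G1_ok (by decide : 15 < 100) l_So_1_lev l_So_card2 (m := 2) (by decide +kernel)

theorem l_le71 : grp 100 l_So_E1 ≤ grp 100 l_So_G1 :=
  grp_le_of_memB l_hn l_hk l_So_G1_ok l_So_E1_ok (ws := [nat_lit 1, nat_lit 8, nat_lit 6, nat_lit 3, nat_lit 5, nat_lit 7, nat_lit 9]) (by decide +kernel)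

theorem l_le72 : grp 100 l_So_G1 ≤ grp 100 l_So_E1 :=
  grp_le_of_memB l_hn l_hk l_So_E1_ok l_So_G1_ok (ws := [nat_lit 1, nat_lit 7, nat_lit 9, nat_lit 11, nat_lit 13]) (by decide +kernel)

theorem l_So_1_eq : grp 100 l_So_E1 = grp 100 l_So_G1 :=
  le_antisymm l_le71 l_le72

theorem l_So_card1 : Nat.card (grp 100 l_So_E1) = 32 :=
  by rw [l_So_1_eq]; exact l_So_1_cardG

theorem l_So_stab1 : grp 100 l_So_E1 ⊓ MulAction.stabilizer (Equiv.Perm (Fin 100)) (⟨15, by decide⟩ : Fin 100) = grp 100 l_So_E2 :=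
  by rw [l_So_1_eq]; exact l_So_1_lev

theorem l_So_leO1 : grp 100 l_So_E1 ≤ grp 100 l_S :=
  l_So_1_eq.le.trans (grp_cons_le ((l_le59.trans (le_refl (grp 100 l_S))) (l_le61 (toPerm_mem_grp (E := l_V60) (by simp [l_V60])))) l_So_leO2)

theorem l_So_0_fix : grp 100 l_So_E1 ≤ MulAction.stabilizer (Equiv.Perm (Fin 100)) (⟨14, by decide⟩ : Fin 100) :=
  grp_le_stab l_So_E1_ok (by decide : 14 < 100) (by decide +kernel)

noncomputable def l_So_0_ts : List ℕ := [nat_lit 0, nat_lit 1, nat_lit 66305]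

noncomputable def l_So_0_ds : List ℕ := [nat_lit 14, nat_lit 15, nat_lit 26]

theorem l_So_0_dist : Dist 100 l_So_E1 l_So_G0 (⟨14, by decide⟩ : Fin 100) l_So_0_ts l_So_0_ds :=
  dist_of_distB (k := 2) l_hn l_So_E1_ok l_So_G0_ok (by decide : 14 < 100) (by decide +kernel)

noncomputable def l_So_0_sl0 : SL := (SL.cons (nat_lit 1) (nat_lit 15) (Ch.cons (nat_lit 8) [nat_lit 7, nat_lit 9, nat_lit 11, nat_lit 13] Ch.nil) [nat_lit 13, nat_lit 11, nat_lit 9, nat_lit 7] (SL.cons (nat_lit 66305) (nat_lit 26) (Ch.cons (nat_lit 36) [nat_lit 1, nat_lit 10] Ch.nil) [nat_lit 1, nat_lit 1801] SL.nil))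

theorem l_So_0_sc0 : SCs 100 l_So_E1 l_So_G0 (⟨14, by decide⟩ : Fin 100) (SL.words l_So_0_sl0) :=
  scs_of_ok l_hn (det_lab l_hk ⊤) l_So_E1_ok l_So_G0_ok le_top le_top (by decide : 14 < 100) l_So_0_fix l_So_card1.le (by decide +kernel)

noncomputable def l_So_0_l : List ℕ := (appL (SL.words l_So_0_sl0) [])

theorem l_So_0_scs : SCs 100 l_So_E1 l_So_G0 (⟨14, by decide⟩ : Fin 100) l_So_0_l :=
  (SCs.append l_So_0_sc0 SCs.nil)

noncomputable def l_So_0_rl0_0 : RL := (RL.cons (nat_lit 0) (nat_lit 14) (nat_lit 0) (nat_lit 0) (nat_lit 1) (nat_lit 1805) (RL.cons (nat_lit 1) (nat_lit 15) (nat_lit 0) (nat_lit 0) (nat_lit 0) (nat_lit 0) (RL.cons (nat_lit 1) (nat_lit 27) (nat_lit 1) (nat_lit 0) (nat_lit 2) (nat_lit 1806) (RL.cons (nat_lit 2) (nat_lit 26) (nat_lit 0) (nat_lit 1) (nat_lit 1) (nat_lit 0) RL.nil))))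

theorem l_So_0_good0_0 : GoodSet 100 l_So_E1 l_So_G0 (⟨14, by decide⟩ : Fin 100) l_So_0_ts (nat_lit 1) (RL.pts l_So_0_rl0_0) :=
  goodSet_of_ok l_hn (det_lab l_hk ⊤) l_So_E1_ok l_So_G0_ok le_top le_top (by decide : 14 < 100) (sepAt_lab l_hk _) (by decide +kernel)

theorem l_So_0_step0 : Step 100 l_So_E1 l_So_G0 l_So_0_ts (2 * 0 + 1) :=
  step_of_cover l_So_E1_ok l_So_0_dist (by decide +kernel) l_So_0_scs (by decide +kernel) l_So_0_good0_0 (kw := [nat_lit 7, nat_lit 9, nat_lit 11, nat_lit 13])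
    (conj_mem_of_scs l_So_E1_ok l_So_G0_ok (by decide : 14 < 100) l_So_0_scs (c := 0) (d := 15) (by decide +kernel)) (by decide +kernel)

theorem l_So_0_lev : grp 100 l_So_G0 ⊓ MulAction.stabilizer (Equiv.Perm (Fin 100)) (⟨14, by decide⟩ : Fin 100) = grp 100 l_So_E1 :=
  sims_level (gs := l_V53) rfl (by decide) l_So_0_fix l_So_0_dist (forall_lt_one l_So_0_step0)

theorem l_So_0_cardG : Nat.card (grp 100 l_So_G0) = 128 :=
  card_of_level l_hn l_So_G0_ok (by decide : 14 < 100) l_So_0_lev l_So_card1 (m := 4) (by decide +kernel)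

theorem l_le73 : grp 100 l_So_E0 ≤ grp 100 l_So_G0 :=
  grp_le_of_memB l_hn l_hk l_So_G0_ok l_So_E0_ok (ws := [nat_lit 1, nat_lit 0xd030103, nat_lit 2563, nat_lit 2319, nat_lit 592131, nat_lit 0x90f010301, nat_lit 3, nat_lit 5, nat_lit 7, nat_lit 9, nat_lit 11, nat_lit 13, nat_lit 15]) (by decide +kernel)

theorem l_le74 : grp 100 l_So_G0 ≤ grp 100 l_So_E0 :=
  grp_le_of_memB l_hn l_hk l_So_E0_ok l_So_G0_ok (ws := [nat_lit 1, nat_lit 13, nat_lit 15, nat_lit 17, nat_lit 19, nat_lit 21, nat_lit 23, nat_lit 25]) (by decide +kernel)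

theorem l_So_0_eq : grp 100 l_So_E0 = grp 100 l_So_G0 :=
  le_antisymm l_le73 l_le74

theorem l_So_card0 : Nat.card (grp 100 l_So_E0) = 128 :=
  by rw [l_So_0_eq]; exact l_So_0_cardG

theorem l_So_stab0 : grp 100 l_So_E0 ⊓ MulAction.stabilizer (Equiv.Perm (Fin 100)) (⟨14, by decide⟩ : Fin 100) = grp 100 l_So_E1 :=
  by rw [l_So_0_eq]; exact l_So_0_lev

theorem l_So_leO0 : grp 100 l_So_E0 ≤ grp 100 l_S :=
  l_So_0_eq.le.trans (grp_cons_le ((le_refl (grp 100 l_S)) (l_le54 (toPerm_mem_grp (E := l_V53) (by simp [l_V53])))) l_So_leO1)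

theorem l_le75 : grp 100 l_S ≤ grp 100 l_So_E0 :=
  grp_le_of_memB l_hn l_hk l_So_E0_ok l_S_ok (ws := [nat_lit 1, nat_lit 3, nat_lit 5, nat_lit 7, nat_lit 9, nat_lit 11]) (by decide +kernel)

theorem l_So_eq : grp 100 l_S = grp 100 l_So_E0 :=
  le_antisymm l_le75 l_So_leO0

theorem l_So_card : Nat.card (grp 100 l_S) = 128 :=
  by rw [l_So_eq]; exact l_So_card0

noncomputable def l_So_ch : Ch := (Ch.cons (nat_lit 14) [nat_lit 1, nat_lit 3, nat_lit 5, nat_lit 7, nat_lit 9, nat_lit 11] (Ch.cons (nat_lit 15) [nat_lit 13, nat_lit 15, nat_lit 17] (Ch.cons (nat_lit 8) [nat_lit 19, nat_lit 21, nat_lit 23, nat_lit 25] Ch.nil)))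

theorem l_So_exact : Ch.Exact 100 l_So_E0 l_So_ch (grp 100 l_So_E0) :=
  Ch.exact (k := 7) (L := (lab 100 7)) l_hn l_So_E0_ok (by decide +kernel) (wgrp_le_grp _ _ _) l_So_card0.le

theorem l_le76 : grp 100 l_S ≤ grp 100 lz_K :=
  grp_le_of_memB l_hn l_hk lz_K_ok l_S_ok (ws := [nat_lit 0x3060106, nat_lit 0x503010504, nat_lit 0x7030303, nat_lit 67330, nat_lit 0x5030503, nat_lit 263939]) (by decide +kernel)

theorem l_S_leK : grp 100 l_S ≤ grp 100 lz_K :=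
  le_trans (le_refl _) l_le76

theorem l_u_memQ : Net.toPerm 100 l_u ∈ grp 100 l_Q :=
  mem_grp_of_memB l_hn l_hk l_Q_ok l_u_ok (w := (nat_lit 769)) (by decide +kernel)

theorem l_cju0 : CjIn (grp 100 h_E0) (Net.toPerm 100 l_u) (Net.toPerm 100 l_g51) :=
  cjIn_of_cjB l_hn l_hk h_E0_ok l_u_ok l_g51_ok (w := (nat_lit 0x1919120710020d01)) (by decide +kernel)

theorem l_cju1 : CjIn (grp 100 h_E0) (Net.toPerm 100 l_u) (Net.toPerm 100 l_g52) :=
  cjIn_of_cjB l_hn l_hk h_E0_ok l_u_ok l_g52_ok (w := (nat_lit 0x151a18110b0b010114)) (by decide +kernel)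

theorem l_xs : H49.XS (grp 100 l_Q) (Net.toPerm 100 h_a0) :=
  xs_net l_hn l_hk l_Q_ok h_a0_ok (l_Q_leK.trans lz_le) l_z_memQ lz_ord l_cQ (lt_of_lt_of_le (by norm_num) l_Qlb_ge) (by decide +kernel)

noncomputable def l_M : List ℕ := [nat_lit 0xf0000ff0f0000094a80cf, nat_lit 0xf0000f00f0f0000592407b, nat_lit 0xc3000c3000000ff00a9480fc, nat_lit 0x62400918000000000066d7fb7, nat_lit 0x9180062400000000fffdec000]

theorem l_M_inj : Function.Injective (rows 5 100 (nthN l_M)) :=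
  rows_injective_of_rowsB (by decide +kernel)

open Pointwise in
theorem l_M_acts : List.Forall₂ (fun o o' => Acts (rows 5 100 (nthN l_M)) (Net.toPerm 100 o) (Net.toPerm 5 o')) l_K f_K :=
  (.cons (inc_of_incB f_g1_ok l_g37_ok (allN_iff.1 (by decide +kernel))).acts_rows (.cons (inc_of_incB f_g2_ok l_g38_ok (allN_iff.1 (by decide +kernel))).acts_rows (.cons (inc_of_incB f_g3_ok l_g39_ok (allN_iff.1 (by decide +kernel))).acts_rows .nil)))

open Pointwise in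
theorem l_M_actsQ : List.Forall₂ (fun o o' => Acts (rows 5 100 (nthN l_M)) (Net.toPerm 100 o) (Net.toPerm 5 o')) l_Q [.nil, .nil, .nil, .nil] :=
  (.cons (inc_of_incB rfl h_g130_ok (allN_iff.1 (by decide +kernel))).acts_rows (.cons (inc_of_incB rfl h_a19_ok (allN_iff.1 (by decide +kernel))).acts_rows (.cons (inc_of_incB rfl l_g16_ok (allN_iff.1 (by decide +kernel))).acts_rows (.cons (inc_of_incB rfl h_g50_ok (allN_iff.1 (by decide +kernel))).acts_rows .nil))))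

theorem l_om_norm : Net.toPerm 100 l_om ∈ Subgroup.normalizer (grp 100 h_E0 : Set (Equiv.Perm (Fin 100))) :=
  mem_normalizer_net l_hn l_hk h_E0_ok l_om_ok (ws := [nat_lit 0x1a12070c0516, nat_lit 0x170f1207110509, nat_lit 0x160315, nat_lit 0x160f070f0313, nat_lit 0x16180f12070d12020315, nat_lit 0x1819110d1a0213, nat_lit 0x19190f120711010515, nat_lit 0x150d1a0301, nat_lit 0x18190f110b16010b02, nat_lit 0x15170f110d12021005, nat_lit 0x15170f110d07020315, nat_lit 0x1819190d010518, nat_lit 0x180f0d1a010701, nat_lit 0x1a170813021003]) (by decide +kernel)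

theorem l_om_cj : Net.toPerm 100 l_om * Net.toPerm 100 h_g115 * (Net.toPerm 100 l_om)⁻¹ = Net.toPerm 100 h_g123 :=
  mul_inv_eq_of_eq_mul ((det_lab l_hk ⊤).eq trivial trivial ((Net.mov_app (rep_FK l_hn.1 7) h_g115_ok _).trans (Net.mov_app (rep_FK l_hn.1 7) l_om_ok _))
    ((Net.mov_app (rep_FK l_hn.1 7) l_om_ok _).trans (Net.mov_app (rep_FK l_hn.1 7) h_g123_ok _)) (by decide +kernel))

end Cfsg.Agent.H47.J2P
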