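import Mathlib
import Cfsg.Agent.H43.Cent
import Cfsg.Agent.H47.O7Net

set_option autoImplicit false
set_option maxRecDepth 200000
set_option linter.style.longLine false

namespace Cfsg.Agent.H47.O7

open Cfsg.Agent.H43

noncomputable def o_g77 : Net := (Net.cons (nat_lit 1) (nat_lit 0x1444401001011001044101041100000505541550541501454104001440440410101001001000400110000000) (Net.cons (nat_lit 2) (nat_lit 0x1022102323200220211312000320200321203323000311203132011021000022101020001200000100000010) (Net.cons (nat_lit 4) (nat_lit 0x706040008000c09010901010801010d0d0e0a0c010a0c0308020104020d0001040a01090001000001000000) (Net.cons (nat_lit 8) (nat_lit 0x2800bc00a100d30030004500020050002b009a0000000a00bb008400140040001000040056000000800000) (Net.cons (nat_lit 16) (nat_lit 0x6a840000d648000006d1000028b40000401d0000141e00008cc3000020010000110c0000004000000000) (Net.cons (nat_lit 32) (nat_lit 0x5080940800000000c571617f0000000053a4d94100000000200002120000000028080000) (Net.cons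 (nat_lit 64) (nat_lit 0x69a535080000000000000000120804010ba7002400000000000000002800200000000000) (Net.cons (nat_lit 128) (nat_lit 0x1e9d557b088180101801000040002500) (Net.cons (nat_lit 256) (nat_lit 0x6889969e380920a17924afd1) (Net.cons (nat_lit 128) (nat_lit 0x1df7e0110c93da4276d90524) (Net.cons (nat_lit 64) (nat_lit 0x4da535080000000000000000c7a874071bb720a400000000000000006890700224002000) (Net.cons (nat_lit 32) (nat_lit 0xc2c0948800000000d163617f0000000047b4d9410000000014102212000000003c180080) (Net.cons (nat_lit 16) (nat_lit 0x4a840000f648000006d10000a8b40000481d0000141e0000acc7000000010000310c0000004000000000) (Net.cons (nat_lit 8) (nat_lit 0x2800bc00a100d30030005500220050002b009b0000000a00bb008400140041001000040056000000800020) (Net.cons (nat_lit 4) (nat_lit 0x706040008010c09010901010801010d0d0e0a0c010a0c0308020104020d0001040a01090001000001000000) (Net.cons (nat_lit 2) (nat_lit 0x1022102323200220211312000320200321203323000311203132011021000022101020001200000100000010)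 (Net.cons (nat_lit 1) (nat_lit 0x1444401001015001044101041100000505541550541501454104001440440410101001001000400110000000) Net.nil)))))))))))))))))

theorem o_g77_ok : Net.ok 351 o_g77 = true := by decide +kernel

noncomputable def o_g78 : Net := (Net.cons (nat_lit 1) (nat_lit 0x1445441401010541100545150045451514104411554155101111005050044010015550010140010051445514) (Net.cons (nat_lit 2) (nat_lit 0x1113133003212110233313032013130221210322010022320120311230330010021212023121030301322120) (Net.cons (nat_lit 4) (nat_lit 0x3050b0a0e0f00050808000f030a0803010d000d08040a0c07070a0b0d05070e0f0008090603020301060200) (Net.cons (nat_lit 8) (nat_lit 0x1a006b007e002500010024007b00be002a009700ea00650024004e0042007800d8008a0008007000080000) (Net.cons (nat_lit 16) (nat_lit 0x31d50000447700008bcb0000ff230000bff00000a42300002681000040f100008122000080a100008000) (Net.cons (nat_lit 32) (nat_lit 0x555bc80a00000000b16df7430000000050db0b2c000000004d0755900000000019180084) (Net.cons (nat_lit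 64) (nat_lit 0x4282c0400000000000000002283cc2ea017cae70000000000000000451404d100000000) (Net.cons (nat_lit 128) (nat_lit 0x73fceb48604151008603184c0db48304) (Net.cons (nat_lit 256) (nat_lit 0x6ad5d958f7379cddefbce706) (Net.cons (nat_lit 128) (nat_lit 0x2c16d226cb3c37ee8944cfd5) (Net.cons (nat_lit 64) (nat_lit 0x51d0a3e800000000000000004aba58b6f1920f99000000000000000039358fe1679fbb67) (Net.cons (nat_lit 32) (nat_lit 0xb40ad6bf00000000b6fa88d900000000de678136000000007c57b2aa0000000034a0d120) (Net.cons (nat_lit 16) (nat_lit 0x782e00003a280000dabd0000278f0000e0f00000c4110000325d0000e5f80000922a000058a30000027a) (Net.cons (nat_lit 8) (nat_lit 0xb0005b00a5001f004200e6004d00b8009c003600f200f6008f00810067001200b400c600ea006c00fe) (Net.cons (nat_lit 4) (nat_lit 0x20f040d060108060d06080d0e040204090401000e0f09050f060e05070f07090c080f0f0a010d0a010f090d) (Net.cons (nat_lit 2) (nat_lit 0x21320102120002002031100032220112230030332211031000000330320003200002010201202012200212) (Net.cons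 (nat_lit 1) (nat_lit 0x545114145005015551410154414554505544150404454441404514141040554040400041410455440445144) Net.nil)))))))))))))))))

theorem o_g78_ok : Net.ok 351 o_g78 = true := by decide +kernel

noncomputable def o_g79 : Net := (Net.cons (nat_lit 1) (nat_lit 0x415440115550540005545540145114040151150011051415440401444151145014140400040100054400) (Net.cons (nat_lit 2) (nat_lit 0x1311230332323023012133300111230123312002331330113200131022013101301112202322110020021000) (Net.cons (nat_lit 4) (nat_lit 0x30a01050c0f020c0409020e030c010a00040b0f020b08090c040f0209070d010e090f010a000b080b040e08) (Net.cons (nat_lit 8) (nat_lit 0x580021006a00aa001800d200a600db00720023000600ef0006000b00e6004700e100100079004000010080) (Net.cons (nat_lit 16) (nat_lit 0x48b10000c7e5000022e500005146000037500000488f000070b300008988000043160000962000000000) (Net.cons (nat_lit 32) (nat_lit 0x10320c1000000002de6ca2200000000e190609d0000000040867638000000002fe27029) (Net.cons (nat_lit 64) (nat_lit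 0x61ca9ea300000000000000009f3cc1f224e21552000000000000000094495b6200000000) (Net.cons (nat_lit 128) (nat_lit 0xb041191c0256145f231138ea4c2c830) (Net.cons (nat_lit 256) (nat_lit 0x7cfd6b5ffe7d7ffeffeedfbd) (Net.cons (nat_lit 128) (nat_lit 0x38ed5ca22418d568c815e315) (Net.cons (nat_lit 64) (nat_lit 0x1ab139f40000000000000000f6c85b1ee8800c0e00000000000000002ee1889c7fb60996) (Net.cons (nat_lit 32) (nat_lit 0x6ce0bcc00000000bd66d94600000000e6aefe35000000009881422b00000000e83c47cb) (Net.cons (nat_lit 16) (nat_lit 0x56aa0000a9d60000ebf400003504000095a8000068550000ea510000567f000032520000dd230000de62) (Net.cons (nat_lit 8) (nat_lit 0x1f003400a400f000d400dc007e008d0051000a00d5004300e400c2007800d80010000400bf001b00e200ca) (Net.cons (nat_lit 4) (nat_lit 0x40f0d0b05050e010e090c02060e0b030206040f0b050a0505020c0b0c0908050d0a02040c03030f01030f06) (Net.cons (nat_lit 2) (nat_lit 0x323001103323032133323321322311130303300330210322113112311203121013113100203323201000112) (Net.cons (nat_lit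 1) (nat_lit 0x454500455001414550014515450015515100510005550150500500450504404410140514005151150101154) Net.nil)))))))))))))))))

theorem o_g79_ok : Net.ok 351 o_g79 = true := by decide +kernel

noncomputable def o_g80 : Net := (Net.cons (nat_lit 1) (nat_lit 0x51001011505550044010041410504415011041455441001540110555110441011140151505140514010540) (Net.cons (nat_lit 2) (nat_lit 0x211323030320013203300112130233130022212032112032000013121210313022001222001322010323302) (Net.cons (nat_lit 4) (nat_lit 0x40407040b0a0d040f03080c0b010a040e0b010803030204050b0909060b0402020201020e0300030a090400) (Net.cons (nat_lit 8) (nat_lit 0x6900400022006a007a00eb00cf008d005f0002006c0031006100a3000d008400d100bf0022001300880000) (Net.cons (nat_lit 16) (nat_lit 0x528400005052000061ea000013df00000cea00001a800000728a0000615a000091110000660800000000) (Net.cons (nat_lit 32) (nat_lit 0x1b240480000000083ab40ec00000000c5bd5ceb0000000085b191810000000071a21a58) (Net.cons (nat_lit 64) (nat_lit 0x20fa2e200000000000000000208834441830c4000000000000000008490020000000000)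 (Net.cons (nat_lit 128) (nat_lit 0x5d4f0b7b91506e1380800304002e52a0) (Net.cons (nat_lit 256) (nat_lit 0x35f07f1f8f921396727ff6ee) (Net.cons (nat_lit 128) (nat_lit 0x6c59c11143128a138ae0b2f2) (Net.cons (nat_lit 64) (nat_lit 0x736f50a80000000000000000c1dacdacc461795200000000000000000e2300b8850ea212) (Net.cons (nat_lit 32) (nat_lit 0x1ee56e900000000dcedd118000000009001db9f000000004398b8cf0000000009eaa9c4) (Net.cons (nat_lit 16) (nat_lit 0x65600000328e000085e40000569d0000fbf8000089fb000078b40000df9300009cdb0000da020000f880) (Net.cons (nat_lit 8) (nat_lit 0x4200be006e004c001a00ae00b900e1000b001100fa0042008200ba00120028000f007d00a1003900720084) (Net.cons (nat_lit 4) (nat_lit 0x90d0e09020f0b080d0c0a0b0b0c0c040808080f07060805060308080c070e0405080e0c050a0101050308) (Net.cons (nat_lit 2) (nat_lit 0x1013120113322010201112023031130111101010223113213111033121001010011112313033310202301300) (Net.cons (nat_lit 1) (nat_lit 0x1050150400544540045454115105101015011441410411410540104104010050400040410514051554411544)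 Net.nil)))))))))))))))))

theorem o_g80_ok : Net.ok 351 o_g80 = true := by decide +kernel

noncomputable def o_g81 : Net := (Net.cons (nat_lit 1) (nat_lit 0x144450510110115441500514554041544500444040144510415104014045154505144440151140101055415) (Net.cons (nat_lit 2) (nat_lit 0x2200020010220332332233110223221233010033102121121102113310013222322023231121111323100) (Net.cons (nat_lit 4) (nat_lit 0x40009070d05000e0b0f090603000c0c010d0000020a070704010c050a02080e0402090f0900080902050808) (Net.cons (nat_lit 8) (nat_lit 0x2600bd008a00fd00a400e2003000ef008c008e0032002700c2007600a10088004e00cb0030008300010000) (Net.cons (nat_lit 16) (nat_lit 0x2813000044a900001adc00009e75000058d100002b790000c8bf00002da100005e450000201000008000) (Net.cons (nat_lit 32) (nat_lit 0x1c18c753000000007b32ea9600000000826d84810000000065fe6a960000000035f11a90) (Net.cons (nat_lit 64) (nat_lit 0x5c88006300000000000000001488805854f7230500000000000000000312404100000000) (Net.cons (nat_lit 128) (nat_lit 0xddbef99233d098d1848800402028a206)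 (Net.cons (nat_lit 256) (nat_lit 0x3bd1bad7bfde58e975a8e737) (Net.cons (nat_lit 128) (nat_lit 0x548b0bd0a92328aa290c6473) (Net.cons (nat_lit 64) (nat_lit 0x75a880620000000000000000a827e83c7f5e981d000000000000000083083862ce4640e0) (Net.cons (nat_lit 32) (nat_lit 0x9180edd20000000073e3f25600000000f0b60035000000000aacf3f40000000054cb55b5) (Net.cons (nat_lit 16) (nat_lit 0x3a330000647b00004dd400009e75000031560000a5880000c2b10000d3cd000058f70000249a0000cca0) (Net.cons (nat_lit 8) (nat_lit 0x24009900c5002700a500e2000800a2009e00960092004d00e2000d002200ec006500ae0004008300910045) (Net.cons (nat_lit 4) (nat_lit 0x5030b0f040208030603080709040c0c090f0b010c080500090b0f0c09010d060d0b0b0a0804080a030d0408) (Net.cons (nat_lit 2) (nat_lit 0x1221210223320200232131211110122230233110132130021102122312203131212322101311311122333200) (Net.cons (nat_lit 1) (nat_lit 0x511414544500110051500510150051550500444050504554411501445155054400444140000150100144415) Net.nil)))))))))))))))))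

theorem o_g81_ok : Net.ok 351 o_g81 = true := by decide +kernel

noncomputable def o_g82 : Net := (Net.cons (nat_lit 1) (nat_lit 0x101444105001554415101441045440544504414414515100445540040410045105400505014054011001544) (Net.cons (nat_lit 2) (nat_lit 0x1203001113231031123000030322013132100130032210200122230031133021010210133133001202303210) (Net.cons (nat_lit 4) (nat_lit 0x2080006070d080d050303030c02060202060e0f0d020600030c000d0204050d030a08060e0b000209050400) (Net.cons (nat_lit 8) (nat_lit 0x2e004e00c8005900060079003d00540040008300ee009900a7001a009100c900c600c500d0001600400000) (Net.cons (nat_lit 16) (nat_lit 0x336a0000c5880000e28c00008b61000082e50000088c00004f260000caac0000022b00005c6000008000) (Net.cons (nat_lit 32) (nat_lit 0x380854200000000dbd336540000000074f5f948000000000041492800000000044a073c) (Net.cons (nat_lit 64) (nat_lit 0x373938690000000000000000ec84a3a2ac61302100000000000000002800400200000000) (Net.cons (nat_lit 128) (nat_lit 0x7ba296e450120214242441820d95212b)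 (Net.cons (nat_lit 256) (nat_lit 0x7b56db743c2e418e0dbdefeb) (Net.cons (nat_lit 128) (nat_lit 0x166894c1b3713589b71a0da9) (Net.cons (nat_lit 64) (nat_lit 0x3cbf250b0000000000000000df618ffcaf4dfc3300000000000000000a15a001b12c6ffe) (Net.cons (nat_lit 32) (nat_lit 0x79a1f3000000000fcb2a81f00000000053acb4d000000001ca80c8400000000858e5fb6) (Net.cons (nat_lit 16) (nat_lit 0x7d80000d50e00004a12000027200000b65100008b800000c8540000a5700000c7ea000025e40000344a) (Net.cons (nat_lit 8) (nat_lit 0x63007a00a0003d00f2006b00f700820032009000ce00aa004d006a00be007200bc00af00e8005d00110048) (Net.cons (nat_lit 4) (nat_lit 0x6090d09010b080905090b0b000c0309070e09050f0605040c07070e080e0107050e0500010900060905030c) (Net.cons (nat_lit 2) (nat_lit 0x1112313212210031023100000030330111213211030223331330331200030202103302130301220310110312) (Net.cons (nat_lit 1) (nat_lit 0x115414101544514455101411141155450550405005010014451044101411500000450505501054050441444) Net.nil)))))))))))))))))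

theorem o_g82_ok : Net.ok 351 o_g82 = true := by decide +kernel

noncomputable def o_g83 : Net := (Net.cons (nat_lit 1) (nat_lit 0x50504004114555000554151114510045455140441441510444041514411114101541400505014400014414) (Net.cons (nat_lit 2) (nat_lit 0x301322103033111300131210000003121013013220233003012023001101110032333221132012203000300) (Net.cons (nat_lit 4) (nat_lit 0x5040a060b0d0f030100050d040a0c030a0e05060a040a000509000a06090b0a0903020d0c030d0b0e090c00) (Net.cons (nat_lit 8) (nat_lit 0x2700f8005e00a300100079000e00b60012006400a200400054000000e200df009d00b00054008400190000) (Net.cons (nat_lit 16) (nat_lit 0x7e850000950b00009105000013aa000041a20000840d000031a60000890b000080850000eb3800000000) (Net.cons (nat_lit 32) (nat_lit 0xb250950900000000914f282b0000000037d7325200000000806c56450000000021e0387c) (Net.cons (nat_lit 64) (nat_lit 0x281500a0000000000000000c904ba2832e6610000000000000000000800110280000000) (Net.cons (nat_lit 128) (nat_lit 0xd7872d0b0d2128ec0800100004544c70)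 (Net.cons (nat_lit 256) (nat_lit 0x4f7d2afd480c1d23b4d6df72) (Net.cons (nat_lit 128) (nat_lit 0x5cdfd0a030a3c2e22b1dd504) (Net.cons (nat_lit 64) (nat_lit 0x22b0503200000000000000000f000a391624a3c500000000000000000d8142ca238c3400) (Net.cons (nat_lit 32) (nat_lit 0xa4470a59000000009dc74150000000004cf344eb00000000591b5a3f00000000c99c1516) (Net.cons (nat_lit 16) (nat_lit 0x345900001b5f0000d307000040e8000096980000fb24000094920000aca1000096de0000440e0000f60a) (Net.cons (nat_lit 8) (nat_lit 0x350040005a009a0000007a000000f3002f00cb007c0057002f004c00dc00ee00e4005a002d00ee009d0002) (Net.cons (nat_lit 4) (nat_lit 0x10a060804080f0c0000010805000a050c0d0d010f08000e060c050a0c0e0c050b0f0701010a000109030b00) (Net.cons (nat_lit 2) (nat_lit 0x112310303031113210321220302311323132231320203303332001323230103032303203102000100210002) (Net.cons (nat_lit 1) (nat_lit 0x510405504451501451514141055041454151511400010441455554554500515544545005100514115454414) Net.nil)))))))))))))))))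

theorem o_g83_ok : Net.ok 351 o_g83 = true := by decide +kernel

noncomputable def o_g84 : Net := (Net.cons (nat_lit 1) (nat_lit 0x1040010501544000110000540000044015500414540010000054000005010154141001440140100105000000) (Net.cons (nat_lit 2) (nat_lit 0x1300031303121212010002000000020020201010301023000000000002130031011121101000221002000000) (Net.cons (nat_lit 4) (nat_lit 0x504040f08000f050208000a04000100080c08080b010008000a0000080109020b040e000804040805020000) (Net.cons (nat_lit 8) (nat_lit 0x360089003200170084000000400002000800200059008800000000001d004100a8004d0001006d00210000) (Net.cons (nat_lit 16) (nat_lit 0x44500001d940000280a00000400000080820000c09000000000000051820000984700000b2200000000) (Net.cons (nat_lit 32) (nat_lit 0xc48a10800000000000804102000000000042000000000000609008400000000000000000) (Net.cons (nat_lit 64) (nat_lit 0x4c004800000000000000000201a0d028000000000000000000000000000000000000000) (Net.cons (nat_lit 128) (nat_lit 0xdb5cb92201a0d0280400400)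 (Net.cons (nat_lit 256) (nat_lit 0xdb5cb92201a0d0280400400) (Net.cons (nat_lit 128) (nat_lit 0xdb5cb92201a0d0280400400) (Net.cons (nat_lit 64) (nat_lit 0x44c214800000000000000000209a0d02800220000000000000000000b6058b4252d59204) (Net.cons (nat_lit 32) (nat_lit 0xde8e32810000000004805502000000008a434090000000007a9708410000000019276600) (Net.cons (nat_lit 16) (nat_lit 0xc450000199c0000a80a0000004000008c8a0000d4980000000a0000d38200009a4f0000892200000700) (Net.cons (nat_lit 8) (nat_lit 0x360089003200170084000000400002000800200059008800000000001d004100a800cd0001006d00240000) (Net.cons (nat_lit 4) (nat_lit 0x50c040f08040f050208000a04040108080c080c0b010008000a0004080109030b040f010904040805020000) (Net.cons (nat_lit 2) (nat_lit 0x1300031303121212010102020000020020201010301023010002000003130031011121101000221112010100) (Net.cons (nat_lit 1) (nat_lit 0x1041010501544000510000540000044115500414540050000054000005010154141001440140100105000000) Net.nil)))))))))))))))))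

theorem o_g84_ok : Net.ok 351 o_g84 = true := by decide +kernel

noncomputable def o_g85 : Net := (Net.cons (nat_lit 1) (nat_lit 0x455050555505540040011550554140511505000140140105551111441404105144544005504554555151515) (Net.cons (nat_lit 2) (nat_lit 0x31013310102031230212120211120023312202231223323010131120312311002303120302030213233010) (Net.cons (nat_lit 4) (nat_lit 0x5030b050a0c020407010c0a080800030b0f0c0c0a0c05010403060a03080a0f000a040d0308050800060808) (Net.cons (nat_lit 8) (nat_lit 0x1d00e3001d009600d400560080006b0032003f009a00080029000c00f100b5005500ac00a0008500680000) (Net.cons (nat_lit 16) (nat_lit 0x664d0000e0010000c59400000cb100003a5900008b070000754b000076470000ac2c0000857b00000000) (Net.cons (nat_lit 32) (nat_lit 0x940ef65000000000514b042000000000d2142d3400000000d7a2b09000000000204d4298) (Net.cons (nat_lit 64) (nat_lit 0x208fcbc0000000000000000064984213d024859b00000000000000002800000100000000) (Net.cons (nat_lit 128) (nat_lit 0x6debd3ab92904171200202104026a088)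 (Net.cons (nat_lit 256) (nat_lit 0x57f4d97d2e320211e82ff789) (Net.cons (nat_lit 128) (nat_lit 0x6c1ee68fb8170b0424c223a8) (Net.cons (nat_lit 64) (nat_lit 0x3087aa88000000000000000077db1693d015e72a00000000000000007095b5a103eea928) (Net.cons (nat_lit 32) (nat_lit 0x54fdf6ce00000000554a85aa00000000d31713b30000000043c6179600000000093723b8) (Net.cons (nat_lit 16) (nat_lit 0x56310000c2410000cd8000000e380000159d00002e8a0000d5e90000b3660000a9c20000065f0000c7a0) (Net.cons (nat_lit 8) (nat_lit 0x6e00630067004000e500de00a2007a00140099000c0039008d004e00c300f100710089000100e500840090) (Net.cons (nat_lit 4) (nat_lit 0x30e0b0600060a0b03040608000707090d0a0e090804090801060d020a0d0304050c08080800090a010e08) (Net.cons (nat_lit 2) (nat_lit 0x231000011000032330310310011022103112211331132330011021120203100002011302302021231210110) (Net.cons (nat_lit 1) (nat_lit 0x154010100545541401450400550051411001400140540554550151055000555100444415404511041415015) Net.nil)))))))))))))))))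

theorem o_g85_ok : Net.ok 351 o_g85 = true := by decide +kernel

noncomputable def ot_c1_K : List Net := [o_g78, o_g79, o_g80, o_g81, o_g82, o_g83, o_g84, o_g85]

theorem ot_c1_K_ok : okE 351 ot_c1_K = true := (okE_cons.2 ⟨o_g78_ok, (okE_cons.2 ⟨o_g79_ok, (okE_cons.2 ⟨o_g80_ok, (okE_cons.2 ⟨o_g81_ok, (okE_cons.2 ⟨o_g82_ok, (okE_cons.2 ⟨o_g83_ok, (okE_cons.2 ⟨o_g84_ok, (okE_cons.2 ⟨o_g85_ok, (okE_nil 351)⟩)⟩)⟩)⟩)⟩)⟩)⟩)⟩)

noncomputable def o_V87 : List Net := [o_g1, o_g, o_g2, o_g3, o_g4, o_g5, o_g8, o_g9, o_g12, o_g13, o_g14, o_g17, o_g18, o_g19, o_g20, o_g23, o_g24, o_g25, o_g26, o_c, o_g27, o_g30, o_g31, o_g32, o_g, o_g35, o_g, o_g]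

theorem o_V87_ok : okE 351 o_V87 = true := (okE_cons.2 ⟨o_g1_ok, (okE_cons.2 ⟨o_g_ok, (okE_cons.2 ⟨o_g2_ok, (okE_cons.2 ⟨o_g3_ok, (okE_cons.2 ⟨o_g4_ok, (okE_cons.2 ⟨o_g5_ok, (okE_cons.2 ⟨o_g8_ok, (okE_cons.2 ⟨o_g9_ok, (okE_cons.2 ⟨o_g12_ok, (okE_cons.2 ⟨o_g13_ok, (okE_cons.2 ⟨o_g14_ok, (okE_cons.2 ⟨o_g17_ok, (okE_cons.2 ⟨o_g18_ok, (okE_cons.2 ⟨o_g19_ok, (okE_cons.2 ⟨o_g20_ok, (okE_cons.2 ⟨o_g23_ok, (okE_cons.2 ⟨o_g24_ok, (okE_cons.2 ⟨o_g25_ok, (okE_cons.2 ⟨o_g26_ok, (okE_cons.2 ⟨o_c_ok, (okE_cons.2 ⟨o_g27_ok, (okE_cons.2 ⟨o_g30_ok, (okE_cons.2 ⟨o_g31_ok, (okE_cons.2 ⟨o_g32_ok, (okE_cons.2 ⟨o_g_ok, (okE_cons.2 ⟨o_g35_ok, (okE_cons.2 ⟨o_g_ok, (okE_cons.2 ⟨o_g_ok, (okE_nil 351)⟩)⟩)⟩)⟩)⟩)⟩)⟩)⟩)⟩)⟩)⟩)⟩)⟩)⟩)⟩)⟩)⟩)⟩)⟩)⟩)⟩)⟩)⟩)⟩)⟩)⟩)⟩)⟩)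

noncomputable def o_g88 : Net := (Net.cons (nat_lit 1) (nat_lit 0x45454140140105045055050110101451404454011410044444114155040411544115544401500140044540) (Net.cons (nat_lit 2) (nat_lit 0x1013300132310233011303110011021202301022131121012033211013132013110000221020210010200100) (Net.cons (nat_lit 4) (nat_lit 0x20509030304080f06070705010b0c020b000d0c000e0f05070c00040807000f0108090d0f010e0e00000000) (Net.cons (nat_lit 8) (nat_lit 0x44008c000f0050000700f500050072002d009c00c4000700de0005004b00af003d000b0076001900420080) (Net.cons (nat_lit 16) (nat_lit 0x60d500004cc30000d784000059c40000cb8a00008750000064480000197f0000cc130000403000008000) (Net.cons (nat_lit 32) (nat_lit 0xcc074ceb000000003553609f00000000e9c525a000000000e010082000000000481c0719) (Net.cons (nat_lit 64) (nat_lit 0x2804b3ee0000000000000000459928828098828600000000000000003420b9c000000000) (Net.cons (nat_lit 128) (nat_lit 0x9158e07bb04b50190bb020508d0104e8) (Net.cons (nat_lit 256) (nat_lit 0x774f761b3fbafff0cd4d8dfd)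 (Net.cons (nat_lit 128) (nat_lit 0x1b38a97dc05bdccb74c41f8) (Net.cons (nat_lit 64) (nat_lit 0xc5c01810000000000000000bf9ac8d403c872af00000000000000008c3a68d2f736cd0e) (Net.cons (nat_lit 32) (nat_lit 0x634a5a91000000001d37b20700000000710a11bc000000007fe3c61c00000000f420b59f) (Net.cons (nat_lit 16) (nat_lit 0x717a0000a4e500009db60000ade50000818b000046fe0000ecfc0000a90d00002c540000786c00006ae4) (Net.cons (nat_lit 8) (nat_lit 0x1800af00ef00a50080006a00190015003400b2005100b800c900f2009d000f00dc00c100a500e500b3008e) (Net.cons (nat_lit 4) (nat_lit 0x50802000a0a0408000e0f0a06060b0805010304000c02050a0b0f060f09030501040b03060b000b08080508) (Net.cons (nat_lit 2) (nat_lit 0x22202300201030310101323122100221002332123203300323313211010300000031003020010302111132) (Net.cons (nat_lit 1) (nat_lit 0x1151041001045045004504040441510054141414001145450111154111450100450554440154041411414444) Net.nil)))))))))))))))))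

theorem o_g88_ok : Net.ok 351 o_g88 = true := by decide +kernel

noncomputable def o_g89 : Net := (Net.cons (nat_lit 1) (nat_lit 0x1414540040000055104045514500101110051155141405004404401450541100510105510500405140555450) (Net.cons (nat_lit 2) (nat_lit 0x1312300210321013013302120230022030201123031002112212132010330333123323123322322030103110) (Net.cons (nat_lit 4) (nat_lit 0x502010e0d020606070e0b02090b060a010605040d0a070b0f010203040f0f0308010f0007000a0f0a090400) (Net.cons (nat_lit 8) (nat_lit 0x3500e100e400df002d00d90093008a0002004e004000ec00dc007b0017005900a0001c007300e7007d0080) (Net.cons (nat_lit 16) (nat_lit 0x567d00006e1e00004dad000092420000a7e70000a5a5000095c6000064aa0000f9110000c8c300000000) (Net.cons (nat_lit 32) (nat_lit 0x4ea4bb280000000071ca4f8b00000000e220937000000000e1a210430000000018838024) (Net.cons (nat_lit 64) (nat_lit 0x258aa2d20000000000000000b180c2555453ad0e000000000000000093a4404000000000) (Net.cons (nat_lit 128) (nat_lit 0xab32ec6110488821f597e0c066a61118)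 (Net.cons (nat_lit 256) (nat_lit 0x34cfd827f7fffed57fbe7ff8) (Net.cons (nat_lit 128) (nat_lit 0x3ddbe56be9484e541264c92c) (Net.cons (nat_lit 64) (nat_lit 0x7e841fdf00000000000000009afe4d90160de5310000000000000000fe78c199994cb1da) (Net.cons (nat_lit 32) (nat_lit 0xeceed3f0000000021247fc000000000a4cbf056000000004b32d54b000000007342f8ea) (Net.cons (nat_lit 16) (nat_lit 0x3d7c00004813000071b70000334c00008f2b0000afc100002fa7000096750000f6510000f0c00000170a) (Net.cons (nat_lit 8) (nat_lit 0x4500a100cf0082005700c300170043001e003000c80091008400a10005001a00c000890010006c003500a6) (Net.cons (nat_lit 4) (nat_lit 0x50a00020b0400030704030609020f0806040508050404070e0f0e030304030a060d03050d0004070204030a) (Net.cons (nat_lit 2) (nat_lit 0x221310103120013100323230221003031021211130133310011021222223123313223132122231220032132) (Net.cons (nat_lit 1) (nat_lit 0x440540041000115105144450501014044011004141445541141514005054150510410510444450044404040) Net.nil)))))))))))))))))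

theorem o_g89_ok : Net.ok 351 o_g89 = true := by decide +kernel

noncomputable def o_g90 : Net := (Net.cons (nat_lit 1) (nat_lit 0x1041414454110441004505410454000555455115540445550015154415154400145454410111404541110410) (Net.cons (nat_lit 2) (nat_lit 0x101001010100012203013112213013020101033021101311222233102320320333122311012011320322000) (Net.cons (nat_lit 4) (nat_lit 0x1020b05030b0d000f0405010500040e040d080401090f07010404090a080805080208040e010a0a0c0f0c00) (Net.cons (nat_lit 8) (nat_lit 0x6600ac00520041002300990035001700dc00b6007000f80071006c00a3009100b200840076008f00060000) (Net.cons (nat_lit 16) (nat_lit 0x424e0000239c00009980000014e400000245000085410000068600000042000028780000e01700000000) (Net.cons (nat_lit 32) (nat_lit 0x26f2c5cd000000008b9c489000000000435d034000000000b10052400000000005035a47) (Net.cons (nat_lit 64) (nat_lit 0x50302bb600000000000000003123c1322a20800100000000000000003420000f00000000) (Net.cons (nat_lit 128) (nat_lit 0x8d79ac1a054028032f10e94a423e8184)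 (Net.cons (nat_lit 256) (nat_lit 0x37f6f80fbff3e94f4fbe8fbf) (Net.cons (nat_lit 128) (nat_lit 0x6c325bd55f0a116a86cfa16a) (Net.cons (nat_lit 64) (nat_lit 0x465d2a7d00000000000000003621631029f600aa00000000000000002a26a79bbc18914a) (Net.cons (nat_lit 32) (nat_lit 0x1a3a95d5000000006eee307100000000519d62b1000000008393cb970000000062951a83) (Net.cons (nat_lit 16) (nat_lit 0x1251000089f20000a3a20000c72800002f070000b5c0000013d00000635300002ca1000058be000016a2) (Net.cons (nat_lit 8) (nat_lit 0x5c00b400c000da003a00d30009000900ea00a800bb00d500ad00c600fd00c10074005a00060090003d00e6) (Net.cons (nat_lit 4) (nat_lit 0x7040e0401000602030e0c0b0701070b000c080e000d0805060e03010e010e0204070c060902060f080f0508) (Net.cons (nat_lit 2) (nat_lit 0x1301321130121303102133122302220211330221023233113010312221220310333020303320021002000330) (Net.cons (nat_lit 1) (nat_lit 0x501504101005404114501100011015400111545440414401014515110011041001401154501104144445044) Net.nil)))))))))))))))))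

theorem o_g90_ok : Net.ok 351 o_g90 = true := by decide +kernel

noncomputable def o_g91 : Net := (Net.cons (nat_lit 1) (nat_lit 0x1501154441451045441450450550550015445105001545044045010000051101410010510050455040400004) (Net.cons (nat_lit 2) (nat_lit 0x22110103101211300321023103130000221201212120002021002002331303121202130323301123303110) (Net.cons (nat_lit 4) (nat_lit 0x4000b000102020506050b030c05030e0c02050101060601090e08000f000d030904030f0c07090303070000) (Net.cons (nat_lit 8) (nat_lit 0x6a0042001b009f008b00fc00040049002c0042000400840052000000e2003c001300a8004700bf00500000) (Net.cons (nat_lit 16) (nat_lit 0x2c01000057ed0000a8210000ba040000c000000004960000000000004108000052210000815300000000) (Net.cons (nat_lit 32) (nat_lit 0x8e810b64000000004a1e364800000000002282040000000011162c260000000000000000) (Net.cons (nat_lit 64) (nat_lit 0x8001604000000000000000048280bc00000000000000000000000000000000000000000) (Net.cons (nat_lit 128) (nat_lit 0x723bc02fb7f0bce3ae38226)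 (Net.cons (nat_lit 256) (nat_lit 0x723bc02fb7f0bce3ae38226) (Net.cons (nat_lit 128) (nat_lit 0x723bc02fb7f0bce3ae38226) (Net.cons (nat_lit 64) (nat_lit 0x6e27d1060000000000000000c8207b088a7788020000000000000000f21eea05c300046a) (Net.cons (nat_lit 32) (nat_lit 0x3ac10fe500000000761c7a0a000000003460821400000000d0f17b7200000000df2538da) (Net.cons (nat_lit 16) (nat_lit 0x70cb00005be50000e4730000b60e0000ce6e000004de0000682a0000420e000097030000920200002354) (Net.cons (nat_lit 8) (nat_lit 0x6a004000f9009f00ab007c00450089006c0043008400c7007200a100e0003c001d00c6000200a70044001e) (Net.cons (nat_lit 4) (nat_lit 0x4000900010002050e0509030c05030e0e02050301060e010b0e08000d040d0f0d06040909030c01040e0304) (Net.cons (nat_lit 2) (nat_lit 0x22110103101211300321023103130000221201212120002021002002330303111212131332302123203110) (Net.cons (nat_lit 1) (nat_lit 0x1501154441451045441450450550550015445105001545044045010004051111450410500450441040404004) Net.nil)))))))))))))))))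

theorem o_g91_ok : Net.ok 351 o_g91 = true := by decide +kernel

noncomputable def o_g92 : Net := (Net.cons (nat_lit 1) (nat_lit 0x5150144140140515105450015011540015010141404415005415451001540510550401455004151440400) (Net.cons (nat_lit 2) (nat_lit 0x1113033103123020213222031123332103103102210331023010202312103022010022010020000111110000) (Net.cons (nat_lit 4) (nat_lit 0x4030d0107070d010b080e0f0a020702010408050d04060306090f080b0e0204010a0c0601040406030e0208) (Net.cons (nat_lit 8) (nat_lit 0x1900ec009200c500a0003b00d0003000d7002c0075005900a000d700fd000c0010006300680058001a0000) (Net.cons (nat_lit 16) (nat_lit 0x4d420000b4dd00008b530000f8a300000c4500007fa200000b2c000045c80000c9830000901100000000) (Net.cons (nat_lit 32) (nat_lit 0x27f1deb60000000097400e7200000000aa35a35a00000000a4a5004700000000013a6490) (Net.cons (nat_lit 64) (nat_lit 0x78dc1286000000000000000052e314c8a42042820000000000000000202a32c200000000) (Net.cons (nat_lit 128) (nat_lit 0xfa57c1c9050140228e675f6aa82d8250)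 (Net.cons (nat_lit 256) (nat_lit 0x47ff657fbeefffeabf2dd2f8) (Net.cons (nat_lit 128) (nat_lit 0x6a8df5f30583414d2e607052) (Net.cons (nat_lit 64) (nat_lit 0x4fcc75d00000000000000000a29a4c082daa13cf00000000000000008a5c3ef43244a3c4) (Net.cons (nat_lit 32) (nat_lit 0xdd3b7340000000006243ec6e00000000c25337dd000000006e311c2a0000000073834cfc) (Net.cons (nat_lit 16) (nat_lit 0x7203000097620000703200006a800000890100005e6300003b2700006e900000eba00000650c000036d2) (Net.cons (nat_lit 8) (nat_lit 0xa00c100dc00f6001700d7004100c5002c00fc0072008600f700c1008b000100b100f000b8003100590038) (Net.cons (nat_lit 4) (nat_lit 0x20103030c0b0b0c0108080e0900030c0f0508050d060402030d090b010903090b0d0b070909040d090e030a) (Net.cons (nat_lit 2) (nat_lit 0x110213021120310233103011122113112233023110303212030301223231003010202032211233322132032) (Net.cons (nat_lit 1) (nat_lit 0x10540400044155051400040541404001004450141055151050455400540010550414004545000150451550) Net.nil)))))))))))))))))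

theorem o_g92_ok : Net.ok 351 o_g92 = true := by decide +kernel

noncomputable def o_g93 : Net := (Net.cons (nat_lit 1) (nat_lit 0x1414114410155150150141415514100014141514101514051050500510441414445450150410445444040444) (Net.cons (nat_lit 2) (nat_lit 0x1100303110113003032000100123213000223021230231130122310002000222201210020011322012030010) (Net.cons (nat_lit 4) (nat_lit 0x200080e040d0c0608040406080f0a070707000c080201000b0801050408000208060f0205050b020a040800) (Net.cons (nat_lit 8) (nat_lit 0x15003600bc005e00cd00580048005800c4004400cb00160037003100d500ef0040007b002800c0001d0000) (Net.cons (nat_lit 16) (nat_lit 0x618700006b020000313300004e0e000043d80000e7740000a17b0000582c0000a00700000e1000000000) (Net.cons (nat_lit 32) (nat_lit 0x13c02ad0000000003ed4174100000000af94637300000000b3b86118000000006811e060) (Net.cons (nat_lit 64) (nat_lit 0x17b26e0c0000000000000000c08e48146660218400000000000000009059bb0500000000) (Net.cons (nat_lit 128) (nat_lit 0xd018c2d480ca0043900840188f002327)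 (Net.cons (nat_lit 256) (nat_lit 0x5acbbc7f9b5fffddaffce3a7) (Net.cons (nat_lit 128) (nat_lit 0x2f73f5d1bc8f3ccac48d0565) (Net.cons (nat_lit 64) (nat_lit 0x20371e7e0000000000000000a756e1c2f2ca24570000000000000000d95c79f10120a508) (Net.cons (nat_lit 32) (nat_lit 0x43c41c0100000000ed4e525d0000000099c57ee500000000b61c22f500000000f8b22bba) (Net.cons (nat_lit 16) (nat_lit 0x61a70000a8cb0000031b0000970c000002c000004fec0000a1fb0000729100006d170000de1400008b1c) (Net.cons (nat_lit 8) (nat_lit 0x2f0076003c000100e500bc00410059007800c200d600730037008e00b1001700cd0037008700ca00ad008a) (Net.cons (nat_lit 4) (nat_lit 0x502090e040c00030f090e070806050e0a0000080c080d080b0e0a0d0b0d080908030a0f080f07060c040c0c) (Net.cons (nat_lit 2) (nat_lit 0x1100303101303003131323310123313101301221330330230123111102001220012311030011131020220120) (Net.cons (nat_lit 1) (nat_lit 0x510550154155001515104105554114001551015100554051014011540500515444411550500010040140554) Net.nil)))))))))))))))))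

theorem o_g93_ok : Net.ok 351 o_g93 = true := by decide +kernel

noncomputable def o_g94 : Net := (Net.cons (nat_lit 1) (nat_lit 0x551004405441014541155000544055150101415540410104441004500000000000000000400440000000000) (Net.cons (nat_lit 2) (nat_lit 0x321203233331210232233000130033222302312200013211201112030112220301021000000200222000000) (Net.cons (nat_lit 4) (nat_lit 0x30b02010901000102000d000907000d0102030c0507000302030b0806040002010002000008000004000000) (Net.cons (nat_lit 8) (nat_lit 0x19000e0080002a000b00620020002d003300a60092003f00f200c50014001100050022000200a200000000) (Net.cons (nat_lit 16) (nat_lit 0x22a000019b300009ea2000021c000003232000046250000128b00006042000002810000a00000008000) (Net.cons (nat_lit 32) (nat_lit 0xb00b5a21000000000042849200000000a0a9580b000000007d1714040000000000208800) (Net.cons (nat_lit 64) (nat_lit 0x928b00000000000000008f01680220549c4600000000000000000a00018000000000) (Net.cons (nat_lit 128) (nat_lit 0x8ac5ecd1800400020080010020008029)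 (Net.cons (nat_lit 256) (nat_lit 0x7c27b087ba800b90242bc27b) (Net.cons (nat_lit 128) (nat_lit 0x23d8906445fe946242800c2b) (Net.cons (nat_lit 64) (nat_lit 0x22201a8900000000000000003f01ea4a92761f4400000000000000000a0081c022208002) (Net.cons (nat_lit 32) (nat_lit 0xb01b7a31000000009052a4920000000070a9580b00000000fd1714040000000040208810) (Net.cons (nat_lit 16) (nat_lit 0x22e000019f300009eab000021c000003232000046250000128f00006046000002810000a00000008000) (Net.cons (nat_lit 8) (nat_lit 0x19000e0080002a000b00620020002d003700a60092003f00f200c50014001100050022000200a200000000) (Net.cons (nat_lit 4) (nat_lit 0x30b02010801000102000d000907000d01020b0c0507000202030b0806040003010002000008080004000000) (Net.cons (nat_lit 2) (nat_lit 0x321203233331210232233000130033222302312220013211201112030112220301021000200200222000000) (Net.cons (nat_lit 1) (nat_lit 0x551004405441014541155000544055150101415540410104441004500000000000000000400440000000000) Net.nil)))))))))))))))))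

theorem o_g94_ok : Net.ok 351 o_g94 = true := by decide +kernel

noncomputable def o_V95 : List Net := [o_g88, o_g89, o_g90, o_g91, o_g92, o_g93, o_g94]

theorem o_V95_ok : okE 351 o_V95 = true := (okE_cons.2 ⟨o_g88_ok, (okE_cons.2 ⟨o_g89_ok, (okE_cons.2 ⟨o_g90_ok, (okE_cons.2 ⟨o_g91_ok, (okE_cons.2 ⟨o_g92_ok, (okE_cons.2 ⟨o_g93_ok, (okE_cons.2 ⟨o_g94_ok, (okE_nil 351)⟩)⟩)⟩)⟩)⟩)⟩)⟩)

noncomputable def o_V97 : List Net := [o_g89, o_g90, o_g91, o_g92, o_g93, o_g94]

theorem o_V97_ok : okE 351 o_V97 = true := (okE_cons.2 ⟨o_g89_ok, (okE_cons.2 ⟨o_g90_ok, (okE_cons.2 ⟨o_g91_ok, (okE_cons.2 ⟨o_g92_ok, (okE_cons.2 ⟨o_g93_ok, (okE_cons.2 ⟨o_g94_ok, (okE_nil 351)⟩)⟩)⟩)⟩)⟩)⟩)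

noncomputable def o_V98 : List Net := [o_g91, o_g92, o_g93, o_g94]

theorem o_V98_ok : okE 351 o_V98 = true := (okE_cons.2 ⟨o_g91_ok, (okE_cons.2 ⟨o_g92_ok, (okE_cons.2 ⟨o_g93_ok, (okE_cons.2 ⟨o_g94_ok, (okE_nil 351)⟩)⟩)⟩)⟩)

noncomputable def o_V99 : List Net := [o_g92, o_g93, o_g94]

theorem o_V99_ok : okE 351 o_V99 = true := (okE_cons.2 ⟨o_g92_ok, (okE_cons.2 ⟨o_g93_ok, (okE_cons.2 ⟨o_g94_ok, (okE_nil 351)⟩)⟩)⟩)

noncomputable def o_V100 : List Net := [o_g93, o_g94]

theorem o_V100_ok : okE 351 o_V100 = true := (okE_cons.2 ⟨o_g93_ok, (okE_cons.2 ⟨o_g94_ok, (okE_nil 351)⟩)⟩)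

noncomputable def o_V101 : List Net := []

theorem o_V101_ok : okE 351 o_V101 = true := (okE_nil 351)

noncomputable def ot_c1_cnt_EG : List Net := [o_b, o_c, o_d, o_e, o_f, o_g, o_h, o_i, o_g1, o_g2, o_g3, o_g4, o_g5, o_g8, o_g9, o_g12, o_g13, o_g14, o_g17, o_g18, o_g19, o_g20, o_g23, o_g24, o_g25, o_g26, o_g27, o_g30, o_g31, o_g32, o_g35, o_g88, o_g89, o_g90, o_g91, o_g92, o_g93, o_g94]

theorem ot_c1_cnt_EG_ok : okE 351 ot_c1_cnt_EG = true := (okE_cons.2 ⟨o_b_ok, (okE_cons.2 ⟨o_c_ok, (okE_cons.2 ⟨o_d_ok, (okE_cons.2 ⟨o_e_ok, (okE_cons.2 ⟨o_f_ok, (okE_cons.2 ⟨o_g_ok, (okE_cons.2 ⟨o_h_ok, (okE_cons.2 ⟨o_i_ok, (okE_cons.2 ⟨o_g1_ok, (okE_cons.2 ⟨o_g2_ok, (okE_cons.2 ⟨o_g3_ok, (okE_cons.2 ⟨o_g4_ok, (okE_cons.2 ⟨o_g5_ok, (okE_cons.2 ⟨o_g8_ok, (okE_cons.2 ⟨o_g9_ok, (okE_cons.2 ⟨o_g12_ok, (okE_cons.2 ⟨o_g13_ok, (okE_cons.2 ⟨o_g14_ok, (okE_cons.2 ⟨o_g17_ok, (okE_cons.2 ⟨o_g18_ok, (okE_cons.2 ⟨o_g19_ok, (okE_cons.2 ⟨o_g20_ok, (okE_cons.2 ⟨o_g23_ok, (okE_cons.2 ⟨o_g24_ok,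 (okE_cons.2 ⟨o_g25_ok, (okE_cons.2 ⟨o_g26_ok, (okE_cons.2 ⟨o_g27_ok, (okE_cons.2 ⟨o_g30_ok, (okE_cons.2 ⟨o_g31_ok, (okE_cons.2 ⟨o_g32_ok, (okE_cons.2 ⟨o_g35_ok, (okE_cons.2 ⟨o_g88_ok, (okE_cons.2 ⟨o_g89_ok, (okE_cons.2 ⟨o_g90_ok, (okE_cons.2 ⟨o_g91_ok, (okE_cons.2 ⟨o_g92_ok, (okE_cons.2 ⟨o_g93_ok, (okE_cons.2 ⟨o_g94_ok, (okE_nil 351)⟩)⟩)⟩)⟩)⟩)⟩)⟩)⟩)⟩)⟩)⟩)⟩)⟩)⟩)⟩)⟩)⟩)⟩)⟩)⟩)⟩)⟩)⟩)⟩)⟩)⟩)⟩)⟩)⟩)⟩)⟩)⟩)⟩)⟩)⟩)⟩)⟩)⟩)

noncomputable def o_g102 : Net := (Net.cons (nat_lit 1) (nat_lit 0x1140510501144005511150055540544155011040500000010400504154414510104505144401001100041400) (Net.cons (nat_lit 2) (nat_lit 0x1001000102210213120211232030223032230332021103201110031312001033130101022320310130010200) (Net.cons (nat_lit 4) (nat_lit 0xb080e060a0b02050c070e080d09090e000f09070d0a09060e00040409040406060803010e060601080000) (Net.cons (nat_lit 8) (nat_lit 0x7200e700c200c900c200d600fd00ee009d00a500d7008d00e4003300240051007200600020004600c20000) (Net.cons (nat_lit 16) (nat_lit 0x31320000dbf80000584000003e6700004c210000b1a60000859800008bed000060110000819e00000000)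 (Net.cons (nat_lit 32) (nat_lit 0x971a2b050000000043a83206000000000f410ee200000000268074550000000018d0d650) (Net.cons (nat_lit 64) (nat_lit 0x241703a000000000000000005eea11241232600200000000000000001131580180000000) (Net.cons (nat_lit 128) (nat_lit 0x2ba76ae4340428204c0813005430d80) (Net.cons (nat_lit 256) (nat_lit 0x53c746929df9d975a7d75fa3) (Net.cons (nat_lit 128) (nat_lit 0x41dd1d84580480fa1feae217) (Net.cons (nat_lit 64) (nat_lit 0x2cf2f6e2000000000000000034aa0fe23afb2424000000000000000031b57c9796cd7346) (Net.cons (nat_lit 32) (nat_lit 0xb69b3b0c000000006f3d07060000000026c12ee7000000007c40d2110000000013d4e1d0) (Net.cons (nat_lit 16) (nat_lit 0x23b20000d4b900004ac400003cb600005abc0000bb23000092dc00009da9000072700000935a00008ec0) (Net.cons (nat_lit 8) (nat_lit 0x7300f700c300d900d700f300fd00ea009900b000d700cc00e0003600340054007200650024005600c60001) (Net.cons (nat_lit 4) (nat_lit 0x20a080e070a0b02050c070f090d08080f000e08070d0a09060e00040409040406070903000e060601090002)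 (Net.cons (nat_lit 2) (nat_lit 0x1001000102210213120211232030223032230232021003201110031312001033130101023320310130010200) (Net.cons (nat_lit 1) (nat_lit 0x1140510501144005511150055540544155011040500000010400504154414510104505144401001101041400) Net.nil)))))))))))))))))

theorem o_g102_ok : Net.ok 351 o_g102 = true := by decide +kernel

noncomputable def o_g103 : Net := (Net.cons (nat_lit 1) (nat_lit 0x44441145100001415151445104400501414141114150511545410104505544154100011005155511000504) (Net.cons (nat_lit 2) (nat_lit 0x2112102011123233323031313102232010313222033023323033030101320221232322233300020100210) (Net.cons (nat_lit 4) (nat_lit 0x2050308000b0e0607010c0a05090a000b0a0e0d03010f000b0201020c0e06000a050b0c020900000c050000) (Net.cons (nat_lit 8) (nat_lit 0x1100920078004e00da007100f4001900d60032004f0067000100ba005000000022007a0017003e00000000) (Net.cons (nat_lit 16) (nat_lit 0x70fb0000e181000070ca00000f060000a71b000069ba0000a13e000091f1000000020000c10600008000) (Net.cons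 (nat_lit 32) (nat_lit 0xc5c47e0b00000000dab1f3d6000000008a2b06410000000001217b3000000000227f4823) (Net.cons (nat_lit 64) (nat_lit 0x2d1329540000000000000000a7d0664ab7eb811800000000000000000687489b00000000) (Net.cons (nat_lit 128) (nat_lit 0xcdbe704a18ae30aa4d820f844201c25) (Net.cons (nat_lit 256) (nat_lit 0x6bbaf76bbffffaffc4ab5f37) (Net.cons (nat_lit 128) (nat_lit 0x3c2b678597bc994266c82cf0) (Net.cons (nat_lit 64) (nat_lit 0x1ac7cb650000000000000000b3ed4d85d933b57b00000000000000009989d95d42580f68) (Net.cons (nat_lit 32) (nat_lit 0x78b34e4b00000000221978d600000000a223b76b00000000b936cbea0000000071e48fee) (Net.cons (nat_lit 16) (nat_lit 0x74d000075890000462b00008e6100003f5a000002cc00006c160000a6f10000e06800009d660000090c) (Net.cons (nat_lit 8) (nat_lit 0x73007f0061000d00f40048001100b0006000b3007600630030001c009800d5009b000e00a500ae003a00ff) (Net.cons (nat_lit 4) (nat_lit 0x2080f00030a090c00050704080f0907040402060a060801010f02060f010a0d0c06000c0502020a010c0e07) (Net.cons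 (nat_lit 2) (nat_lit 0x300231210333013120100210330222000100021202311222213301202030023301302221100103313020201) (Net.cons (nat_lit 1) (nat_lit 0x544151544145404414150140551104000411041054511140451544444014055555501114105150541144105) Net.nil)))))))))))))))))

theorem o_g103_ok : Net.ok 351 o_g103 = true := by decide +kernel

noncomputable def o_g104 : Net := (Net.cons (nat_lit 1) (nat_lit 0x1144140014510044155004150114451504540510041411140541550510500404041004045114445104415410) (Net.cons (nat_lit 2) (nat_lit 0x221010020330210303033213230111121223001203232302121221010333013321011000331002230111012) (Net.cons (nat_lit 4) (nat_lit 0x70a00030d09030b0a0b070c05000d050a060e0a000105000e0c0902030e0c090f0a0a050003040304090008) (Net.cons (nat_lit 8) (nat_lit 0x5600f5008200e700f80002009700ea00e100cc001c001500c8000d007200c2003f00c80001009300830000) (Net.cons (nat_lit 16) (nat_lit 0x598900006253000081c00000a5460000356e000057180000a41b00004a81000084010000605b00000000) (Net.cons (nat_lit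 32) (nat_lit 0xda06962600000000ddd178d0000000007280504c000000001b40d1440000000008226210) (Net.cons (nat_lit 64) (nat_lit 0x69268c8600000000000000005ee8e08684108c4000000000000000002bda8c6980000000) (Net.cons (nat_lit 128) (nat_lit 0xe4421161850126d8982c6a0508100b14) (Net.cons (nat_lit 256) (nat_lit 0x155326dafffefffde8b6ef3d) (Net.cons (nat_lit 128) (nat_lit 0x72285f1c9393a0af3ae39b88) (Net.cons (nat_lit 64) (nat_lit 0x4fb65fea0000000000000000a2e5d6a147ffcd9500000000000000000dc1819bdb227a84) (Net.cons (nat_lit 32) (nat_lit 0x81f794bf00000000a46e4c3f00000000e469693500000000bcf6ae1c0000000092ecfa44) (Net.cons (nat_lit 16) (nat_lit 0x1fbe0000ffc500003abb0000457a00000ed1000035cc000033f700000ef6000041ca0000bdf30000e625) (Net.cons (nat_lit 8) (nat_lit 0x2000340041008c0087004000f9007c00a600d000bd000200a100ae00ec00df005400ac00e000cd00e10075) (Net.cons (nat_lit 4) (nat_lit 0x60e0104040901000e0c090b0d020f0a01000e0a020e070703050e0b01030108080f010706000a0208060804) (Net.cons (nat_lit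 2) (nat_lit 0x32330133220231003033103320313110033222000121303313222202213111123121033333020001011112) (Net.cons (nat_lit 1) (nat_lit 0x1401544504511414541044551545000410454444451410515045501451505401110041551540504104144451) Net.nil)))))))))))))))))

theorem o_g104_ok : Net.ok 351 o_g104 = true := by decide +kernel

noncomputable def o_g105 : Net := (Net.cons (nat_lit 1) (nat_lit 0x1000045140055554115405414504001510001151411010140051551054410051054051400004055541150541) (Net.cons (nat_lit 2) (nat_lit 0x1310220201122130311110033123321030222301200231333032131120021312221103032313130001001200) (Net.cons (nat_lit 4) (nat_lit 0x10a0a050d09050308000a010e0f0904040e060c08000e0a000006040f000c0c0e00020200070a0a080d0800) (Net.cons (nat_lit 8) (nat_lit 0x53007c00f60061000600ae00f2001500ec001f00f300ce0006000e001a00e0004c00cd001b00220000) (Net.cons (nat_lit 16) (nat_lit 0x196d0000d1d8000074da0000524a000048f00000bf4b0000805d000020af00005a410000399400008000) (Net.cons (nat_lit 32)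 (nat_lit 0xea149da8000000005f40138c0000000028296a900000000010a3539d0000000014a002a0) (Net.cons (nat_lit 64) (nat_lit 0x42e043290000000000000000e9a0c0940cbecc5b0000000000000000fa54585000000000) (Net.cons (nat_lit 128) (nat_lit 0x6b80a3e2d4239da15eb48180911d2000) (Net.cons (nat_lit 256) (nat_lit 0x5c2b9dadfef5fddfb7fffff0) (Net.cons (nat_lit 128) (nat_lit 0x7574b558ca43d817099e46a6) (Net.cons (nat_lit 64) (nat_lit 0xceede1d0000000000000000c821abb4f8a76a3600000000000000000ebf7988bc4d2385) (Net.cons (nat_lit 32) (nat_lit 0xa655497e00000000a14bca87000000001b55292e00000000b0b0463a000000001714b217) (Net.cons (nat_lit 16) (nat_lit 0x5aee0000b55a0000297f000051800000f7a00000084200002fe200007c0900007f9900001e39000089e7) (Net.cons (nat_lit 8) (nat_lit 0x6b008500e4005600db00ab000800b200c300fb00a40044004b00d60075002a00e400f400bb008b002900e6) (Net.cons (nat_lit 4) (nat_lit 0x506060a04040009000f0504090b090b070d0b0603000f010505020e09050006040b0e0d01030506060b0800) (Net.cons (nat_lit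 2) (nat_lit 0x1010100322111103211032030233322122312331020331112321123303013311121112230102231323213210) (Net.cons (nat_lit 1) (nat_lit 0x1411400450044001514455404055105050144015551154054100051551515550505410551140055545501141) Net.nil)))))))))))))))))

theorem o_g105_ok : Net.ok 351 o_g105 = true := by decide +kernel

noncomputable def o_g106 : Net := (Net.cons (nat_lit 1) (nat_lit 0x1444451514450011111154505450115105145144444455555051450540545510110451011400014541105144) (Net.cons (nat_lit 2) (nat_lit 0x300312333023131013120011332320303213202032113223321202232300310213111221210130112131100) (Net.cons (nat_lit 4) (nat_lit 0x20b0e0901050d06090b0109050f0202000a0a0603020803050d050a05000e0409020800010a07000e020200) (Net.cons (nat_lit 8) (nat_lit 0xb009d00fd00a100ac0033007e008a00c10054004e00bd001800b300180082001600e900c8007b000d0000) (Net.cons (nat_lit 16) (nat_lit 0x51ae0000081f00009130000058860000cb22000037a800005cef0000547e0000e22f0000041800008000) (Net.cons (nat_lit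 32) (nat_lit 0x2e07ac300000000c27b5ee400000000425ddcd300000000c17186da0000000042280266) (Net.cons (nat_lit 64) (nat_lit 0x1c52a92400000000000000004bbc03a21844204000000000000000005009e90c00000000) (Net.cons (nat_lit 128) (nat_lit 0x6a08bdbb9491e0e25a721b0740a14284) (Net.cons (nat_lit 256) (nat_lit 0x7ffffffe7f7bfb3f62a9daf4) (Net.cons (nat_lit 128) (nat_lit 0x2078bc6cdb59f51ead140e2) (Net.cons (nat_lit 64) (nat_lit 0x982d8f7000000000000000069c0cea8a625cb230000000000000000380cbdfe842c62a6) (Net.cons (nat_lit 32) (nat_lit 0x46e2712000000006cb68d8400000000e41df1a700000000bf20252b0000000081f044fd) (Net.cons (nat_lit 16) (nat_lit 0x24d3000066b100001f4b00002807000088360000c78800008a08000078c70000c6c60000c73100008a8a) (Net.cons (nat_lit 8) (nat_lit 0x4f00dc00b6004200550059004b003200de0027003a000e00ca006d00ab008900e6006d00e10076002b00b3) (Net.cons (nat_lit 4) (nat_lit 0x40d060c0002000202080e030a0e08080604020601060402070a02080e0801000d0a0109000f0b0b0d070f00) (Net.cons (nat_lit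 2) (nat_lit 0x213012333321221303221303203223221302203222312112323030201211113001012023331322232013220) (Net.cons (nat_lit 1) (nat_lit 0x1054100144000144440504104151100100040110004455500001141441514000101445504104110050144114) Net.nil)))))))))))))))))

theorem o_g106_ok : Net.ok 351 o_g106 = true := by decide +kernel

noncomputable def o_g107 : Net := (Net.cons (nat_lit 1) (nat_lit 0x501110001444004440405001540050511114144404444040004140004555055440010541100410014041500) (Net.cons (nat_lit 2) (nat_lit 0x1230332203023201313102302102102333010202122231310100010000033102301013110110020110301100) (Net.cons (nat_lit 4) (nat_lit 0x7050d0e010d0d03070e0e0c040601030b080b0b0309010800080200090309000809060805000b000c040900) (Net.cons (nat_lit 8) (nat_lit 0x6f002900b300c200a0002400aa0004000400d80006008800480080004e00700002001400e10008006c0000) (Net.cons (nat_lit 16) (nat_lit 0x3254000047f50000a5350000ab10000093460000020800008000000080400000100c0000100800000000) (Net.cons (nat_lit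 32) (nat_lit 0x4e59001400000000d3a831cc0000000001c8861d0000000083240a890000000000000000) (Net.cons (nat_lit 64) (nat_lit 0xa2054400000000000000000f00087800000000000000000000000000000000000000000) (Net.cons (nat_lit 128) (nat_lit 0x696b0279fd81879ca31b5603) (Net.cons (nat_lit 256) (nat_lit 0x696b0279fd81879ca31b5603) (Net.cons (nat_lit 128) (nat_lit 0x696b0279fd81879ca31b5603) (Net.cons (nat_lit 64) (nat_lit 0x39ccf68f0000000000000000fbcc967a0c2daa8d0000000000000000abe7bfab00000000) (Net.cons (nat_lit 32) (nat_lit 0x4518437f00000000fef8710000000000088586ed000000007587c81e0000000010080000) (Net.cons (nat_lit 16) (nat_lit 0x3a3e000047340000a777000091740000928b000023440000a0ca000000e30000120d0000345900008ce2) (Net.cons (nat_lit 8) (nat_lit 0x6e000b00b200e000a30004008f0024000100d800870088006c00a100ec00da003200b600cb00ee00280054) (Net.cons (nat_lit 4) (nat_lit 0x5050f0f010f0d03070e0c0c04040303090a0b090309010802080202090f0d000c01060c09080f0408000f04) (Net.cons (nat_lit 2)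 (nat_lit 0x1030332203023201313102102100122333010202122231310120010200033302321213110112020110301100) (Net.cons (nat_lit 1) (nat_lit 0x501110001454004444405011550050511114145404444440005141004555055440010541100410015141540) Net.nil)))))))))))))))))

theorem o_g107_ok : Net.ok 351 o_g107 = true := by decide +kernel

noncomputable def o_g108 : Net := (Net.cons (nat_lit 1) (nat_lit 0x1154545040441440505410001010400110515004105150154110405540505014541055444401050445040000) (Net.cons (nat_lit 2) (nat_lit 0x1330101200331000131332213331023220230311000302132301323023310022033021023232231121300120) (Net.cons (nat_lit 4) (nat_lit 0x5060b010306060e0602010c0304050c0602010c000e0f0704080c0c07010d020c06010601000507030d00) (Net.cons (nat_lit 8) (nat_lit 0x4e002500a6002b00fd008a00300098006c00c3000a00a000a1007c00a300590010000d00c4005100300000) (Net.cons (nat_lit 16) (nat_lit 0x1c420000458e00004fc40000831f0000b0b40000d0980000e89f000058c70000c8840000802400000000) (Net.cons (nat_lit 32)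 (nat_lit 0x7a6941030000000085e16934000000006b1c42fc00000000100043c900000000049839c1) (Net.cons (nat_lit 64) (nat_lit 0x4352200000000000000000412240e00321404400000000000000004406012000000000) (Net.cons (nat_lit 128) (nat_lit 0x5cc63aca86a44b541194002090010830) (Net.cons (nat_lit 256) (nat_lit 0xfe46f5dfd9f41e5d2a73f37) (Net.cons (nat_lit 128) (nat_lit 0x152e1a7300b5fa08bada3854) (Net.cons (nat_lit 64) (nat_lit 0x32f924f70000000000000000d0a12ade22080250000000000000000066746a5b03cbfdd6) (Net.cons (nat_lit 32) (nat_lit 0x4dcaa70b00000000d553bc15000000007ab724f60000000014a625d900000000049859f1) (Net.cons (nat_lit 16) (nat_lit 0x4e0000006aef00005ac50000b35f000080f40000b0f20000dbd60000edb60000dfec0000b44400002071) (Net.cons (nat_lit 8) (nat_lit 0xf00460085001a00bc00a900330099006d00c0006d00c30080005f008000780013000e00e7007200910023) (Net.cons (nat_lit 4) (nat_lit 0x2070609030104040c0400030e030c070e0d00030c020c0d05070a0e0e05030f020e04030403000705010f00) (Net.cons (nat_lit 2)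 (nat_lit 0x1330101200331000131332213331023220230311000302132301323023310022033021023232231121300120) (Net.cons (nat_lit 1) (nat_lit 0x1154545040441440505410001010400110515004105150154110405540505014541055444401050445040000) Net.nil)))))))))))))))))

theorem o_g108_ok : Net.ok 351 o_g108 = true := by decide +kernel

noncomputable def o_g109 : Net := (Net.cons (nat_lit 1) (nat_lit 0x544151145000455440011100450001101405005044111555551114110505504115450501414001051150100) (Net.cons (nat_lit 2) (nat_lit 0x301323221210003013331111020130023130210132101313110023312221303021223101222331313021000) (Net.cons (nat_lit 4) (nat_lit 0x2010d020f0a02090c040b09060a090b04010806010e0b0d0f0f0f0a0a0706040a010e0c060d030103010000) (Net.cons (nat_lit 8) (nat_lit 0x42003c00fc006a00df009c00200048000f004000f600cb003100cd0049006900a9004c00a8004900420000) (Net.cons (nat_lit 16) (nat_lit 0x6a230000f5810000cbb100001f750000610c0000b843000003b30000c620000012920000204100000000) (Net.cons (nat_lit 32)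 (nat_lit 0x7bb3bb8b000000004b7cf240000000007bed34c600000000042cbb120000000020153222) (Net.cons (nat_lit 64) (nat_lit 0x70880c070000000000000000e0312dc050c164820000000000000000c0d1f60600000000) (Net.cons (nat_lit 128) (nat_lit 0xa2b4f987d0290086d4fcf084810a4331) (Net.cons (nat_lit 256) (nat_lit 0x7abb5ffedefdf7e6bf0a53b7) (Net.cons (nat_lit 128) (nat_lit 0x687129c49b91f4d754bfc452) (Net.cons (nat_lit 64) (nat_lit 0x29ccb56c0000000000000000661603820939f5c80000000000000000f8fed8aebcaab383) (Net.cons (nat_lit 32) (nat_lit 0xbd98bac80000000002fe392c00000000fe15bcce000000000179916d00000000cd63f0e2) (Net.cons (nat_lit 16) (nat_lit 0x665b0000f6780000305a00007aa90000402a0000b04300001750000043b20000326b00006f47000063a3) (Net.cons (nat_lit 8) (nat_lit 0x4b007600fb0040003d001600aa00c100a50042001f00e5003f006400e600c2000e004e000300c300400003) (Net.cons (nat_lit 4) (nat_lit 0x2020d000d0a02090e060d09040f090502050804040e0b0d0f0d0d080807040500010c0c060a090301070002) (Net.cons (nat_lit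 2) (nat_lit 0x303323231210003213001131031130323130210132101313110023313301202230223101203331311001000) (Net.cons (nat_lit 1) (nat_lit 0x544151145000455440151100450001141405045044111555551114510505504115450501414001051150101) Net.nil)))))))))))))))))

theorem o_g109_ok : Net.ok 351 o_g109 = true := by decide +kernel

noncomputable def o_g110 : Net := (Net.cons (nat_lit 1) (nat_lit 0x1150041415144000400015051050151140000555100004515541510554144015410540551015440150141500) (Net.cons (nat_lit 2) (nat_lit 0x1200223003200012220010331111103100313331202303322320223333121122201101203033233101103100) (Net.cons (nat_lit 4) (nat_lit 0x40e0a0806000d0f0c000a030a0204060c040106030c02080c000a0a0a0a0a050400020d0d0d0c090a0a0108) (Net.cons (nat_lit 8) (nat_lit 0x4c00d600fe002800cf005200a2002300370017000700f900b1008f005e00a100d60075005c00ae00830000) (Net.cons (nat_lit 16) (nat_lit 0x20ce0000ce4f00000bfe0000b011000046ec0000270200006d030000823c00008f6200000d8000000000) (Net.cons (nat_lit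 32) (nat_lit 0x7920b2590000000055820d0000000000caceb995000000004e905c000000000000050009) (Net.cons (nat_lit 64) (nat_lit 0x48f82600000000000000000023c784c92240094800000000000000000df0062700000000) (Net.cons (nat_lit 128) (nat_lit 0xb8f723250a100685c1e820fa5cac1803) (Net.cons (nat_lit 256) (nat_lit 0x1b127edffdffffffffee3a03) (Net.cons (nat_lit 128) (nat_lit 0x44455da75ae8e4bc2b98b669) (Net.cons (nat_lit 64) (nat_lit 0x48efad1500000000000000004cd0178fdd85ccfd000000000000000002963cac4ec44443) (Net.cons (nat_lit 32) (nat_lit 0x8072fe97000000003a0584e000000000399bdabd00000000619cdc6600000000b458ad0d) (Net.cons (nat_lit 16) (nat_lit 0x7e18000084bd0000cfb80000b8f10000952b0000ed860000a8240000dd3b0000d1340000aba600004961) (Net.cons (nat_lit 8) (nat_lit 0x6e00e600d9002f008d006100c40034000000720034009d00d2008c003d009200e700f3005b00cc00940077) (Net.cons (nat_lit 4) (nat_lit 0x50e0a080c000f0f04000b090a03040e0c000107010c02080c020a0a0a0b0b010400060c0f0d0d090a0a0108) (Net.cons (nat_lit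 2) (nat_lit 0x1200223003202032220010333111103100313131202303322322223333123122201101203033233101103300) (Net.cons (nat_lit 1) (nat_lit 0x1150041415144000400015051050151140000555100004515541510554144015410540551015440150141500) Net.nil)))))))))))))))))

theorem o_g110_ok : Net.ok 351 o_g110 = true := by decide +kernel

noncomputable def o_g111 : Net := (Net.cons (nat_lit 1) (nat_lit 0x504551151440015444440100440404500550044001544444000044005051105440051040501400000045500) (Net.cons (nat_lit 2) (nat_lit 0x1020033300211012102000002300300201322001301210220000010001221332301232230000100002001100) (Net.cons (nat_lit 4) (nat_lit 0x404030209010608010004020000080b00000b01040809020600000e0f0702040106040002010000040500) (Net.cons (nat_lit 8) (nat_lit 0xe00410025002600020043000000c20060002c0006008100c00000002700a4000600580000000000000000) (Net.cons (nat_lit 16) (nat_lit 0xb4800000983000000000000cc0400002401000021000000000000008685000004000000800000000000) (Net.cons (nat_lit 32)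 (nat_lit 0x40604000000000000400081a0000000004000a000000000006a848000000000000000000) (Net.cons (nat_lit 64) (nat_lit 0x2000000000000000000000022a0c0010000000000000000000000000000000000000000) (Net.cons (nat_lit 128) (nat_lit 0xf003e0822a0c00100000000) (Net.cons (nat_lit 256) (nat_lit 0xf003e0822a0c00100000000) (Net.cons (nat_lit 128) (nat_lit 0xf003e0822a0c00100000000) (Net.cons (nat_lit 64) (nat_lit 0x42400010000000000000000026a0ca1320030000000000000000000006aefea040000000) (Net.cons (nat_lit 32) (nat_lit 0x4e78670200000000c604085a0000000007a0aaa00000000022094cb80000000080000000) (Net.cons (nat_lit 16) (nat_lit 0x4b2900000d83000084010000cc040000242100002d80000040800000c325000000a0000084a000000142) (Net.cons (nat_lit 8) (nat_lit 0x4e00030065002700020043000100c20070002c0007008100c00001002700a60016005a0000000100280014) (Net.cons (nat_lit 4) (nat_lit 0x104040b02090106090100040204020c0b0c000b01040909020600040e0f0702040106040002010000040700) (Net.cons (nat_lit 2) (nat_lit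 0x1020033300211012102000002300300201322001301210220000010001221332301232230000100002001100) (Net.cons (nat_lit 1) (nat_lit 0x504551151440015444440100440404500550044001544444000044005051105450051040501400000045500) Net.nil)))))))))))))))))

theorem o_g111_ok : Net.ok 351 o_g111 = true := by decide +kernel

noncomputable def ot_c2_K : List Net := [o_g103, o_g104, o_g105, o_g106, o_g107, o_g108, o_g109, o_g110, o_g111]

theorem ot_c2_K_ok : okE 351 ot_c2_K = true := (okE_cons.2 ⟨o_g103_ok, (okE_cons.2 ⟨o_g104_ok, (okE_cons.2 ⟨o_g105_ok, (okE_cons.2 ⟨o_g106_ok, (okE_cons.2 ⟨o_g107_ok, (okE_cons.2 ⟨o_g108_ok, (okE_cons.2 ⟨o_g109_ok, (okE_cons.2 ⟨o_g110_ok, (okE_cons.2 ⟨o_g111_ok, (okE_nil 351)⟩)⟩)⟩)⟩)⟩)⟩)⟩)⟩)⟩)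

noncomputable def o_V113 : List Net := [o_g8, o_g9, o_g12, o_g13, o_g14, o_g17, o_g18, o_g19, o_g20, o_g23, o_g24, o_g25, o_g26, o_c, o_g27, o_g30, o_g31, o_g32, o_g, o_g35, o_g, o_g]

theorem o_V113_ok : okE 351 o_V113 = true := (okE_cons.2 ⟨o_g8_ok, (okE_cons.2 ⟨o_g9_ok, (okE_cons.2 ⟨o_g12_ok, (okE_cons.2 ⟨o_g13_ok, (okE_cons.2 ⟨o_g14_ok, (okE_cons.2 ⟨o_g17_ok, (okE_cons.2 ⟨o_g18_ok, (okE_cons.2 ⟨o_g19_ok, (okE_cons.2 ⟨o_g20_ok, (okE_cons.2 ⟨o_g23_ok, (okE_cons.2 ⟨o_g24_ok, (okE_cons.2 ⟨o_g25_ok, (okE_cons.2 ⟨o_g26_ok, (okE_cons.2 ⟨o_c_ok, (okE_cons.2 ⟨o_g27_ok, (okE_cons.2 ⟨o_g30_ok, (okE_cons.2 ⟨o_g31_ok, (okE_cons.2 ⟨o_g32_ok, (okE_cons.2 ⟨o_g_ok, (okE_cons.2 ⟨o_g35_ok, (okE_cons.2 ⟨o_g_ok, (okE_cons.2 ⟨o_g_ok, (okE_nil 351)⟩)⟩)⟩)⟩)⟩)⟩)⟩)⟩)⟩)⟩)⟩)⟩)⟩)⟩)⟩)⟩)⟩)⟩)⟩)⟩)⟩)⟩)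

noncomputable def o_V114 : List Net := [o_g12, o_g13, o_g14, o_g17, o_g18, o_g19, o_g20, o_g23, o_g24, o_g25, o_g26, o_c, o_g27, o_g30, o_g31, o_g32, o_g, o_g35, o_g, o_g]

theorem o_V114_ok : okE 351 o_V114 = true := (okE_cons.2 ⟨o_g12_ok, (okE_cons.2 ⟨o_g13_ok, (okE_cons.2 ⟨o_g14_ok, (okE_cons.2 ⟨o_g17_ok, (okE_cons.2 ⟨o_g18_ok, (okE_cons.2 ⟨o_g19_ok, (okE_cons.2 ⟨o_g20_ok, (okE_cons.2 ⟨o_g23_ok, (okE_cons.2 ⟨o_g24_ok, (okE_cons.2 ⟨o_g25_ok, (okE_cons.2 ⟨o_g26_ok, (okE_cons.2 ⟨o_c_ok, (okE_cons.2 ⟨o_g27_ok, (okE_cons.2 ⟨o_g30_ok, (okE_cons.2 ⟨o_g31_ok, (okE_cons.2 ⟨o_g32_ok, (okE_cons.2 ⟨o_g_ok, (okE_cons.2 ⟨o_g35_ok, (okE_cons.2 ⟨o_g_ok, (okE_cons.2 ⟨o_g_ok, (okE_nil 351)⟩)⟩)⟩)⟩)⟩)⟩)⟩)⟩)⟩)⟩)⟩)⟩)⟩)⟩)⟩)⟩)⟩)⟩)⟩)⟩)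

noncomputable def o_V115 : List Net := [o_g17, o_g18, o_g19, o_g20, o_g23, o_g24, o_g25, o_g26, o_c, o_g27, o_g30, o_g31, o_g32, o_g, o_g35, o_g, o_g]

theorem o_V115_ok : okE 351 o_V115 = true := (okE_cons.2 ⟨o_g17_ok, (okE_cons.2 ⟨o_g18_ok, (okE_cons.2 ⟨o_g19_ok, (okE_cons.2 ⟨o_g20_ok, (okE_cons.2 ⟨o_g23_ok, (okE_cons.2 ⟨o_g24_ok, (okE_cons.2 ⟨o_g25_ok, (okE_cons.2 ⟨o_g26_ok, (okE_cons.2 ⟨o_c_ok, (okE_cons.2 ⟨o_g27_ok, (okE_cons.2 ⟨o_g30_ok, (okE_cons.2 ⟨o_g31_ok, (okE_cons.2 ⟨o_g32_ok, (okE_cons.2 ⟨o_g_ok, (okE_cons.2 ⟨o_g35_ok, (okE_cons.2 ⟨o_g_ok, (okE_cons.2 ⟨o_g_ok, (okE_nil 351)⟩)⟩)⟩)⟩)⟩)⟩)⟩)⟩)⟩)⟩)⟩)⟩)⟩)⟩)⟩)⟩)⟩)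

noncomputable def o_V116 : List Net := [o_g23, o_g24, o_g25, o_g26, o_c, o_g27, o_g30, o_g31, o_g32, o_g, o_g35, o_g, o_g]

theorem o_V116_ok : okE 351 o_V116 = true := (okE_cons.2 ⟨o_g23_ok, (okE_cons.2 ⟨o_g24_ok, (okE_cons.2 ⟨o_g25_ok, (okE_cons.2 ⟨o_g26_ok, (okE_cons.2 ⟨o_c_ok, (okE_cons.2 ⟨o_g27_ok, (okE_cons.2 ⟨o_g30_ok, (okE_cons.2 ⟨o_g31_ok, (okE_cons.2 ⟨o_g32_ok, (okE_cons.2 ⟨o_g_ok, (okE_cons.2 ⟨o_g35_ok, (okE_cons.2 ⟨o_g_ok, (okE_cons.2 ⟨o_g_ok, (okE_nil 351)⟩)⟩)⟩)⟩)⟩)⟩)⟩)⟩)⟩)⟩)⟩)⟩)⟩)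

noncomputable def o_g117 : Net := (Net.cons (nat_lit 1) (nat_lit 0x44400051100454105554500050004440005110045410555450005004150455000451044404514015004010) (Net.cons (nat_lit 2) (nat_lit 0x1201013013233230002300002212120223033301120202010000002001213003122233211121200230000300) (Net.cons (nat_lit 4) (nat_lit 0x40d0a000a05080d080301000000040607020805000f0200000100070e000d0104070c0802020209030400) (Net.cons (nat_lit 8) (nat_lit 0x100bd008100300092000000b200090086008b00180098008000000026001400e000a5008a000100d10000) (Net.cons (nat_lit 16) (nat_lit 0x2ae30000b2740000a9de00006d0200000e870000e0850000800000009c56000058640000000100000000) (Net.cons (nat_lit 32) (nat_lit 0x960003e80000000044b66572000000003203cb5800000000c83010c10000000000000000) (Net.cons (nat_lit 64) (nat_lit 0x102920200000000000000008944b1f90000000000000000000000000000000000000000) (Net.cons (nat_lit 128) (nat_lit 0x80003afb5bcd8b6fb9ff39fd895b) (Net.cons (nat_lit 256) (nat_lit 0x3afb5bcd8b6fb9ff39fd895b)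 (Net.cons (nat_lit 128) (nat_lit 0x3afb5bcd8b6fb9ff39fd895b) (Net.cons (nat_lit 64) (nat_lit 0x7695989e0000000000000000d2e3fb9597a7bcdf0000000000000000f83454f320000000) (Net.cons (nat_lit 32) (nat_lit 0xc293d78b0000000012b9ddb400000000d6e0c86300000000febe08890000000020010000) (Net.cons (nat_lit 16) (nat_lit 0x213c0000b55200005b2b0000e6cf00004481000037d20000d2e40000c81e00006c480000134d00000df0) (Net.cons (nat_lit 8) (nat_lit 0x390016009b008900880090001100b100ad009100a10082008000b3006700d100e1008100aa000100d30046) (Net.cons (nat_lit 4) (nat_lit 0x4050607060801010b020400010804040d0a040a0108090807010102070a040d0504070d08060e060d030004) (Net.cons (nat_lit 2) (nat_lit 0x1202230333011202020100000020120101301323323000230000221201213003122233211321200231000310) (Net.cons (nat_lit 1) (nat_lit 0x44401055100454105554510050004440105510045410555451005004154455104451454405514015045010) Net.nil)))))))))))))))))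

theorem o_g117_ok : Net.ok 351 o_g117 = true := by decide +kernel

noncomputable def o_V118 : List Net := [o_g, o_g117, o_c]

theorem o_V118_ok : okE 351 o_V118 = true := (okE_cons.2 ⟨o_g_ok, (okE_cons.2 ⟨o_g117_ok, (okE_cons.2 ⟨o_c_ok, (okE_nil 351)⟩)⟩)⟩)

noncomputable def o_V120 : List Net := [o_c]

theorem o_V120_ok : okE 351 o_V120 = true := (okE_cons.2 ⟨o_c_ok, (okE_nil 351)⟩)

noncomputable def o_V121 : List Net := []

theorem o_V121_ok : okE 351 o_V121 = true := (okE_nil 351)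

noncomputable def ot_c2_cnt_EG : List Net := [o_b, o_c, o_d, o_e, o_f, o_g, o_h, o_i, o_g1, o_g2, o_g3, o_g4, o_g5, o_g8, o_g9, o_g12, o_g13, o_g14, o_g17, o_g18, o_g19, o_g20, o_g23, o_g24, o_g25, o_g26, o_g27, o_g30, o_g31, o_g32, o_g35, o_g117]

theorem ot_c2_cnt_EG_ok : okE 351 ot_c2_cnt_EG = true := (okE_cons.2 ⟨o_b_ok, (okE_cons.2 ⟨o_c_ok, (okE_cons.2 ⟨o_d_ok, (okE_cons.2 ⟨o_e_ok, (okE_cons.2 ⟨o_f_ok, (okE_cons.2 ⟨o_g_ok, (okE_cons.2 ⟨o_h_ok, (okE_cons.2 ⟨o_i_ok, (okE_cons.2 ⟨o_g1_ok, (okE_cons.2 ⟨o_g2_ok, (okE_cons.2 ⟨o_g3_ok, (okE_cons.2 ⟨o_g4_ok, (okE_cons.2 ⟨o_g5_ok, (okE_cons.2 ⟨o_g8_ok, (okE_cons.2 ⟨o_g9_ok, (okE_cons.2 ⟨o_g12_ok, (okE_cons.2 ⟨o_g13_ok, (okE_cons.2 ⟨o_g14_ok, (okE_cons.2 ⟨o_g17_ok, (okE_cons.2 ⟨o_g18_ok, (okE_cons.2 ⟨o_g19_ok, (okE_cons.2 ⟨o_g20_ok, (okE_cons.2 ⟨o_g23_ok, (okE_cons.2 ⟨o_g24_ok, (okE_cons.2 ⟨o_g25_ok, (okE_cons.2 ⟨o_g26_ok, (okE_cons.2 ⟨o_g27_ok, (okE_cons.2 ⟨o_g30_ok, (okE_cons.2 ⟨o_g31_ok, (okE_cons.2 ⟨o_g32_ok, (okE_cons.2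 ⟨o_g35_ok, (okE_cons.2 ⟨o_g117_ok, (okE_nil 351)⟩)⟩)⟩)⟩)⟩)⟩)⟩)⟩)⟩)⟩)⟩)⟩)⟩)⟩)⟩)⟩)⟩)⟩)⟩)⟩)⟩)⟩)⟩)⟩)⟩)⟩)⟩)⟩)⟩)⟩)⟩)⟩)

noncomputable def o_g122 : Net := (Net.cons (nat_lit 1) (nat_lit 0x455515151004440001154511044051151441551104454414101100054405144441105451151540010141400) (Net.cons (nat_lit 2) (nat_lit 0x1211210230232222322303130230010223212112222120211033120312032200333132121023110333103020) (Net.cons (nat_lit 4) (nat_lit 0x60d07080f060b010605050002020a0402060e050e070209050909080d0c0d0b030804090c0e070f00040800) (Net.cons (nat_lit 8) (nat_lit 0x5e009a008e002f007f00820035000100fa0050002700090063006400d800b900da00340008009700730000) (Net.cons (nat_lit 16) (nat_lit 0x44620000942700009c320000d0be0000f0ec0000651e0000a656000033b80000d2b20000c94100000000) (Net.cons (nat_lit 32) (nat_lit 0xed78cee3000000004a00a917000000001947cfaf000000000b20043000000000449bf602) (Net.cons (nat_lit 64) (nat_lit 0x54913d3000000000000000000905431000804f7000000000000000078ba2db800000000) (Net.cons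 (nat_lit 128) (nat_lit 0x4ab3b76181d0069a3284bea100427268) (Net.cons (nat_lit 256) (nat_lit 0x47d22fbbfbffffbb94cb7ff8) (Net.cons (nat_lit 128) (nat_lit 0x20ae7aa14e81f63eb7c0311c) (Net.cons (nat_lit 64) (nat_lit 0x2e9dfa190000000000000000e5a71f08699faff8000000000000000073cf2f8ac3e09235) (Net.cons (nat_lit 32) (nat_lit 0xdbca422000000005add1a2b00000000066b36f6000000000ac248ce0000000086bd4f53) (Net.cons (nat_lit 16) (nat_lit 0x11420000f64e0000d440000079dd00001b8d0000532e00000cc70000213b000038500000a1630000d079) (Net.cons (nat_lit 8) (nat_lit 0x5800f000ff002b002e005100ca002200a80050007f00b3007a00f500b2008a00ca00d300fa004d000600d3) (Net.cons (nat_lit 4) (nat_lit 0x10b0f080d07050503060f03060700050008050105070e0b0f090a0f0f090a07000e0b0d0a000d0606030103) (Net.cons (nat_lit 2) (nat_lit 0x1213222210230003122301112012010221202012302332233213130133233200303322121021100313103031) (Net.cons (nat_lit 1) (nat_lit 0x451514151000541041155511145051151441551104154514001550054445144451045451151550110145400)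 Net.nil)))))))))))))))))

theorem o_g122_ok : Net.ok 351 o_g122 = true := by decide +kernel

noncomputable def o_g123 : Net := (Net.cons (nat_lit 1) (nat_lit 0x1511054040000111415504451000554101050540501450001401000550040500055100451000105545105514) (Net.cons (nat_lit 2) (nat_lit 0x1210031330103223113010131023221210112021021230121211010112102233310223221312130012212300) (Net.cons (nat_lit 4) (nat_lit 0x5060e010a0d08020504050a00020a080c0a0e020e0a07040f0807030d0e0107040005050d03010305020200) (Net.cons (nat_lit 8) (nat_lit 0x3c006000cb00aa006d006400ea003c00ab00ea0048000800340065000c00b600d800830009009600220080) (Net.cons (nat_lit 16) (nat_lit 0x29d7000028c10000999800005ccd0000b2970000d70c000083850000334d0000062300007c0700000000) (Net.cons (nat_lit 32) (nat_lit 0xb04afac80000000012d53e2c00000000483395f000000000f349e63e000000001014c072) (Net.cons (nat_lit 64) (nat_lit 0x3166228400000000000000003436035030b104c100000000000000004402053080000000) (Net.cons (nat_lit 128) (nat_lit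 0xf2c4cc5d8040155471f3c92d22c1108d) (Net.cons (nat_lit 256) (nat_lit 0x2be31d5f7ff3ed7fb6cf7ebf) (Net.cons (nat_lit 128) (nat_lit 0x50f627cc6da1420aeb0811d1) (Net.cons (nat_lit 64) (nat_lit 0x3af3e02b00000000000000009ab89771a15161030000000000000000166661d0bc0e0c7a) (Net.cons (nat_lit 32) (nat_lit 0xf31edf7400000000b90b19a3000000001e87cf3600000000a437c8d600000000d9a42699) (Net.cons (nat_lit 16) (nat_lit 0x23e00000db610000a8e90000ac32000057180000403e0000e17b0000c634000074fa00007e3d00006909) (Net.cons (nat_lit 8) (nat_lit 0x62001200bd0077001700b800420003003e00e5007a002b008200eb000600c8007400ff00f500fc00e400c3) (Net.cons (nat_lit 4) (nat_lit 0x30404040206050e0e0b040b030e0c09040d0e0b0b0208080f050b0e040805020d0b0c05040e0f0603080608) (Net.cons (nat_lit 2) (nat_lit 0x112330200132110120230232102311213211002021013110101233211330203123233030230223111211130) (Net.cons (nat_lit 1) (nat_lit 0x1410455551504440005550001111101100441155551441144551045510150555115005544040114554511404)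 Net.nil)))))))))))))))))

theorem o_g123_ok : Net.ok 351 o_g123 = true := by decide +kernel

noncomputable def o_g124 : Net := (Net.cons (nat_lit 1) (nat_lit 0x1140510144055155144514410544104145404400454550414111510414545045011144104045401014414414) (Net.cons (nat_lit 2) (nat_lit 0x1201300031213302010223130002103323331301011013032223101112011202202213001023132302322012) (Net.cons (nat_lit 4) (nat_lit 0x3060e0f0b040a010a0f0a0c0f02090201000904080b000408060107060e0d0c0f00070e070a0e0c040b0700) (Net.cons (nat_lit 8) (nat_lit 0x5e0036005800c4003d00600082000400a2009f0068002100020005003800bc005c00190073004e00900000) (Net.cons (nat_lit 16) (nat_lit 0x792c000056a10000a1b80000e85000001e7300001e130000208000009038000041580000104600008000) (Net.cons (nat_lit 32) (nat_lit 0x8ce960810000000060a9d712000000008a21e35c000000008d10c8190000000006b24a03) (Net.cons (nat_lit 64) (nat_lit 0x4ac66e1a000000000000000061563fa328838221000000000000000097f9931380000000) (Net.cons (nat_lit 128) (nat_lit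 0x502b231c01001b58b1872331fb76800) (Net.cons (nat_lit 256) (nat_lit 0x41f94fbddffbfbbfdfbfed6f) (Net.cons (nat_lit 128) (nat_lit 0x2fb84a006d657fb1da40957b) (Net.cons (nat_lit 64) (nat_lit 0x5f4bcd9300000000000000008ef4c4260e67c9810000000000000000d8621675e47f15b6) (Net.cons (nat_lit 32) (nat_lit 0x4e113bf000000000d429455200000000c0de4c17000000009aad1d9600000000c74bae3a) (Net.cons (nat_lit 16) (nat_lit 0x6c9700006f77000035ca00003a1a0000927400000ba40000d7a8000090f2000048410000b09d00007158) (Net.cons (nat_lit 8) (nat_lit 0x58003c003a00350024000e004700d100f4005f00f300c5003b0001007d00d4007500d700eb009b007600fd) (Net.cons (nat_lit 4) (nat_lit 0x10c0f04020d0e090b0e06020f05060f07000f050c0909030b0a0d080d0f030b05040a000d0a0a03050f0f06) (Net.cons (nat_lit 2) (nat_lit 0x1211001231133121020230033110203300230000100221233021310321100232110133311120220003022232) (Net.cons (nat_lit 1) (nat_lit 0x1151141054440451040145414415415514445044440050040455550004404400500011514151454400544154)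 Net.nil)))))))))))))))))

theorem o_g124_ok : Net.ok 351 o_g124 = true := by decide +kernel

noncomputable def o_g125 : Net := (Net.cons (nat_lit 1) (nat_lit 0x1455150110400510504400104510044000401154144004514044101054051551150445444144004041401) (Net.cons (nat_lit 2) (nat_lit 0x230033333130000113101201133210023220331033332120221012022223102230230301020120210103022) (Net.cons (nat_lit 4) (nat_lit 0xe0d0404030e0e0904020a0d030d0b0701000506090c0a0e05060f0401050601060109050c06040b010a08) (Net.cons (nat_lit 8) (nat_lit 0x10003b00af0047009e009d00a4008200f700b000b4008c0089001300a90049009200f80026006800040000) (Net.cons (nat_lit 16) (nat_lit 0x649a0000bb18000055510000278a000032200000842100001347000010e900005ac90000078300000000) (Net.cons (nat_lit 32) (nat_lit 0xa574f8780000000066e0b74400000000b12608200000000019a3208b000000002cbc3592) (Net.cons (nat_lit 64) (nat_lit 0x5dd90f100000000000000006317e7aad0340c14000000000000000024848e0b80000000) (Net.cons (nat_lit 128) (nat_lit 0x73774038c31019741d0938a7d8cf160)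 (Net.cons (nat_lit 256) (nat_lit 0x7c33e3f77fffff8bfddcf3ef) (Net.cons (nat_lit 128) (nat_lit 0x486ef21317000e2031d50c8) (Net.cons (nat_lit 64) (nat_lit 0x48f42c000000000000000000848c7f8dc5f1f27d0000000000000000224d7fa360f21c75) (Net.cons (nat_lit 32) (nat_lit 0xbd94d3800000000af1f4e1a000000005334061600000000ea06fd9200000000a115f980) (Net.cons (nat_lit 16) (nat_lit 0x7c190000a02f0000c41e00000937000068f50000e5460000bda6000070b10000618d000044920000589c) (Net.cons (nat_lit 8) (nat_lit 0x76001e00e2003600bb008c00ef009200f3005f00df000800ad001b00c400d2005900ac002b009700db0012) (Net.cons (nat_lit 4) (nat_lit 0x40d03040b020103010c0f0305080d0809040e0208060201090a0906050401040505040801000204030e0703) (Net.cons (nat_lit 2) (nat_lit 0x1331111033122103303023213300322133123331023020332310331023232203010201212103303011301220) (Net.cons (nat_lit 1) (nat_lit 0x41415100411450415154000010400400010405014054105540455144554544505551505400151050440151) Net.nil)))))))))))))))))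

theorem o_g125_ok : Net.ok 351 o_g125 = true := by decide +kernel

noncomputable def o_g126 : Net := (Net.cons (nat_lit 1) (nat_lit 0x1145504515054501540145041044415500045544511451145045404550514011011415405041000001010401) (Net.cons (nat_lit 2) (nat_lit 0x1312222212210220002210301310331120221210023211011332222022230132332221130001333010011000) (Net.cons (nat_lit 4) (nat_lit 0x50505080a0a00000300000a01020809080d0e040a0300030d0b020f0504060c0a080f000d080d02030d00) (Net.cons (nat_lit 8) (nat_lit 0x120093001f009700eb00c9006600230086007e000b004900cc001600c5000600ef006e0006001f00700000) (Net.cons (nat_lit 16) (nat_lit 0x608e0000e50f000024480000caa90000d72c00008c0200000dbc0000af98000088fc0000b66000008000) (Net.cons (nat_lit 32) (nat_lit 0xd12e261100000000ab48346b00000000232b612800000000d8b07ccd00000000405d828c) (Net.cons (nat_lit 64) (nat_lit 0x5e02bc21000000000000000006d0e353810198300000000000000000388e091200000000) (Net.cons (nat_lit 128) (nat_lit 0x45a3ae2dc04cf9008593c4c6393040af)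 (Net.cons (nat_lit 256) (nat_lit 0x66ccfbfffdbfcfd6b97ac5af) (Net.cons (nat_lit 128) (nat_lit 0x7d5e3d561ae649b01b0dff23) (Net.cons (nat_lit 64) (nat_lit 0x2295e44b00000000000000000932774d16e9309b0000000000000000bfcc9c8d02e08978) (Net.cons (nat_lit 32) (nat_lit 0x64cf6fcd00000000434b6164000000000ae762390000000067eec9a9000000009202bd70) (Net.cons (nat_lit 16) (nat_lit 0x70da000098a50000efa500007f920000c9bf0000dd6c0000a2740000bdbc0000d2ab0000a9d300005e99) (Net.cons (nat_lit 8) (nat_lit 0x7e00c9000f001300f600f1000100c20016008c0049003400c2002e007e008400530024008a00340054008a) (Net.cons (nat_lit 4) (nat_lit 0x6040e060d03030d0f0f0a0d0600080506060f02040b08010d0d080b060f060d060c0d080f0206030e01010a) (Net.cons (nat_lit 2) (nat_lit 0x1133120003313201323312120312010103331101003113120120030010033323200310033233230012103110) (Net.cons (nat_lit 1) (nat_lit 0x40014141104411114010154554455111404104111440540514505044510401001450504404551051405441) Net.nil)))))))))))))))))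

theorem o_g126_ok : Net.ok 351 o_g126 = true := by decide +kernel

noncomputable def o_g127 : Net := (Net.cons (nat_lit 1) (nat_lit 0x510550000450501140054550550050114414145544015140414440005005450410411415500550101110) (Net.cons (nat_lit 2) (nat_lit 0x323231131011302133200111121320112311333000023002011232310022102231233301233002123300230) (Net.cons (nat_lit 4) (nat_lit 0x708070b020a0a050b090e0d0d050d070a060b070b0a020602080001010b0f0b0a090909080b070802060000) (Net.cons (nat_lit 8) (nat_lit 0x7c007e001a00a2005100c900b50060000b004000560093008d00000063005d003000800044001b008b0000) (Net.cons (nat_lit 16) (nat_lit 0x4ce00000d7c700008751000090260000523000001a0000000000000050020000154f00002a0800000000) (Net.cons (nat_lit 32) (nat_lit 0x2cc92185000000001ca09c410000000056481016000000000456a8960000000000000000) (Net.cons (nat_lit 64) (nat_lit 0x619630220000000000000000480485700000000000000000000000000001000000000000) (Net.cons (nat_lit 128) (nat_lit 0x36fbc9b9eb77fd7dc52d329a)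 (Net.cons (nat_lit 256) (nat_lit 0x36fbc9b9eb77fd7dc52d329a) (Net.cons (nat_lit 128) (nat_lit 0x36fbc9b9eb76fd7dc52d329a) (Net.cons (nat_lit 64) (nat_lit 0x5d0a7f760000000000000000bb6d50a4a19fcfb500000000000000001c43b52ce23508f2) (Net.cons (nat_lit 32) (nat_lit 0xb1c585c00000000fa495b66000000003add6347000000001964667c0000000080c5ff7c) (Net.cons (nat_lit 16) (nat_lit 0x367d000039ab00000af30000f835000071c90000173f0000f22d00000b7a000026ce000099390000dfe7) (Net.cons (nat_lit 8) (nat_lit 0x400c9000a00f200e800c500ee0017002800b30031004e00cc0006001f00d1005500cc000c008800fd0027) (Net.cons (nat_lit 4) (nat_lit 0x90807070202070b0a000509010d000509090e010c060f07080401070d070808060c050c03080d07000b05) (Net.cons (nat_lit 2) (nat_lit 0x1012301133321000312102203203323033311130323321231023213011022231331220000112131302302022) (Net.cons (nat_lit 1) (nat_lit 0x445400150501445045111101115055445445411055550155010001140144101114504555415440554000144) Net.nil)))))))))))))))))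

theorem o_g127_ok : Net.ok 351 o_g127 = true := by decide +kernel

noncomputable def o_g128 : Net := (Net.cons (nat_lit 1) (nat_lit 0x51014544440051401000501014451504111010110015454504404011501111155151401100545110415000) (Net.cons (nat_lit 2) (nat_lit 0x1012111021301321000220201230203012223230331100000012002011131212223020223022133002231100) (Net.cons (nat_lit 4) (nat_lit 0x6000b040b0c06030a030a0d0f02070e00030005000a06080600020004070c0105080a0e0501040505020000) (Net.cons (nat_lit 8) (nat_lit 0x1002a00d50026007d00b8005000b500f1009300fc00a600410000009a00be003000430030008800800000) (Net.cons (nat_lit 16) (nat_lit 0x568c000052c30000f00e000010940000d05800008ac00000000000008321000028100000610000000000) (Net.cons (nat_lit 32) (nat_lit 0x4a8611c10000000080405542000000001d70a05c0000000088a804010000000000800000) (Net.cons (nat_lit 64) (nat_lit 0x4038200000000000000000000004840c0080000000000000000000000000000000000000) (Net.cons (nat_lit 128) (nat_lit 0x5f4cd90e338cd45c1b70fb9f)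 (Net.cons (nat_lit 256) (nat_lit 0x5f4cd90e338cd45c1b70fb9f) (Net.cons (nat_lit 128) (nat_lit 0x5fccd90e338cd45c1b70fb9f) (Net.cons (nat_lit 64) (nat_lit 0x73ab797e0000000000000000c457c52e5b83556e0000000000000000fa84d870642a5f19) (Net.cons (nat_lit 32) (nat_lit 0xceaeb94100000000c06255da000000005d76a0d4000000000ca4f50c0000000045b50034) (Net.cons (nat_lit 16) (nat_lit 0x5e9c000092d20000f01600003a940000b8520000ceda000000000000430b0000fa6a0000a0a90000c26a) (Net.cons (nat_lit 8) (nat_lit 0x9002e005d002e007d0039005000b500f5009b007c00ae00610008009f00ef00260050003500db00870013) (Net.cons (nat_lit 4) (nat_lit 0x6000b040a0c0e0202030e050f02070600030005080a06080e00020904070c0105080a0e0503040505020000) (Net.cons (nat_lit 2) (nat_lit 0x1012111023301321000220201230203012223230331300000012002011131212223020223022133002231100) (Net.cons (nat_lit 1) (nat_lit 0x51014544440051401000501014451504111010110015454504404011501111155151401100545110415000) Net.nil)))))))))))))))))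

theorem o_g128_ok : Net.ok 351 o_g128 = true := by decide +kernel

noncomputable def o_g129 : Net := (Net.cons (nat_lit 1) (nat_lit 0x44011540410041055040441110004441154041404004104044011414445500001115054100441400404444) (Net.cons (nat_lit 2) (nat_lit 0x30301301103010222003133103010213133032002301133111012010222311022022000311213221330210) (Net.cons (nat_lit 4) (nat_lit 0x40f0901040c0b020c030e0501000d0d090a010d0600070c0c0c00080e040f060e000f060a0c040908040000) (Net.cons (nat_lit 8) (nat_lit 0x2f001b003000cf0011000d00410008002e00f2002d00a000600080002600a800f3001300d000c900820000) (Net.cons (nat_lit 16) (nat_lit 0x731a000084df0000d4fc0000378d000003070000494e0000000000007d360000e3c10000885000000000) (Net.cons (nat_lit 32) (nat_lit 0x5a1a10120000000001017e09000000003168500200000000545470110000000000000000) (Net.cons (nat_lit 64) (nat_lit 0x268d420600000000000000002d6504a88000000000000000000000000000080000000000) (Net.cons (nat_lit 128) (nat_lit 0x4f7257c0adf577aaf8cd10d7)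 (Net.cons (nat_lit 256) (nat_lit 0x4f7257c0adf57faaf8cd10d7) (Net.cons (nat_lit 128) (nat_lit 0x4f7257c0adf57faaf8cd10d7) (Net.cons (nat_lit 64) (nat_lit 0x7066ba0a0000000000000000d27edd876ae7a55600000000000000000bf2bd60dc844f7b) (Net.cons (nat_lit 32) (nat_lit 0x98af3de800000000faf0cc820000000003bf2baa00000000a861f01f000000001f21d40e) (Net.cons (nat_lit 16) (nat_lit 0x373c0000f0220000f3c90000a04a000018940000b401000082c000001911000097d400008da4000018d0) (Net.cons (nat_lit 8) (nat_lit 0x19008a0016005c006e0054005b0072006500a90036001a00df00ec00a6008a00020079003300040093002b) (Net.cons (nat_lit 4) (nat_lit 0x7030d010407070b050f0a06040d0d0c0608000e0e020f0f08070d090e050e0b020003000104020309010201) (Net.cons (nat_lit 2) (nat_lit 0x1132122311303332131023210332332331312212133021032013333111120323102012123311033330112310) (Net.cons (nat_lit 1) (nat_lit 0x1504445450541141504511555441554444445050114154451055144111504540401100111155105100404541) Net.nil)))))))))))))))))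

theorem o_g129_ok : Net.ok 351 o_g129 = true := by decide +kernel

noncomputable def o_g130 : Net := (Net.cons (nat_lit 1) (nat_lit 0x1401451010141145551455110041140145101014114555145511004100551405010041444010040154001500) (Net.cons (nat_lit 2) (nat_lit 0x1333201030212301013101312000133320103021230101310131200002030222333321030130012232030100) (Net.cons (nat_lit 4) (nat_lit 0x10b0c0a02050b0b050801020604050f080e06010f0f010c05060200020e0e030e0a06050a010c0900010300) (Net.cons (nat_lit 8) (nat_lit 0x6e005000b400c000040009000c00a2009800380004008800c10080003f004500710029001100ca001c0080) (Net.cons (nat_lit 16) (nat_lit 0x26aa00009e1f000006f70000058d0000ca7e00004111000000000000b412000080c30000241900000000) (Net.cons (nat_lit 32) (nat_lit 0x1f3c5380000000000d58c44000000002131900100000000071122520000000000000000) (Net.cons (nat_lit 64) (nat_lit 0x482204000000000000000004023e91d0000000000000000000000000000800000000000) (Net.cons (nat_lit 128) (nat_lit 0x705d5451c3f77dfdff963080)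 (Net.cons (nat_lit 256) (nat_lit 0x705d5451c3f7fdfdff963080) (Net.cons (nat_lit 128) (nat_lit 0x705d5451c3f7fdfdff963080) (Net.cons (nat_lit 64) (nat_lit 0x757c938c00000000000000002540e2117696d06700000000000000001a97cb8a85a0a17c) (Net.cons (nat_lit 32) (nat_lit 0xd2d1e3fe00000000b4d2c14000000000c437b8100000000081a654a6000000007ca3c378) (Net.cons (nat_lit 16) (nat_lit 0x56270000dd1c000064fb0000d58c000057980000d35700005d21000084ba000092aa000083dd000072c6) (Net.cons (nat_lit 8) (nat_lit 0x700210075009000a800ca0068008b00ad00fd00140064004600a0003300b100a7008c000e004000fd0019) (Net.cons (nat_lit 4) (nat_lit 0x10901090e040b07020008030f05050d050d0a000f0306040c070b01020d020c0f0e00000f070f06000a0807) (Net.cons (nat_lit 2) (nat_lit 0x1332112033332330001131203300133211203333233000113120330000233203330323031232022232221002) (Net.cons (nat_lit 1) (nat_lit 0x454455510151101014441001551045445551015110101444100155100454415050054500451150054011101) Net.nil)))))))))))))))))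

theorem o_g130_ok : Net.ok 351 o_g130 = true := by decide +kernel

noncomputable def ot_c3_K : List Net := [o_g123, o_g124, o_g125, o_g126, o_g127, o_g128, o_g129, o_g130]

theorem ot_c3_K_ok : okE 351 ot_c3_K = true := (okE_cons.2 ⟨o_g123_ok, (okE_cons.2 ⟨o_g124_ok, (okE_cons.2 ⟨o_g125_ok, (okE_cons.2 ⟨o_g126_ok, (okE_cons.2 ⟨o_g127_ok, (okE_cons.2 ⟨o_g128_ok, (okE_cons.2 ⟨o_g129_ok, (okE_cons.2 ⟨o_g130_ok, (okE_nil 351)⟩)⟩)⟩)⟩)⟩)⟩)⟩)⟩)

noncomputable def o_g132 : Net := (Net.cons (nat_lit 1) (nat_lit 0x1104410544444515551545001001111101001104100541541454145000441154115150441510100450040004) (Net.cons (nat_lit 2) (nat_lit 0x1012301210321211301101033131123322220032301231013310331010202001111132203012303200300) (Net.cons (nat_lit 4) (nat_lit 0x10d0b09010e0a07070107050204000507000b06060c0d030507030c080702090c040a020408090d0c020800) (Net.cons (nat_lit 8) (nat_lit 0x2500aa00a400c6001c004400d000c00044004a0032006a000e003c002300e9003d00ce0077002000880000) (Net.cons (nat_lit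 16) (nat_lit 0x514000005d88000005aa00006df300008cf400003a960000001900006ffd000055c000000f8000000000) (Net.cons (nat_lit 32) (nat_lit 0x549db267000000000c0703d8000000008aad94a100000000c8d2b5010000000040389301) (Net.cons (nat_lit 64) (nat_lit 0x665182620000000000000000313493afd150830400000000000000002960ab2f00000000) (Net.cons (nat_lit 128) (nat_lit 0xc689bd2e0e0b08f00100812b91408204) (Net.cons (nat_lit 256) (nat_lit 0x4eeb0bff3b77afafb9f09205) (Net.cons (nat_lit 128) (nat_lit 0x81870dcf4fca3ba62640be5) (Net.cons (nat_lit 64) (nat_lit 0x118f42500000000000000003df5978fd3608305000000000000000033b8ef2756d09320) (Net.cons (nat_lit 32) (nat_lit 0x803ceb4e000000009b3ca3e80000000034f9f7330000000064e134fb000000001e689b01) (Net.cons (nat_lit 16) (nat_lit 0x31ca0000348c0000c1f800000cb800008b7b00004c1a00001c97000038220000fd6c0000d32200002060) (Net.cons (nat_lit 8) (nat_lit 0x47002e000f007c00ae00eb00b700a4004d00fc00d4005e002500810061008200a50041009f00c800bc00b0) (Net.cons (nat_lit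 4) (nat_lit 0x6040700080b080e06090e0006010709060f0006060d0c0905000a0f090f07060d0d0908030d050804020800) (Net.cons (nat_lit 2) (nat_lit 0x201223023012002302202133103210030313130003013302203132021123131102020211221210003300002) (Net.cons (nat_lit 1) (nat_lit 0x105115515545001511015500400400101054050451111004501014115400544150401455505400111540504) Net.nil)))))))))))))))))

theorem o_g132_ok : Net.ok 351 o_g132 = true := by decide +kernel

noncomputable def o_g133 : Net := (Net.cons (nat_lit 1) (nat_lit 0x501445515101141111544545401041514010005000050014410000414010011414405540414510000105014) (Net.cons (nat_lit 2) (nat_lit 0x1233231202300311101300001032131023021030210223131011012130300221103100232013321022103200) (Net.cons (nat_lit 4) (nat_lit 0x607090905020e0908000c080407050200070d09040f0a02090d0e06050e080c0c020a07070507080c090008) (Net.cons (nat_lit 8) (nat_lit 0x9007300f100e90089003000330042000d00ca00900013004a0098001500a1005e002c009e00f0009e0000) (Net.cons (nat_lit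 16) (nat_lit 0x680a00006df600001eb40000899800001ab70000d6cb000011830000a030000044a10000113000008000) (Net.cons (nat_lit 32) (nat_lit 0x2756027300000000998c2156000000001310a54c0000000046b648ea0000000023049a40) (Net.cons (nat_lit 64) (nat_lit 0x61329e1200000000000000003809771e561a5acb00000000000000002928670400000000) (Net.cons (nat_lit 128) (nat_lit 0x49ae79c5a180041030007114440012ca) (Net.cons (nat_lit 256) (nat_lit 0x25c75e9e3dfb7714667c92ca) (Net.cons (nat_lit 128) (nat_lit 0x32b1650d0107efce00ca9e92) (Net.cons (nat_lit 64) (nat_lit 0x7a86966d0000000000000000734b679c54ca8ac300000000000000004c6bf72463331a00) (Net.cons (nat_lit 32) (nat_lit 0x2a01e30700000000469fdcea0000000063dfd990000000002897e5660000000063391a48) (Net.cons (nat_lit 16) (nat_lit 0x11b30000460c00003c670000b9280000cbe70000be840000e3d800006a820000acd900008a5900008240) (Net.cons (nat_lit 8) (nat_lit 0x2700da008d0084004600500075000c000900f3002000060063009d008f003000050065001f006b007a0080) (Net.cons (nat_lit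 4) (nat_lit 0x6080908090c0506060a040105010c0f06080f000c000a020908040609040e020b0a02060c0a0f0f0f0d050a) (Net.cons (nat_lit 2) (nat_lit 0x1110033230211011213213213012002313323132021002322213223130330322021123021232122113102310) (Net.cons (nat_lit 1) (nat_lit 0x1454111410001500545014010400540111051450555404401504514005115541440550544040054151545054) Net.nil)))))))))))))))))

theorem o_g133_ok : Net.ok 351 o_g133 = true := by decide +kernel

noncomputable def o_g134 : Net := (Net.cons (nat_lit 1) (nat_lit 0x1114545014155400055015154111150540150015054401400451455054011040450115140504010111545150) (Net.cons (nat_lit 2) (nat_lit 0x10002021100132222032011130133002102003110103003110221221112311132000011000030031001130) (Net.cons (nat_lit 4) (nat_lit 0x30c0b00080d0705090e0f0f0b090c0908070007050404090b0b02010807030b0f0102020f0c04030c020c00) (Net.cons (nat_lit 8) (nat_lit 0x4b003000640077009f007700850003000f000400360051008a008f00340084002600550093000300910000) (Net.cons (nat_lit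 16) (nat_lit 0x2ee000098cb0000cbde00000958000024850000c55d0000e6a700003c33000010620000e59100000000) (Net.cons (nat_lit 32) (nat_lit 0x36928ba40000000019e1faa000000000083b4110000000004aa047ae00000000022cd4ca) (Net.cons (nat_lit 64) (nat_lit 0x613e45a00000000000000000251dfcbbe48904200000000000000000b041525c00000000) (Net.cons (nat_lit 128) (nat_lit 0x44a35774811290050108f08b60090020) (Net.cons (nat_lit 256) (nat_lit 0x1992f707f94bf3df7e2f80e8) (Net.cons (nat_lit 128) (nat_lit 0x3b5ca0902a94d8c624be155a) (Net.cons (nat_lit 64) (nat_lit 0x629908cf00000000000000002898f8dfe4ed104a000000000000000075034818e20244f8) (Net.cons (nat_lit 32) (nat_lit 0xa170d05a000000007eb517dc000000004f86d07a000000009d10deae00000000c62ac4da) (Net.cons (nat_lit 16) (nat_lit 0x21f00000e71c0000b9a500000c060000ec970000f34500000668000006fd00003c750000ee2900000032) (Net.cons (nat_lit 8) (nat_lit 0x3c004600df004d004c0008006400780094004200930044000d007f007d001800fe00ea00e400c8001100d4) (Net.cons (nat_lit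 4) (nat_lit 0x30300030000020008060f0f0002080b0e04000f07020e0c0b0907000403060b070c0c070203060205080f02) (Net.cons (nat_lit 2) (nat_lit 0x231131332120333323132122121030333103313010013113122223300022323032002222031020220201120) (Net.cons (nat_lit 1) (nat_lit 0x154444015145100540014045454051404511150054511510445004451404544155001051555011001005150) Net.nil)))))))))))))))))

theorem o_g134_ok : Net.ok 351 o_g134 = true := by decide +kernel

noncomputable def o_g135 : Net := (Net.cons (nat_lit 1) (nat_lit 0x54051101115415100100041000441004140111515000015001140451105555154104440015410151100100) (Net.cons (nat_lit 2) (nat_lit 0x1031113001012213031303103233211311310100320120102123001323122300223230313012011222122100) (Net.cons (nat_lit 4) (nat_lit 0x5070100060707020605040300070a0205010c050e0e01020504030c0903010907060b050a070f0303020200) (Net.cons (nat_lit 8) (nat_lit 0x2007200f600850050008500fd00680032004600ea00900048006f00bc000400ec0080009800a000820080) (Net.cons (nat_lit 16)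 (nat_lit 0xbba00006f560000db410000c13400000570000026a400001a2c00006e150000b9400000006000008000) (Net.cons (nat_lit 32) (nat_lit 0x90a50470000000008a7ca9c00000000088586c5400000000b49fe11a0000000048a04081) (Net.cons (nat_lit 64) (nat_lit 0x61b549400000000000000000f2a83e5e9d24101000000000000000002140512080000000) (Net.cons (nat_lit 128) (nat_lit 0x4df8e81a05385e680002e1018240410) (Net.cons (nat_lit 256) (nat_lit 0x765bcfffb1d77f70bbe44410) (Net.cons (nat_lit 128) (nat_lit 0x30ebff067a70904e47220370) (Net.cons (nat_lit 64) (nat_lit 0x1892b57e0000000000000000f2f852488f201050000000000000000007226e0ed5a0c081) (Net.cons (nat_lit 32) (nat_lit 0x57c84c8f000000004d5ea2d400000000407a1f500000000082fc89f900000000bce6c681) (Net.cons (nat_lit 16) (nat_lit 0x62030000e35d00007c5c00006151000047820000a6240000501e0000c2090000174d0000819400000240) (Net.cons (nat_lit 8) (nat_lit 0x74006e00d6007700c60052005b0016006300e000c600d0004c00610009005d008800e100a600ea00000080) (Net.cons (nat_lit 4)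 (nat_lit 0x30a0609040e010c030a08060e0a0a000e050a0b0c0001000106010a0707020f050c04020b0a0b0e03040200) (Net.cons (nat_lit 2) (nat_lit 0x330323133120230331203331000022030303220120120102131013312203210301121310020112132322100) (Net.cons (nat_lit 1) (nat_lit 0x1155405155050451151550140541001510154411411000015101150440114005154500151510400555540100) Net.nil)))))))))))))))))

theorem o_g135_ok : Net.ok 351 o_g135 = true := by decide +kernel

noncomputable def o_V136 : List Net := [o_g132, o_g133, o_g134, o_g135]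

theorem o_V136_ok : okE 351 o_V136 = true := (okE_cons.2 ⟨o_g132_ok, (okE_cons.2 ⟨o_g133_ok, (okE_cons.2 ⟨o_g134_ok, (okE_cons.2 ⟨o_g135_ok, (okE_nil 351)⟩)⟩)⟩)⟩)

noncomputable def o_V138 : List Net := [o_g133, o_g134, o_g135]

theorem o_V138_ok : okE 351 o_V138 = true := (okE_cons.2 ⟨o_g133_ok, (okE_cons.2 ⟨o_g134_ok, (okE_cons.2 ⟨o_g135_ok, (okE_nil 351)⟩)⟩)⟩)

noncomputable def o_V139 : List Net := [o_g134, o_g135]

theorem o_V139_ok : okE 351 o_V139 = true := (okE_cons.2 ⟨o_g134_ok, (okE_cons.2 ⟨o_g135_ok, (okE_nil 351)⟩)⟩)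

noncomputable def o_V140 : List Net := [o_g135]

theorem o_V140_ok : okE 351 o_V140 = true := (okE_cons.2 ⟨o_g135_ok, (okE_nil 351)⟩)

noncomputable def o_V141 : List Net := []

theorem o_V141_ok : okE 351 o_V141 = true := (okE_nil 351)

noncomputable def ot_c3_cnt_EG : List Net := [o_b, o_c, o_d, o_e, o_f, o_g, o_h, o_i, o_g1, o_g2, o_g3, o_g4, o_g5, o_g8, o_g9, o_g12, o_g13, o_g14, o_g17, o_g18, o_g19, o_g20, o_g23, o_g24, o_g25, o_g26, o_g27, o_g30, o_g31, o_g32, o_g35, o_g132, o_g133, o_g134, o_g135]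

theorem ot_c3_cnt_EG_ok : okE 351 ot_c3_cnt_EG = true := (okE_cons.2 ⟨o_b_ok, (okE_cons.2 ⟨o_c_ok, (okE_cons.2 ⟨o_d_ok, (okE_cons.2 ⟨o_e_ok, (okE_cons.2 ⟨o_f_ok, (okE_cons.2 ⟨o_g_ok, (okE_cons.2 ⟨o_h_ok, (okE_cons.2 ⟨o_i_ok, (okE_cons.2 ⟨o_g1_ok, (okE_cons.2 ⟨o_g2_ok, (okE_cons.2 ⟨o_g3_ok, (okE_cons.2 ⟨o_g4_ok, (okE_cons.2 ⟨o_g5_ok, (okE_cons.2 ⟨o_g8_ok, (okE_cons.2 ⟨o_g9_ok, (okE_cons.2 ⟨o_g12_ok, (okE_cons.2 ⟨o_g13_ok, (okE_cons.2 ⟨o_g14_ok, (okE_cons.2 ⟨o_g17_ok, (okE_cons.2 ⟨o_g18_ok, (okE_cons.2 ⟨o_g19_ok, (okE_cons.2 ⟨o_g20_ok, (okE_cons.2 ⟨o_g23_ok, (okE_cons.2 ⟨o_g24_ok, (okE_cons.2 ⟨o_g25_ok, (okE_cons.2 ⟨o_g26_ok, (okE_cons.2 ⟨o_g27_ok, (okE_cons.2 ⟨o_g30_ok, (okE_cons.2 ⟨o_g31_ok, (okE_cons.2 ⟨o_g32_ok, (okE_cons.2 ⟨o_g35_ok, (okE_cons.2 ⟨o_g132_ok, (okE_cons.2 ⟨o_g133_ok, (okE_cons.2 ⟨o_g134_ok, (okE_cons.2 ⟨o_g135_ok, (okE_nil 351)⟩)⟩)⟩)⟩)⟩)⟩)⟩)⟩)⟩)⟩)⟩)⟩)⟩)⟩)⟩)⟩)⟩)⟩)⟩)⟩)⟩)⟩)⟩)⟩)⟩)⟩)⟩)⟩)⟩)⟩)⟩)⟩)⟩)⟩)⟩)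

noncomputable def o_g142 : Net := (Net.cons (nat_lit 1) (nat_lit 0x1154015041055514540105515440415401504104155414510011544101104050554401044445451455551444) (Net.cons (nat_lit 2) (nat_lit 0x132012332302020011022101311020132100100021200313120212012203233030031003033133223120020) (Net.cons (nat_lit 4) (nat_lit 0x503000c0f0c0508060301000008060a040c0a0a01030c05060a08000b0c000108040c08010d020b01040800) (Net.cons (nat_lit 8) (nat_lit 0x14001400ea00be0068005000200041004700fd00f100a6001d008800c800370052009a0092005800000000) (Net.cons (nat_lit 16) (nat_lit 0x4646000003410000a2040000092f0000038500006606000000080000011600001f12000080b000000000) (Net.cons (nat_lit 32) (nat_lit 0x4269011600000000c800934400000000080090400000000009c212280000000000000000) (Net.cons (nat_lit 64) (nat_lit 0x42090204000000000000000024d8045e8000000000000000000000000000000000000000) (Net.cons (nat_lit 128) (nat_lit 0x800006e1bdcf024d0045e80000386) (Net.cons (nat_lit 256) (nat_lit 0x6e1bdcf024d0045e80000386)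 (Net.cons (nat_lit 128) (nat_lit 0x6e1bdcf024d0045e80000386) (Net.cons (nat_lit 64) (nat_lit 0x41200205000000000000000064d9945e090027c4000000000000000009461ae0a0b4050c) (Net.cons (nat_lit 32) (nat_lit 0xc279bf98000000008e23d0800000000054832b1d000000000694eae00000000092b64806) (Net.cons (nat_lit 16) (nat_lit 0x4aae000000c400007ca2000066be00000a2500003d290000b86900000d8200009dfe0000c264000028e8) (Net.cons (nat_lit 8) (nat_lit 0x62004400ef00ac006500ab0094008c005d00bc00e20013002300d300d8009700520014001200d800b000b1) (Net.cons (nat_lit 4) (nat_lit 0x70504000f0f0c0f080b010706080a030506080f02090a060305000b0b0c020d000c06060108040f090e0808) (Net.cons (nat_lit 2) (nat_lit 0x130111132223330333132201033320322230101233003222011230312212033002211223031330223312222) (Net.cons (nat_lit 1) (nat_lit 0x1455405151151454450044504015145500515115540041415010001500041050504400044541055051554551) Net.nil)))))))))))))))))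

theorem o_g142_ok : Net.ok 351 o_g142 = true := by decide +kernel

noncomputable def o_g143 : Net := (Net.cons (nat_lit 1) (nat_lit 0x1154401504505004544504111415405050001500111504454550111411514114505545500001550100141501) (Net.cons (nat_lit 2) (nat_lit 0x1212010302313322332013322213211233110202002033100000123323320203112223211311002000312302) (Net.cons (nat_lit 4) (nat_lit 0x60d0b0801020906060a070f0c070d0108020701010503050f0d020c0207040605090d0000040d0c0f0d0400) (Net.cons (nat_lit 8) (nat_lit 0x41008e002400e100e40035001c00b40075004b007600d700e6000b007000b40038004d0009000300ab0080) (Net.cons (nat_lit 16) (nat_lit 0x30290000715c000082cf000084300000c4b20000928500000280000091710000c4d00000610200000000) (Net.cons (nat_lit 32) (nat_lit 0xf1eb04c800000000b5d91104000000009a399e8000000000d4cd4931000000002c0a6883) (Net.cons (nat_lit 64) (nat_lit 0x6c6b727700000000000000001128fb800c0720060000000000000000dd5884b880000000) (Net.cons (nat_lit 128) (nat_lit 0xa4630a193a1b54520234c39b94400029)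 (Net.cons (nat_lit 256) (nat_lit 0x7bbb5fd6ff7fc7fbb655666b) (Net.cons (nat_lit 128) (nat_lit 0x2e5782d355e9325e0fc2f485) (Net.cons (nat_lit 64) (nat_lit 0x36849045000000000000000022f97c0bb10fa23a0000000000000000b436825546776853) (Net.cons (nat_lit 32) (nat_lit 0x370adcf00000000663110980000000065029693000000004ce6693b0000000087d29b9d) (Net.cons (nat_lit 16) (nat_lit 0x12700006961000016f90000fe4e0000de440000709e0000ff420000f7b700008373000036790000db92) (Net.cons (nat_lit 8) (nat_lit 0x6f00f3007a0096004f0076005e008c00f20051002d009300c20033000600380036001d00cc000000e300c9) (Net.cons (nat_lit 4) (nat_lit 0x201020b04000700030408080f090b0f0a010608000d0b0b0501010a000f0e0e02090a0a010c0d000d01040f) (Net.cons (nat_lit 2) (nat_lit 0x1210313220001312212310333323211200033002022203303122003212002013303323112233203122230113) (Net.cons (nat_lit 1) (nat_lit 0x550040504444100114415455051455041055100150141404115415510100154551540450544444051011045) Net.nil)))))))))))))))))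

theorem o_g143_ok : Net.ok 351 o_g143 = true := by decide +kernel

noncomputable def o_g144 : Net := (Net.cons (nat_lit 1) (nat_lit 0x1554455054440400541151100445404554010501001000050444405014011040111450110015105054444054) (Net.cons (nat_lit 2) (nat_lit 0x1223310023303103212031000212122302210220030313323310200131232201321331311122213202303030) (Net.cons (nat_lit 4) (nat_lit 0x20f0005010f0603060c0804020802000006000b0103050001010d080a090105070f0300080d0a0609040500) (Net.cons (nat_lit 8) (nat_lit 0x1d009400ab005800340014000700ca0040008a007e0043000a009300b1004d000900e600d7000d008a0000) (Net.cons (nat_lit 16) (nat_lit 0x162f0000230b0000344e0000240400003f0300005fe40000d0d8000003c10000dbb90000907400000000) (Net.cons (nat_lit 32) (nat_lit 0xd0b3daac000000001b4dc8e70000000025e05982000000000ff8580c0000000041937043) (Net.cons (nat_lit 64) (nat_lit 0x5836f41c0000000000000000434c4436c65b356000000000000000008c88d00080000000) (Net.cons (nat_lit 128) (nat_lit 0x5d0b6d74924338518745a3f394a08111)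 (Net.cons (nat_lit 256) (nat_lit 0x5e773b758ffdf7ffbeebfd9b) (Net.cons (nat_lit 128) (nat_lit 0x7d9e5e0f2600fafec2ea6e) (Net.cons (nat_lit 64) (nat_lit 0x25ad96e300000000000000003c055c9cc49b533100000000000000002caf2be883de8cf1) (Net.cons (nat_lit 32) (nat_lit 0x16a542bf0000000064d342d6000000002c76356c00000000a23616e40000000010ef9d93) (Net.cons (nat_lit 16) (nat_lit 0x259600000cf50000e0e20000b7bb0000ad0a0000cc3b0000e5aa000073ee0000e6280000a2f900008552) (Net.cons (nat_lit 8) (nat_lit 0x900bd00aa005f0085001f005100c10031000c001900f800770011003c00c60091009b00de00d700bf009f) (Net.cons (nat_lit 4) (nat_lit 0x500040604010d0b09080108080e04090b0d03000e040508090a090e0e0a0606070007000000060d0e0f0a03) (Net.cons (nat_lit 2) (nat_lit 0x1000010310300013203021233322112033110021001311230013031330133101311303311130002313201112) (Net.cons (nat_lit 1) (nat_lit 0x454554041555540004540111045110545401100445455001445010150455004014405510514010154050051) Net.nil)))))))))))))))))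

theorem o_g144_ok : Net.ok 351 o_g144 = true := by decide +kernel

noncomputable def o_g145 : Net := (Net.cons (nat_lit 1) (nat_lit 0x450515110404004414411554004555105540455454041111551454101451454101500451055445041500041) (Net.cons (nat_lit 2) (nat_lit 0x320211131111200313312210131000332322313121002132311032123122110122302300200011010101320) (Net.cons (nat_lit 4) (nat_lit 0x6000c0a000a0b000c03080f0f0e090f0e0a010f0c02010a01040602070104080c01050b0f0a0202060a0a00) (Net.cons (nat_lit 8) (nat_lit 0x1b00fc00af005a009f001200da008a001a000500f400080084008b00240057008e00b80052006a00890000) (Net.cons (nat_lit 16) (nat_lit 0x35ef00005a820000eb8400002ba80000e0a900003eab000043d70000701c000060a90000211300000000) (Net.cons (nat_lit 32) (nat_lit 0xad9467ab0000000080e2ee8500000000103e571a0000000032d6c2b700000000401c0820) (Net.cons (nat_lit 64) (nat_lit 0x1cc8882100000000000000004c72029e785900f600000000000000001028a00380000000) (Net.cons (nat_lit 128) (nat_lit 0xcea5398aa494122817716071234d948)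 (Net.cons (nat_lit 256) (nat_lit 0x6e7f6ba7f97fbfefbfbedb48) (Net.cons (nat_lit 128) (nat_lit 0x1f14af0141a4fd44f298b59d) (Net.cons (nat_lit 64) (nat_lit 0x6c5d73440000000000000000306917c0a8a456b10000000000000000fd2bc48debb8e7c7) (Net.cons (nat_lit 32) (nat_lit 0xdf309cbf00000000bfdb7c64000000000e67490100000000f27b3bc4000000006bc65062) (Net.cons (nat_lit 16) (nat_lit 0x79c00000161f00007e5a0000e04d0000af170000946800001ffa0000017a00002aeb00001ede00004e2c) (Net.cons (nat_lit 8) (nat_lit 0xa00940067009000e900fa008a00de008400cb007800aa0004007c009a003b000500c800fd00c50087007c) (Net.cons (nat_lit 4) (nat_lit 0x4010204050408070c08060a00050909050b000e04000e0204060e050b0401000d0d0e09020507090c0a0405) (Net.cons (nat_lit 2) (nat_lit 0x103011100233322111332113012100201023330232202310031331302211101100300120130332110312113) (Net.cons (nat_lit 1) (nat_lit 0x1104514545450440445451441104545050040514405551415414414541014050410140411150545401054) Net.nil)))))))))))))))))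

theorem o_g145_ok : Net.ok 351 o_g145 = true := by decide +kernel

noncomputable def o_g146 : Net := (Net.cons (nat_lit 1) (nat_lit 0x551441154000400100110014514540541155515505040401540550015411511550544101100540051154500) (Net.cons (nat_lit 2) (nat_lit 0x1220302001133003100330123301033121000203012030320132313332211110201301122300110233301310) (Net.cons (nat_lit 4) (nat_lit 0x6050207050f070c09010e050a010602080808020601080b06040f000f0e0c08010c050a0a0803060a0a0a00) (Net.cons (nat_lit 8) (nat_lit 0x1a001b0058008a00ba00d30000006c005b00ed0092004a0072007d007d008900a500e000a8009900b90080) (Net.cons (nat_lit 16) (nat_lit 0x60ac0000877d0000f3f000004ae300006ed1000079700000559c000085090000a3500000c11400000000) (Net.cons (nat_lit 32) (nat_lit 0x7207a18d000000005a84684200000000e34a1dcd0000000003893481000000004242101d) (Net.cons (nat_lit 64) (nat_lit 0x61013144000000000000000049081a405a5111000000000000000000170c200200000000) (Net.cons (nat_lit 128) (nat_lit 0x182a6c78c5e044477fb755928c304248)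 (Net.cons (nat_lit 256) (nat_lit 0x7ff74effffbf7dffcdbeffee) (Net.cons (nat_lit 128) (nat_lit 0x3cc414a2f072763947dde557) (Net.cons (nat_lit 64) (nat_lit 0x5e44021500000000000000003c45a176742696e6000000000000000057a58e52da6100a9) (Net.cons (nat_lit 32) (nat_lit 0x3c0e2dff00000000aa334be2000000001dab81ba0000000018a90c9800000000da80a82b) (Net.cons (nat_lit 16) (nat_lit 0x306b000097350000a8db00009be40000938a0000fff70000c7c90000952a0000d3110000c9d400008308) (Net.cons (nat_lit 8) (nat_lit 0x7e004a005d002600e200720074008d000e00bb0002009700a30061006700ab005d008c0021003900bb00bf) (Net.cons (nat_lit 4) (nat_lit 0x6060e00010b060d08000c06070807050e080a060f0906090e0706040d0a0a0a020e07030204010602020302) (Net.cons (nat_lit 2) (nat_lit 0x1221300210212020111003103123310121110011302103333313001012230200223101130103113013013132) (Net.cons (nat_lit 1) (nat_lit 0x1144051404151415445115504510055145405141540511054001005515450050014555500540151055050441) Net.nil)))))))))))))))))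

theorem o_g146_ok : Net.ok 351 o_g146 = true := by decide +kernel

noncomputable def o_g147 : Net := (Net.cons (nat_lit 1) (nat_lit 0x1010010115141040004500005050440540045041504000040401040000401004000404004040000000400000) (Net.cons (nat_lit 2) (nat_lit 0x313203210030223031000013112220003110000003031012101001100030200021002001100212100000000) (Net.cons (nat_lit 4) (nat_lit 0x20308050000080b000401000e0b000d02080c0902040c030e0c090b04050000000800000000000000000000) (Net.cons (nat_lit 8) (nat_lit 0x4400d10062008d004c00a100530009002000400010009e00c000fa00720000001000020000000100400000) (Net.cons (nat_lit 16) (nat_lit 0x6704000000a90000c3840000218a0000c45800004b0400001a1200004202000011800000008000008000) (Net.cons (nat_lit 32) (nat_lit 0xcb686081000000000dfa2588000000000804c8000000000004b042000000000050000d08) (Net.cons (nat_lit 64) (nat_lit 0x19a9c55f0000000000000000038032601120967200000000000000002111968200000000) (Net.cons (nat_lit 128) (nat_lit 0x17b07ea880002a5488c400104308c400)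 (Net.cons (nat_lit 256) (nat_lit 0x4ca87a56ebdfb6b3570bc71d) (Net.cons (nat_lit 128) (nat_lit 0x51d8ecfe9c44485c83e494c0) (Net.cons (nat_lit 64) (nat_lit 0x59a1875f000000000000000053803a68d96ad772000000000000000031919e8ac0c84200) (Net.cons (nat_lit 32) (nat_lit 0xcbea6091000000002d7a25ca000000001884c81000000000143040020000000050820d48) (Net.cons (nat_lit 16) (nat_lit 0x6747000000a90000c1860000218a0000c65800004b0400001a1200004202000011800000008000008001) (Net.cons (nat_lit 8) (nat_lit 0x4400d10062008f004e00a300530009002000400010009e00c200fa00700000001000000002000100400000) (Net.cons (nat_lit 4) (nat_lit 0x20308050100080b000401000e0b000d06090c0902040c030e0c090b04050000000800000000000000000400) (Net.cons (nat_lit 2) (nat_lit 0x313203210130223031000013112220003110000003031012101001100030200121002001100212100000000) (Net.cons (nat_lit 1) (nat_lit 0x1010010115141040004500005050440540045041504000040401040000401004000404004040000000400000) Net.nil)))))))))))))))))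

theorem o_g147_ok : Net.ok 351 o_g147 = true := by decide +kernel

noncomputable def o_g148 : Net := (Net.cons (nat_lit 1) (nat_lit 0x1044540541455055051051115410151541000155144544140011500514405540100145544501010501101000) (Net.cons (nat_lit 2) (nat_lit 0x1232212220102020310132203001000003031030213211033130310212300101221030200101301011100000) (Net.cons (nat_lit 4) (nat_lit 0x60e0c080d030606060f04050c0401060905040004090404070f0c0004020a0c00010403070e060000000200) (Net.cons (nat_lit 8) (nat_lit 0x1100be00b8008f008f00040044002d0061002e00f60007005100980024001a0050004a00d9009400080080) (Net.cons (nat_lit 16) (nat_lit 0x4fd50000a65e0000c1d3000020a40000a08d00007649000044020000687a00002d800000006800008000) (Net.cons (nat_lit 32) (nat_lit 0x98e5a1300000000050ac1dc200000000ed68a8e3000000003d0180c0000000006c794343) (Net.cons (nat_lit 64) (nat_lit 0x2010e402000000000000000004da5582a069a3240000000000000000b4b11b9300000000) (Net.cons (nat_lit 128) (nat_lit 0xd017167d818a1a129e28d398c09188a9)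 (Net.cons (nat_lit 256) (nat_lit 0x55ef9a7bfebddfdff09befbf) (Net.cons (nat_lit 128) (nat_lit 0x4cb663df2c91a532534c573) (Net.cons (nat_lit 64) (nat_lit 0x4ae8c3d000000000000000008b536262233746d70000000000000000c5ed3f9c69707a44) (Net.cons (nat_lit 32) (nat_lit 0x1d47e6d100000000b024df6e0000000042c12a64000000008f4588d3000000009e391573) (Net.cons (nat_lit 16) (nat_lit 0x3ff1000013140000ea5200008fb300007831000012a30000c68b0000e87900007de4000040640000d8c6) (Net.cons (nat_lit 8) (nat_lit 0x290061002e00f6000300510098001100be00b8008f009f000200400024001a0054004800dd009400080082) (Net.cons (nat_lit 4) (nat_lit 0x1060905050004090404070f0c04060e0c0c0d030606060f04050e0404020a0c00010403070e060000040200) (Net.cons (nat_lit 2) (nat_lit 0x30310302132110331303102123221222010202031013220300112300101221030200101301011100000) (Net.cons (nat_lit 1) (nat_lit 0x1515410001551045441400115005104454054145505505105011541015405540100145544501010501101000) Net.nil)))))))))))))))))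

theorem o_g148_ok : Net.ok 351 o_g148 = true := by decide +kernel

noncomputable def o_g149 : Net := (Net.cons (nat_lit 1) (nat_lit 0x54450115001040514441005511150110504014051500111415004445110455014140410011000500145554) (Net.cons (nat_lit 2) (nat_lit 0x1133230001003001022211303101100212310013202333000210300012132220313100321203012231003230) (Net.cons (nat_lit 4) (nat_lit 0x7070600020505050a07000906050c000a0c040109080808040e0d00070a0a0f050e05080f0a0b0d0c010500) (Net.cons (nat_lit 8) (nat_lit 0xb002d0078002d00170013008400440061009f0020006a00c80000006400a100af0025001d0091000d0000) (Net.cons (nat_lit 16) (nat_lit 0x3b420000dccf000063520000a2840000150500004c170000010000007400000006340000880800000000) (Net.cons (nat_lit 32) (nat_lit 0xd8348f0e0000000031cdba380000000025114150000000003c91442e0000000000000000) (Net.cons (nat_lit 64) (nat_lit 0x2880899a0000000000000000012e050a0000000000000000000000000100000000000000) (Net.cons (nat_lit 128) (nat_lit 0x9b1b24574eeef8fa11d0bde)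 (Net.cons (nat_lit 256) (nat_lit 0x9b1b24575eeef8fa11d0bde) (Net.cons (nat_lit 128) (nat_lit 0x9b1b24575eeef8fa11d0bde) (Net.cons (nat_lit 64) (nat_lit 0x7db3e34900000000000000008e246233f778284500000000000000002b0ca52a14ddd295) (Net.cons (nat_lit 32) (nat_lit 0x3cd87f1e00000000a1de3a1c00000000a25f7ba50000000056906b8e000000008952212e) (Net.cons (nat_lit 16) (nat_lit 0x4a4400001fd90000cb9a0000fe8900001d2800005d940000911c00003ea1000065a1000069340000d49e) (Net.cons (nat_lit 8) (nat_lit 0x75002f00c200ad0099005f007e008f007100ef00380022009e00d6005c000700ee003400bb00dc00800056) (Net.cons (nat_lit 4) (nat_lit 0x5040602000c0507060d0a0805000d0e090800000909060d000e06060701020f08080d0903060e0700040002) (Net.cons (nat_lit 2) (nat_lit 0x222330023303020321112301310220312211132202230221302130112313020312101323101001031021232) (Net.cons (nat_lit 1) (nat_lit 0x55040015150410141555101410550011504040114541400005014545515155051001410014015504541510) Net.nil)))))))))))))))))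

theorem o_g149_ok : Net.ok 351 o_g149 = true := by decide +kernel

noncomputable def o_g150 : Net := (Net.cons (nat_lit 1) (nat_lit 0x555451010401404015140404114055040001040040501404000000015444104015004441005550000010040) (Net.cons (nat_lit 2) (nat_lit 0x1223211231012200300103311130102322022101100220000000000012120100123102200301220200001000) (Net.cons (nat_lit 4) (nat_lit 0x50d02010c0d080f0106080a06020e060009080c08050e04000100000c050a0909040a0a0b0a050000000200) (Net.cons (nat_lit 8) (nat_lit 0x4800570019006d006a000700d8006000900011001500000000000000ca001c000e002000880014000a0000) (Net.cons (nat_lit 16) (nat_lit 0x71b600005708000010c0000088a8000028200000d1c000000000000024d80000829d000000a000000000) (Net.cons (nat_lit 32) (nat_lit 0x2640a9c000000000c270a0bb000000000000407100000000c28044000000000000000000) (Net.cons (nat_lit 64) (nat_lit 0x804405100000000000000006a0910800000000000000000000000000000000000000000) (Net.cons (nat_lit 128) (nat_lit 0x8480021a06bc999c8830572d5)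 (Net.cons (nat_lit 256) (nat_lit 0x480021a06bc999c8830572d5) (Net.cons (nat_lit 128) (nat_lit 0x480021a06bc999c8830572d5) (Net.cons (nat_lit 64) (nat_lit 0x1cca605d0000000000000000fe0b74b53078a0020000000000000000a8483810768c6e1b) (Net.cons (nat_lit 32) (nat_lit 0x6408dc000000000c260a8eb000000000000517100000000e28b449400000000210800b4) (Net.cons (nat_lit 16) (nat_lit 0x71ab00007708000031cc0000aeb8000028300000d5c00000011400006cd80000c2bd000008a100004000) (Net.cons (nat_lit 8) (nat_lit 0x4800570019006d006a000700d8006000900011001500000000000000ca001c000e0020008c0096000a0000) (Net.cons (nat_lit 4) (nat_lit 0x50c03010c0d080f0006080a06020e060009080c08040e05000101000c050a0909040a0a0b0a050000000200) (Net.cons (nat_lit 2) (nat_lit 0x1223211231012200300103311130102322022101100220000000000012120100123102200301220200001000) (Net.cons (nat_lit 1) (nat_lit 0x555451010401404015140404114055040001040040501404000000015444144015004441045550000010040) Net.nil)))))))))))))))))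

theorem o_g150_ok : Net.ok 351 o_g150 = true := by decide +kernel

noncomputable def ot_c4_K : List Net := [o_g143, o_g144, o_g145, o_g146, o_g147, o_g148, o_g149, o_g150]

theorem ot_c4_K_ok : okE 351 ot_c4_K = true := (okE_cons.2 ⟨o_g143_ok, (okE_cons.2 ⟨o_g144_ok, (okE_cons.2 ⟨o_g145_ok, (okE_cons.2 ⟨o_g146_ok, (okE_cons.2 ⟨o_g147_ok, (okE_cons.2 ⟨o_g148_ok, (okE_cons.2 ⟨o_g149_ok, (okE_cons.2 ⟨o_g150_ok, (okE_nil 351)⟩)⟩)⟩)⟩)⟩)⟩)⟩)⟩)

noncomputable def o_g152 : Net := (Net.cons (nat_lit 1) (nat_lit 0x1004404540001155144055044400145005055154411111105040150011011511050401400445001040411400) (Net.cons (nat_lit 2) (nat_lit 0x1121011321030003212130023022330101022121122032322322020102012103023023023011212001021000) (Net.cons (nat_lit 4) (nat_lit 0x4040808040e0a090200000402020207000b00040e0c0008070e0e0f01000504090400080c0b090607080a00) (Net.cons (nat_lit 8) (nat_lit 0x3e0093003e001a003c001e0099009900d700e300690095001f00b800a800f2001100110096000000400000) (Net.cons (nat_lit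 16) (nat_lit 0x12ec0000653e000038d60000ad990000ed260000acb700006942000006240000a09d0000801200000000) (Net.cons (nat_lit 32) (nat_lit 0x80a3a8b500000000606480340000000074f008c0000000000aa048440000000014001250) (Net.cons (nat_lit 64) (nat_lit 0x3405f4c1000000000000000013060bc17a65e01000000000000000000220010800000000) (Net.cons (nat_lit 128) (nat_lit 0x56ee07e50009a038d0020880306444c1) (Net.cons (nat_lit 256) (nat_lit 0x191fa2bdda260dbeb4e7fcdd) (Net.cons (nat_lit 128) (nat_lit 0x78e64d2075ca2880a779e791) (Net.cons (nat_lit 64) (nat_lit 0x260054d500000000000000009686dad948607986000000000000000006a081081005a114) (Net.cons (nat_lit 32) (nat_lit 0x20bbbab500000000c87cb57700000000dfb03080000000000aa81c060000000097001350) (Net.cons (nat_lit 16) (nat_lit 0x7aed0000653e000038d600008e9900004d24000085f70000432300002e240000c09d0000e25300000140) (Net.cons (nat_lit 8) (nat_lit 0x36009b003e001a003d005a0099009900dd006f00ad0095005d00b800a000b2005100510096000000600002) (Net.cons (nat_lit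 4) (nat_lit 0x4080808040e0a09020204000206020f0803000c0e04000c070e0e0f09000504090408080c0f090e07080e00) (Net.cons (nat_lit 2) (nat_lit 0x1321031321030003212130023022332101222321122032320322020102012103023223023011232001021000) (Net.cons (nat_lit 1) (nat_lit 0x1504004540001155144055044400145005455154411111105041150011011511050501410445001040411400) Net.nil)))))))))))))))))

theorem o_g152_ok : Net.ok 351 o_g152 = true := by decide +kernel

noncomputable def o_g153 : Net := (Net.cons (nat_lit 1) (nat_lit 0x1151100044450514400515044515400451144500404504550154505515440145104505510555005411550410) (Net.cons (nat_lit 2) (nat_lit 0x20220113200230312211313200121313121332022323310010022132311221130332120120001103310222) (Net.cons (nat_lit 4) (nat_lit 0x20a0a03020904000c0207050d0a05090b0a03080c04090008080b06050604090e08050a080d0f0606030000) (Net.cons (nat_lit 8) (nat_lit 0x24001200f0006100f400dd00ad00f600b500b000d8001600da00d9001d007f007300bb000500d100980080) (Net.cons (nat_lit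 16) (nat_lit 0x7e6b00004e050000e20600003917000093730000d0800000be2100000ac30000ac200000040800000000) (Net.cons (nat_lit 32) (nat_lit 0xca77391f000000000743002400000000e160257300000000a65071010000000019a220a1) (Net.cons (nat_lit 64) (nat_lit 0x28a463620000000000000000c41494f406e2a88000000000000000007000628400000000) (Net.cons (nat_lit 128) (nat_lit 0xdad1f11a60308813559040a0a20310d9) (Net.cons (nat_lit 256) (nat_lit 0x613ecb9ffd9562f6efa7baf9) (Net.cons (nat_lit 128) (nat_lit 0x18be2f1351ae4d6e2449c432) (Net.cons (nat_lit 64) (nat_lit 0x19e065d50000000000000000d005d375872e761900000000000000001b9067c0b7a4245b) (Net.cons (nat_lit 32) (nat_lit 0xc2f473fe000000000e0b72460000000041dbaff300000000dfdc96a4000000004b80499d) (Net.cons (nat_lit 16) (nat_lit 0x7feb0000c0e10000aa8700006b25000003660000d0670000f13900002cc10000ae5200002c6300001180) (Net.cons (nat_lit 8) (nat_lit 0x17005200b30073006100900096009400ce0078005c008200c7001b00d900d300d30038004700cc007400a2) (Net.cons (nat_lit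 4) (nat_lit 0x200080f0c08010804070b0b060e01030f0402080801070100090804030606090c0f060c020c060201030008) (Net.cons (nat_lit 2) (nat_lit 0x100210202122212302233111123032020033132322000112100330212033032231220213110330313210) (Net.cons (nat_lit 1) (nat_lit 0x10410154005005444551550555441155055001500145140454155401540154110145445055454450450500) Net.nil)))))))))))))))))

theorem o_g153_ok : Net.ok 351 o_g153 = true := by decide +kernel

noncomputable def o_g154 : Net := (Net.cons (nat_lit 1) (nat_lit 0x1015050115014411554444001054111114400110050051514510504500541414541550511055411011554004) (Net.cons (nat_lit 2) (nat_lit 0x1031311201330010301021001210000322133002313033101333221312202312111312112003000101211020) (Net.cons (nat_lit 4) (nat_lit 0x709090d0500000f040c0009090e070d000d0502000a0e060b04010c020a050a090703040607070e0c010008) (Net.cons (nat_lit 8) (nat_lit 0x1c00bd00fa00be00d2004f002600060073009600420027003c002500c400f900a300e90033000000200000) (Net.cons (nat_lit 16)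 (nat_lit 0x32c9000004ad000029c8000019820000677400006a42000093ba0000812800006cc00000229800000000) (Net.cons (nat_lit 32) (nat_lit 0x6092908d00000000a40879a600000000006e3c0e0000000089856f28000000000f9511a7) (Net.cons (nat_lit 64) (nat_lit 0x404dd000000000000000000b0208a26d04b230100000000000000004a98465200000000) (Net.cons (nat_lit 128) (nat_lit 0xbf6a3f008bc12454b486c432211c924b) (Net.cons (nat_lit 256) (nat_lit 0xbfdfdf5ffdfe7f6e51e927f) (Net.cons (nat_lit 128) (nat_lit 0x7502438ba402850c018c9235) (Net.cons (nat_lit 64) (nat_lit 0x1a0414fe0000000000000000226cdf9dd84d2f930000000000000000a5b86f4ac003114b) (Net.cons (nat_lit 32) (nat_lit 0xe082d6ac00000000b9007aa30000000084a6210a00000000391b22fb00000000ef951093) (Net.cons (nat_lit 16) (nat_lit 0x6a57000073f100002ffa0000759e0000507f0000784400000fd50000db630000704200004313000017a4) (Net.cons (nat_lit 8) (nat_lit 0x5d00ef008100ae0094006f002e008300c0009200c000e5004600f800ee00e900a100cb00c1001500880014) (Net.cons (nat_lit 4)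 (nat_lit 0x60f08050308000900060005090e010d090d0703020a0902020b0c080e0d0a010b01090d03070707010a0004) (Net.cons (nat_lit 2) (nat_lit 0x131001213011110312220310220011313303002111023222001030033202032111222013020132102011010) (Net.cons (nat_lit 1) (nat_lit 0x1055554100404411414441541014111151004110440450054050000150541555544551541040411051554000) Net.nil)))))))))))))))))

theorem o_g154_ok : Net.ok 351 o_g154 = true := by decide +kernel

noncomputable def o_V155 : List Net := [o_g152, o_g153, o_g154, o_g31]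

theorem o_V155_ok : okE 351 o_V155 = true := (okE_cons.2 ⟨o_g152_ok, (okE_cons.2 ⟨o_g153_ok, (okE_cons.2 ⟨o_g154_ok, (okE_cons.2 ⟨o_g31_ok, (okE_nil 351)⟩)⟩)⟩)⟩)

noncomputable def o_V157 : List Net := [o_g154, o_g31]

theorem o_V157_ok : okE 351 o_V157 = true := (okE_cons.2 ⟨o_g154_ok, (okE_cons.2 ⟨o_g31_ok, (okE_nil 351)⟩)⟩)

noncomputable def o_V158 : List Net := [o_g31]

theorem o_V158_ok : okE 351 o_V158 = true := (okE_cons.2 ⟨o_g31_ok, (okE_nil 351)⟩)

noncomputable def o_V159 : List Net := []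

theorem o_V159_ok : okE 351 o_V159 = true := (okE_nil 351)

noncomputable def ot_c4_cnt_EG : List Net := [o_b, o_c, o_d, o_e, o_f, o_g, o_h, o_i, o_g1, o_g2, o_g3, o_g4, o_g5, o_g8, o_g9, o_g12, o_g13, o_g14, o_g17, o_g18, o_g19, o_g20, o_g23, o_g24, o_g25, o_g26, o_g27, o_g30, o_g31, o_g32, o_g35, o_g88, o_g89, o_g90, o_g91, o_g92, o_g93, o_g94, o_g152, o_g153, o_g154]

theorem ot_c4_cnt_EG_ok : okE 351 ot_c4_cnt_EG = true := (okE_cons.2 ⟨o_b_ok, (okE_cons.2 ⟨o_c_ok, (okE_cons.2 ⟨o_d_ok, (okE_cons.2 ⟨o_e_ok, (okE_cons.2 ⟨o_f_ok, (okE_cons.2 ⟨o_g_ok, (okE_cons.2 ⟨o_h_ok, (okE_cons.2 ⟨o_i_ok, (okE_cons.2 ⟨o_g1_ok, (okE_cons.2 ⟨o_g2_ok, (okE_cons.2 ⟨o_g3_ok, (okE_cons.2 ⟨o_g4_ok, (okE_cons.2 ⟨o_g5_ok, (okE_cons.2 ⟨o_g8_ok, (okE_cons.2 ⟨o_g9_ok, (okE_cons.2 ⟨o_g12_ok, (okE_cons.2 ⟨o_g13_ok, (okE_cons.2 ⟨o_g14_ok, (okE_cons.2 ⟨o_g17_ok, (okE_cons.2 ⟨o_g18_ok, (okE_cons.2 ⟨o_g19_ok, (okE_cons.2 ⟨o_g20_ok, (okE_cons.2 ⟨o_g23_ok, (okE_cons.2 ⟨o_g24_ok, (okE_cons.2 ⟨o_g25_ok,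 (okE_cons.2 ⟨o_g26_ok, (okE_cons.2 ⟨o_g27_ok, (okE_cons.2 ⟨o_g30_ok, (okE_cons.2 ⟨o_g31_ok, (okE_cons.2 ⟨o_g32_ok, (okE_cons.2 ⟨o_g35_ok, (okE_cons.2 ⟨o_g88_ok, (okE_cons.2 ⟨o_g89_ok, (okE_cons.2 ⟨o_g90_ok, (okE_cons.2 ⟨o_g91_ok, (okE_cons.2 ⟨o_g92_ok, (okE_cons.2 ⟨o_g93_ok, (okE_cons.2 ⟨o_g94_ok, (okE_cons.2 ⟨o_g152_ok, (okE_cons.2 ⟨o_g153_ok, (okE_cons.2 ⟨o_g154_ok, (okE_nil 351)⟩)⟩)⟩)⟩)⟩)⟩)⟩)⟩)⟩)⟩)⟩)⟩)⟩)⟩)⟩)⟩)⟩)⟩)⟩)⟩)⟩)⟩)⟩)⟩)⟩)⟩)⟩)⟩)⟩)⟩)⟩)⟩)⟩)⟩)⟩)⟩)⟩)⟩)⟩)⟩)⟩)

noncomputable def o_g160 : Net := (Net.cons (nat_lit 1) (nat_lit 0x1014011451144511051010514140101400545114451105101051404001504055151501510041114414441044) (Net.cons (nat_lit 2) (nat_lit 0x233021102111211120213222002020100310311121112030322200210300313021022123000300013000030) (Net.cons (nat_lit 4) (nat_lit 0x20d0c0e0408060e0008050106080b0b02030c000602010906080000010c0a01000a08010101080108010500) (Net.cons (nat_lit 8) (nat_lit 0x65005a00c60030008600410000001e0085000600b0000600800000004800c600b0009a0000001000000000)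 (Net.cons (nat_lit 16) (nat_lit 0x140d0000c0360000020800009d8900008b680000017c0000000000006054000001880000180000000000) (Net.cons (nat_lit 32) (nat_lit 0xab00a70000000052a02ca1000000008100842000000000118000080000000000000000) (Net.cons (nat_lit 64) (nat_lit 0x20005040000000000000000805f00600000000000000000000000000000000000000000) (Net.cons (nat_lit 128) (nat_lit 0x8000000053b7a264005f006000000581) (Net.cons (nat_lit 256) (nat_lit 0x53b7a264005f006000000581) (Net.cons (nat_lit 128) (nat_lit 0x53b7a264005f006000000581) (Net.cons (nat_lit 64) (nat_lit 0x2a815860000000000000000875f8460004008a90000000000000000199a100a08000000) (Net.cons (nat_lit 32) (nat_lit 0x80af40a7000000006ea02c8b000000008481805f00000000498030de0000000010000000) (Net.cons (nat_lit 16) (nat_lit 0x763f0000c6760000921900009de9000087ea000005f900002421000074650000290a0000381000000414) (Net.cons (nat_lit 8) (nat_lit 0x6d005a00de0011008e00010004009c008500960091000e00c00040004200c000b8008100b0001200c40016)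 (Net.cons (nat_lit 4) (nat_lit 0x20f000f06080308040a07090e0509030f030e000300050b0400080901060001000201080002080108010d0c) (Net.cons (nat_lit 2) (nat_lit 0x231201301131213121213222022002100132013121312130322202212022113133030111011012111001010) (Net.cons (nat_lit 1) (nat_lit 0x1514015401544511001550515045151400140154451100155051514500405411111511054114055144441445) Net.nil)))))))))))))))))

theorem o_g160_ok : Net.ok 351 o_g160 = true := by decide +kernel

noncomputable def o_g161 : Net := (Net.cons (nat_lit 1) (nat_lit 0x511110140114544411100545051551015511544515544100015544110004441410101454004411151405501) (Net.cons (nat_lit 2) (nat_lit 0x1221012213000333121222221133320122223132303000131113312203001301022102301101313223200100) (Net.cons (nat_lit 4) (nat_lit 0x404060a0c070d0a02010505030d08020a07030f060506090d06000a05050f0f08000b0d0b04080b0c000a00) (Net.cons (nat_lit 8) (nat_lit 0x1a009c0018003000da00f70027003f00ef001900a2000b006400c000560036004c003d000000c900cc0080)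 (Net.cons (nat_lit 16) (nat_lit 0x1977000034ab0000a45800005e1b00004a490000690d0000b85b0000d40600004ce600000e2300008000) (Net.cons (nat_lit 32) (nat_lit 0x808089990000000091dbbdc1000000006892577600000000e9ba03a8000000001aa746af) (Net.cons (nat_lit 64) (nat_lit 0xc6915cc000000000000000038dab7b5d040d11d00000000000000004a54c61000000000) (Net.cons (nat_lit 128) (nat_lit 0x5db49ec89241ca34e71dbf10e80c08e8) (Net.cons (nat_lit 256) (nat_lit 0x77e7fbb6effdff5cff5cccf9) (Net.cons (nat_lit 128) (nat_lit 0x8b32b89417fb66fe74f1438) (Net.cons (nat_lit 64) (nat_lit 0x221445a90000000000000000cc1d77a778e2de7800000000000000007e2edf4021f63627) (Net.cons (nat_lit 32) (nat_lit 0xb0b5e46a000000006a8c7c5200000000db7684630000000074b0c84d00000000bd6c68b7) (Net.cons (nat_lit 16) (nat_lit 0x4c8a00003e100000b85a0000d8f200004b6e0000677d0000ab1d0000a44b0000c4dc000060da0000ae3e) (Net.cons (nat_lit 8) (nat_lit 0x5600c500e100db0003009700400054005d001500db00bf00340091004a000e008a00020029002400ae0080)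 (Net.cons (nat_lit 4) (nat_lit 0x4050600050c0a06070d010c08000004010408060f0a03060200010f04060304070106090c080d0102050f09) (Net.cons (nat_lit 2) (nat_lit 0x1331123030321312322111232032011201301103013131201103200333111233121110231212213123311012) (Net.cons (nat_lit 1) (nat_lit 0x15451155415555155414514414504401450410510500155144504544155501004554454010015410415100) Net.nil)))))))))))))))))

theorem o_g161_ok : Net.ok 351 o_g161 = true := by decide +kernel

noncomputable def o_g162 : Net := (Net.cons (nat_lit 1) (nat_lit 0x1505100051441404501415500544404444515454015141144440555441555410405554514415401500015140) (Net.cons (nat_lit 2) (nat_lit 0x132331131123013202130301321200101013010122023020210103213220321300320002002022100232330) (Net.cons (nat_lit 4) (nat_lit 0x30b0e0c0801020b0e0f05040d0a0d0a01000a05040f030b0a060e0c070402070c080f06020a0103020a0308) (Net.cons (nat_lit 8) (nat_lit 0x4800a300c9005b0067006c006d00200009000800090083008700fc0015008a005f00ae00a5007000180000)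 (Net.cons (nat_lit 16) (nat_lit 0x114c00006502000023e90000807500005b44000084630000f892000075c0000054880000044900000000) (Net.cons (nat_lit 32) (nat_lit 0x6f12d472000000002a4d8853000000001b270ac40000000039b9a8c100000000583093a1) (Net.cons (nat_lit 64) (nat_lit 0x608b414300000000000000008d1fea3fa1921d5800000000000000004180146000000000) (Net.cons (nat_lit 128) (nat_lit 0xaf2e0e3e1424894904ee32f8414f48a) (Net.cons (nat_lit 256) (nat_lit 0x7b67ccb4dddef7efa7fefdfb) (Net.cons (nat_lit 128) (nat_lit 0x1a8504f0c5cb9f336a6b6717) (Net.cons (nat_lit 64) (nat_lit 0x2c5077380000000000000000a8fe6b726f669f9b0000000000000000f8611f1f6a5d8543) (Net.cons (nat_lit 32) (nat_lit 0xc544e54000000000a04c258c000000009e27a63300000000538660a000000000dedf9d03) (Net.cons (nat_lit 16) (nat_lit 0x7253000064a70000766b0000dc8f0000aafd0000babf0000441900009a4300005373000048e900000802) (Net.cons (nat_lit 8) (nat_lit 0x7500aa006f007200c200d400bc001e00eb005b000700fb005d00a50053007100d500f8000100dd00c9000d)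 (Net.cons (nat_lit 4) (nat_lit 0x40202000208010703090006000c04030a0100070f000b03060504090b080d0f0104070e06030008060b0605) (Net.cons (nat_lit 2) (nat_lit 0x313002033201300101131203111230033013230120231121033133322322301120122312002122200023203) (Net.cons (nat_lit 1) (nat_lit 0x1150551015555541410445104154011410105141540440514150054454501104015140500414540145005514) Net.nil)))))))))))))))))

theorem o_g162_ok : Net.ok 351 o_g162 = true := by decide +kernel

noncomputable def o_g163 : Net := (Net.cons (nat_lit 1) (nat_lit 0x1055100004154041144515101105110104111544511505014401500510554405000440554014155054515140) (Net.cons (nat_lit 2) (nat_lit 0x1302101302333011312213212213123033333111010233210110100133131300013220300003030301022120) (Net.cons (nat_lit 4) (nat_lit 0x30a0e050008010f020a0504090606040d000d09000d0204030901080d0c0f080b050a010d0f010008010500) (Net.cons (nat_lit 8) (nat_lit 0x300b300ac004f00c600f4008100b30008002200f200a0008500c40015000000c100b700da008000920080)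 (Net.cons (nat_lit 16) (nat_lit 0x119b0000a1f000004e770000a219000065f6000073d1000034840000f99300008b9100008b3000000000) (Net.cons (nat_lit 32) (nat_lit 0xfb10624600000000e4caac9f0000000048be231d0000000098c1c185000000000902e219) (Net.cons (nat_lit 64) (nat_lit 0x212110d000000000000000002b25190ecc82408500000000000000001040008000000000) (Net.cons (nat_lit 128) (nat_lit 0xb89d4b680404e14c2968000001231081) (Net.cons (nat_lit 256) (nat_lit 0x3e26e7efb978e28967ab11d7) (Net.cons (nat_lit 128) (nat_lit 0x140663937025416e8f172fa) (Net.cons (nat_lit 64) (nat_lit 0x63a130100000000000000000dbfcdcda41f20f7a0000000000000000002e048330208052) (Net.cons (nat_lit 32) (nat_lit 0x1ea0b28200000000048b08e900000000fa3a765e00000000a0a7b8650000000093d4c24e) (Net.cons (nat_lit 16) (nat_lit 0x50350000c53200004fd30000425a0000f1760000e01c000065100000f1a000008e9300009da800006062) (Net.cons (nat_lit 8) (nat_lit 0x3900d100cc008f00a6008000430079004000df00b300b9008a00fb00b1005400c70055005e00b8002000a2)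 (Net.cons (nat_lit 4) (nat_lit 0x7010b0d020c07080f0c0f020e0c090c0209070e0c020a0a0308040b00040d0f0c040a0d010f010900050002) (Net.cons (nat_lit 2) (nat_lit 0x1323032022332200322202313201312132100210102033232002333133223211232200030203231011233020) (Net.cons (nat_lit 1) (nat_lit 0x45001444155441151415100505050455505140051144050040151500105055450441510014115544155504) Net.nil)))))))))))))))))

theorem o_g163_ok : Net.ok 351 o_g163 = true := by decide +kernel

noncomputable def o_g164 : Net := (Net.cons (nat_lit 1) (nat_lit 0x1044105445445101414155115015551500544000115011400555500155105514440554514451551041554004) (Net.cons (nat_lit 2) (nat_lit 0x221101321200302212303301211030223121110310202131301220120001101111030133320010012210232) (Net.cons (nat_lit 4) (nat_lit 0x5080308060e0f080104080e020800090a0c0b06050f0f0d00090e0e01070503070e04030002050e00000100) (Net.cons (nat_lit 8) (nat_lit 0x4a003900fa0080009c006900290037006300ce004500db009e00f0009b000300460098000c000400440000)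 (Net.cons (nat_lit 16) (nat_lit 0x209000051ac00001290000047cc00005ce00000a4cf0000bb05000048930000c71b000060ac00000000) (Net.cons (nat_lit 32) (nat_lit 0x40ca240200000000e84e4c1600000000990192300000000064e88b390000000024018a46) (Net.cons (nat_lit 64) (nat_lit 0x213440700000000000000000555209d4d101800200000000000000000242010000000000) (Net.cons (nat_lit 128) (nat_lit 0xee67894094395451010018060a04012) (Net.cons (nat_lit 256) (nat_lit 0x4f5fbfe5165e8db46ce3707f) (Net.cons (nat_lit 128) (nat_lit 0x2d343b1cf9099048b54e6870) (Net.cons (nat_lit 64) (nat_lit 0x4f44016000000000000000075cbb6fcec67a84200000000000000004c8035a8240e2a20) (Net.cons (nat_lit 32) (nat_lit 0x4cd18a8300000000a7446b96000000000c187a4200000000e29aa6070000000004ce8a02) (Net.cons (nat_lit 16) (nat_lit 0x4d2e0000d82800001db50000c0e60000634a0000ac0e00004115000038e50000c75d000053a40000a045) (Net.cons (nat_lit 8) (nat_lit 0x1d00b800ff000d009d004e0035009100c3001f0091001a0004002800920075004200dd0022000500a00028)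 (Net.cons (nat_lit 4) (nat_lit 0x1000a03040603020a07080e01020402050b070104050e00010d00030c050b020706070c010102020c000507) (Net.cons (nat_lit 2) (nat_lit 0x1221001112223300210301101011232312203022310311220320231330131312331221113032321303212213) (Net.cons (nat_lit 1) (nat_lit 0x100151440450105455051100041110401050000011110054114010450104141000505144401041040154440) Net.nil)))))))))))))))))

theorem o_g164_ok : Net.ok 351 o_g164 = true := by decide +kernel

noncomputable def o_g165 : Net := (Net.cons (nat_lit 1) (nat_lit 0x1005400100105051440555100055040445511040555144145050455400141114150040510001101144040150) (Net.cons (nat_lit 2) (nat_lit 0x230033321020130003332300130203120333322231221223202121001332213022212023102101132010022) (Net.cons (nat_lit 4) (nat_lit 0x10b09010d090508090604070e0600030201070c010c080509040e0a0306000d00000b080d04080e08000300) (Net.cons (nat_lit 8) (nat_lit 0x390069000e0009003700a60071004400300011000e00f600c100c900f10065007000620051009100530000)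 (Net.cons (nat_lit 16) (nat_lit 0x58870000b484000041b600004016000010ba00005a620000207200004584000090e20000a05100008000) (Net.cons (nat_lit 32) (nat_lit 0x34b8689b00000000e8445133000000007531a668000000002c942118000000006bf59814) (Net.cons (nat_lit 64) (nat_lit 0x4fac242a00000000000000008d18c0f4e5c0488000000000000000001a460e6380000000) (Net.cons (nat_lit 128) (nat_lit 0x8b54576f23001240041582d89aec87e0) (Net.cons (nat_lit 256) (nat_lit 0x3bf937577f7ffffbffefafef) (Net.cons (nat_lit 128) (nat_lit 0x2750113a24be125278fcfd20) (Net.cons (nat_lit 64) (nat_lit 0x615defe700000000000000001bf8ecd13ed6126900000000000000005beb2dabf343781c) (Net.cons (nat_lit 32) (nat_lit 0x14d3829800000000db544ac2000000000a7593270000000013997e5a000000001bbe4aab) (Net.cons (nat_lit 16) (nat_lit 0x47d00000eba3000021750000e31e0000147a0000a4250000287d000075580000a5e90000b3120000c2e5) (Net.cons (nat_lit 8) (nat_lit 0x1a0086001f00c400bf007400a3006c0090000f004800db007900d100e00070004700f20099002600a90022)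 (Net.cons (nat_lit 4) (nat_lit 0x30c080e060805000c0e07010d010b0e0b06070d07010a050b050a0c040b050700050700060d040c0e03090b) (Net.cons (nat_lit 2) (nat_lit 0x11100001133130333322020133000323322332321111033322100333132132202113021301020330033) (Net.cons (nat_lit 1) (nat_lit 0x411404110145041044511500044041555401054110105414501015414501500044045554505544154140551) Net.nil)))))))))))))))))

theorem o_g165_ok : Net.ok 351 o_g165 = true := by decide +kernel

noncomputable def o_g166 : Net := (Net.cons (nat_lit 1) (nat_lit 0x1004144040454555015044501440000441015410114440100014114511111450045010105054444551155154) (Net.cons (nat_lit 2) (nat_lit 0x113221213323111003003323000231232012313123313103211213020330313021310333003031121032010) (Net.cons (nat_lit 4) (nat_lit 0x1020e080c020d0e080806030c04030f0602080509010d0b05040e090107080c060c0a0a09060e060f0c0000) (Net.cons (nat_lit 8) (nat_lit 0x2f006b004000f300750034005f002d004b007000cf001d00a500e40067005d00d600120058009b00c10000) (Net.cons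 (nat_lit 16) (nat_lit 0x38880000b78b00008a1d0000a39200007e640000586c00008e8f00007a6600007b8b0000310500008000) (Net.cons (nat_lit 32) (nat_lit 0x8420499400000000777d74e20000000086dd11bb00000000a0b891f700000000683a1c80) (Net.cons (nat_lit 64) (nat_lit 0x114271200000000000000000812d21400a0f2400000000000000000086cd1e3e80000000) (Net.cons (nat_lit 128) (nat_lit 0x19346241261040026a4bc114b05ff50a) (Net.cons (nat_lit 256) (nat_lit 0x27dfefcfefdfff7efcfff73a) (Net.cons (nat_lit 128) (nat_lit 0x7dfb1228980251a1603d7346) (Net.cons (nat_lit 64) (nat_lit 0x5d6fdfd20000000000000000a3d6a44e8f24c6cc000000000000000054526e5fabf68faf) (Net.cons (nat_lit 32) (nat_lit 0xec3287b20000000096447bea0000000002b753cc000000001bc5d86c00000000679d1fab) (Net.cons (nat_lit 16) (nat_lit 0x79db0000ffe10000b31a0000626a00008f720000c1350000cd270000c2710000fa7b000014860000b091) (Net.cons (nat_lit 8) (nat_lit 0x4800940037003200f900a500dc00b300d700e500ff0016001a00a60044008000bc004b003c006c00540011) (Net.cons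 (nat_lit 4) (nat_lit 0x1010b0205050d0c010f060b0b0d0a0f0b0d050c0d0002080a0e0b0d0c00020d070601060f0807010808030a) (Net.cons (nat_lit 2) (nat_lit 0x31001331122312023001113003201203302321033130322323001302122132021312023331313232322033) (Net.cons (nat_lit 1) (nat_lit 0x404544111011454045405514541504504510514015510045104015151545555011000105155051105405041) Net.nil)))))))))))))))))

theorem o_g166_ok : Net.ok 351 o_g166 = true := by decide +kernel

noncomputable def o_g167 : Net := (Net.cons (nat_lit 1) (nat_lit 0x1114401414100040441415105511111141001055040150000401401105454050401404054014000511001100) (Net.cons (nat_lit 2) (nat_lit 0x1321323232111303132130020331133133020001033203133322001303313100022220020100000202101200) (Net.cons (nat_lit 4) (nat_lit 0x204060608010a0f010b0703060f050e0c030e050c020407040a0a040c000f080a000001000201010a010000) (Net.cons (nat_lit 8) (nat_lit 0x54007100e7000e00a3005300e300340013001b001d008800c500b800840063000200b80018002000c00000) (Net.cons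 (nat_lit 16) (nat_lit 0x7890000972200007eb30000809e00000622000052600000679a00008cb1000003040000002000000000) (Net.cons (nat_lit 32) (nat_lit 0x218e1e4200000000c8486ae300000000940a59c100000000033511420000000041005128) (Net.cons (nat_lit 64) (nat_lit 0x4405a86a0000000000000000051871ae3c0003470000000000000000104050e600000000) (Net.cons (nat_lit 128) (nat_lit 0xcaa0d7b6800008000118612804800247) (Net.cons (nat_lit 256) (nat_lit 0x3adfa5f1b5fffee76a8536f) (Net.cons (nat_lit 128) (nat_lit 0x344004cf053860388cc20300) (Net.cons (nat_lit 64) (nat_lit 0x4d1fedad0000000000000000253978eebf2813200000000000000000107851e681084147) (Net.cons (nat_lit 32) (nat_lit 0xa18e1f5a00000000c84663e300000000d416d7c3000000000b36106b000000004100512a) (Net.cons (nat_lit 16) (nat_lit 0x26890000962e00003efa0000d09600000e3b00005ae80000679a0000adb400000b0d0000012000000090) (Net.cons (nat_lit 8) (nat_lit 0x54007100e7000600e3001300e3003c001300930015008000cd00b00084006b000a00f80018002000c00008) (Net.cons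 (nat_lit 4) (nat_lit 0x6040e0608010a0f010b0703060f050e0f030f050c0a0c07050a0a040c000f080a000001000201010a050000) (Net.cons (nat_lit 2) (nat_lit 0x1321323332111303132130020331133133020001033203133322001303313110022220020100100202101200) (Net.cons (nat_lit 1) (nat_lit 0x1114401414100040441415105511111141001055040150000401401105454050401404054014000511001100) Net.nil)))))))))))))))))

theorem o_g167_ok : Net.ok 351 o_g167 = true := by decide +kernel

noncomputable def o_g168 : Net := (Net.cons (nat_lit 1) (nat_lit 0x1155001045154401000145105500051501004115440110540000044004414000005150000000000410000004) (Net.cons (nat_lit 2) (nat_lit 0x1003302100020220002210102223001102211100303200322112111110112002002100120000000000000000) (Net.cons (nat_lit 4) (nat_lit 0x10c07040f05050e01030405060704040b01040b0d0200080e01050e04000808000c00030100000800000000) (Net.cons (nat_lit 8) (nat_lit 0x3a00ef008a008100c1007c0081009c008000810040002600000020000800800008001e0080000a00000000) (Net.cons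 (nat_lit 16) (nat_lit 0x40030000b48200003f93000024820000938000005420000028810000024c000002880000520000008000) (Net.cons (nat_lit 32) (nat_lit 0x2eb81ee100000000f809c3280000000054046ae40000000002406c4b0000000068870000) (Net.cons (nat_lit 64) (nat_lit 0x400700bf00000000000000004480488c140c400800000000000000005544ad4300000000) (Net.cons (nat_lit 128) (nat_lit 0x5230af8f000003210000408400085008) (Net.cons (nat_lit 256) (nat_lit 0x2a8efff7d5cffcf50afd208) (Net.cons (nat_lit 128) (nat_lit 0x1d0d51a90682400000003263) (Net.cons (nat_lit 64) (nat_lit 0x6fdfc2b50000000000000000c4c048687404020000000000000000005544adc70088c208) (Net.cons (nat_lit 32) (nat_lit 0x2eb81e6700000000f809c3a80000000055046ee40000000002406ccd0000000068870000) (Net.cons (nat_lit 16) (nat_lit 0x40030000b58200003f93000034820000939000001460000028810000034c000002880000520000008000) (Net.cons (nat_lit 8) (nat_lit 0x3800ef0088008100c1007800c10098008000810008006600200020000c00820008001e0080000a00000040) (Net.cons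 (nat_lit 4) (nat_lit 0x10c07040f05050e01030405060704040b01040b0d0200080e01050e04000808000c00030100000800000000) (Net.cons (nat_lit 2) (nat_lit 0x1003302100020220002210102223001102211100303200322112113110112002002100120000000000000002) (Net.cons (nat_lit 1) (nat_lit 0x1155401055154401000145105500051501004115440110540000044004414100005150000001000410000004) Net.nil)))))))))))))))))

theorem o_g168_ok : Net.ok 351 o_g168 = true := by decide +kernel

noncomputable def ot_c5_K : List Net := [o_g161, o_g162, o_g163, o_g164, o_g165, o_g166, o_g167, o_g168]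

theorem ot_c5_K_ok : okE 351 ot_c5_K = true := (okE_cons.2 ⟨o_g161_ok, (okE_cons.2 ⟨o_g162_ok, (okE_cons.2 ⟨o_g163_ok, (okE_cons.2 ⟨o_g164_ok, (okE_cons.2 ⟨o_g165_ok, (okE_cons.2 ⟨o_g166_ok, (okE_cons.2 ⟨o_g167_ok, (okE_cons.2 ⟨o_g168_ok, (okE_nil 351)⟩)⟩)⟩)⟩)⟩)⟩)⟩)⟩)

noncomputable def o_g170 : Net := (Net.cons (nat_lit 1) (nat_lit 0x54141451104114144040041141501154441545011504410101045551000511514011500401451010401141) (Net.cons (nat_lit 2) (nat_lit 0x110300202333320013213223210013333332231222202333213210311013222313330103102021013110220) (Net.cons (nat_lit 4) (nat_lit 0x90807020e0c0a0d050b01010e0a01090e0e080106020c0004020e0d0605020f040105050a04060e0100) (Net.cons (nat_lit 8) (nat_lit 0x3d0012005f00d4004700dc00c0004f0052008e005a004200ed001d0073002a00cf00a900b900b4004c0000) (Net.cons (nat_lit 16) (nat_lit 0x3a9000006398000022a20000654b00003c1d0000589a000087600000610e0000c16a0000200600000000) (Net.cons (nat_lit 32) (nat_lit 0x15689019000000004523c87000000000ea80f5ec000000001a82e8c1000000000604020c)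 (Net.cons (nat_lit 64) (nat_lit 0x1c46630d0000000000000000f6998b8d936ee22200000000000000004374d31180000000) (Net.cons (nat_lit 128) (nat_lit 0x2ae1560100011511b0184a8880eec002) (Net.cons (nat_lit 256) (nat_lit 0x55ebf5d3f7fcdb9baafec20e) (Net.cons (nat_lit 128) (nat_lit 0x28e58bdd5c02dfac530e69fb) (Net.cons (nat_lit 64) (nat_lit 0x42eb1a380000000000000000dc98dbaa138e402a0000000000000000f8ddd107a96ea2a0) (Net.cons (nat_lit 32) (nat_lit 0xefed7ad70000000001c3d2670000000062d8e0ad000000003eb3924c000000002591080d) (Net.cons (nat_lit 16) (nat_lit 0x7126000091700000a4720000317f0000fbb00000e2100000855000006a260000d7910000409600002aa4) (Net.cons (nat_lit 8) (nat_lit 0x4d00970095000d00fd00510078005200f200b000d20011003500150001008a0045005600930094007a0021) (Net.cons (nat_lit 4) (nat_lit 0x30502060f03060000010d090a0d000803020e0f00090c0200000c0101040907050103000e0a08040c040104) (Net.cons (nat_lit 2) (nat_lit 0x1032120320201112300233001223232031230211212223032003220310300303203130033023011023302311)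 (Net.cons (nat_lit 1) (nat_lit 0x501445005041504450444041041550100154115010411115150014151411504504100444014141014550151) Net.nil)))))))))))))))))

theorem o_g170_ok : Net.ok 351 o_g170 = true := by decide +kernel

noncomputable def o_g171 : Net := (Net.cons (nat_lit 1) (nat_lit 0x515514045515054440545005440005414515054400144554150400540544544041144000140011041011100) (Net.cons (nat_lit 2) (nat_lit 0x1021122321320222201101011321100113231021030332310322320011013233012312020012213303120020) (Net.cons (nat_lit 4) (nat_lit 0x60a050f080e09010d0f0a060909030f02000f0a060806060107030004050f0e010b0c090c010800000800) (Net.cons (nat_lit 8) (nat_lit 0x4b00aa0028004900c000960001000b00ed00d8001800de003300d300af0011004200810018000000000080) (Net.cons (nat_lit 16) (nat_lit 0x18910000a721000011f00000b09300003a81000098990000480c000091210000a8d00000d82400008000) (Net.cons (nat_lit 32) (nat_lit 0xda5da56400000000828061c300000000404235f8000000008a2021000000000030c00cce) (Net.cons (nat_lit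 64) (nat_lit 0x6f61a1a0000000000000000240880404282167c00000000000000000510044580000000) (Net.cons (nat_lit 128) (nat_lit 0x2cc760d6824c20504421d90040864005) (Net.cons (nat_lit 256) (nat_lit 0x2f6db2d4c535fd55d9dee8ef) (Net.cons (nat_lit 128) (nat_lit 0x5288053d54eac193e2c57257) (Net.cons (nat_lit 64) (nat_lit 0x1ea2bfde00000000000000002d0c18c25bc736bb00000000000000008b2397f78840a4c0) (Net.cons (nat_lit 32) (nat_lit 0x7acfe567000000008ab161e100000000c0436ff3000000001e2025110000000078d304ce) (Net.cons (nat_lit 16) (nat_lit 0x52b70000a73500001df10000b8b100003aa70000349f0000500a0000b5220000acd40000d43600008802) (Net.cons (nat_lit 8) (nat_lit 0x4b00ba003800d100c000960091000b00ed00d8009000de003b00e300bf0001005a00890008001000240080) (Net.cons (nat_lit 4) (nat_lit 0x1060a050f080601010d0f0a07090d030f0a020e0a0e090e0e01070b0004040f0e010b04090c090800000800) (Net.cons (nat_lit 2) (nat_lit 0x1021132331320223201101011321100113231021033332310322320111013233012312020012213303120020)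 (Net.cons (nat_lit 1) (nat_lit 0x515514045515054440545041441005414515044405140514151400541544544041144000140011041011100) Net.nil)))))))))))))))))

theorem o_g171_ok : Net.ok 351 o_g171 = true := by decide +kernel

noncomputable def o_g172 : Net := (Net.cons (nat_lit 1) (nat_lit 0x1154154450504550400411151551440140014505100511514440400410015050150140510044015000110410) (Net.cons (nat_lit 2) (nat_lit 0x203302311123030001002200123323012220132020330032320202001130221120301101200203123331000) (Net.cons (nat_lit 4) (nat_lit 0x20103010005070306070f040004080e0c0902060a0e02090b02000a0a0d0a0b010e0b0f0c030a00050800) (Net.cons (nat_lit 8) (nat_lit 0x21008a003c006800a0004d007f00b5005400460080002c00c700000018000c001200430066000400520000) (Net.cons (nat_lit 16) (nat_lit 0x635200002692000081340000950d0000b8860000e98500008000000084800000e4610000842200000000) (Net.cons (nat_lit 32) (nat_lit 0x905bd714000000008090906c0000000018043144000000000e1152ea0000000000000000) (Net.cons (nat_lit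 64) (nat_lit 0x408512c000000000000000002208ace60000000000000000000000000008000000000000) (Net.cons (nat_lit 128) (nat_lit 0x50906430b393bff60b7d3eec) (Net.cons (nat_lit 256) (nat_lit 0x50906430b39bbff60b7d3eec) (Net.cons (nat_lit 128) (nat_lit 0x50906430b39bbff60b7d3eec) (Net.cons (nat_lit 64) (nat_lit 0x4b80f31700000000000000006e23bd46f41a08290000000000000000affb16cc20444d26) (Net.cons (nat_lit 32) (nat_lit 0xfc867bee00000000401ba01b000000009e24b0fb0000000000659d3400000000f6402440) (Net.cons (nat_lit 16) (nat_lit 0x695700006ad7000065ce0000f92f0000480e00001d3600001cd40000b8d10000132800007a8800006094) (Net.cons (nat_lit 8) (nat_lit 0x33009e007800f5006c009e00a9003500500036009d009200d600e400180025006d0097003d00a000d40024) (Net.cons (nat_lit 4) (nat_lit 0x2010a050c09050d050f080003040e0e0509070906020a0f0502080a05050e040306010e0e0e04090b0804) (Net.cons (nat_lit 2) (nat_lit 0x202312301123122203230323103323210200332012211200322102001221122301303223122301101111130) (Net.cons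 (nat_lit 1) (nat_lit 0x1150155450454400554444444144440540014510115504111110141115015050501144514044115004510440) Net.nil)))))))))))))))))

theorem o_g172_ok : Net.ok 351 o_g172 = true := by decide +kernel

noncomputable def o_g173 : Net := (Net.cons (nat_lit 1) (nat_lit 0x1440455410100141544100544105041505010004441004000015005104111011100504101405541001000150) (Net.cons (nat_lit 2) (nat_lit 0x101232203201210123101130030322112211000202022320122022012013313031130312020101001003200) (Net.cons (nat_lit 4) (nat_lit 0x50502080e0b0b020103030309000703080a0902060d080e000700000b0c0f0c0b000e0204090100000a0400) (Net.cons (nat_lit 8) (nat_lit 0x210040005500d400860026009000c0000200c6001000a9006500080030004e005200fc0040004000200000) (Net.cons (nat_lit 16) (nat_lit 0x130300003a4a00000200000029820000821100000a070000000000002200000000120000c00000000000) (Net.cons (nat_lit 32) (nat_lit 0xc022902000000000090482100000000001000000000000011c124520000000000000000) (Net.cons (nat_lit 64) (nat_lit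 0x80003020000000000000000dc0023408000000000000000000000000000000000000000) (Net.cons (nat_lit 128) (nat_lit 0x800000028d0da63d400234080000100) (Net.cons (nat_lit 256) (nat_lit 0x28d0da63d400234080000100) (Net.cons (nat_lit 128) (nat_lit 0x28d0da63d400234080000100) (Net.cons (nat_lit 64) (nat_lit 0x80209020000000000000000dc10636982010408000000000000000031ef3ed200000000) (Net.cons (nat_lit 32) (nat_lit 0xe9a27faa00000000a912423900000000077ec43800000000130565de00000000c0000000) (Net.cons (nat_lit 16) (nat_lit 0x3f0f0000326a000002670000a38200008a1100005b270000342000008297000050d20000c0c000002280) (Net.cons (nat_lit 8) (nat_lit 0x30040005500f500f2006200120046000000c6001200e80065000a0010000a007b00ef0075004100160004) (Net.cons (nat_lit 4) (nat_lit 0x70703090e0f0b06050707070d0e05030e000904020d0e0e0207040c0f0a09080b040b0b000b010002080e02) (Net.cons (nat_lit 2) (nat_lit 0x321212223201310121101130212120132031000232023330132022012012313030131213221101001003310) (Net.cons (nat_lit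 1) (nat_lit 0x1440455414100141544100544105041505010404441004000015005104111011110504101405541005000150) Net.nil)))))))))))))))))

theorem o_g173_ok : Net.ok 351 o_g173 = true := by decide +kernel

noncomputable def o_V174 : List Net := [o_g170, o_g171, o_g172, o_g173, o_g111]

theorem o_V174_ok : okE 351 o_V174 = true := (okE_cons.2 ⟨o_g170_ok, (okE_cons.2 ⟨o_g171_ok, (okE_cons.2 ⟨o_g172_ok, (okE_cons.2 ⟨o_g173_ok, (okE_cons.2 ⟨o_g111_ok, (okE_nil 351)⟩)⟩)⟩)⟩)⟩)

noncomputable def o_V176 : List Net := [o_g171, o_g172, o_g173, o_g111]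

theorem o_V176_ok : okE 351 o_V176 = true := (okE_cons.2 ⟨o_g171_ok, (okE_cons.2 ⟨o_g172_ok, (okE_cons.2 ⟨o_g173_ok, (okE_cons.2 ⟨o_g111_ok, (okE_nil 351)⟩)⟩)⟩)⟩)

noncomputable def o_V177 : List Net := [o_g172, o_g173, o_g111]

theorem o_V177_ok : okE 351 o_V177 = true := (okE_cons.2 ⟨o_g172_ok, (okE_cons.2 ⟨o_g173_ok, (okE_cons.2 ⟨o_g111_ok, (okE_nil 351)⟩)⟩)⟩)

noncomputable def o_V178 : List Net := [o_g173, o_g111]

theorem o_V178_ok : okE 351 o_V178 = true := (okE_cons.2 ⟨o_g173_ok, (okE_cons.2 ⟨o_g111_ok, (okE_nil 351)⟩)⟩)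

noncomputable def o_V179 : List Net := [o_g111]

theorem o_V179_ok : okE 351 o_V179 = true := (okE_cons.2 ⟨o_g111_ok, (okE_nil 351)⟩)

noncomputable def o_V180 : List Net := []

theorem o_V180_ok : okE 351 o_V180 = true := (okE_nil 351)

noncomputable def ot_c5_cnt_EG : List Net := [o_b, o_c, o_d, o_e, o_f, o_g, o_h, o_i, o_g1, o_g2, o_g3, o_g4, o_g5, o_g8, o_g9, o_g12, o_g13, o_g14, o_g17, o_g18, o_g19, o_g20, o_g23, o_g24, o_g25, o_g26, o_g27, o_g30, o_g31, o_g32, o_g35, o_g171, o_g172, o_g173, o_g111, o_g170]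

theorem ot_c5_cnt_EG_ok : okE 351 ot_c5_cnt_EG = true := (okE_cons.2 ⟨o_b_ok, (okE_cons.2 ⟨o_c_ok, (okE_cons.2 ⟨o_d_ok, (okE_cons.2 ⟨o_e_ok, (okE_cons.2 ⟨o_f_ok, (okE_cons.2 ⟨o_g_ok, (okE_cons.2 ⟨o_h_ok, (okE_cons.2 ⟨o_i_ok, (okE_cons.2 ⟨o_g1_ok, (okE_cons.2 ⟨o_g2_ok, (okE_cons.2 ⟨o_g3_ok, (okE_cons.2 ⟨o_g4_ok, (okE_cons.2 ⟨o_g5_ok, (okE_cons.2 ⟨o_g8_ok, (okE_cons.2 ⟨o_g9_ok, (okE_cons.2 ⟨o_g12_ok, (okE_cons.2 ⟨o_g13_ok, (okE_cons.2 ⟨o_g14_ok, (okE_cons.2 ⟨o_g17_ok, (okE_cons.2 ⟨o_g18_ok, (okE_cons.2 ⟨o_g19_ok, (okE_cons.2 ⟨o_g20_ok, (okE_cons.2 ⟨o_g23_ok, (okE_cons.2 ⟨o_g24_ok, (okE_cons.2 ⟨o_g25_ok, (okE_cons.2 ⟨o_g26_ok, (okE_cons.2 ⟨o_g27_ok, (okE_cons.2 ⟨o_g30_ok, (okE_cons.2 ⟨o_g31_ok, (okE_cons.2 ⟨o_g32_ok, (okE_cons.2 ⟨o_g35_ok, (okE_cons.2 ⟨o_g171_ok, (okE_cons.2 ⟨o_g172_ok, (okE_cons.2 ⟨o_g173_ok, (okE_cons.2 ⟨o_g111_ok, (okE_cons.2 ⟨o_g170_ok, (okE_nil 351)⟩)⟩)⟩)⟩)⟩)⟩)⟩)⟩)⟩)⟩)⟩)⟩)⟩)⟩)⟩)⟩)⟩)⟩)⟩)⟩)⟩)⟩)⟩)⟩)⟩)⟩)⟩)⟩)⟩)⟩)⟩)⟩)⟩)⟩)⟩)⟩)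

noncomputable def o_g181 : Net := (Net.cons (nat_lit 1) (nat_lit 0x1110104405505441054501551540444505114005011450105000401500404451515550140504144445555000) (Net.cons (nat_lit 2) (nat_lit 0x211220320031022001300200200323013032201001102232032020020000221100212302302323103201320) (Net.cons (nat_lit 4) (nat_lit 0x2090d04030e03000202020c0d00050c0700080b070c070f070a00080802000c070c080d09050d030f0a0100) (Net.cons (nat_lit 8) (nat_lit 0x7e003c003300590067005800d8000700900035002000390000000000690069000e00000034002c008a0000) (Net.cons (nat_lit 16) (nat_lit 0x21e20000032e00005aa2000048ea0000c841000000c10000000000009ccf000093af0000c28000000000) (Net.cons (nat_lit 32) (nat_lit 0x551248b600000000702f10b400000000404500800000000000c441840000000000000000) (Net.cons (nat_lit 64) (nat_lit 0x122f8e9200000000000000008124480a0000000000000000000000000000000000000000) (Net.cons (nat_lit 128) (nat_lit 0x2000007b6a80b48104480a00050e02) (Net.cons (nat_lit 256) (nat_lit 0x7b6a80b48104480a00050e02)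 (Net.cons (nat_lit 128) (nat_lit 0x7b6a80b48104480a00050e02) (Net.cons (nat_lit 64) (nat_lit 0x741d8e2400000000000000009124d88a404d25020000000000000000380741a8f6d0004f) (Net.cons (nat_lit 32) (nat_lit 0xc6e6c8f4000000003a72931c000000005221691100000000d05c0fa000000000cb8228da) (Net.cons (nat_lit 16) (nat_lit 0x22f60000a0940000b0820000c881000050c8000055f30000157c0000b9cf00001d7f0000dd000000218d) (Net.cons (nat_lit 8) (nat_lit 0x30003200b10068002100da00590075001500f4009000f8000100680077006900ea009600b0006400d70044) (Net.cons (nat_lit 4) (nat_lit 0x2050e020504010806050005070c080f0609020e060a070e06020502090202070d0f08080a060b030e0a0404) (Net.cons (nat_lit 2) (nat_lit 0x103321301003301120230311033301003232020130023031012203320203221302312202112223310310113) (Net.cons (nat_lit 1) (nat_lit 0x554004505511150514001054411540155104004440504155050114414441151515514001044455401050451) Net.nil)))))))))))))))))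

theorem o_g181_ok : Net.ok 351 o_g181 = true := by decide +kernel

noncomputable def o_g182 : Net := (Net.cons (nat_lit 1) (nat_lit 0x1155141005550111150455041550505541051454544445401501504404105550511505505010151001411454) (Net.cons (nat_lit 2) (nat_lit 0x1303312210021211321213033100030012331021201331133021102222310121102113203121211110000022) (Net.cons (nat_lit 4) (nat_lit 0x20f0f040e000c020f02030906080d0c06080c0e0d080904040c010f0d080e07080107060802000106000000) (Net.cons (nat_lit 8) (nat_lit 0x8000200ce00b0002800c5007d00930027008d004300aa005b009000c200f5004400d10035000a00200000) (Net.cons (nat_lit 16) (nat_lit 0xcc10000b57100001d98000015b10000890c000058b10000e2c0000054a8000001660000034200000000) (Net.cons (nat_lit 32) (nat_lit 0xc2cc3a130000000004061d91000000003208286e00000000cd54604a000000005140edc3) (Net.cons (nat_lit 64) (nat_lit 0x4d4203c0000000000000000721d1139531a51c100000000000000002824cf1a00000000) (Net.cons (nat_lit 128) (nat_lit 0x61daf958558240bf639c010404413048)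 (Net.cons (nat_lit 256) (nat_lit 0x7fa3ddfffffcdfff6d5f7cdf) (Net.cons (nat_lit 128) (nat_lit 0x6be0557b775321e5849948e5) (Net.cons (nat_lit 64) (nat_lit 0x471143cb000000000000000079c68eb7de1f78bc00000000000000009a8f56a965dc6e2e) (Net.cons (nat_lit 32) (nat_lit 0x6f838564000000009d74aa120000000059d8e916000000001049201f00000000e4a083ce) (Net.cons (nat_lit 16) (nat_lit 0x5a3d000019450000bbe2000061fa0000f01a00005167000001f00000e70e00007dbe0000643e00003e4f) (Net.cons (nat_lit 8) (nat_lit 0x5e00b2000e00e600e6004800e100ec0070008f00e40051009b00d000d90014007a005000e20075008200a4) (Net.cons (nat_lit 4) (nat_lit 0x60a0909090a01050a020b03060f030f0e0c040306090b05020d0d0f010a0e00050f0803080b0f0e09050002) (Net.cons (nat_lit 2) (nat_lit 0x32021003212321222001013022313201013202223220001003033331330010003323230130121200130212) (Net.cons (nat_lit 1) (nat_lit 0x155001544555001555101054540514144014115010010414511504141554554011041140545150011040501) Net.nil)))))))))))))))))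

theorem o_g182_ok : Net.ok 351 o_g182 = true := by decide +kernel

noncomputable def o_g183 : Net := (Net.cons (nat_lit 1) (nat_lit 0x1045011411015054505105154410551514445141104501101140101001540410114404550004414115405404) (Net.cons (nat_lit 2) (nat_lit 0x1013211311212223110122020013313300130232312110133301312301213130010231321033103100002020) (Net.cons (nat_lit 4) (nat_lit 0x70e090a0b06000302080c02030a040001010a09090f060e0202060d0c09000007090b070207080804010500) (Net.cons (nat_lit 8) (nat_lit 0xc006300c500430010000500030061009800a10093006d00340045003400d10069002a0071009000510080) (Net.cons (nat_lit 16) (nat_lit 0x5de80000b05500008f530000c1c60000157c000043d30000a13300004c840000e6280000606000000000) (Net.cons (nat_lit 32) (nat_lit 0x4167bbcd0000000082a0382b000000001128a162000000008a4625e000000000203229ec) (Net.cons (nat_lit 64) (nat_lit 0x549538cf000000000000000086b717addbc801c500000000000000000340183380000000) (Net.cons (nat_lit 128) (nat_lit 0xd3c0a65a94e68205de4c6ea009038890)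 (Net.cons (nat_lit 256) (nat_lit 0x3dffc3b5dfce7fbfc973fada) (Net.cons (nat_lit 128) (nat_lit 0xe214511b37353d74d3a74d1) (Net.cons (nat_lit 64) (nat_lit 0x7e84e0800000000000000006a1fcdf86381c2aa000000000000000077c4b682406d5e1f) (Net.cons (nat_lit 32) (nat_lit 0xe31eb36d00000000ab4b6149000000003eed907f000000006c46f0d60000000067218cd7) (Net.cons (nat_lit 16) (nat_lit 0x6acb0000585000003e0e000084fc0000c920000049970000693000000e530000e3bb00008be10000855d) (Net.cons (nat_lit 8) (nat_lit 0x7f00ce00d7003a00bb00e1008100db008300fc0081007900ad002c0067006f00e10094005600f100d30090) (Net.cons (nat_lit 4) (nat_lit 0x505070e0b0a0506000209020c0501000e0204010803090d020f0c0800010705040501080706090c0e090c08) (Net.cons (nat_lit 2) (nat_lit 0x1012133323320120230122012311111212200113201212021223333131031303212323131011131012023121) (Net.cons (nat_lit 1) (nat_lit 0x140105144111414054015545450144000504550154011114554014514451051411044441155145011144501) Net.nil)))))))))))))))))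

theorem o_g183_ok : Net.ok 351 o_g183 = true := by decide +kernel

noncomputable def o_g184 : Net := (Net.cons (nat_lit 1) (nat_lit 0x45510450505151014014104055404504540044541014000550540544411454540000041411555455054444) (Net.cons (nat_lit 2) (nat_lit 0x211130133321323103310322120333132100112213100122323100221001013113121301013103202001300) (Net.cons (nat_lit 4) (nat_lit 0x7090c09060e03020d0e070c0909070100040e05080701090a0e0209020f0b070e00020808020c0802090400) (Net.cons (nat_lit 8) (nat_lit 0x4600090062005a00e000f4003900e10043000f007600a70082009100540061006a006300f800f000c10000) (Net.cons (nat_lit 16) (nat_lit 0x49a50000dd57000075e500000aed00003f4d0000caa30000761d00003009000072840000a19100000000) (Net.cons (nat_lit 32) (nat_lit 0x4f99243900000000aa95959a000000001556083600000000a105ed28000000002b844c21) (Net.cons (nat_lit 64) (nat_lit 0x50b844ba0000000000000000369162508044301a0000000000000000922802d700000000) (Net.cons (nat_lit 128) (nat_lit 0x8dbc698e902069217299a1ca14431468)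 (Net.cons (nat_lit 256) (nat_lit 0x3d766973f6b9ebfffdeb15e8) (Net.cons (nat_lit 128) (nat_lit 0x723cbf4020eba7934eda7eb6) (Net.cons (nat_lit 64) (nat_lit 0x3a2f18500000000000000000974400fb86daf2ef00000000000000005b77b84a22f07d52) (Net.cons (nat_lit 32) (nat_lit 0xc6fb145f00000000ff18ccb5000000004bb49c1f00000000e12a555400000000813cb5ee) (Net.cons (nat_lit 16) (nat_lit 0x5f0b00003d0d00002a8b000081990000ac2500004ee50000a76c000082a00000f0330000bb6300006b41) (Net.cons (nat_lit 8) (nat_lit 0x78002f00880004006800ab0095004f0002002b004b002d007b007e00b200b2000500e800f3008f00d80087) (Net.cons (nat_lit 4) (nat_lit 0x5090c0d0e0f0b0303090e050508040b08010a0d0f0a070f0c090f080a020f0c0b0e0204060804050f08020d) (Net.cons (nat_lit 2) (nat_lit 0x30003313302133301300012333321021020211020231131200110101212132202323231121012100311023) (Net.cons (nat_lit 1) (nat_lit 0x14504400054554015011550545445010014550454115115005414500414505451044104105050540154455) Net.nil)))))))))))))))))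

theorem o_g184_ok : Net.ok 351 o_g184 = true := by decide +kernel

noncomputable def o_g185 : Net := (Net.cons (nat_lit 1) (nat_lit 0x1111054154050141050050014105540405151504401050545104541551401445515451015000510514401100) (Net.cons (nat_lit 2) (nat_lit 0x1333121320121201103203331210020013100013303320302331110001021232312111311013121123331022) (Net.cons (nat_lit 4) (nat_lit 0x5070b0f02010a0307090500010c0802010e0c0801070c07080502030b0708060c000d000d050a0704080b00) (Net.cons (nat_lit 8) (nat_lit 0x26000c00ea00ff004a004500aa00990064000d007400f80026000c008d000e004100c00020001600400000) (Net.cons (nat_lit 16) (nat_lit 0x67d50000788700003ec20000689e00000c7d000062cd0000fa150000c207000028af00005a5800008000) (Net.cons (nat_lit 32) (nat_lit 0x40d4c41a00000000497825e20000000003f2931900000000120be802000000003d001551) (Net.cons (nat_lit 64) (nat_lit 0x817065600000000000000008ea16b0064410c9c00000000000000008588a01780000000) (Net.cons (nat_lit 128) (nat_lit 0xf23e4bf49551c2003ba3239c4322285e)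 (Net.cons (nat_lit 256) (nat_lit 0x1557fa11bffbe7dfff6b2ffe) (Net.cons (nat_lit 128) (nat_lit 0x48ddfb81244f95ddf6d24c11) (Net.cons (nat_lit 64) (nat_lit 0x272fbd8a00000000000000004f65380e56063d800000000000000000bb8bf56506000d8c) (Net.cons (nat_lit 32) (nat_lit 0x8e00e622000000008430475700000000746fca48000000000794d8aa000000005c630904) (Net.cons (nat_lit 16) (nat_lit 0x1b020000205d000089a20000ae400000c6f20000a1800000b84500008a7f0000f42c00005b1d0000b6c8) (Net.cons (nat_lit 8) (nat_lit 0x50000700da00cb005e00dd00f2009800660031003d008a00ac008c00ad0085005600710021000b00690099) (Net.cons (nat_lit 4) (nat_lit 0xc05060e0b0a050b000b0a0404040f090500080b070b0f050707070107030b0c030e0909050d0607030e02) (Net.cons (nat_lit 2) (nat_lit 0x200312311300103011312102110133122303232100210102112133321133332112111223003121201313323) (Net.cons (nat_lit 1) (nat_lit 0x1145011441501045155504001510555010554110401501014451511440101455555050004051004000405) Net.nil)))))))))))))))))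

theorem o_g185_ok : Net.ok 351 o_g185 = true := by decide +kernel

noncomputable def o_g186 : Net := (Net.cons (nat_lit 1) (nat_lit 0x1401044051504104004015401540145140404500500500111001040010044110410105501555404140410140) (Net.cons (nat_lit 2) (nat_lit 0x113100332200230230203220313201232211223010011300022000002330112122300003302110200011010) (Net.cons (nat_lit 4) (nat_lit 0xf0408090600070507090a000901070406000302080002080a000001040805030802080105060702080d00) (Net.cons (nat_lit 8) (nat_lit 0x4800f60061002c008d001000ac008f00bc000100450001001000000052002f0003002600500028001a0000) (Net.cons (nat_lit 16) (nat_lit 0x3cf80000754800001ba50000300c00008c200000106100000000000062c1000008010000435200000000) (Net.cons (nat_lit 32) (nat_lit 0x8c25412000000000d15102000000000049820e000000000b18840010000000000000000) (Net.cons (nat_lit 64) (nat_lit 0x412114000000000000000040345c840000000000000000000000000000000000000000) (Net.cons (nat_lit 128) (nat_lit 0x25eb81e265355efc86ae20f6)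 (Net.cons (nat_lit 256) (nat_lit 0x25eb81e265355efc86ae20f6) (Net.cons (nat_lit 128) (nat_lit 0x25eb81e265355efc86ae20f6) (Net.cons (nat_lit 64) (nat_lit 0x5cf57d780000000000000000d81c59a4143404e00000000000000000eaf8258b1120ec86) (Net.cons (nat_lit 32) (nat_lit 0x4cc6109700000000853136910000000004f836c300000000b189448300000000242f9e72) (Net.cons (nat_lit 16) (nat_lit 0x7c5e0000b5e800005f870000706c0000cc82000050c1000044a4000048cd00000b0100006b5a00000828) (Net.cons (nat_lit 8) (nat_lit 0x4c00f60065003a0089009000aa008b00bc0001004700030011000e007a0037006f00fe007c00a200b60089) (Net.cons (nat_lit 4) (nat_lit 0xf0408090600070707090a00010107040608030a080802080a000001060807030802080105040500080d00) (Net.cons (nat_lit 2) (nat_lit 0x113100332200230230223220333201232213223010011302022000002130112122310103303310210011030) (Net.cons (nat_lit 1) (nat_lit 0x1401044051504104004015401540145140404500500500111001040010044110410105501555404140410140) Net.nil)))))))))))))))))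

theorem o_g186_ok : Net.ok 351 o_g186 = true := by decide +kernel

noncomputable def o_g187 : Net := (Net.cons (nat_lit 1) (nat_lit 0x1551544015515114044511004545105154401551511404451100454511544110015004505500041014454110) (Net.cons (nat_lit 2) (nat_lit 0x30202122330013013120110032231002010001223123130203201012222111211201223031101311211330) (Net.cons (nat_lit 4) (nat_lit 0x704090d010e080e0e0d000c0c0609080501030c08000c05000000000807040b06080405050b080400050b00) (Net.cons (nat_lit 8) (nat_lit 0x7600d5008f0050001a00c600ca003a0039002f0018003200c00080006400e7001a000f0041008600080000) (Net.cons (nat_lit 16) (nat_lit 0x386800008ac10000144400003444000013900000d4060000080000008af9000020b800006c0100000000) (Net.cons (nat_lit 32) (nat_lit 0xf3423605000000000aa0004a0000000004001c0000000000aa6a801a0000000000000000) (Net.cons (nat_lit 64) (nat_lit 0x22003210000000000000000c0593c340000000000000000000000000000000000000000) (Net.cons (nat_lit 128) (nat_lit 0x80006420eebc059343408200102)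 (Net.cons (nat_lit 256) (nat_lit 0x6420eebc059343408200102) (Net.cons (nat_lit 128) (nat_lit 0x6420eebc059343408200102) (Net.cons (nat_lit 64) (nat_lit 0x3b2211000000000000000000c2d939740c30310a00000000000000000cc6501ab3aca000) (Net.cons (nat_lit 32) (nat_lit 0xeed0f661000000003fa4014a000000005c17bc4100000000265f02dc00000000ecc91238) (Net.cons (nat_lit 16) (nat_lit 0x64e2000012f30000c017000031bc000096b90000ee51000058f70000c8ad0000a8df00007dc100009151) (Net.cons (nat_lit 8) (nat_lit 0x3a00de008500a6004d00c400d2005e001a002f00c4006900c800d800a5003b009b00c20043008700b50093) (Net.cons (nat_lit 4) (nat_lit 0x101090f0b04060e0204000f08030f0d0703090e0a040e02000300030a030f030702050a0c07040403040c0e) (Net.cons (nat_lit 2) (nat_lit 0x32103100322310012200200023231232112200013223102222200112131211310010002333111232111203) (Net.cons (nat_lit 1) (nat_lit 0x1551544055105405005111040501145154405550540500511104050105040004451004444040151400551544) Net.nil)))))))))))))))))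

theorem o_g187_ok : Net.ok 351 o_g187 = true := by decide +kernel

noncomputable def o_g188 : Net := (Net.cons (nat_lit 1) (nat_lit 0x1545001414110001400455400444154500141411000140045540044414015001115115410051011001544000) (Net.cons (nat_lit 2) (nat_lit 0x1023133101112100300213202232122131132311010230203322001033110020232020313032310031013000) (Net.cons (nat_lit 4) (nat_lit 0x40e0b020e08020109030c0d000a0004030c040e0a0f0301000f02000e0b02020f0b090c0f040e0b0c050900) (Net.cons (nat_lit 8) (nat_lit 0x39001d00f70076000c00b10088001b00b6001f005a00c400120082008900a2007200f100c300b100100000) (Net.cons (nat_lit 16) (nat_lit 0x3013000054640000220e00004a0d0000e21a00002230000000000000a962000002080000036300000000) (Net.cons (nat_lit 32) (nat_lit 0x1790db160000000049666c8500000000501a063000000000862d38280000000000000000) (Net.cons (nat_lit 64) (nat_lit 0x45188900000000000000000410028020000000000000000000000000000000000000000) (Net.cons (nat_lit 128) (nat_lit 0x142e8070559cbd7ee27b1ae2)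 (Net.cons (nat_lit 256) (nat_lit 0x162e8070559cbd7ee27b1ae2) (Net.cons (nat_lit 128) (nat_lit 0x142e8070559cbd7ee27b1ae2) (Net.cons (nat_lit 64) (nat_lit 0x47fd6e68000000000000000012d0a19c281ef4530000000000000000cd23e005091edebe) (Net.cons (nat_lit 32) (nat_lit 0x1900ebd0000000007d66779f000000003c280208000000000a22d8690000000043af40d6) (Net.cons (nat_lit 16) (nat_lit 0x20c30000d7a40000c51600007e5d0000b7e8000027d0000084e20000c126000042a8000063b300005389) (Net.cons (nat_lit 8) (nat_lit 0x5500cd006700b300c4009900ce00dd00c60067005d000400d200ee000000c6006900a9008300700001004c) (Net.cons (nat_lit 4) (nat_lit 0x2060b02040c0603060b0c060808080801040c0e0e07060502040a000a0705020f0a0f0a0500050b0d060c0e) (Net.cons (nat_lit 2) (nat_lit 0x20133123010130212231220223002211130103213203001102202130330322130100133032101230333100) (Net.cons (nat_lit 1) (nat_lit 0x145400514540011510010144000014540051454001151001014400005415405011110010451401001541054) Net.nil)))))))))))))))))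

theorem o_g188_ok : Net.ok 351 o_g188 = true := by decide +kernel

noncomputable def o_g189 : Net := (Net.cons (nat_lit 1) (nat_lit 0x401005400040054400440140010440000440005004000000010000005410015141000014440414104010000) (Net.cons (nat_lit 2) (nat_lit 0x1322300000111031002010202002210110020213101000012000000012203012012020120000100102211000) (Net.cons (nat_lit 4) (nat_lit 0x60601000f02000c07050a09020008080a000808000000000800000001050e030c0a04000a04000000000000) (Net.cons (nat_lit 8) (nat_lit 0x2400c100f8003400b8000200ee0090008a002400a8000000000000009c007600170002004c003000040000) (Net.cons (nat_lit 16) (nat_lit 0x333500000a61000070040000958600000028000004100000800000004c2e000002860000039500000000) (Net.cons (nat_lit 32) (nat_lit 0x8c438000000000081800c00000000000000240400000000080072030000000000000000) (Net.cons (nat_lit 64) (nat_lit 0x121900800000000000000000800514100000000000000000000000000080000000000000) (Net.cons (nat_lit 128) (nat_lit 0x3030d08cbd45377da22dc81c)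 (Net.cons (nat_lit 256) (nat_lit 0x3030d08cbdc5377da22dc81c) (Net.cons (nat_lit 128) (nat_lit 0x3030d08cbd45377da22dc81c) (Net.cons (nat_lit 64) (nat_lit 0x3279f5be000000000000000010045c81ada0d41d000000000000000084958e280c31f49b) (Net.cons (nat_lit 32) (nat_lit 0x88cc28100000000003c80c020000000080002404000000007e12720f000000004798000c) (Net.cons (nat_lit 16) (nat_lit 0x333500001b600000f0140000a5870000803800000511000080000000cc2e000002860000839500000000) (Net.cons (nat_lit 8) (nat_lit 0x3600e100f8002400a8001200ee0088009a003400b8000000200010009c0076001f0002004c003000040000) (Net.cons (nat_lit 4) (nat_lit 0x60601000f0a010c07050a09020008080a0008080100000008000800010d0e030c0a05000a04080000000000) (Net.cons (nat_lit 2) (nat_lit 0x1322300000111031002010202002210110020213101000012000000012203012012020120000100102211000) (Net.cons (nat_lit 1) (nat_lit 0x401005410040054410440140010440000441005004001000010000005410015141000014440414104010000) Net.nil)))))))))))))))))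

theorem o_g189_ok : Net.ok 351 o_g189 = true := by decide +kernel

noncomputable def ot_c6_K : List Net := [o_g182, o_g183, o_g184, o_g185, o_g186, o_g187, o_g188, o_g189]

theorem ot_c6_K_ok : okE 351 ot_c6_K = true := (okE_cons.2 ⟨o_g182_ok, (okE_cons.2 ⟨o_g183_ok, (okE_cons.2 ⟨o_g184_ok, (okE_cons.2 ⟨o_g185_ok, (okE_cons.2 ⟨o_g186_ok, (okE_cons.2 ⟨o_g187_ok, (okE_cons.2 ⟨o_g188_ok, (okE_cons.2 ⟨o_g189_ok, (okE_nil 351)⟩)⟩)⟩)⟩)⟩)⟩)⟩)⟩)

noncomputable def o_g191 : Net := (Net.cons (nat_lit 1) (nat_lit 0x1005455104400050550110145401444441555004500114101054105500115445454115144100414105400105) (Net.cons (nat_lit 2) (nat_lit 0x1330330032011110111201123323100032103311301330031202122120300100101131300010130122201020) (Net.cons (nat_lit 4) (nat_lit 0x70d0c080609070c01080d0402030c000c010603070d020e0e040e0b030e09050f01030900000b0809020e00) (Net.cons (nat_lit 8) (nat_lit 0x6b00020046000000ae004800f3002400ed00e400eb00a0008f004c00ce0091008a002900b0000000400000) (Net.cons (nat_lit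 16) (nat_lit 0x30d000006b0000003c660000f61100008d0e0000981c00004b1200007834000040480000c8b200000000) (Net.cons (nat_lit 32) (nat_lit 0x26081df1000000008e00ca11000000001541d0fb00000000484e04040000000010441422) (Net.cons (nat_lit 64) (nat_lit 0x2d026f06000000000000000009da06fa8b04053c0000000000000000624b256280000000) (Net.cons (nat_lit 128) (nat_lit 0x358c9e7164c97cad0a5a842a96d94342) (Net.cons (nat_lit 256) (nat_lit 0x6fdffcad7fdfa57bf6f95772) (Net.cons (nat_lit 128) (nat_lit 0x15824e082408cda83a3ea0d9) (Net.cons (nat_lit 64) (nat_lit 0x13b887f100000000000000000b63d45a927dc69100000000000000002d9c91c6ca054219) (Net.cons (nat_lit 32) (nat_lit 0xec8f57800000000034821cd600000000acfe39ea000000008f4c768f00000000e0c5f893) (Net.cons (nat_lit 16) (nat_lit 0x4f2500004fd2000030a60000e27c00008c7a000096420000f6970000e8e70000e86b0000b4a200005a48) (Net.cons (nat_lit 8) (nat_lit 0x5e00fa003a007500a000bd0077002c0000006300da00440033002000cd00530082008500c400b2000a00c0) (Net.cons (nat_lit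 4) (nat_lit 0x705000b0401030006090805030704060f040505000305050a050f070e0900050c090b07020d0c0a0b0c0608) (Net.cons (nat_lit 2) (nat_lit 0x1300100200300022303110023023222332100202002223320210003222223310303232310322000302221010) (Net.cons (nat_lit 1) (nat_lit 0x500414010544414045010054540145455150551455051115454115100551400544101115114144541451055) Net.nil)))))))))))))))))

theorem o_g191_ok : Net.ok 351 o_g191 = true := by decide +kernel

noncomputable def o_g192 : Net := (Net.cons (nat_lit 1) (nat_lit 0x414444110504140015500154514554004551414140100151404011041000000000050000000100140004000) (Net.cons (nat_lit 2) (nat_lit 0x1212002102011110003022330020032011213232002312002000022201301021000000001200000020000000) (Net.cons (nat_lit 4) (nat_lit 0x205010501040100090c0e0c080808000f000004080304060904080906040000000000000000000002020000) (Net.cons (nat_lit 8) (nat_lit 0x1a00b400e000d9001800a0008400630007005000ba0043004900f100800004004000800052008000800000) (Net.cons (nat_lit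 16) (nat_lit 0xeec0000b6d20000aa3400000e000000d8e6000012d10000a20d00006010000092000000200000000000) (Net.cons (nat_lit 32) (nat_lit 0x5af7c0f3000000004c02411a000000005413e10100000000038014020000000006408002) (Net.cons (nat_lit 64) (nat_lit 0x800e99900000000000000000051520cb9037f1c0000000000000000a604b85280000000) (Net.cons (nat_lit 128) (nat_lit 0x63dade3f861289c22021081028100008) (Net.cons (nat_lit 256) (nat_lit 0x2e92dbe3b675f8d2eab2a03a) (Net.cons (nat_lit 128) (nat_lit 0x367729da68210d310d54df8c) (Net.cons (nat_lit 64) (nat_lit 0x284069bd0000000000000000045152ad9943ff1c0000000000000000a604b873a0408020) (Net.cons (nat_lit 32) (nat_lit 0x5af7c0f3000000004c02611a000000005613e10100000000038014020000000006408002) (Net.cons (nat_lit 16) (nat_lit 0xeed0000b6d20000aa3400000e000000d8e6000016d10000b20d00006010000092000000240000000000) (Net.cons (nat_lit 8) (nat_lit 0x1a00b400e000d9001800a0008400630007005000ba0043004900f100800004004000800052008000800000) (Net.cons (nat_lit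 4) (nat_lit 0x205010501040100090c0e0c0c0808000f000004080304060904080906040000000000000000000002020000) (Net.cons (nat_lit 2) (nat_lit 0x1212002102011110003022330020132011213232002312002000022201301021000000001200000020000000) (Net.cons (nat_lit 1) (nat_lit 0x414444110504140015500154514554004551414140100151404011041000000000050000000100140004000) Net.nil)))))))))))))))))

theorem o_g192_ok : Net.ok 351 o_g192 = true := by decide +kernel

noncomputable def o_g193 : Net := (Net.cons (nat_lit 1) (nat_lit 0x1511400001444040004440400015100401040041400554504011414515140404511450101005010000010) (Net.cons (nat_lit 2) (nat_lit 0x321130211120030120030200130003200032110322210321121230003010330122001202010000021222000) (Net.cons (nat_lit 4) (nat_lit 0x5050309020b0400070d09040b000e0305040e09040c050602010501000104010400050103020001080400) (Net.cons (nat_lit 8) (nat_lit 0x7b006e002a0080007200bc000b000b00d800ec007400a1008200ed005300d6004000b2004c009000800080) (Net.cons (nat_lit 16)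 (nat_lit 0x439d000055c4000078210000140400008c1400008d6500008f0100008250000012c80000547600008000) (Net.cons (nat_lit 32) (nat_lit 0x626071b50000000014004bdf0000000086b468a600000000801015640000000042530840) (Net.cons (nat_lit 64) (nat_lit 0xe5050ab0000000000000000c244eb7792802920000000000000000094280d6c00000000) (Net.cons (nat_lit 128) (nat_lit 0x1d64f98465377c9ba897d82a96a7453f) (Net.cons (nat_lit 256) (nat_lit 0x7fb7fefbbcffddfff7ffdfff) (Net.cons (nat_lit 128) (nat_lit 0x5ce1e8667bbf8ed352d8bac9) (Net.cons (nat_lit 64) (nat_lit 0x1ad4b32000000000000000004d9b47448f523d3f000000000000000011e05fe8a30e9654) (Net.cons (nat_lit 32) (nat_lit 0xb9dd338c0000000029272640000000006a5a999d0000000031442f7c00000000c27b01d0) (Net.cons (nat_lit 16) (nat_lit 0x273a000053e900005f18000050bb0000d9270000a3cb00008eae0000a226000073dc000057260000e504) (Net.cons (nat_lit 8) (nat_lit 0xb00e800ec007400a1008200ed006b007e003a0080007200bc000b005300d6004000b2006c008000900090) (Net.cons (nat_lit 4)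 (nat_lit 0xe0305040e090404050e0b03050005070309020b0400070d09040b010001040104000d01030a0009080402) (Net.cons (nat_lit 2) (nat_lit 0x12000331103222113211012310232313221112003012003220033003030330122001222210000021222200) (Net.cons (nat_lit 1) (nat_lit 0x151104010400414005545040114000151140001144404000444040014515140404511450101005410000010) Net.nil)))))))))))))))))

theorem o_g193_ok : Net.ok 351 o_g193 = true := by decide +kernel

noncomputable def o_g194 : Net := (Net.cons (nat_lit 1) (nat_lit 0x1550141115044040010011054101400401444054445010001415440000101010410415515051014140441444) (Net.cons (nat_lit 2) (nat_lit 0x200211110020013330330000200010022222012101021022200010010311100012310233122003323020120) (Net.cons (nat_lit 4) (nat_lit 0x7040a0e0e0b030a0602040b0d00040d0a0e0e080c000b01060b0900010b04010c0f0f0f050104040d000000) (Net.cons (nat_lit 8) (nat_lit 0xe0050002a0048001c00110000000d00ad00020023000a00980080005700390023001a0080007600080000) (Net.cons (nat_lit 16) (nat_lit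 0x44000000d91f0000196a000084090000220c00004808000000000000dd140000387800001d9b00000000) (Net.cons (nat_lit 32) (nat_lit 0x29e0590300000000060411010000000000000000000000000ba032500000000000000000) (Net.cons (nat_lit 64) (nat_lit 0x404800800000000000000000299080088000000000000000000000000000000000000000) (Net.cons (nat_lit 128) (nat_lit 0x4ea550129908008c0000080) (Net.cons (nat_lit 256) (nat_lit 0x4ea550129908008c0000080) (Net.cons (nat_lit 128) (nat_lit 0x4ea550129908008c0000080) (Net.cons (nat_lit 64) (nat_lit 0x4020598300000000000000002b9c8008800024800000000000000000ca721d70d190a208) (Net.cons (nat_lit 32) (nat_lit 0xd0ee596a000000008a0dd2830000000056d98990000000008ac841340000000056cbd800) (Net.cons (nat_lit 16) (nat_lit 0x768c0000d9920000bd3200004c010000123e00002fd00000081a0000dd6c0000be380000c51b0000ae00) (Net.cons (nat_lit 8) (nat_lit 0x600f4002a001b003c001000010047001a0032001b008a0090000800130019001100000020007e006000d0) (Net.cons (nat_lit 4) (nat_lit 0x7040a060e09030806020c0c050c0c090a060a04090a0701020d010c01070c090e0f0f0203090c0005080e00)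 (Net.cons (nat_lit 2) (nat_lit 0x200203121023022300211132330010020321210102222030012033010321000032211121302002320322222) (Net.cons (nat_lit 1) (nat_lit 0x1411004100111050544015445051414515145555445050401440455004011514110415114410415400040054) Net.nil)))))))))))))))))

theorem o_g194_ok : Net.ok 351 o_g194 = true := by decide +kernel

noncomputable def o_g195 : Net := (Net.cons (nat_lit 1) (nat_lit 0x1114045401110144144100100110044001005001014414410010001001405440550040400401000454500000) (Net.cons (nat_lit 2) (nat_lit 0x21200212012031000220220310110020011001223102022002001000332220030222001000210311000000) (Net.cons (nat_lit 4) (nat_lit 0x50300030e01070402020808040004030402000305060000080800000b00000009030a000000000a08000000) (Net.cons (nat_lit 8) (nat_lit 0x6003200ba002a002c0000004000a0009100190008000c0000000000a10025003100220000000400800000) (Net.cons (nat_lit 16) (nat_lit 0x33130000842e0000b4220000b20000001020000048400000000000000348000080910000000500000000) (Net.cons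 (nat_lit 32) (nat_lit 0x21829002000000001a200904000000001000000800000000820200010000000000000000) (Net.cons (nat_lit 64) (nat_lit 0x2280000000000000000008214080000000000000000000000000000000000000000) (Net.cons (nat_lit 128) (nat_lit 0x5a0f38340082140800000208) (Net.cons (nat_lit 256) (nat_lit 0x5a0f38340082140800000208) (Net.cons (nat_lit 128) (nat_lit 0x5a0f38340082140800000208) (Net.cons (nat_lit 64) (nat_lit 0x2180822a000000000000000010a21c080000010000000000000000000002810187a08032) (Net.cons (nat_lit 32) (nat_lit 0xb5aeb08200000000ba20490500000000dcc8108800000000a202604d0000000060474082) (Net.cons (nat_lit 16) (nat_lit 0x337300008e2e0000fc620000b240000013a000004a4600000002000003e9000088b30000400700004822) (Net.cons (nat_lit 8) (nat_lit 0x6003200ba002b002c0000004000a0009100190009000c0000000000a50025003100320090000400900000) (Net.cons (nat_lit 4) (nat_lit 0x50300030e01070402020809040404030402000305060000080900040b00000409030a000000000a08000000) (Net.cons (nat_lit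 2) (nat_lit 0x21200212012031000220220310110020011001223102022002001000332220030222001100210311000000) (Net.cons (nat_lit 1) (nat_lit 0x1114045401110144144100100110044001005001014414410010001001405440550040400401000454500000) Net.nil)))))))))))))))))

theorem o_g195_ok : Net.ok 351 o_g195 = true := by decide +kernel

noncomputable def o_V196 : List Net := [o_g191, o_g192, o_g193, o_g194, o_g195]

theorem o_V196_ok : okE 351 o_V196 = true := (okE_cons.2 ⟨o_g191_ok, (okE_cons.2 ⟨o_g192_ok, (okE_cons.2 ⟨o_g193_ok, (okE_cons.2 ⟨o_g194_ok, (okE_cons.2 ⟨o_g195_ok, (okE_nil 351)⟩)⟩)⟩)⟩)⟩)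

noncomputable def o_V198 : List Net := [o_g192, o_g193, o_g194, o_g195]

theorem o_V198_ok : okE 351 o_V198 = true := (okE_cons.2 ⟨o_g192_ok, (okE_cons.2 ⟨o_g193_ok, (okE_cons.2 ⟨o_g194_ok, (okE_cons.2 ⟨o_g195_ok, (okE_nil 351)⟩)⟩)⟩)⟩)

noncomputable def o_V199 : List Net := [o_g194, o_g195]

theorem o_V199_ok : okE 351 o_V199 = true := (okE_cons.2 ⟨o_g194_ok, (okE_cons.2 ⟨o_g195_ok, (okE_nil 351)⟩)⟩)

noncomputable def o_V200 : List Net := [o_g195]

theorem o_V200_ok : okE 351 o_V200 = true := (okE_cons.2 ⟨o_g195_ok, (okE_nil 351)⟩)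

noncomputable def o_V201 : List Net := []

theorem o_V201_ok : okE 351 o_V201 = true := (okE_nil 351)

noncomputable def ot_c6_cnt_EG : List Net := [o_b, o_c, o_d, o_e, o_f, o_g, o_h, o_i, o_g1, o_g2, o_g3, o_g4, o_g5, o_g8, o_g9, o_g12, o_g13, o_g14, o_g17, o_g18, o_g19, o_g20, o_g23, o_g24, o_g25, o_g26, o_g27, o_g30, o_g31, o_g32, o_g35, o_g191, o_g192, o_g193, o_g194, o_g195]

theorem ot_c6_cnt_EG_ok : okE 351 ot_c6_cnt_EG = true := (okE_cons.2 ⟨o_b_ok, (okE_cons.2 ⟨o_c_ok, (okE_cons.2 ⟨o_d_ok, (okE_cons.2 ⟨o_e_ok, (okE_cons.2 ⟨o_f_ok, (okE_cons.2 ⟨o_g_ok, (okE_cons.2 ⟨o_h_ok, (okE_cons.2 ⟨o_i_ok, (okE_cons.2 ⟨o_g1_ok, (okE_cons.2 ⟨o_g2_ok, (okE_cons.2 ⟨o_g3_ok, (okE_cons.2 ⟨o_g4_ok, (okE_cons.2 ⟨o_g5_ok, (okE_cons.2 ⟨o_g8_ok, (okE_cons.2 ⟨o_g9_ok, (okE_cons.2 ⟨o_g12_ok, (okE_cons.2 ⟨o_g13_ok, (okE_cons.2 ⟨o_g14_ok, (okE_cons.2 ⟨o_g17_ok, (okE_cons.2 ⟨o_g18_ok, (okE_cons.2 ⟨o_g19_ok, (okE_cons.2 ⟨o_g20_ok, (okE_cons.2 ⟨o_g23_ok, (okE_cons.2 ⟨o_g24_ok, (okE_cons.2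 ⟨o_g25_ok, (okE_cons.2 ⟨o_g26_ok, (okE_cons.2 ⟨o_g27_ok, (okE_cons.2 ⟨o_g30_ok, (okE_cons.2 ⟨o_g31_ok, (okE_cons.2 ⟨o_g32_ok, (okE_cons.2 ⟨o_g35_ok, (okE_cons.2 ⟨o_g191_ok, (okE_cons.2 ⟨o_g192_ok, (okE_cons.2 ⟨o_g193_ok, (okE_cons.2 ⟨o_g194_ok, (okE_cons.2 ⟨o_g195_ok, (okE_nil 351)⟩)⟩)⟩)⟩)⟩)⟩)⟩)⟩)⟩)⟩)⟩)⟩)⟩)⟩)⟩)⟩)⟩)⟩)⟩)⟩)⟩)⟩)⟩)⟩)⟩)⟩)⟩)⟩)⟩)⟩)⟩)⟩)⟩)⟩)⟩)⟩)

noncomputable def o_g202 : Net := (Net.cons (nat_lit 1) (nat_lit 0x4441500400441541114155050000110411150014454451555004041155415151151144041401100540104) (Net.cons (nat_lit 2) (nat_lit 0x331232122030230322323232233212220130013322030122302310110223320121003000300211321031102) (Net.cons (nat_lit 4) (nat_lit 0x4010b0e030006030c0a0e0a03090603020b0a0b0c080a0a0d080d0b090d0e0f0b04060a040d0f0b0d020a00) (Net.cons (nat_lit 8) (nat_lit 0x7100b8007f006300830075008e00b3008200dc00cc00b900a1005b006100230013003300ea003800100080) (Net.cons (nat_lit 16) (nat_lit 0x4425000002920000a02a0000e4050000544800000004000052120000305f0000828d0000012c00000000)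 (Net.cons (nat_lit 32) (nat_lit 0xc71e77cf000000004f040f8a00000000d5068016000000006722a1cc000000005f041098) (Net.cons (nat_lit 64) (nat_lit 0x2c4050c000000000000000039379bd4c89fd9e000000000000000000c05920880000000) (Net.cons (nat_lit 128) (nat_lit 0x8ceef9d4a510188cea99e01c48a9807d) (Net.cons (nat_lit 256) (nat_lit 0x6fd8dbeeffdfff7ecebdac7d) (Net.cons (nat_lit 128) (nat_lit 0x29911cdabd48e6104b5ff7e7) (Net.cons (nat_lit 64) (nat_lit 0x5d7250f50000000000000000af6638ba6d08167d0000000000000000fbcf6c8d56d61895) (Net.cons (nat_lit 32) (nat_lit 0xc50b973600000000a2b17070000000000f8c529800000000ad6bc9f5000000008ddd5e3f) (Net.cons (nat_lit 16) (nat_lit 0x7bb00000f36c000042bc0000d0e60000742b0000a1ed000011d5000033460000e5ba000022c800002106) (Net.cons (nat_lit 8) (nat_lit 0x27002300fb002500bb00f8003b0087005d00e4009d00af005700c800d200900055000100ad00bd00490097) (Net.cons (nat_lit 4) (nat_lit 0x30c0c0d010e06050a00090b060f0f0f050c0b0c0502070d02020d02090a0d0c0606070a0303020c0809060b)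 (Net.cons (nat_lit 2) (nat_lit 0x1103211213201222222301302120111103131233032212002331302132200232230332012122010132330203) (Net.cons (nat_lit 1) (nat_lit 0x445151504115040144141101551511145415111010054040451410144540540014551451105510140005150) Net.nil)))))))))))))))))

theorem o_g202_ok : Net.ok 351 o_g202 = true := by decide +kernel

noncomputable def o_g203 : Net := (Net.cons (nat_lit 1) (nat_lit 0x415404104054444150455544111514440055445500510010550555010141444145510100555400111001110) (Net.cons (nat_lit 2) (nat_lit 0x1003112100110221102311111302331121221013023322112231003002111221321211011032300121000010) (Net.cons (nat_lit 4) (nat_lit 0x308040c0b0d01060604060101010a06010d0f060409090d04020402000b0805010004000c0800080c0800) (Net.cons (nat_lit 8) (nat_lit 0x3100e100960000001800b5006400db003f00f30096009500280005005c00420050005700c0009d00a30000) (Net.cons (nat_lit 16) (nat_lit 0x1d680000eb660000ad160000d57400008c2600002ea60000a1140000014f0000c4bd0000069300008000) (Net.cons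 (nat_lit 32) (nat_lit 0xa4786a11000000005f80010400000000710cafb200000000322b252500000000450940e1) (Net.cons (nat_lit 64) (nat_lit 0x2a85eb4e00000000000000000feb47e65231e1090000000000000000cfc8462480000000) (Net.cons (nat_lit 128) (nat_lit 0x59edd2ef008b24802c6dd0e61d349b27) (Net.cons (nat_lit 256) (nat_lit 0x59fb75a1efffdeefbff49bff) (Net.cons (nat_lit 128) (nat_lit 0x75c851c09a5b75a41a20043d) (Net.cons (nat_lit 64) (nat_lit 0x4eac17a500000000000000007b793b285b4eb6f9000000000000000007c55898c9820a63) (Net.cons (nat_lit 32) (nat_lit 0xa97b4915000000002a4680ae00000000cb5f794300000000d6ef285a00000000c495dc37) (Net.cons (nat_lit 16) (nat_lit 0x3d970000b2380000c9a50000a9640000a40a0000467d0000278100006eec00006ccb0000f4b00000607d) (Net.cons (nat_lit 8) (nat_lit 0x78008800e5008100bf00ae00f5001b000c001c008c00b5007e005000e90087006f00ed00aa004500b70043) (Net.cons (nat_lit 4) (nat_lit 0x707040a0b0900000507000d05050c0706050b010c070b010102040c08050e02060b0f0f03050d080e050700) (Net.cons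 (nat_lit 2) (nat_lit 0x1133001120122031320121133311331310111323321132132331232001221010130331301310131133201110) (Net.cons (nat_lit 1) (nat_lit 0x1055015514040404005041500051555550014045141405141405055000404150405401040050455045051400) Net.nil)))))))))))))))))

theorem o_g203_ok : Net.ok 351 o_g203 = true := by decide +kernel

noncomputable def o_g204 : Net := (Net.cons (nat_lit 1) (nat_lit 0x105110410550450155541500054155041550050554444514441155510511405450450155551401440100454) (Net.cons (nat_lit 2) (nat_lit 0x1213321100120201100310320111103322010000301300232310212113320232130021211323123321222012) (Net.cons (nat_lit 4) (nat_lit 0x4070c0a02070f040a0708060c020d0d0d0900020700090c0d0c050c080e0c0f00000b07060a0b0503030600) (Net.cons (nat_lit 8) (nat_lit 0x5b0021002e00a70079006a003500ca003f00a200b700a900ef004200d6003f00680016000f005500260080) (Net.cons (nat_lit 16) (nat_lit 0x70a300001d4e000013de00008b2900005274000031370000860200002c0c000051120000208200000000) (Net.cons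 (nat_lit 32) (nat_lit 0xe894fca100000000ba819466000000001b04d0d900000000269f8c75000000001710d174) (Net.cons (nat_lit 64) (nat_lit 0x964a450000000000000000040734586572204500000000000000000e10bda0000000000) (Net.cons (nat_lit 128) (nat_lit 0x97cd46746b40d41642897259b88140e1) (Net.cons (nat_lit 256) (nat_lit 0x7ffcfdd6eb8fff5ff893d1fb) (Net.cons (nat_lit 128) (nat_lit 0x39b164b23ebbe3a2d51eaced) (Net.cons (nat_lit 64) (nat_lit 0xc6465e900000000000000006008c98c5630ccf80000000000000000003f4f1b0b8d9b6c) (Net.cons (nat_lit 32) (nat_lit 0xaa26317900000000cf33526100000000489260ad00000000198f5e7e00000000993049a2) (Net.cons (nat_lit 16) (nat_lit 0x183800004cfb00006eb60000ae13000061fb0000faaa00003e4500005e6b000035790000625c0000abc2) (Net.cons (nat_lit 8) (nat_lit 0x3300dd00e500a3009d00ab00cd0007007d00b9009d00b500ce00aa00020055008a006d00b3003700b900b2) (Net.cons (nat_lit 4) (nat_lit 0x70c040d050d06070b0a090f08080703010b0d030607080d0f0b050409030a0e0b01080c0a0e00040705020c) (Net.cons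 (nat_lit 2) (nat_lit 0x1131321313103121003103120120011333021220130212003301012112202013213211322333001203030200) (Net.cons (nat_lit 1) (nat_lit 0x115110044040500511155541544041010451051415451401504100041411101401045400141555051415454) Net.nil)))))))))))))))))

theorem o_g204_ok : Net.ok 351 o_g204 = true := by decide +kernel

noncomputable def o_g205 : Net := (Net.cons (nat_lit 1) (nat_lit 0x145405114441005400500041001514140001000454051554401415515401155501150015114044451104414) (Net.cons (nat_lit 2) (nat_lit 0x1033332313030222322003333230121320113222310003332121012203101320021300101331303212023302) (Net.cons (nat_lit 4) (nat_lit 0x10c040f0e0b0b09000108030d08070304050a060d030f0c00050c050e0e070d070f050000000e01050c00) (Net.cons (nat_lit 8) (nat_lit 0x25006b008f00240040009d001900e000ea00ab0072000700a800a20079002e00ce00d800b4000000000000) (Net.cons (nat_lit 16) (nat_lit 0x6fa0000627a0000fa9b000087640000302a0000448e0000567a0000810a0000170000002f0c00000000) (Net.cons (nat_lit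 32) (nat_lit 0x74b01410000000006544aff20000000014f9c400000000002222cd410000000005a20210) (Net.cons (nat_lit 64) (nat_lit 0x20c20c680000000000000000e806ea09050205d40000000000000000718120d100000000) (Net.cons (nat_lit 128) (nat_lit 0x5637a3a9141820e0af6e739468284c31) (Net.cons (nat_lit 256) (nat_lit 0x37f9b6f2fffffbdd7cbf4f79) (Net.cons (nat_lit 128) (nat_lit 0x625dd4081e4628e2518ac365) (Net.cons (nat_lit 64) (nat_lit 0x1aa57b90000000000000000f58dda7e0d726ea800000000000000006e5d7b61966147de) (Net.cons (nat_lit 32) (nat_lit 0x93d66b08000000007a04a21f000000003e3cd2b200000000f9e9c2e000000000cc8af66c) (Net.cons (nat_lit 16) (nat_lit 0x74bc0000bb380000efc200005575000038e4000042440000ef5100004f410000676d0000d3e000000148) (Net.cons (nat_lit 8) (nat_lit 0x6400f7003e0019008b0021008f009500110043009e000a001900e30053007f009c007f00bc00b60000006a) (Net.cons (nat_lit 4) (nat_lit 0x10501040c000a02000105050b0b020c050a05020a010a08060d01070e0e05070a04000e02040b090a0a0e08) (Net.cons (nat_lit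 2) (nat_lit 0x1121333210131111201033323000103322203001110323320321202310321221321212210031220122202202) (Net.cons (nat_lit 1) (nat_lit 0x551154011401511114101014541510141510400554015014145005000541405054555001404145405555510) Net.nil)))))))))))))))))

theorem o_g205_ok : Net.ok 351 o_g205 = true := by decide +kernel

noncomputable def o_g206 : Net := (Net.cons (nat_lit 1) (nat_lit 0x514000540114100405505011415045051545100545451445415114441040051414400001100100500440055) (Net.cons (nat_lit 2) (nat_lit 0x1003012112231211001333123120112313333311002332021321021323230031023201123003101303213222) (Net.cons (nat_lit 4) (nat_lit 0x60502010e0f0d000c0f00090008090c0f000a0007010a05030d0d02090a0a0a0005070d000d090206000000) (Net.cons (nat_lit 8) (nat_lit 0x43004800a300e6001500f2006f00f90029008000a900230037009100310017004a0012002b000c00530000) (Net.cons (nat_lit 16) (nat_lit 0x26150000891c000048130000752a00006c260000694a0000902a00002057000081210000a60000008000) (Net.cons (nat_lit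 32) (nat_lit 0xec2224f50000000027a71da9000000004ee24f03000000006820081900000000422a8100) (Net.cons (nat_lit 64) (nat_lit 0x498e654500000000000000006797e6850582439000000000000000002e4d820400000000) (Net.cons (nat_lit 128) (nat_lit 0x1528b99c21ac8b64ca67068b48267028) (Net.cons (nat_lit 256) (nat_lit 0x33bcbb76ffefb78f5afefe2f) (Net.cons (nat_lit 128) (nat_lit 0x51494a85f0924d4b35e5665a) (Net.cons (nat_lit 64) (nat_lit 0x2c6aa45000000000000000002843c58f71f5dc5900000000000000003fe990cf00190021) (Net.cons (nat_lit 32) (nat_lit 0xc8408e500000000070c558c100000000e100f50300000000642519d000000000432a9b04) (Net.cons (nat_lit 16) (nat_lit 0xf170000da6f00006a1700005e2000006812000093d80000c91a000017830000803a0000e7fc0000ac12) (Net.cons (nat_lit 8) (nat_lit 0x5300cf000200c70033004e0022006800650005001c00f00035000100f2000700e600030081000900ba0017) (Net.cons (nat_lit 4) (nat_lit 0x402030a0e0f0f0a0000010a000c0f060b040f0c050702040f0805030c0f0a0b020d060d0805090608010203) (Net.cons (nat_lit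 2) (nat_lit 0x301010213001111223213323003300322333032133032132133203310330121211023121231102212313322) (Net.cons (nat_lit 1) (nat_lit 0x14114011014500445400515014104055545001040400501150105451000055141510000104514450140555) Net.nil)))))))))))))))))

theorem o_g206_ok : Net.ok 351 o_g206 = true := by decide +kernel

noncomputable def ot_c7_K : List Net := [o_g203, o_g204, o_g205, o_g206]

theorem ot_c7_K_ok : okE 351 ot_c7_K = true := (okE_cons.2 ⟨o_g203_ok, (okE_cons.2 ⟨o_g204_ok, (okE_cons.2 ⟨o_g205_ok, (okE_cons.2 ⟨o_g206_ok, (okE_nil 351)⟩)⟩)⟩)⟩)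

noncomputable def o_g208 : Net := (Net.cons (nat_lit 1) (nat_lit 0x51514001150544511011040414541011400155544500445544114501045501145000551051111410114010) (Net.cons (nat_lit 2) (nat_lit 0x132210321312110023212210330313121120000122033003132112222033122202032313032332023003302) (Net.cons (nat_lit 4) (nat_lit 0x10b060c0d0d0d0a000b0407010b08010803090d0c0d060405040f030c040802040c090c0f030a030a060408) (Net.cons (nat_lit 8) (nat_lit 0x79000b0068005d00ce00e1002b00320086003a002b00b2008b00d900fa001400c50087009800ee00620000) (Net.cons (nat_lit 16) (nat_lit 0xca0000ff9700005ef7000001d50000c89300008fd700009c7f00002a08000010360000806900008000) (Net.cons (nat_lit 32) (nat_lit 0x38ea789000000000a210d03d00000000c06ae24500000000b8d708090000000051c98c00) (Net.cons (nat_lit 64) (nat_lit 0x907446100000000000000009107168c2436248e000000000000000081c2089500000000) (Net.cons (nat_lit 128) (nat_lit 0x412e559b9b2d4024030199e904507280) (Net.cons (nat_lit 256) (nat_lit 0x3bfde6ede7cbbdfdd5f372c4)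 (Net.cons (nat_lit 128) (nat_lit 0x44aec1a0fbc902d5b5750c5a) (Net.cons (nat_lit 64) (nat_lit 0x7820da2c0000000000000000deacf4b72cc1f6980000000000000000159a7fc15c2d0282) (Net.cons (nat_lit 32) (nat_lit 0x1f61decd000000008e41309100000000d842729a00000000746c591e00000000f704eab2) (Net.cons (nat_lit 16) (nat_lit 0x32c900008a6f00002dfa0000ed050000ec0a00000e330000ce420000a74e0000009800002c030000906c) (Net.cons (nat_lit 8) (nat_lit 0x590001006800e3009b00b700f1005800940092000c007800e40044003e00000045003d004a006f00ef007a) (Net.cons (nat_lit 4) (nat_lit 0x30c03040301090c0c0a00040b060d090e080906060d050308020e0c0a05080709040a0603060c0808000604) (Net.cons (nat_lit 2) (nat_lit 0x311200122213100020303002210010332131130023233030301100311320123222112301103111300203020) (Net.cons (nat_lit 1) (nat_lit 0x1445540101114150101515010401500014114104450104050501505514140100005541050010551144111454) Net.nil)))))))))))))))))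

theorem o_g208_ok : Net.ok 351 o_g208 = true := by decide +kernel

noncomputable def o_g209 : Net := (Net.cons (nat_lit 1) (nat_lit 0x1445150115441151151544415144104155450005104155115400154511451145041011151400511101455440) (Net.cons (nat_lit 2) (nat_lit 0x1130303302011330000113233222032300200133202300301100330030323203023031100322132312321022) (Net.cons (nat_lit 4) (nat_lit 0x70701070c020f090e030b03040b02000206080c0401010b0d0d05020c0103040d0905080106040e02020d00) (Net.cons (nat_lit 8) (nat_lit 0x4900b50031003700d6004b00be0087003c00d2005700640042009800ea003a00540009008d00fc00730000) (Net.cons (nat_lit 16) (nat_lit 0x14750000ac0a0000781600009b8900005863000081cb0000142b0000401000004ca50000340000000000) (Net.cons (nat_lit 32) (nat_lit 0x81208206000000008d77040b000000006829b4e9000000007356cd11000000000b1e0626) (Net.cons (nat_lit 64) (nat_lit 0x732c88000000000000000002a60d7202a45202200000000000000006fc5080000000000) (Net.cons (nat_lit 128) (nat_lit 0xdac6dc638454178913ead83869810005)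 (Net.cons (nat_lit 256) (nat_lit 0x64f7bf89ffeff9fc7b9f522f) (Net.cons (nat_lit 128) (nat_lit 0x6600a019f6d88b2a6092dee3) (Net.cons (nat_lit 64) (nat_lit 0xea9e2370000000000000000a8d4026a8f184fcb00000000000000008b21ccb73c7f86a2) (Net.cons (nat_lit 32) (nat_lit 0xe607ba2d000000008485af29000000004d07ea8800000000358b1e8300000000da73675e) (Net.cons (nat_lit 16) (nat_lit 0x37440000ff1b0000033c00005def00005dad000050e1000039b700009d2000005ebc0000834900001a2c) (Net.cons (nat_lit 8) (nat_lit 0x4900bf003e008c006d004a0090004400a4005a0013002d00530082006b00fc0043008b006a00be000900da) (Net.cons (nat_lit 4) (nat_lit 0x40c07070c0d020c0f000a02020403040f0c0908050706060d090308080c04040b0b050901090e0507050100) (Net.cons (nat_lit 2) (nat_lit 0x130313321233112102031313210013312003113211222323211323332112303103113203031033112313002) (Net.cons (nat_lit 1) (nat_lit 0x1444540114004541551144451410510151440015014105110055141144001104114101155404045005011540) Net.nil)))))))))))))))))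

theorem o_g209_ok : Net.ok 351 o_g209 = true := by decide +kernel

noncomputable def o_g210 : Net := (Net.cons (nat_lit 1) (nat_lit 0x1544000511015445541505400110444101450101114115155100005045111404400151150015015401550501) (Net.cons (nat_lit 2) (nat_lit 0x1223101221311322001111202023002211302012220022312121112301312301000220010120112101200010) (Net.cons (nat_lit 4) (nat_lit 0x201030d010c0e0901000f0c050e0d0b050e01010c040c0b070b040c0b0804060d0f030e00020d0b01080a00) (Net.cons (nat_lit 8) (nat_lit 0x5000e005a00b400fc009d00ed00ee0069009d004e00160092007100a300b900700028005900ba00130000) (Net.cons (nat_lit 16) (nat_lit 0x17ca00001d11000031430000307300004870000070b6000042020000f0090000475b0000782600000000) (Net.cons (nat_lit 32) (nat_lit 0x6d601df00000000c603fd3e000000000880a0e00000000060100b71000000001140609e) (Net.cons (nat_lit 64) (nat_lit 0x5e980011000000000000000001463b54349060830000000000000000b032808800000000) (Net.cons (nat_lit 128) (nat_lit 0x629bf788820d000c0140294050103402)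 (Net.cons (nat_lit 256) (nat_lit 0x2f4d38ddb37ba9e8d1f07416) (Net.cons (nat_lit 128) (nat_lit 0x28650e42155c8bd6e240a11) (Net.cons (nat_lit 64) (nat_lit 0xf2d7e8e000000000000000021f7cb9cfc30208a0000000000000000d5623d54a7993830) (Net.cons (nat_lit 32) (nat_lit 0x17fda885000000003d26955600000000ca9b8a640000000063f88b6800000000381b7ecf) (Net.cons (nat_lit 16) (nat_lit 0x278d0000342d0000f6cb000048ef0000aa410000941f0000b6d7000072bd00004eb300001c81000028b5) (Net.cons (nat_lit 8) (nat_lit 0x5500d60042002c0014000d006d009600db00a10062001e005100a100b80035001800a90046008f00140079) (Net.cons (nat_lit 4) (nat_lit 0x50a0d0806070308010f04010d030b0d0b03090c06090605080e08050b040a04070d0f070e0c0b020c0b00) (Net.cons (nat_lit 2) (nat_lit 0x333201231010102201111312323221212323232322100201230011023210103230020321131013100201311) (Net.cons (nat_lit 1) (nat_lit 0x1511504501555001150405454454401101054400010145011055410115055405450511151400145401501101) Net.nil)))))))))))))))))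

theorem o_g210_ok : Net.ok 351 o_g210 = true := by decide +kernel

noncomputable def o_V211 : List Net := [o_g208, o_g209, o_g210]

theorem o_V211_ok : okE 351 o_V211 = true := (okE_cons.2 ⟨o_g208_ok, (okE_cons.2 ⟨o_g209_ok, (okE_cons.2 ⟨o_g210_ok, (okE_nil 351)⟩)⟩)⟩)

noncomputable def o_V213 : List Net := [o_g210]

theorem o_V213_ok : okE 351 o_V213 = true := (okE_cons.2 ⟨o_g210_ok, (okE_nil 351)⟩)

noncomputable def o_V214 : List Net := []

theorem o_V214_ok : okE 351 o_V214 = true := (okE_nil 351)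

noncomputable def ot_c7_cnt_EG : List Net := [o_b, o_c, o_d, o_e, o_f, o_g, o_h, o_i, o_g1, o_g2, o_g3, o_g4, o_g5, o_g8, o_g9, o_g12, o_g13, o_g14, o_g17, o_g18, o_g19, o_g20, o_g23, o_g24, o_g25, o_g26, o_g27, o_g30, o_g31, o_g32, o_g35, o_g88, o_g89, o_g90, o_g91, o_g92, o_g93, o_g94, o_g208, o_g209, o_g210]

theorem ot_c7_cnt_EG_ok : okE 351 ot_c7_cnt_EG = true := (okE_cons.2 ⟨o_b_ok, (okE_cons.2 ⟨o_c_ok, (okE_cons.2 ⟨o_d_ok, (okE_cons.2 ⟨o_e_ok, (okE_cons.2 ⟨o_f_ok, (okE_cons.2 ⟨o_g_ok, (okE_cons.2 ⟨o_h_ok, (okE_cons.2 ⟨o_i_ok, (okE_cons.2 ⟨o_g1_ok, (okE_cons.2 ⟨o_g2_ok, (okE_cons.2 ⟨o_g3_ok, (okE_cons.2 ⟨o_g4_ok, (okE_cons.2 ⟨o_g5_ok, (okE_cons.2 ⟨o_g8_ok, (okE_cons.2 ⟨o_g9_ok, (okE_cons.2 ⟨o_g12_ok, (okE_cons.2 ⟨o_g13_ok, (okE_cons.2 ⟨o_g14_ok, (okE_cons.2 ⟨o_g17_ok, (okE_cons.2 ⟨o_g18_ok, (okE_cons.2 ⟨o_g19_ok, (okE_cons.2 ⟨o_g20_ok, (okE_cons.2 ⟨o_g23_ok, (okE_cons.2 ⟨o_g24_ok, (okE_cons.2 ⟨o_g25_ok, (okE_cons.2 ⟨o_g26_ok, (okE_cons.2 ⟨o_g27_ok, (okE_cons.2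 ⟨o_g30_ok, (okE_cons.2 ⟨o_g31_ok, (okE_cons.2 ⟨o_g32_ok, (okE_cons.2 ⟨o_g35_ok, (okE_cons.2 ⟨o_g88_ok, (okE_cons.2 ⟨o_g89_ok, (okE_cons.2 ⟨o_g90_ok, (okE_cons.2 ⟨o_g91_ok, (okE_cons.2 ⟨o_g92_ok, (okE_cons.2 ⟨o_g93_ok, (okE_cons.2 ⟨o_g94_ok, (okE_cons.2 ⟨o_g208_ok, (okE_cons.2 ⟨o_g209_ok, (okE_cons.2 ⟨o_g210_ok, (okE_nil 351)⟩)⟩)⟩)⟩)⟩)⟩)⟩)⟩)⟩)⟩)⟩)⟩)⟩)⟩)⟩)⟩)⟩)⟩)⟩)⟩)⟩)⟩)⟩)⟩)⟩)⟩)⟩)⟩)⟩)⟩)⟩)⟩)⟩)⟩)⟩)⟩)⟩)⟩)⟩)⟩)⟩)

noncomputable def o_g215 : Net := (Net.cons (nat_lit 1) (nat_lit 0x551144010051001101110541441041410511440155511451555045401041441001511500150114441401105) (Net.cons (nat_lit 2) (nat_lit 0x1221002223112102110210011312113223210010313013212103313323130212131102133002323103010312) (Net.cons (nat_lit 4) (nat_lit 0x4080509000e0208090a02010f070c030c0d0e0c0a030e070a0c0409050e0b080e02080002000700010c0800) (Net.cons (nat_lit 8) (nat_lit 0x590056005600cf006f00f1004e0075006800e000c6000300c300af00ff006000bb0005004b00e700120000) (Net.cons (nat_lit 16) (nat_lit 0x10db0000278900005b120000de5e00009d3300006ef70000179b0000af200000ab980000406200000000)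 (Net.cons (nat_lit 32) (nat_lit 0x7880a653000000001776a66900000000696609ac000000006a9c10650000000016809053) (Net.cons (nat_lit 64) (nat_lit 0x48794a51000000000000000091c4503a31c824100000000000000000220d4a2080000000) (Net.cons (nat_lit 128) (nat_lit 0xce42f0ef103102a0b00e28c8c1d82755) (Net.cons (nat_lit 256) (nat_lit 0x79f37ab2f3efebe8cfdeb77f) (Net.cons (nat_lit 128) (nat_lit 0x3de06428c9b1275951148e5d) (Net.cons (nat_lit 64) (nat_lit 0x6f68bb120000000000000000643253705e934a360000000000000000a92422acdc442579) (Net.cons (nat_lit 32) (nat_lit 0xe5080794000000004e04fe540000000024f5a6e100000000bcc4371b00000000de809d4b) (Net.cons (nat_lit 16) (nat_lit 0x791d0000d8c600002ba30000aaa400007cc20000f56b0000a364000096d00000a0b70000ed0400003215) (Net.cons (nat_lit 8) (nat_lit 0x4200ff00e900a300490020004b00d7005a00c80047001c00f1004c00eb0010002e002b0097009100e900f1) (Net.cons (nat_lit 4) (nat_lit 0xa000307080107040c09030e020e0904040a0a03070005070703040d05060907050c010d020208040b0e)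 (Net.cons (nat_lit 2) (nat_lit 0x212022302230232120211213023032103212121311000332003102323222200121003310021333300332302) (Net.cons (nat_lit 1) (nat_lit 0x1540410410104510440100151500041140041040411445115001111114501004004505414505000440111450) Net.nil)))))))))))))))))

theorem o_g215_ok : Net.ok 351 o_g215 = true := by decide +kernel

noncomputable def o_g216 : Net := (Net.cons (nat_lit 1) (nat_lit 0x1051440010404445555151501001045114445104004505450545104114004114000450440411044004514014) (Net.cons (nat_lit 2) (nat_lit 0x10003102231201010013000012301110332113021000013302222331232032310130321203333102312002) (Net.cons (nat_lit 4) (nat_lit 0x70806040c0a0a010b050e05070c05010501000301000205040901070f0b09050f0f0508080802050d090900) (Net.cons (nat_lit 8) (nat_lit 0x3500d70096007100e7001d001a00340050001a00720005000a005b00c20057003800d00081000600990080) (Net.cons (nat_lit 16) (nat_lit 0x3b140000167c00007ca600001616000082bd0000ba140000055f000005480000dc9b0000ae3900000000) (Net.cons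 (nat_lit 32) (nat_lit 0xbc1e8503000000005ad4905000000000a808123a000000006b49ae89000000005030d215) (Net.cons (nat_lit 64) (nat_lit 0x4e11776700000000000000000466b0311d871d110000000000000000041225b100000000) (Net.cons (nat_lit 128) (nat_lit 0xb2e08e584a330a0b046f01019080c04) (Net.cons (nat_lit 256) (nat_lit 0x3ca7b5b8bc7ef7f7df7b5ee7) (Net.cons (nat_lit 128) (nat_lit 0x7452beff84831b845a3d6b06) (Net.cons (nat_lit 64) (nat_lit 0x6a20420d00000000000000000011ce22336c816a00000000000000003321f6d84084dcb6) (Net.cons (nat_lit 32) (nat_lit 0x7880994700000000b31ab7cd000000001fb2628b00000000b1279335000000001ea75abe) (Net.cons (nat_lit 16) (nat_lit 0x4090000c44f00003f7e00005fad0000c56700006ef200008e39000014bf00001d060000d08c0000248e) (Net.cons (nat_lit 8) (nat_lit 0x54006f009500df0022008e0085005d00ed0063008b00700047006d0097006100af00ef001000f0001500ab) (Net.cons (nat_lit 4) (nat_lit 0x40801050606090807040a05070e0b0308070a0202050f0f0c0c060b0b02030f04070508000408050f090009) (Net.cons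 (nat_lit 2) (nat_lit 0x1303010302332232011202202012031021102212301220220233313210120103213002213232320223002211) (Net.cons (nat_lit 1) (nat_lit 0x1455145541411145055400544101040501150510404414150140551140405054440554051440040041550544) Net.nil)))))))))))))))))

theorem o_g216_ok : Net.ok 351 o_g216 = true := by decide +kernel

noncomputable def o_g217 : Net := (Net.cons (nat_lit 1) (nat_lit 0x515115104050411511540550040414501150454414511101445015414415001445504050114051451414404) (Net.cons (nat_lit 2) (nat_lit 0x221111032203122232133033300012302211023103302233230010133013211020112003301103210220302) (Net.cons (nat_lit 4) (nat_lit 0x1080302040c030c060c010e06060e0d06030e0d010d070c00090c010505070a030308070a020d01010e0008) (Net.cons (nat_lit 8) (nat_lit 0x15003f00a6006f007400bd002100d80078003c002000600051006b000800fd008e000000e600e500860080) (Net.cons (nat_lit 16) (nat_lit 0x9df000011bd0000544400009404000019eb00006287000008aa0000054b0000801a0000408200000000) (Net.cons (nat_lit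 32) (nat_lit 0x50040c5e0000000026e09b180000000069ae07cd0000000055c354370000000059652302) (Net.cons (nat_lit 64) (nat_lit 0x44000e0000000000000000003e685e00b05d11c8000000000000000004d2683880000000) (Net.cons (nat_lit 128) (nat_lit 0x7df28fcdc0028b40367270c0c70034b1) (Net.cons (nat_lit 256) (nat_lit 0x43b3fbc67ff67bf8c764bdf3) (Net.cons (nat_lit 128) (nat_lit 0x6e5cd83c57fa00c99a2304f5) (Net.cons (nat_lit 64) (nat_lit 0x1846319f00000000000000006f69b52b56f82aea00000000000000002a56d0840d830000) (Net.cons (nat_lit 32) (nat_lit 0xec022913000000004c198eec00000000b67f969300000000b3240f9700000000d0a32a02) (Net.cons (nat_lit 16) (nat_lit 0x290a0000d93400002a38000069e1000045b1000087fd000089980000e0d20000fed600002c7600002ad0) (Net.cons (nat_lit 8) (nat_lit 0x490042008a006f00c600ad001f00a10093001d001100b000ab003200d400eb000c00a6002700b6007400da) (Net.cons (nat_lit 4) (nat_lit 0x605040404080a0a0301060e04070e0b0a0f08030102070e0a0b0c070d000f0a0c0a03030e0a0b06020b070e) (Net.cons (nat_lit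 2) (nat_lit 0x312021233221112210132120232323313221113202301230110202223223001301031312331002300011222) (Net.cons (nat_lit 1) (nat_lit 0x1405104511105055040501555110005144444150440540110545040514450510545151455504010400050544) Net.nil)))))))))))))))))

theorem o_g217_ok : Net.ok 351 o_g217 = true := by decide +kernel

noncomputable def o_g218 : Net := (Net.cons (nat_lit 1) (nat_lit 0x1040544040405415414144514455441511001505511004441510004051151014414440100011140540111510) (Net.cons (nat_lit 2) (nat_lit 0x1133230000123331022301210332332111000303001202120231011120322100120011123032021302010010) (Net.cons (nat_lit 4) (nat_lit 0x2030a00070504000e080d090f0405070d0d0f0a03000e04020005000b09040307040902040a0f0006010000) (Net.cons (nat_lit 8) (nat_lit 0x4500cf0031004d00aa0061002b003e00000055002c004200370071004100640010001300cc00d500c20000) (Net.cons (nat_lit 16) (nat_lit 0x6a15000063400000bfd900009e28000089d80000a40a00008014000072e2000012030000094600000000) (Net.cons (nat_lit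 32) (nat_lit 0x106bae660000000013d8328500000000a2286220000000001fe2e012000000000d880296) (Net.cons (nat_lit 64) (nat_lit 0x9a6134b00000000000000001aa7804dac80444600000000000000000042400880000000) (Net.cons (nat_lit 128) (nat_lit 0x9b4edd9d608c8c4448b1c2a44f02001b) (Net.cons (nat_lit 256) (nat_lit 0x6dee9f4e6af7cbefefce0e3f) (Net.cons (nat_lit 128) (nat_lit 0x6f90d723cca14060d62e392d) (Net.cons (nat_lit 64) (nat_lit 0x54a973d6000000000000000027972d3ae18e5f0e000000000000000046d0f740870405c6) (Net.cons (nat_lit 32) (nat_lit 0x67fb33a00000000a3d80bd200000000286ae36c00000000b3f3ef5f000000000b8c1fd6) (Net.cons (nat_lit 16) (nat_lit 0x623f0000f55a000029e9000030880000abca00003b1100002a2700007ce00000dc0b0000857c00004610) (Net.cons (nat_lit 8) (nat_lit 0x5500c70029005500b90075007b002400180054003d004900330069007100f40001000100d700cd00ca0004) (Net.cons (nat_lit 4) (nat_lit 0x3030a01070504000f090d090f0405070c0d0f0e03010f0403000c000b09040307060902050b0f0806010000) (Net.cons (nat_lit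 2) (nat_lit 0x1133330000123311022301212332332111000303001202320231011120322100120011123032021302010030) (Net.cons (nat_lit 1) (nat_lit 0x1040544040405415414144514455441511101505511004441510004051151014414440100011140540111510) Net.nil)))))))))))))))))

theorem o_g218_ok : Net.ok 351 o_g218 = true := by decide +kernel

noncomputable def o_g219 : Net := (Net.cons (nat_lit 1) (nat_lit 0x1514444005050050140444440001445004045115050011455551154500445154155100540404155014010104) (Net.cons (nat_lit 2) (nat_lit 0x131130221010111132332022133111231202022132103332020212030333112213130301111000320033002) (Net.cons (nat_lit 4) (nat_lit 0x40002000f0605030e0f0a01070f01060707060d0605060a0a0501050b02050e0e0b090d0a0c0b04090d0008) (Net.cons (nat_lit 8) (nat_lit 0x49008900750061001700c000c000c0002c006a006e00b5008800c40010000000fd000600c2006100d40000) (Net.cons (nat_lit 16) (nat_lit 0x42b90000ccfe000016ea000067fc000014870000d32900002c150000f995000006090000802d00008000) (Net.cons (nat_lit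 32) (nat_lit 0x1fad1c560000000052f004f000000000ff6e02490000000029c914c0000000003e4b2020) (Net.cons (nat_lit 64) (nat_lit 0x13bb0b61000000000000000000b4d4844901283a0000000000000000029008b000000000) (Net.cons (nat_lit 128) (nat_lit 0x26351b8b8322c0128096c73022c81c81) (Net.cons (nat_lit 256) (nat_lit 0x3773d752b69edff6aace7eb3) (Net.cons (nat_lit 128) (nat_lit 0x82e314eda15280466110663) (Net.cons (nat_lit 64) (nat_lit 0x493639890000000000000000003c8391da650cde00000000000000000d1e317828448522) (Net.cons (nat_lit 32) (nat_lit 0x47168940000000071b09f2d00000000244e42c90000000010a9c50c000000001addc6c8) (Net.cons (nat_lit 16) (nat_lit 0x30f90000613c000006b2000061af0000111d0000e6d40000fc900000bfba0000262d0000e8eb0000ba1a) (Net.cons (nat_lit 8) (nat_lit 0x1b0081007e00f1002b00800099009d002c000e0037005d000e00c000e00026007d00e700ea004b004c004a) (Net.cons (nat_lit 4) (nat_lit 0x2060700070809030a000e05010d0a030705040606040f060d050b040404060c02020b0806080c0c010c0508) (Net.cons (nat_lit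 2) (nat_lit 0x1031130222132231232302033311303212232003133220013310023333213112133332311331302023000120) (Net.cons (nat_lit 1) (nat_lit 0x144544001140450055454000504050014451414000111154510150505001044445104410404551111014504) Net.nil)))))))))))))))))

theorem o_g219_ok : Net.ok 351 o_g219 = true := by decide +kernel

noncomputable def ot_c8_K : List Net := [o_g216, o_g217, o_g218, o_g219]

theorem ot_c8_K_ok : okE 351 ot_c8_K = true := (okE_cons.2 ⟨o_g216_ok, (okE_cons.2 ⟨o_g217_ok, (okE_cons.2 ⟨o_g218_ok, (okE_cons.2 ⟨o_g219_ok, (okE_nil 351)⟩)⟩)⟩)⟩)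

noncomputable def o_g221 : Net := (Net.cons (nat_lit 1) (nat_lit 0x45501550440100111105041441105450151411011404111015115015015150451141501404010055451400) (Net.cons (nat_lit 2) (nat_lit 0x1331202321200112310133230301222312002103322113212113003303212000300123102130121220210310) (Net.cons (nat_lit 4) (nat_lit 0x2040803020f0b060c070604030900050e0909020809010e02070b0601010f0a0e0e05010c0d0c0001000000) (Net.cons (nat_lit 8) (nat_lit 0x2f006400f3007000ea002a005e00b1000b001e00dc00ea0006008900540032005c0079003b001500040000) (Net.cons (nat_lit 16) (nat_lit 0x7edb00005f8b0000fcfa000021420000dc33000020100000898000001cb5000071150000221000000000) (Net.cons (nat_lit 32) (nat_lit 0xe07ef420000000007cc00b740000000083543e8400000000aed228c40000000005188046) (Net.cons (nat_lit 64) (nat_lit 0x37f930530000000000000000e271455c5a18218200000000000000004100867c00000000) (Net.cons (nat_lit 128) (nat_lit 0x8f5eb6a084449c6460204104088b2142) (Net.cons (nat_lit 256) (nat_lit 0x26edfcf56978cf7d9d9f2142)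 (Net.cons (nat_lit 128) (nat_lit 0x5cf8174190570f872122bb0) (Net.cons (nat_lit 64) (nat_lit 0x62531f800000000000000000f9e065785a12210000000000000000008290416403dd0086) (Net.cons (nat_lit 32) (nat_lit 0x312306a2000000006f5d440c000000002f3dbb5000000000bdfcf22300000000ad0d80c6) (Net.cons (nat_lit 16) (nat_lit 0x6c6200001b3b00001836000081c70000c4b900000cd200005f9700008f3f0000233f00002f1900008400) (Net.cons (nat_lit 8) (nat_lit 0x200080001800e7004600f4009400b4006b00d8005e00d900b700af0058006e007600da0005006600950022) (Net.cons (nat_lit 4) (nat_lit 0xf0509030a02010507070c0c0c0303010e01090a060207030e080c0b050d08060e0b010002070d08000b06) (Net.cons (nat_lit 2) (nat_lit 0x1221030013033012313031033312230321103101320203113030111203211302220202200011023311210330) (Net.cons (nat_lit 1) (nat_lit 0x550011410450010105104015101041545451514111514111015104415504555054045544515000054151400) Net.nil)))))))))))))))))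

theorem o_g221_ok : Net.ok 351 o_g221 = true := by decide +kernel

noncomputable def o_V222 : List Net := [o_g221, o_g13, o_g135]

theorem o_V222_ok : okE 351 o_V222 = true := (okE_cons.2 ⟨o_g221_ok, (okE_cons.2 ⟨o_g13_ok, (okE_cons.2 ⟨o_g135_ok, (okE_nil 351)⟩)⟩)⟩)

noncomputable def o_V224 : List Net := [o_g135]

theorem o_V224_ok : okE 351 o_V224 = true := (okE_cons.2 ⟨o_g135_ok, (okE_nil 351)⟩)

noncomputable def o_V225 : List Net := []

theorem o_V225_ok : okE 351 o_V225 = true := (okE_nil 351)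

noncomputable def ot_c8_cnt_EG : List Net := [o_b, o_c, o_d, o_e, o_f, o_g, o_h, o_i, o_g1, o_g2, o_g3, o_g4, o_g5, o_g8, o_g9, o_g12, o_g13, o_g14, o_g17, o_g18, o_g19, o_g20, o_g23, o_g24, o_g25, o_g26, o_g27, o_g30, o_g31, o_g32, o_g35, o_g132, o_g133, o_g134, o_g135, o_g221]

theorem ot_c8_cnt_EG_ok : okE 351 ot_c8_cnt_EG = true := (okE_cons.2 ⟨o_b_ok, (okE_cons.2 ⟨o_c_ok, (okE_cons.2 ⟨o_d_ok, (okE_cons.2 ⟨o_e_ok, (okE_cons.2 ⟨o_f_ok, (okE_cons.2 ⟨o_g_ok, (okE_cons.2 ⟨o_h_ok, (okE_cons.2 ⟨o_i_ok, (okE_cons.2 ⟨o_g1_ok, (okE_cons.2 ⟨o_g2_ok, (okE_cons.2 ⟨o_g3_ok, (okE_cons.2 ⟨o_g4_ok, (okE_cons.2 ⟨o_g5_ok, (okE_cons.2 ⟨o_g8_ok, (okE_cons.2 ⟨o_g9_ok, (okE_cons.2 ⟨o_g12_ok, (okE_cons.2 ⟨o_g13_ok, (okE_cons.2 ⟨o_g14_ok, (okE_cons.2 ⟨o_g17_ok, (okE_cons.2 ⟨o_g18_ok, (okE_cons.2 ⟨o_g19_ok, (okE_cons.2 ⟨o_g20_ok, (okE_cons.2 ⟨o_g23_ok, (okE_cons.2 ⟨o_g24_ok, (okE_cons.2 ⟨o_g25_ok, (okE_cons.2 ⟨o_g26_ok, (okE_cons.2 ⟨o_g27_ok, (okE_cons.2 ⟨o_g30_ok, (okE_cons.2 ⟨o_g31_ok,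 (okE_cons.2 ⟨o_g32_ok, (okE_cons.2 ⟨o_g35_ok, (okE_cons.2 ⟨o_g132_ok, (okE_cons.2 ⟨o_g133_ok, (okE_cons.2 ⟨o_g134_ok, (okE_cons.2 ⟨o_g135_ok, (okE_cons.2 ⟨o_g221_ok, (okE_nil 351)⟩)⟩)⟩)⟩)⟩)⟩)⟩)⟩)⟩)⟩)⟩)⟩)⟩)⟩)⟩)⟩)⟩)⟩)⟩)⟩)⟩)⟩)⟩)⟩)⟩)⟩)⟩)⟩)⟩)⟩)⟩)⟩)⟩)⟩)⟩)⟩)

noncomputable def o_g226 : Net := (Net.cons (nat_lit 1) (nat_lit 0x1514400454001051114044510544444151051010115554140040454450450015155515011410401405044510) (Net.cons (nat_lit 2) (nat_lit 0x1010010012302300201013032000302203121303303121201202321101332320333221030033010312203030) (Net.cons (nat_lit 4) (nat_lit 0x70c060a030f080e0602040308070f060909030d0d0f0406090003080a030e04020200080407070e07000100) (Net.cons (nat_lit 8) (nat_lit 0x2800d600d500a5001500930043008c00c4005f00cd00e000fb00e6006400ef00410002000100da00130080) (Net.cons (nat_lit 16) (nat_lit 0x42a600000b070000d8050000af0200005bfd0000016a000000330000ce5e0000da380000837600008000) (Net.cons (nat_lit 32) (nat_lit 0x7428e0e30000000017652ed50000000080b60904000000008c036b880000000040199215)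 (Net.cons (nat_lit 64) (nat_lit 0x717838810000000000000000ee95b8e2e0012e610000000000000000e289960400000000) (Net.cons (nat_lit 128) (nat_lit 0x87d807041340c08d0ca18024a2003860) (Net.cons (nat_lit 256) (nat_lit 0x1768eb8fffebf6aef638b874) (Net.cons (nat_lit 128) (nat_lit 0x6d38151760e43bd6b9032a1d) (Net.cons (nat_lit 64) (nat_lit 0x3091c100000000000000000ee00b2eeb003aa140000000000000000e76d9cc4c2120021) (Net.cons (nat_lit 32) (nat_lit 0x548c52630000000092efbeaf0000000007eccfa40000000092f4c0a200000000c21b1071) (Net.cons (nat_lit 16) (nat_lit 0x765d00004de700005db20000875000002aa70000667600003afe0000661d000049040000f58700008b24) (Net.cons (nat_lit 8) (nat_lit 0x3000ba003a002e0058000100e400260095000200eb004b00b200eb005300a500d600be004800ef00ab00d4) (Net.cons (nat_lit 4) (nat_lit 0x1010008090e0005000e020c0f0a000500050c040f090b0b01010f0e0405010e0f0901020d010d0f09000d0e) (Net.cons (nat_lit 2) (nat_lit 0x203213130033313131201102023120102330312103131132001103201201130123230322232132312132302)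 (Net.cons (nat_lit 1) (nat_lit 0x1111544415005001115405504051001505401110415455054410500001541114541540514515011100140140) Net.nil)))))))))))))))))

theorem o_g226_ok : Net.ok 351 o_g226 = true := by decide +kernel

noncomputable def o_g227 : Net := (Net.cons (nat_lit 1) (nat_lit 0x1011454105500511414114055511051140514551100401015440105401151404400410410150111005440110) (Net.cons (nat_lit 2) (nat_lit 0x101332331212023203123203303021220033300133222200003312001002113322300310333201121010312) (Net.cons (nat_lit 4) (nat_lit 0x50a080b0b090c0e020c090a0f030707000904040305020e0a060c06050b04030a020e06080c0206030a0308) (Net.cons (nat_lit 8) (nat_lit 0x6800740038002800c1001f007100880033003f00bb004100a200c400ba00fd0007007e002d000500300080) (Net.cons (nat_lit 16) (nat_lit 0x7c02000028ac000006c80000feda00002fbb0000270a0000038a0000d0f50000162400000b4c00000000) (Net.cons (nat_lit 32) (nat_lit 0x42d9ac14000000008cdd0230000000002a444633000000003a408a600000000022010505) (Net.cons (nat_lit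 64) (nat_lit 0x276488400000000000000000b13058e3a84c1a1e000000000000000014c5542e00000000) (Net.cons (nat_lit 128) (nat_lit 0x458d249224824000910000c2090c024a) (Net.cons (nat_lit 256) (nat_lit 0x24b7fada97e75eee3fcd034f) (Net.cons (nat_lit 128) (nat_lit 0x62c6d63028315a3bc4a0cc64) (Net.cons (nat_lit 64) (nat_lit 0x4f5c3db500000000000000009b1158ead988084600000000000000007744c2a798da826d) (Net.cons (nat_lit 32) (nat_lit 0xe36f592800000000ad2e226900000000e32dcef4000000000aa96305000000003a0bedef) (Net.cons (nat_lit 16) (nat_lit 0x76e8000029a50000032a0000a9a80000d1ac000013030000b5f00000005f0000bb7300001d410000fcc9) (Net.cons (nat_lit 8) (nat_lit 0x5800e900f4009d008c002d002f00f100b700d90041003100e100ea00850039007000c30021006b000e0030) (Net.cons (nat_lit 4) (nat_lit 0x70d090b060a04020d07060106080f0c0a0b070506080c0c06080e0803020d0a0d0e09050c0702060f0b040d) (Net.cons (nat_lit 2) (nat_lit 0x1321330022130212011221200133113233232202130113002321130133110201103210013130201200220122)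 (Net.cons (nat_lit 1) (nat_lit 0x1054514415404541444404144141501410155454140155500051044114055515555145554415110154114541) Net.nil)))))))))))))))))

theorem o_g227_ok : Net.ok 351 o_g227 = true := by decide +kernel

noncomputable def o_g228 : Net := (Net.cons (nat_lit 1) (nat_lit 0x1040440400451504510104011055450040114445014555144400101514400040445100115115400054454000) (Net.cons (nat_lit 2) (nat_lit 0x1303131333120301232001213032310222011023020212303000120223230332132211301120200103112000) (Net.cons (nat_lit 4) (nat_lit 0x4010a070e0b0c0b01060c0e020c01020d0d0101070c080003040f0a0705040d0f0a0e0a0804020508070000) (Net.cons (nat_lit 8) (nat_lit 0x68000300bc000d00490089008e002b00f4004200e1003900cf00b8006800fd004000110035008500410080) (Net.cons (nat_lit 16) (nat_lit 0x40a500009bf300004010000046300000462400000d7c00008a26000004b8000022e80000b80200000000) (Net.cons (nat_lit 32) (nat_lit 0x9bf21721000000003262723200000000c62254ac000000006005bc400000000028c50098) (Net.cons (nat_lit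 64) (nat_lit 0x28a11d0500000000000000006061274f0400060000000000000000009182171c00000000) (Net.cons (nat_lit 128) (nat_lit 0x9286b53882231110200126c200000010) (Net.cons (nat_lit 256) (nat_lit 0x2afdf9db39b37dfb9cb00b8) (Net.cons (nat_lit 128) (nat_lit 0x243331526a7304054094df26) (Net.cons (nat_lit 64) (nat_lit 0x207573bf0000000000000000e243674f04048220000000000000000072459dca87460048) (Net.cons (nat_lit 32) (nat_lit 0x103cdbce00000000e38af03800000000437f560900000000e9a3639f000000005b5d8e58) (Net.cons (nat_lit 16) (nat_lit 0x1ce300008392000086020000181f0000c87a0000415800003e920000c069000020fa00007ed200003ab0) (Net.cons (nat_lit 8) (nat_lit 0x4f008500ea00e900ad005a00d8002d0060002600e5002100c700bc00ac007f0046009100d300c100b700b4) (Net.cons (nat_lit 4) (nat_lit 0x20d0e000a060f0f0d0a0905060d04070d0d0101070a0e080b060f0a030005000f0e010f0a080d010c030c00) (Net.cons (nat_lit 2) (nat_lit 0x1303133333120301232001211032310222011023010332303002120223230330132231303120201123112000)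 (Net.cons (nat_lit 1) (nat_lit 0x1040444000451504510104115055450041114445014455144440115514400040445104115115404054454000) Net.nil)))))))))))))))))

theorem o_g228_ok : Net.ok 351 o_g228 = true := by decide +kernel

noncomputable def o_g229 : Net := (Net.cons (nat_lit 1) (nat_lit 0x414045014150000541441551010500515455051414445550544040505504440440040504144504001400040) (Net.cons (nat_lit 2) (nat_lit 0x1121123123313132211031302032113011301011020200003303030021031321223331123112112123122000) (Net.cons (nat_lit 4) (nat_lit 0x402010b09040d080909080a05090d010904050d0c0902050d0c09080b060a0c040a0a0b0e0900040e020100) (Net.cons (nat_lit 8) (nat_lit 0x12009100ee00190085004f00ec006400ba0025009900180096004100ed008400dd003b004d008e00a50080) (Net.cons (nat_lit 16) (nat_lit 0x433700001ed10000e5320000092400000044000015b800008d8000002001000092480000262200008000) (Net.cons (nat_lit 32) (nat_lit 0x2e7ff18e000000000069909a0000000088051d66000000004325650a000000006c590648) (Net.cons (nat_lit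 64) (nat_lit 0x5964ec4100000000000000003f9d738da980056000000000000000003428008500000000) (Net.cons (nat_lit 128) (nat_lit 0xa031008ace424a042d88020a81200320) (Net.cons (nat_lit 256) (nat_lit 0x6fcffb0dbdba32afdb718768) (Net.cons (nat_lit 128) (nat_lit 0x5d519c8ab3647d4f26ba70c4) (Net.cons (nat_lit 64) (nat_lit 0x76b4251f0000000000000000bda9711f229a2a400000000000000000bd594da6ed242758) (Net.cons (nat_lit 32) (nat_lit 0x35fafd22000000008a2532390000000094d9b26700000000dc7b458d000000002434a3b4) (Net.cons (nat_lit 16) (nat_lit 0xb120000437200002d600000aa84000006ce000026e20000a67400002d3f00006e9b000038190000333c) (Net.cons (nat_lit 8) (nat_lit 0x10009e00e00026008300c200e900610072004b00af003d00b600e200b400df00d8004100be000000f5006c) (Net.cons (nat_lit 4) (nat_lit 0x3080404010c010c0b03010d0c03040209000a090e0d05070c0b050d0e010205070f0d030f000e0a0d09010a) (Net.cons (nat_lit 2) (nat_lit 0x302312202333101210022031011012212221122311103222001332210333320333001023201321100203122)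 (Net.cons (nat_lit 1) (nat_lit 0x1445011011110040400514515511441141450141115114101105040104051405015011051551555554014100) Net.nil)))))))))))))))))

theorem o_g229_ok : Net.ok 351 o_g229 = true := by decide +kernel

noncomputable def o_g230 : Net := (Net.cons (nat_lit 1) (nat_lit 0x551040451105401555011054140100040400040110414054441445105405440055141155045400401410051) (Net.cons (nat_lit 2) (nat_lit 0x1033322120310210300121221123310013112303320303030131230233223333110330100132122200020100) (Net.cons (nat_lit 4) (nat_lit 0x20d060d0107070306010d070d040f020b050c0908000006060909040e0f00010200080006010b0a00080200) (Net.cons (nat_lit 8) (nat_lit 0x2d009f00060094000700b500430001007300fc0046007e00980051007d00b9002c0098004300cd00a30000) (Net.cons (nat_lit 16) (nat_lit 0x31280000af07000079800000910c000030e300004450000055a2000004010000ebc40000072b00008000) (Net.cons (nat_lit 32) (nat_lit 0x761b3ae600000000763f794000000000cc00f22c000000001f1a34ac0000000042312e78) (Net.cons (nat_lit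 64) (nat_lit 0x240039860000000000000000f33de8c2986fb0410000000000000000eaa2c44080000000) (Net.cons (nat_lit 128) (nat_lit 0x1289c41280200998c424208248483050) (Net.cons (nat_lit 256) (nat_lit 0x60f93fbfffefe4c2ccc83278) (Net.cons (nat_lit 128) (nat_lit 0x7b0f1aa21142e6013274485) (Net.cons (nat_lit 64) (nat_lit 0x7716f0ce0000000000000000e33de4c8d20d64400000000000000000578f04c598609779) (Net.cons (nat_lit 32) (nat_lit 0xf840fbde000000006c13dafe00000000f299d06c00000000b710582f0000000060db8670) (Net.cons (nat_lit 16) (nat_lit 0x5a9d0000f1df0000c84d000075b6000063fb0000a8500000db45000026f00000e522000052820000a609) (Net.cons (nat_lit 8) (nat_lit 0x45007500a3009d00860071007600eb004000b8004600d400ba004700e800250042007000c900b3003500cc) (Net.cons (nat_lit 4) (nat_lit 0x30c060c0f040d010f02060606070f0a0b000c0d000e0f090a0706040c010e030a0009080b070e040a080c05) (Net.cons (nat_lit 2) (nat_lit 0x1011333130122232032322330013011120112223320121002110030303030210132332031211122001011210)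 (Net.cons (nat_lit 1) (nat_lit 0x401514500115051440014145040455110110500110154400104015544110000505151145011014001155405) Net.nil)))))))))))))))))

theorem o_g230_ok : Net.ok 351 o_g230 = true := by decide +kernel

noncomputable def o_g231 : Net := (Net.cons (nat_lit 1) (nat_lit 0x100411115100541004004545000045541051544101140501041001415040151154451004101545110000045) (Net.cons (nat_lit 2) (nat_lit 0x320111032100231300211012122030332100001202312311210213202201001010132201022130202012012) (Net.cons (nat_lit 4) (nat_lit 0x20c0006070e04000f0d050a0e000a080a0908000c050107050b040d02080c0701050b04010d000109050400) (Net.cons (nat_lit 8) (nat_lit 0x15009b000a00ae00390060009200530056000b0068004b0097009d000c002400f000c60067008300220080) (Net.cons (nat_lit 16) (nat_lit 0x1b1a00004b6000003a52000087b100000816000001d700004d640000bb360000b2de0000022400000000) (Net.cons (nat_lit 32) (nat_lit 0x20013b47000000003ea97906000000008902a411000000005c1463800000000018894c06) (Net.cons (nat_lit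 64) (nat_lit 0x6b0c3b1200000000000000001326fa7b6de0b004000000000000000051651c6c00000000) (Net.cons (nat_lit 128) (nat_lit 0x98f50c90840108910326503040c03108) (Net.cons (nat_lit 256) (nat_lit 0x1e55efdbf3f75e7c75eb7d0a) (Net.cons (nat_lit 128) (nat_lit 0x54282dd8802ee64b6b4680cf) (Net.cons (nat_lit 64) (nat_lit 0xedfb3500000000000000001b267e6b68e4822e0000000000000000fce59a0e0ab43514) (Net.cons (nat_lit 32) (nat_lit 0x276a78930000000079cf575e00000000b0e5890f00000000a5e92ac5000000009cf5cda1) (Net.cons (nat_lit 16) (nat_lit 0x75f40000b33d0000a3020000d14100004e7c000070f10000ccfa00005674000035d10000105a000018a4) (Net.cons (nat_lit 8) (nat_lit 0x51000d009b0019001c000000fd00a400cd00a90044006c009a006300df004b00fd007a00e10012001d0017) (Net.cons (nat_lit 4) (nat_lit 0x4030300010f090008020305080b05050a02060c0d070d0c060d080e0c080d000d050001000c0d0902010704) (Net.cons (nat_lit 2) (nat_lit 0x1200123312100033000122203212200231221223102201123231222110211003130311001313112221013332)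 (Net.cons (nat_lit 1) (nat_lit 0x1010514544551545111150000011511114154045101014441444011444045010410001145511015010405415) Net.nil)))))))))))))))))

theorem o_g231_ok : Net.ok 351 o_g231 = true := by decide +kernel

noncomputable def o_g232 : Net := (Net.cons (nat_lit 1) (nat_lit 0x1111505440005445045501055451101541514011411501111014145441510051155455544151051505111101) (Net.cons (nat_lit 2) (nat_lit 0x231301232013203320012111010130330331120332222033102010101133210302033001131330111030) (Net.cons (nat_lit 4) (nat_lit 0x3020100020d0a0f09090c000e0302060c0d06010b00010000010d0f00080d050001030501010a0c0c010200) (Net.cons (nat_lit 8) (nat_lit 0x240054008d00dd009600770063005f00a4004e009b00c0009300a800be00f5009600f50014007000000000) (Net.cons (nat_lit 16) (nat_lit 0x2e1f000027ce000091d300001238000092b3000059d600003bc00000a974000044ba0000040c00000000) (Net.cons (nat_lit 32) (nat_lit 0x95a8c219000000001f8547480000000040900a55000000004ce822840000000012731011) (Net.cons (nat_lit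 64) (nat_lit 0x4017f73100000000000000008451accda88a40a400000000000000001292b42880000000) (Net.cons (nat_lit 128) (nat_lit 0x4a7c20a607040401048080d92a0840a0) (Net.cons (nat_lit 256) (nat_lit 0x67ecf7bd1fd2bcfdaa3b50b1) (Net.cons (nat_lit 128) (nat_lit 0x164cd7fbc0054cc2a39f2f4c) (Net.cons (nat_lit 64) (nat_lit 0x380558cd00000000000000008641ecd8bb9b00060000000000000000b9d234357cb040b5) (Net.cons (nat_lit 32) (nat_lit 0xdce224f50000000057ea77690000000049c8787c000000001fc2e69300000000d6563145) (Net.cons (nat_lit 16) (nat_lit 0x5bd00000c2cc0000ffd000005abe0000b5800000515700003ae800002bf7000025a2000014ed00004145) (Net.cons (nat_lit 8) (nat_lit 0x37002a00a50036002000560077005100c60048009800c0006300a500b700e000fc002200e7006100450044) (Net.cons (nat_lit 4) (nat_lit 0x4010e050008030a0f0c0f07070b000e0801040b0003000004090b060b0f0f010f090a0b0a0d0c02050401) (Net.cons (nat_lit 2) (nat_lit 0x1103322021102322101301001131201110332330221330231012100032022010312133323332131211001210)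 (Net.cons (nat_lit 1) (nat_lit 0x1555054105155554440414515441440545150010411105101015550450110114115414050155001104411001) Net.nil)))))))))))))))))

theorem o_g232_ok : Net.ok 351 o_g232 = true := by decide +kernel

noncomputable def o_g233 : Net := (Net.cons (nat_lit 1) (nat_lit 0x1041004500150000511040401440404040504051405150111450551114501044404410545001415114150040) (Net.cons (nat_lit 2) (nat_lit 0x1103100302111122200311100321213011102030000312300230000202333030131003030010001232020000) (Net.cons (nat_lit 4) (nat_lit 0x10b080b0c03040e040702040a0303080a0c0c01040a0d070005020a08020a0f0c00060f0509070a070a0200) (Net.cons (nat_lit 8) (nat_lit 0x3b001e00650066006100e100f000a7000e0083004000c2004f0010006f000e00490012005000f600300000) (Net.cons (nat_lit 16) (nat_lit 0x2edc0000e4680000c671000006420000a2a90000610300001021000032640000e0490000842800000000) (Net.cons (nat_lit 32) (nat_lit 0xb920e1280000000060a85b490000000083a9c204000000009b32926d0000000010c4a311) (Net.cons (nat_lit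 64) (nat_lit 0x4055b4480000000000000000f43386e1108ca01c00000000000000003400c21500000000) (Net.cons (nat_lit 128) (nat_lit 0x2d0599c043017b06402820100200008) (Net.cons (nat_lit 256) (nat_lit 0x4f313ffb7e12ceffa0e68118) (Net.cons (nat_lit 128) (nat_lit 0x2113138e93a9556014bda2e1) (Net.cons (nat_lit 64) (nat_lit 0x53b48cc800000000000000007733467014ec800000000000000000003c18dea39402231c) (Net.cons (nat_lit 32) (nat_lit 0xdb3ec12000000000609a5cb100000000e613d01400000000e27af9640000000092cea319) (Net.cons (nat_lit 16) (nat_lit 0x7474000094640000be68000010020000cbea00002022000092f30000da840000fb450000ff3100000298) (Net.cons (nat_lit 8) (nat_lit 0x1001f003d00c2000900e10040000100560082004100c7000c00f2000d007e0009002600f7002700920034) (Net.cons (nat_lit 4) (nat_lit 0x208020802040405090a00090a030208080e0504030c01090e02080e02030c050105020f0f0c0101000104) (Net.cons (nat_lit 2) (nat_lit 0x1323111132113322222303101001213033133320201121201131313220133123130003220020220013000202) (Net.cons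 (nat_lit 1) (nat_lit 0x1451100040150050551504540140400055155150501550111111510154400500404405440105411504141544) Net.nil)))))))))))))))))

theorem o_g233_ok : Net.ok 351 o_g233 = true := by decide +kernel

noncomputable def ot_c9_K : List Net := [o_g227, o_g228, o_g229, o_g230, o_g231, o_g232, o_g233]

theorem ot_c9_K_ok : okE 351 ot_c9_K = true := (okE_cons.2 ⟨o_g227_ok, (okE_cons.2 ⟨o_g228_ok, (okE_cons.2 ⟨o_g229_ok, (okE_cons.2 ⟨o_g230_ok, (okE_cons.2 ⟨o_g231_ok, (okE_cons.2 ⟨o_g232_ok, (okE_cons.2 ⟨o_g233_ok, (okE_nil 351)⟩)⟩)⟩)⟩)⟩)⟩)⟩)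

noncomputable def ot_c9_cnt_EG : List Net := [o_g1, o_g, o_g2, o_g3, o_g4, o_g5, o_g8, o_g9, o_g12, o_g13, o_g14, o_g17, o_g18, o_g19, o_g20, o_g23, o_g24, o_g25, o_g26, o_c, o_g27, o_g30, o_g31, o_g32, o_g35, o_b, o_d, o_e, o_f, o_h, o_i, o_g88, o_g89, o_g90, o_g91, o_g92, o_g93, o_g94]

theorem ot_c9_cnt_EG_ok : okE 351 ot_c9_cnt_EG = true := (okE_cons.2 ⟨o_g1_ok, (okE_cons.2 ⟨o_g_ok, (okE_cons.2 ⟨o_g2_ok, (okE_cons.2 ⟨o_g3_ok, (okE_cons.2 ⟨o_g4_ok, (okE_cons.2 ⟨o_g5_ok, (okE_cons.2 ⟨o_g8_ok, (okE_cons.2 ⟨o_g9_ok, (okE_cons.2 ⟨o_g12_ok, (okE_cons.2 ⟨o_g13_ok, (okE_cons.2 ⟨o_g14_ok, (okE_cons.2 ⟨o_g17_ok, (okE_cons.2 ⟨o_g18_ok, (okE_cons.2 ⟨o_g19_ok, (okE_cons.2 ⟨o_g20_ok, (okE_cons.2 ⟨o_g23_ok, (okE_cons.2 ⟨o_g24_ok, (okE_cons.2 ⟨o_g25_ok, (okE_cons.2 ⟨o_g26_ok, (okE_cons.2 ⟨o_c_ok, (okE_cons.2 ⟨o_g27_ok, (okE_cons.2 ⟨o_g30_ok, (okE_cons.2 ⟨o_g31_ok, (okE_cons.2 ⟨o_g32_ok, (okE_cons.2 ⟨o_g35_ok, (okE_cons.2 ⟨o_b_ok, (okE_cons.2 ⟨o_d_ok, (okE_cons.2 ⟨o_e_ok, (okE_cons.2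 ⟨o_f_ok, (okE_cons.2 ⟨o_h_ok, (okE_cons.2 ⟨o_i_ok, (okE_cons.2 ⟨o_g88_ok, (okE_cons.2 ⟨o_g89_ok, (okE_cons.2 ⟨o_g90_ok, (okE_cons.2 ⟨o_g91_ok, (okE_cons.2 ⟨o_g92_ok, (okE_cons.2 ⟨o_g93_ok, (okE_cons.2 ⟨o_g94_ok, (okE_nil 351)⟩)⟩)⟩)⟩)⟩)⟩)⟩)⟩)⟩)⟩)⟩)⟩)⟩)⟩)⟩)⟩)⟩)⟩)⟩)⟩)⟩)⟩)⟩)⟩)⟩)⟩)⟩)⟩)⟩)⟩)⟩)⟩)⟩)⟩)⟩)⟩)⟩)⟩)

noncomputable def o_g235 : Net := (Net.cons (nat_lit 1) (nat_lit 0x501010554001150155100510155151110511445001100400100545055150450440404550404454140140041) (Net.cons (nat_lit 2) (nat_lit 0x1133313013201303101233331300032121130012032101030301221222110323031220210311020101002222) (Net.cons (nat_lit 4) (nat_lit 0x1050909010800090e090b0804050605050101090b0d03090a0000020b04050e06090b0b03010e080d000000) (Net.cons (nat_lit 8) (nat_lit 0x46001800a800e4001c008900830079007a00d1003800060048001f00060049004600f70052004100c20000) (Net.cons (nat_lit 16) (nat_lit 0x71d00000aa72000066980000340d0000a3cd00009ed400005802000020050000845e0000404200000000) (Net.cons (nat_lit 32) (nat_lit 0xecbb31060000000013199d8000000000c34a0bca00000000fdc023400000000018548e76)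 (Net.cons (nat_lit 64) (nat_lit 0x2ab54589000000000000000058d81b640c84d2c000000000000000000a138d1800000000) (Net.cons (nat_lit 128) (nat_lit 0xf704fbeb6123000948d8032c000083c4) (Net.cons (nat_lit 256) (nat_lit 0x776bd7595afbaf3da8948fe6) (Net.cons (nat_lit 128) (nat_lit 0x517f4c9ca180050e3c8993a1) (Net.cons (nat_lit 64) (nat_lit 0x5f3939770000000000000000b09a8d5c1e88836000000000000000005888732865268609) (Net.cons (nat_lit 32) (nat_lit 0x668979fa00000000afeeaab10000000099c7ee180000000041459b7500000000ec9c9ee3) (Net.cons (nat_lit 16) (nat_lit 0x3f940000f6aa00004c7b0000c12200003d440000c9190000a2b90000956a000059dd0000fb0f0000ca05) (Net.cons (nat_lit 8) (nat_lit 0x100c900940084005c002c00e70036005d008d0022008e0093008a0081003400d100b4004f00510078009c) (Net.cons (nat_lit 4) (nat_lit 0x20b060a050309020a02090209010501050b0805060c0d09020a020d0d000702070b050c07090c0904070504) (Net.cons (nat_lit 2) (nat_lit 0x1000222121302123102032033110230021010021301021321232130303313210302210211333033020102113)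 (Net.cons (nat_lit 1) (nat_lit 0x1514050411540405540105011511400140504054540115141451501554411511104415414105114551454015) Net.nil)))))))))))))))))

theorem o_g235_ok : Net.ok 351 o_g235 = true := by decide +kernel

noncomputable def o_g236 : Net := (Net.cons (nat_lit 1) (nat_lit 0x1145001045551145005541140151454405111054155445554515511041405041510141015040554155541014) (Net.cons (nat_lit 2) (nat_lit 0x1322023012321223201112211103330102030302001011302022001101033332333230201121000022321000) (Net.cons (nat_lit 4) (nat_lit 0x406010d0302060008070b080c0d010006080b0a0008070501040805030d050a030c0c0f06060608080c0108) (Net.cons (nat_lit 8) (nat_lit 0x1600e700960051004f00de007f0048003500b9002b004500a70011008400540001001100cc006000540000) (Net.cons (nat_lit 16) (nat_lit 0x4d18000043820000bd970000607f0000b6e20000d81000004c480000f243000044400000b30000000000) (Net.cons (nat_lit 32) (nat_lit 0xcdc955a000000000fcd8dc26000000007394e911000000009347d0ec000000002628502a) (Net.cons (nat_lit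 64) (nat_lit 0x1a840480000000000000000e211aa7b05c6c000000000000000000000b8a3e000000000) (Net.cons (nat_lit 128) (nat_lit 0x1f16e80e839388d5a0e30c311451016d) (Net.cons (nat_lit 256) (nat_lit 0x3ff7c9f5eefbbff7be7b257f) (Net.cons (nat_lit 128) (nat_lit 0x21bf9f77c10d4b407dc8d4bc) (Net.cons (nat_lit 64) (nat_lit 0x7a0fb696000000000000000008fddc6fefac34b1000000000000000075941974454daeae) (Net.cons (nat_lit 32) (nat_lit 0x8da0d60100000000908f182b000000009a57f13a0000000035971e77000000000e5fca74) (Net.cons (nat_lit 16) (nat_lit 0x3d1c00009a6c00005b3a0000f7c500004b5d0000b1f30000c5af0000ca7d00002d79000019e800004c6a) (Net.cons (nat_lit 8) (nat_lit 0x7d0016003e00d400780004004a002c00f0004200a60061002100720008000800f600c50022000100eb00bd) (Net.cons (nat_lit 4) (nat_lit 0x40a010d07010800070d05060c0a0f0209000f070800000a0b0c05000209090e03090a0a020f070805060f03) (Net.cons (nat_lit 2) (nat_lit 0x112022203330233323201022330320122221000232332022333312011220023013131220233231302320122)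 (Net.cons (nat_lit 1) (nat_lit 0x1405411444441104050004554054111054551515105141111555155515541015515155450104504540511514) Net.nil)))))))))))))))))

theorem o_g236_ok : Net.ok 351 o_g236 = true := by decide +kernel

noncomputable def o_g237 : Net := (Net.cons (nat_lit 1) (nat_lit 0x1000101101501510005401411155010100101051505040041501155405555405011105151000015404014000) (Net.cons (nat_lit 2) (nat_lit 0x1100022330112322333311031233211332313320303101233312101013323222103310320131211100000110) (Net.cons (nat_lit 4) (nat_lit 0x30e0e01050806090a0c09090c050505060b0c0605040b0506030b090102050905010201090a0c0e030a0400) (Net.cons (nat_lit 8) (nat_lit 0x700d100c8009d005c00870009009a00f80069005300730009002e0085008700440028004800e500040080) (Net.cons (nat_lit 16) (nat_lit 0x54060000395e0000b4fc0000d7170000c61b000038800000b2640000a8ed000023cc00008e2a00008000) (Net.cons (nat_lit 32) (nat_lit 0x22278ff200000000a5a2d5910000000034a21190000000001700b8e9000000000c24a385) (Net.cons (nat_lit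 64) (nat_lit 0x1bae05f50000000000000000c8dbe94f048020010000000000000000cddc690080000000) (Net.cons (nat_lit 128) (nat_lit 0x150225602000c30610f3204904040001) (Net.cons (nat_lit 256) (nat_lit 0x34cfd7f6dffff94b8f360185) (Net.cons (nat_lit 128) (nat_lit 0xf0b359cf80cead718f55448) (Net.cons (nat_lit 64) (nat_lit 0x3811771f0000000000000000d8d9e94f887001010000000000000000d7a23550a4d80301) (Net.cons (nat_lit 32) (nat_lit 0x6b5e6dfa000000000ef371a6000000006e8644bd00000000a4868279000000002f3633c5) (Net.cons (nat_lit 16) (nat_lit 0x769500005ca80000256a00008bff0000404100003ea10000d2740000ce86000034840000cf8c0000b004) (Net.cons (nat_lit 8) (nat_lit 0x44003b00e000dd009d006a00e100a00014007b00570036007f007a002e001e00d600d800e200be008800c0) (Net.cons (nat_lit 4) (nat_lit 0x2050f040b040e0901030c060808050606010a0405000f0003070e080c06080d0f00050f01030c0a02000204) (Net.cons (nat_lit 2) (nat_lit 0x1333303201213213212230200210212000233330302101332213031303300213313112210111003001001010)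 (Net.cons (nat_lit 1) (nat_lit 0x445445541055514004001541004451145514011105140101110144415111551041151515540014415500000) Net.nil)))))))))))))))))

theorem o_g237_ok : Net.ok 351 o_g237 = true := by decide +kernel

noncomputable def o_g238 : Net := (Net.cons (nat_lit 1) (nat_lit 0x115451444501051545150514044011545144450105154515051404411001414001141454411014101151450) (Net.cons (nat_lit 2) (nat_lit 0x2120030111131203201230002000212003011113120320123000201011003303030030330200023001110) (Net.cons (nat_lit 4) (nat_lit 0x7000d0a070103020f080c0b09050601080b020406070a0d080e0c00020c04000b00050b0004020204010000) (Net.cons (nat_lit 8) (nat_lit 0x3c0080001400050047009100c40029008400450010005200950080002900aa009800a000220020001c0000) (Net.cons (nat_lit 16) (nat_lit 0x621a00009784000006880000bab1000084a20000c23e000000000000331500003ab00000800000000000) (Net.cons (nat_lit 32) (nat_lit 0x48082ba1000000004012114900000000800003a200000000188002300000000000000000) (Net.cons (nat_lit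 64) (nat_lit 0x10010000000000000000840828200000000000000000000000000000000000000000) (Net.cons (nat_lit 128) (nat_lit 0x800000007253116b84082aa00000c080) (Net.cons (nat_lit 256) (nat_lit 0x7253116b84082aa00000c080) (Net.cons (nat_lit 128) (nat_lit 0x7253116b84082aa00000c080) (Net.cons (nat_lit 64) (nat_lit 0x480283a10000000000000000860a29b04400c023000000000000000018ce863020000000) (Net.cons (nat_lit 32) (nat_lit 0x8d0c79c9000000002885d24d000000009440c21c000000003931183a0000000000000000) (Net.cons (nat_lit 16) (nat_lit 0x1e890000d3c600009784000078330000dd24000052700000696c0000335e0000a3990000e60400001408) (Net.cons (nat_lit 8) (nat_lit 0x1200d300850002001100910096000700d700d40006001500d10087003700a50081006300b4000400dc0012) (Net.cons (nat_lit 4) (nat_lit 0x600070a0a000702070d080009080301060b0f05020702080c050c0d030404090f000a0e070c020b0409070c) (Net.cons (nat_lit 2) (nat_lit 0x332123200111133103221012301033212320011113310322101230103311003103031231033212323110010) (Net.cons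 (nat_lit 1) (nat_lit 0x504444401510050005040515441050444440151005000504051544115510110045144044454015001155040) Net.nil)))))))))))))))))

theorem o_g238_ok : Net.ok 351 o_g238 = true := by decide +kernel

noncomputable def ot_c10_K : List Net := [o_g236, o_g237, o_g230, o_g238]

theorem ot_c10_K_ok : okE 351 ot_c10_K = true := (okE_cons.2 ⟨o_g236_ok, (okE_cons.2 ⟨o_g237_ok, (okE_cons.2 ⟨o_g230_ok, (okE_cons.2 ⟨o_g238_ok, (okE_nil 351)⟩)⟩)⟩)⟩)

noncomputable def o_g240 : Net := (Net.cons (nat_lit 1) (nat_lit 0x1415014405144500111100504051100005550415554441114040000440140554414105440150541140010401) (Net.cons (nat_lit 2) (nat_lit 0x1312222022123312030102002112233002032103302210101212023310123200303202303000130020032212) (Net.cons (nat_lit 4) (nat_lit 0x60f040205000403070e0109060e0c00040708050208010606030602070701020a000a05090200000a0c00) (Net.cons (nat_lit 8) (nat_lit 0x57000100d5007400cd006a000900b20070003f0035009000b90097005a00f300d8005500b1005800200000) (Net.cons (nat_lit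 16) (nat_lit 0x13bc0000932b00008dc40000427200006b73000036950000a53100009b09000031920000a71f00008000) (Net.cons (nat_lit 32) (nat_lit 0x57ce8a4c0000000010576ace00000000886407b100000000398103850000000044030110) (Net.cons (nat_lit 64) (nat_lit 0x1a471f1300000000000000008aa813bd08d1100d0000000000000000000d1c6000000000) (Net.cons (nat_lit 128) (nat_lit 0xfeb0fb7700246c8316c6a8a69d20a20a) (Net.cons (nat_lit 256) (nat_lit 0x3666efcb36fffdf6dd29fa7f) (Net.cons (nat_lit 128) (nat_lit 0x722fc401221b2caaa4d69aee) (Net.cons (nat_lit 64) (nat_lit 0x4f40be7b00000000000000009ba9615b0645c8c8000000000000000031b8605ca035b283) (Net.cons (nat_lit 32) (nat_lit 0x45c0ca4b00000000b4c7b3660000000014f03b50000000003dec93ae00000000006b8a57) (Net.cons (nat_lit 16) (nat_lit 0x69ff0000c59e000085a6000062bc00001b76000014510000ab4000000b2800009a7e0000d35a0000d1d4) (Net.cons (nat_lit 8) (nat_lit 0x7f00610081001400cd00ce0069003200b4008f00270030001a00a2005600e3007a00df00520042005800b2) (Net.cons (nat_lit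 4) (nat_lit 0x302060202020404060b0e090100070c040a0e0a07000c0b040708030a030001060c07020001010200020c06) (Net.cons (nat_lit 2) (nat_lit 0x1322232002112213122300102113033220223323120310223031220000022320110221321020031121122322) (Net.cons (nat_lit 1) (nat_lit 0x1045054451100111101100104045115044440515140415100151115404141115445000450014550554400145) Net.nil)))))))))))))))))

theorem o_g240_ok : Net.ok 351 o_g240 = true := by decide +kernel

noncomputable def o_g241 : Net := (Net.cons (nat_lit 1) (nat_lit 0x1405550001010101504100501501040500014510401400000000000004400014010504015050001004040000) (Net.cons (nat_lit 2) (nat_lit 0x1203110312201321003200203301302002222100121000103200000000310302230120001132022200000000) (Net.cons (nat_lit 4) (nat_lit 0x40c0102060f080f02010a0301010a09020304070000010a0200000005060000000b04020f040000000c0000) (Net.cons (nat_lit 8) (nat_lit 0x1f000c0069005200460046000700b7005000190088008000c0000000a6002b000200660063000200800000) (Net.cons (nat_lit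 16) (nat_lit 0x620800000813000013c900001c830000b0a3000010200000000000000700000000a1000001ca00000000) (Net.cons (nat_lit 32) (nat_lit 0x51b2c52500000000a02aa529000000001100002800000000a472040c0000000000000000) (Net.cons (nat_lit 64) (nat_lit 0xa0108010000000000000000202288080000000000000000000000000000000000000000) (Net.cons (nat_lit 128) (nat_lit 0x8000005223216968e3dd59d934a82c) (Net.cons (nat_lit 256) (nat_lit 0x5223216968e3dd59d934a82c) (Net.cons (nat_lit 128) (nat_lit 0x5223216968e3dd59d934a82c) (Net.cons (nat_lit 64) (nat_lit 0x5b413f810000000000000000b43a292a7080e502000000000000000054322287e04c36a8) (Net.cons (nat_lit 32) (nat_lit 0x51b2442700000000a82a342b000000001100812a00000000a673250c000000000d85a84a) (Net.cons (nat_lit 16) (nat_lit 0x632c00000b13000013c900005ca30000b0a3000011200000000000002700000080e1000009ca00002800) (Net.cons (nat_lit 8) (nat_lit 0x1f000c0069005200460046000700b7005000190088008000c0000000a6002b00060066006f001200840008) (Net.cons (nat_lit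 4) (nat_lit 0x40c0102060f080f02010a0301010a09020304070000010a0200000005060000000b04020f040000000c0000) (Net.cons (nat_lit 2) (nat_lit 0x1203110312201321003200203301302002222100121000103200000000310102230120003132022200000002) (Net.cons (nat_lit 1) (nat_lit 0x1405550001010101504100501501040500014510401400000000000004400014010504015050001004040000) Net.nil)))))))))))))))))

theorem o_g241_ok : Net.ok 351 o_g241 = true := by decide +kernel

noncomputable def o_V242 : List Net := [o_g240, o_g241]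

theorem o_V242_ok : okE 351 o_V242 = true := (okE_cons.2 ⟨o_g240_ok, (okE_cons.2 ⟨o_g241_ok, (okE_nil 351)⟩)⟩)

noncomputable def o_V244 : List Net := [o_g241]

theorem o_V244_ok : okE 351 o_V244 = true := (okE_cons.2 ⟨o_g241_ok, (okE_nil 351)⟩)

noncomputable def o_V245 : List Net := []

theorem o_V245_ok : okE 351 o_V245 = true := (okE_nil 351)

noncomputable def ot_c10_cnt_EG : List Net := [o_b, o_c, o_d, o_e, o_f, o_g, o_h, o_i, o_g1, o_g2, o_g3, o_g4, o_g5, o_g8, o_g9, o_g12, o_g13, o_g14, o_g17, o_g18, o_g19, o_g20, o_g23, o_g24, o_g25, o_g26, o_g27, o_g30, o_g31, o_g32, o_g35, o_g88, o_g89, o_g90, o_g91, o_g92, o_g93, o_g94, o_g208, o_g209, o_g210, o_g241, o_g240]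

theorem ot_c10_cnt_EG_ok : okE 351 ot_c10_cnt_EG = true := (okE_cons.2 ⟨o_b_ok, (okE_cons.2 ⟨o_c_ok, (okE_cons.2 ⟨o_d_ok, (okE_cons.2 ⟨o_e_ok, (okE_cons.2 ⟨o_f_ok, (okE_cons.2 ⟨o_g_ok, (okE_cons.2 ⟨o_h_ok, (okE_cons.2 ⟨o_i_ok, (okE_cons.2 ⟨o_g1_ok, (okE_cons.2 ⟨o_g2_ok, (okE_cons.2 ⟨o_g3_ok, (okE_cons.2 ⟨o_g4_ok, (okE_cons.2 ⟨o_g5_ok, (okE_cons.2 ⟨o_g8_ok, (okE_cons.2 ⟨o_g9_ok, (okE_cons.2 ⟨o_g12_ok, (okE_cons.2 ⟨o_g13_ok, (okE_cons.2 ⟨o_g14_ok, (okE_cons.2 ⟨o_g17_ok, (okE_cons.2 ⟨o_g18_ok, (okE_cons.2 ⟨o_g19_ok, (okE_cons.2 ⟨o_g20_ok, (okE_cons.2 ⟨o_g23_ok, (okE_cons.2 ⟨o_g24_ok, (okE_cons.2 ⟨o_g25_ok, (okE_cons.2 ⟨o_g26_ok, (okE_cons.2 ⟨o_g27_ok, (okE_cons.2 ⟨o_g30_ok, (okE_cons.2 ⟨o_g31_ok, (okE_cons.2 ⟨o_g32_ok, (okE_cons.2 ⟨o_g35_ok, (okE_cons.2 ⟨o_g88_ok, (okE_cons.2 ⟨o_g89_ok, (okE_cons.2 ⟨o_g90_ok, (okE_cons.2 ⟨o_g91_ok, (okE_cons.2 ⟨o_g92_ok, (okE_cons.2 ⟨o_g93_ok, (okE_cons.2 ⟨o_g94_ok, (okE_cons.2 ⟨o_g208_ok, (okE_cons.2 ⟨o_g209_ok, (okE_cons.2 ⟨o_g210_ok,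 (okE_cons.2 ⟨o_g241_ok, (okE_cons.2 ⟨o_g240_ok, (okE_nil 351)⟩)⟩)⟩)⟩)⟩)⟩)⟩)⟩)⟩)⟩)⟩)⟩)⟩)⟩)⟩)⟩)⟩)⟩)⟩)⟩)⟩)⟩)⟩)⟩)⟩)⟩)⟩)⟩)⟩)⟩)⟩)⟩)⟩)⟩)⟩)⟩)⟩)⟩)⟩)⟩)⟩)⟩)⟩)

noncomputable def o_g246 : Net := (Net.cons (nat_lit 1) (nat_lit 0x514111101544510544055451004101451040505141401544410504011005054110440414051414014505110) (Net.cons (nat_lit 2) (nat_lit 0x1013002132131130301002121111210001210200111020031230100113310103112202223021133301002000) (Net.cons (nat_lit 4) (nat_lit 0x600080f0200010a0c0108070f0f010e0c0e09020e030b05090b00090a020c060304040c000b03000d0e0008) (Net.cons (nat_lit 8) (nat_lit 0x3d0051006600b300ad001b0053003900150023006a0063004d00fe00120013001200d800ab009800aa0000) (Net.cons (nat_lit 16) (nat_lit 0x1e1a0000d26200000675000093280000ee21000066660000922100001aa000006b240000042300008000) (Net.cons (nat_lit 32) (nat_lit 0xc7b5f2580000000048bd07180000000023aeb439000000005c0358ef0000000007652c40) (Net.cons (nat_lit 64) (nat_lit 0x462229060000000000000000950026609c2163010000000000000000259a303700000000)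 (Net.cons (nat_lit 128) (nat_lit 0xb136927d03c00682a1ab6088c464ddc3) (Net.cons (nat_lit 256) (nat_lit 0x33ed87fbe5bf73bfef66ffff) (Net.cons (nat_lit 128) (nat_lit 0x528463c667461d906931cebd) (Net.cons (nat_lit 64) (nat_lit 0x13edf2c00000000000000000881d7ec07d463f1a000000000000000062ac9f17dab034ca) (Net.cons (nat_lit 32) (nat_lit 0x1f85a39f000000004c94aab400000000f18dd7e400000000ba7bde4f0000000061bb973c) (Net.cons (nat_lit 16) (nat_lit 0x793e0000405c00005c030000abed0000ead30000781d0000d1990000433900007c7200008a3500009fd0) (Net.cons (nat_lit 8) (nat_lit 0xf00f5006e00d1008200590099001d0093005000a800db0057007a00f700820088007a00aa009f00cf0009) (Net.cons (nat_lit 4) (nat_lit 0x6020407040a050a0008090609080d0f09040d030b030a0a0b00050a0f090503060401090804020208080b09) (Net.cons (nat_lit 2) (nat_lit 0x1221022310330101300303222103310312032011221113022302132202221301233231231132112233232322) (Net.cons (nat_lit 1) (nat_lit 0x440544411015554005415041045105141444014154010514411110110405140010454005001505450044014)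 Net.nil)))))))))))))))))

theorem o_g246_ok : Net.ok 351 o_g246 = true := by decide +kernel

noncomputable def o_g247 : Net := (Net.cons (nat_lit 1) (nat_lit 0x551140540110000514144001014440505051140415441441404111554444040455550055451014440001145) (Net.cons (nat_lit 2) (nat_lit 0x1130333210031333031333201133333001303212132323111310112210210103130022120110002010020120) (Net.cons (nat_lit 4) (nat_lit 0x40a0e0400030403000f0a0b070c0302040c02010d02010c0d030e0c000004040201030404060a0701000200) (Net.cons (nat_lit 8) (nat_lit 0x3a00d400a200b20070000300e500eb002700be00a500e7002a008c00f6005d000900cb001f0086000e0000) (Net.cons (nat_lit 16) (nat_lit 0x41ae000002d8000025490000b2c300005dd0000026fe000064a1000002b4000090800000028500000000) (Net.cons (nat_lit 32) (nat_lit 0x55657df00000000850078f40000000026f148800000000019a0180a000000000d0411d2) (Net.cons (nat_lit 64) (nat_lit 0x6000f215000000000000000027834a6026a45214000000000000000098b2028500000000) (Net.cons (nat_lit 128) (nat_lit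 0x2f4f3726a99f0686121122d4106a4d03) (Net.cons (nat_lit 256) (nat_lit 0x79ffe6c6bebbe3d5926f5fff) (Net.cons (nat_lit 128) (nat_lit 0xcdfc32e408d6e0edb8a90fb) (Net.cons (nat_lit 64) (nat_lit 0x6d0303700000000000000000a66f2a5f012082c7000000000000000040bf0cc05ee821bb) (Net.cons (nat_lit 32) (nat_lit 0xe1896ed2000000009f57c581000000002c74596f00000000f1d015cd00000000111f9d0d) (Net.cons (nat_lit 16) (nat_lit 0x298900009298000086dd0000ae8500000124000039e400005f4e000009df000085660000a2ba00008068) (Net.cons (nat_lit 8) (nat_lit 0x5c00c3006a00300078002e002900cf00c800a30041007600a400a500a200e1006d00a1009b00a200100025) (Net.cons (nat_lit 4) (nat_lit 0x5070d070a0e0e060509060c0d050005060906040f0b0d0f030506030b0e060c02040607040508020a08000a) (Net.cons (nat_lit 2) (nat_lit 0x30333313213203103221020102311112000223133023120321233201130101233321000132301312300203) (Net.cons (nat_lit 1) (nat_lit 0x1510110541011145045450144545151440510501004554105515155540110054111500415000105400101110)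 Net.nil)))))))))))))))))

theorem o_g247_ok : Net.ok 351 o_g247 = true := by decide +kernel

noncomputable def o_g248 : Net := (Net.cons (nat_lit 1) (nat_lit 0x1454510000151450405100450445411445541001404155140045555140005014544401140545455504114140) (Net.cons (nat_lit 2) (nat_lit 0x1110323002323022110113321030210131113212102032112203322010111222322111212333002313131102) (Net.cons (nat_lit 4) (nat_lit 0x2080e0f09040d0404060c0901060f010404070b080104090204020305080e00000a02080f0b080c00050400) (Net.cons (nat_lit 8) (nat_lit 0x5d00b0003c004e00de0021009d004c00c70001002900ef00f6006b00a0001a009900a0004800d800e40000) (Net.cons (nat_lit 16) (nat_lit 0x75b000064480000b8660000dcd60000dea600002869000014e1000044040000d7820000223400000000) (Net.cons (nat_lit 32) (nat_lit 0xf75c0c6000000000135348090000000002dbdd86000000000a2dd2a80000000044381f05) (Net.cons (nat_lit 64) (nat_lit 0xc060e000000000000000004052f02a90442a50000000000000000460854aa80000000) (Net.cons (nat_lit 128) (nat_lit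 0xb4f7255b72ea3d5051043d058b9ba388) (Net.cons (nat_lit 256) (nat_lit 0x7eebff74dfcf7fffafbfbf9b) (Net.cons (nat_lit 128) (nat_lit 0x7aa617d6909a660038f979f1) (Net.cons (nat_lit 64) (nat_lit 0x237264b0000000000000000af9d6216619b13fa00000000000000002d61b01222649b34) (Net.cons (nat_lit 32) (nat_lit 0x26f9f54100000000a0307ef5000000000ebd53500000000064418394000000003178b2ba) (Net.cons (nat_lit 16) (nat_lit 0x66700000302b000006460000f0540000a326000042480000a1730000537f0000805800006a7200002a91) (Net.cons (nat_lit 8) (nat_lit 0x430063002e000300020050008c000f0002004500a5008f008900f200f100de006b005e005d00d900b60027) (Net.cons (nat_lit 4) (nat_lit 0x1080301080f0e0109040b0a0c0200070509060601070d0b0300040e0f0d0c0a04070b0c0805060305080401) (Net.cons (nat_lit 2) (nat_lit 0x20122300003033103002333311030113110013320112313312221130031002020300011132212222013132) (Net.cons (nat_lit 1) (nat_lit 0x54500101144014041555144444505515541140114054414011010541500541501110045501111015155005) Net.nil)))))))))))))))))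

theorem o_g248_ok : Net.ok 351 o_g248 = true := by decide +kernel

noncomputable def o_g249 : Net := (Net.cons (nat_lit 1) (nat_lit 0x550455444005014015545154541415504540044515440000114145505551140115004100051504550055514) (Net.cons (nat_lit 2) (nat_lit 0x122111302010100121323313233110233130221222221132001130111110102023111030202212232032000) (Net.cons (nat_lit 4) (nat_lit 0x305040400090a0b0e0c0d0502090e050b09050d080004010f06050b05040a0a0f0d0e080706010109030d00) (Net.cons (nat_lit 8) (nat_lit 0x4c00f0005400d0003d00ef00db004800380070005d00950015007d004700860001005f002e002d00800000) (Net.cons (nat_lit 16) (nat_lit 0x1051000042fa0000f8f8000074ab0000213900000ccc00002150000096080000c80400009ad800008000) (Net.cons (nat_lit 32) (nat_lit 0x30c1949400000000d224ebb90000000029981611000000007ad10333000000000b88ac08) (Net.cons (nat_lit 64) (nat_lit 0x29413be00000000000000000c001e10da00e41000000000000000000d031861800000000) (Net.cons (nat_lit 128) (nat_lit 0xc3dcd9d4709a144612338465daf11326)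 (Net.cons (nat_lit 256) (nat_lit 0x77df9dcff333de7fdefbf7e7) (Net.cons (nat_lit 128) (nat_lit 0x19b5a8810354b04b12607d47) (Net.cons (nat_lit 64) (nat_lit 0xa58f4900000000000000000e7113b6abcf549d40000000000000000f68d0cb8b1cc521f) (Net.cons (nat_lit 32) (nat_lit 0xc39ee21500000000f539feea0000000090dc0c300000000066759362000000001898c634) (Net.cons (nat_lit 16) (nat_lit 0x7a40000064ea00001eb00000a597000029b600008cd700002dd60000d10c0000341900008378000033c3) (Net.cons (nat_lit 8) (nat_lit 0x2f006e00550034004500cd00ea00e1001200bf00240019006d005e00aa000b00330030002c001800850021) (Net.cons (nat_lit 4) (nat_lit 0x708020a02040403040b0c0d0f080f0f0001090105050d01020b0702090a0c0a080205080d06000b0106050f) (Net.cons (nat_lit 2) (nat_lit 0x1032223322012303111112313213021312112132323122201301002311330003121013332310213310220301) (Net.cons (nat_lit 1) (nat_lit 0x1440440444040011404041041154010454554405441454550041055011441444544105150111515011455510) Net.nil)))))))))))))))))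

theorem o_g249_ok : Net.ok 351 o_g249 = true := by decide +kernel

noncomputable def o_g250 : Net := (Net.cons (nat_lit 1) (nat_lit 0x100040450450444151014404015141051550544450050000440050140441000040104104010001110450101) (Net.cons (nat_lit 2) (nat_lit 0x10111111112102103232101001333133112311031123331301213121000033001010110011310210100022) (Net.cons (nat_lit 4) (nat_lit 0x40c0f0208040f0a080a000104080c06000e070e02070d000d02010107090b000d0e0c0c05050c0705040200) (Net.cons (nat_lit 8) (nat_lit 0x3500c800e1007800e1001000170046004200c80008001800ee005200490050000c0013000d008300000000) (Net.cons (nat_lit 16) (nat_lit 0x29a90000a9570000808b0000288900001523000085450000ece40000aa02000093c30000108c00008000) (Net.cons (nat_lit 32) (nat_lit 0x89a658000000000c0a6508900000000a014248600000000020ac13400000000201ca100) (Net.cons (nat_lit 64) (nat_lit 0x65044511000000000000000040f3ea01c15b481600000000000000001d2c983000000000) (Net.cons (nat_lit 128) (nat_lit 0x2b84aa73a601ee85208348d094180439)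 (Net.cons (nat_lit 256) (nat_lit 0x6f19eea5fdafddfbbc1dfdbd) (Net.cons (nat_lit 128) (nat_lit 0x5610575deef60918abd681f2) (Net.cons (nat_lit 64) (nat_lit 0x45b5e99400000000000000001db7cc53f56aeddb00000000000000000827d9743089b0d8) (Net.cons (nat_lit 32) (nat_lit 0xd49e3c0800000000c5af69c900000000a38b5fdd000000005fdeb461000000003e34ab51) (Net.cons (nat_lit 16) (nat_lit 0x33eb0000b11200005957000021840000dfaf0000cdf5000035640000f21e00009f5f00005dc80000980c) (Net.cons (nat_lit 8) (nat_lit 0x3000c4008800ef0065009d009600cc00ce0061000c0007007f00d400e600de005a001200d1009e000c002d) (Net.cons (nat_lit 4) (nat_lit 0x40c0f0208010b0e080a0601040c0d07010e060a06030d0c0d020105070d0b040c0a080401010c070a0c0201) (Net.cons (nat_lit 2) (nat_lit 0x10111111102102113332101001333133112211230122331301212031000032001110011011210332100022) (Net.cons (nat_lit 1) (nat_lit 0x100040450450444151014444055141051550544450050000440110140441000040104104050101004450101) Net.nil)))))))))))))))))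

theorem o_g250_ok : Net.ok 351 o_g250 = true := by decide +kernel

noncomputable def o_g251 : Net := (Net.cons (nat_lit 1) (nat_lit 0x554451540004014055554410040140010404011044540054111441051445005544005154114550011000100) (Net.cons (nat_lit 2) (nat_lit 0x1101301303201113200132300113032231230031313011111330113013130231230301310131321100102000) (Net.cons (nat_lit 4) (nat_lit 0x30c010c0509030c070e0f000602060f0b0509000c09030c0b03060308060f09080e06050d0900040c040100) (Net.cons (nat_lit 8) (nat_lit 0x3c00f100f400030029002d0068007a00e6005d00c600a5008000140011002400180016006c004000c20000) (Net.cons (nat_lit 16) (nat_lit 0x4120000ebe8000054f1000025b300006a7800000616000042820000812d00005601000080c600008000) (Net.cons (nat_lit 32) (nat_lit 0x7e11b25000000000aac8242f000000008454f056000000004c404ab4000000004b108110) (Net.cons (nat_lit 64) (nat_lit 0x4e1c1c8000000000000000008de8001006220fcc00000000000000008a80424480000000) (Net.cons (nat_lit 128) (nat_lit 0x5a14c6992e180407ab0121254020014b)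 (Net.cons (nat_lit 256) (nat_lit 0x7f798557aba97375efa69bdb) (Net.cons (nat_lit 128) (nat_lit 0x61063e376feb2b8b2e5d44e5) (Net.cons (nat_lit 64) (nat_lit 0x312871b80000000000000000ad8ad464c8de4fdc0000000000000000ae85f3d25fbe0181) (Net.cons (nat_lit 32) (nat_lit 0x4e1da244000000008a917cbf00000000249430c60000000058405824000000004b5ed144) (Net.cons (nat_lit 16) (nat_lit 0x15020000fbcc0000c6770000356700006f7e000004340000cb4000003dad00004e010000a1f400001086) (Net.cons (nat_lit 8) (nat_lit 0x5800e900e4008300af00a500e800ee0062006d004400250026008000c100a2009a0012006800d000620088) (Net.cons (nat_lit 4) (nat_lit 0x30c090c0509030c070e0f0406020c0f0b0509000c0b030c0b03060308060f09080e06050d0900060c040108) (Net.cons (nat_lit 2) (nat_lit 0x1001301303201113200132300113032231230131313311111330113113130231230301310131321100102000) (Net.cons (nat_lit 1) (nat_lit 0x554451540004014055554410000140111404011044040054111041051445044544005154150551011000100) Net.nil)))))))))))))))))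

theorem o_g251_ok : Net.ok 351 o_g251 = true := by decide +kernel

noncomputable def o_g252 : Net := (Net.cons (nat_lit 1) (nat_lit 0x1100001015055444554000001050410040100451540411100041010410145001401000100104141110450500) (Net.cons (nat_lit 2) (nat_lit 0x331220002020222110323312021220202312310000202020032220011223130131121112331200232011200) (Net.cons (nat_lit 4) (nat_lit 0x2020002090108030403080908010b040205090a09030a01050600000d070c0e030e030c0e0a040000020900) (Net.cons (nat_lit 8) (nat_lit 0x620004007f000d0041003d007a00c900940011001d005400200000007000a1000900880069000400040000) (Net.cons (nat_lit 16) (nat_lit 0x7c1400006e720000b02500004110000093aa000010010000000000000e500000ba0d0000024200000000) (Net.cons (nat_lit 32) (nat_lit 0xb5b740400000000000d25000000000001e140212000000005448780c0000000000000000) (Net.cons (nat_lit 64) (nat_lit 0x10213056000000000000000008900a400000000000000000000000000000000000000000) (Net.cons (nat_lit 128) (nat_lit 0x286183059f944f621840b173)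 (Net.cons (nat_lit 256) (nat_lit 0x286183059f944f621840b173) (Net.cons (nat_lit 128) (nat_lit 0x28618b059f944f621840b173) (Net.cons (nat_lit 64) (nat_lit 0x7e1618a3000000000000000029e0ba912daa62e200000000000000002c300e2ef36c7613) (Net.cons (nat_lit 32) (nat_lit 0x9dbf2408000000004b931081000000001f550286000000007663cd5400000000200c266c) (Net.cons (nat_lit 16) (nat_lit 0x5c5500005e7a0000906b000021dd0000d3fe00003009000020e000005e5c00006c190000074e0000532d) (Net.cons (nat_lit 8) (nat_lit 0x6002700ff002d0060007d006b00d900f70024001c00160000006800c000c10038001000e900a600ed00b1) (Net.cons (nat_lit 4) (nat_lit 0x60f00070905080304030c0d09000b060705090e09030a05050200010f070e06090e0b040c0a04000a0a0900) (Net.cons (nat_lit 2) (nat_lit 0x330221112020223100233313031320213312200001212020022221011223130131121112331201232011200) (Net.cons (nat_lit 1) (nat_lit 0x1100001015055444554000001050410040100451540411100041010410145401401000100104141110450500) Net.nil)))))))))))))))))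

theorem o_g252_ok : Net.ok 351 o_g252 = true := by decide +kernel

noncomputable def ot_c11_K : List Net := [o_g247, o_g248, o_g249, o_g250, o_g251, o_g252, o_h]

theorem ot_c11_K_ok : okE 351 ot_c11_K = true := (okE_cons.2 ⟨o_g247_ok, (okE_cons.2 ⟨o_g248_ok, (okE_cons.2 ⟨o_g249_ok, (okE_cons.2 ⟨o_g250_ok, (okE_cons.2 ⟨o_g251_ok, (okE_cons.2 ⟨o_g252_ok, (okE_cons.2 ⟨o_h_ok, (okE_nil 351)⟩)⟩)⟩)⟩)⟩)⟩)⟩)

noncomputable def ot_c11_cnt_EG : List Net := [o_b, o_c, o_d, o_e, o_f, o_g, o_h, o_i, o_g1, o_g2, o_g3, o_g4, o_g5, o_g8, o_g9, o_g12, o_g13, o_g14, o_g17, o_g18, o_g19, o_g20, o_g23, o_g24, o_g25, o_g26, o_g27, o_g30, o_g31, o_g32, o_g35, o_g117]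

theorem ot_c11_cnt_EG_ok : okE 351 ot_c11_cnt_EG = true := (okE_cons.2 ⟨o_b_ok, (okE_cons.2 ⟨o_c_ok, (okE_cons.2 ⟨o_d_ok, (okE_cons.2 ⟨o_e_ok, (okE_cons.2 ⟨o_f_ok, (okE_cons.2 ⟨o_g_ok, (okE_cons.2 ⟨o_h_ok, (okE_cons.2 ⟨o_i_ok, (okE_cons.2 ⟨o_g1_ok, (okE_cons.2 ⟨o_g2_ok, (okE_cons.2 ⟨o_g3_ok, (okE_cons.2 ⟨o_g4_ok, (okE_cons.2 ⟨o_g5_ok, (okE_cons.2 ⟨o_g8_ok, (okE_cons.2 ⟨o_g9_ok, (okE_cons.2 ⟨o_g12_ok, (okE_cons.2 ⟨o_g13_ok, (okE_cons.2 ⟨o_g14_ok, (okE_cons.2 ⟨o_g17_ok, (okE_cons.2 ⟨o_g18_ok, (okE_cons.2 ⟨o_g19_ok, (okE_cons.2 ⟨o_g20_ok, (okE_cons.2 ⟨o_g23_ok, (okE_cons.2 ⟨o_g24_ok, (okE_cons.2 ⟨o_g25_ok, (okE_cons.2 ⟨o_g26_ok, (okE_cons.2 ⟨o_g27_ok, (okE_cons.2 ⟨o_g30_ok, (okE_cons.2 ⟨o_g31_ok, (okE_cons.2 ⟨o_g32_ok, (okE_cons.2 ⟨o_g35_ok, (okE_cons.2 ⟨o_g117_ok, (okE_nil 351)⟩)⟩)⟩)⟩)⟩)⟩)⟩)⟩)⟩)⟩)⟩)⟩)⟩)⟩)⟩)⟩)⟩)⟩)⟩)⟩)⟩)⟩)⟩)⟩)⟩)⟩)⟩)⟩)⟩)⟩)⟩)⟩)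

noncomputable def o_g254 : Net := (Net.cons (nat_lit 1) (nat_lit 0x1454444415501550015050544545040555051144500450540150055515555001401555055450444515055110) (Net.cons (nat_lit 2) (nat_lit 0x1311222320010031112331131101130320330302000310232300233123233210212231333003311330022000) (Net.cons (nat_lit 4) (nat_lit 0x10b0c0702060d050a0b07010105050a01080d0a020907050d0a080f0f04040c0f010306050105090d040800) (Net.cons (nat_lit 8) (nat_lit 0x50003600ac0056006000d9004700230070004a0056007c001000c5008200a90091002a00c4004800020080) (Net.cons (nat_lit 16) (nat_lit 0x2828000054c900000226000025a30000542b0000041d0000000100007c710000a4120000f44a00000000) (Net.cons (nat_lit 32) (nat_lit 0xbd0d004f00000000de33f81f00000000a550e5b800000000c151060d000000002a100408) (Net.cons (nat_lit 64) (nat_lit 0x25a601ee00000000000000003453280d64bb000600000000000000000a21860b80000000) (Net.cons (nat_lit 128) (nat_lit 0x5acb2d7202631a119ce3856940c026a6) (Net.cons (nat_lit 256) (nat_lit 0x5b777e95ffeb9ffff6caa7ef)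 (Net.cons (nat_lit 128) (nat_lit 0x49f2eff7ee9756343dac774b) (Net.cons (nat_lit 64) (nat_lit 0x67b414fc0000000000000000a1c572a905a498880000000000000000144d3eb86e795bb6) (Net.cons (nat_lit 32) (nat_lit 0x333b0344000000007c33005e000000000d90416c00000000d2f1fc6400000000a6c38ed6) (Net.cons (nat_lit 16) (nat_lit 0x1e2d0000b79d000025600000f3c10000df1b000009d60000581d00000ff20000ab380000d52600009298) (Net.cons (nat_lit 8) (nat_lit 0x4c00d9004b007300a8006f00df0069006100c00055007c007900cc00f000590017000500bb004900390092) (Net.cons (nat_lit 4) (nat_lit 0x309030b08070b0d0b06040a0201060f0a04080509040d0e0600050e06030d0c010907050e05090f08090706) (Net.cons (nat_lit 2) (nat_lit 0x1001022303200212201330033012020110101232210211310202131130112211012332031220000111332011) (Net.cons (nat_lit 1) (nat_lit 0x450111514544454440411445051540141544051450455041005051500450141054555000050454454105005) Net.nil)))))))))))))))))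

theorem o_g254_ok : Net.ok 351 o_g254 = true := by decide +kernel

noncomputable def o_g255 : Net := (Net.cons (nat_lit 1) (nat_lit 0x1440115101140501005501000104555504451040400010515440040055440055410004445410500415115015) (Net.cons (nat_lit 2) (nat_lit 0x220302112022221233323302313031113213030121032103201230102211233012100120211231131002120) (Net.cons (nat_lit 4) (nat_lit 0x50f0e0c0c010b0b0b000b010d00060d0302020907040109050d000903050007080a010c05060b0f08000100) (Net.cons (nat_lit 8) (nat_lit 0x200088003d004a006f005200a600eb00b30002006a00510094006d002700b200ec00d90020001100290080) (Net.cons (nat_lit 16) (nat_lit 0x13c10000c6b40000b977000019ee0000c5ab000024380000b40300000c240000a11000002da900000000) (Net.cons (nat_lit 32) (nat_lit 0x2a33dd2d0000000028df46e400000000803d44a700000000269b89e60000000000040548) (Net.cons (nat_lit 64) (nat_lit 0x520a01ad0000000000000000a8d159c9001b5b14000000000000000082649ef980000000) (Net.cons (nat_lit 128) (nat_lit 0xf21d468664558025d13130892d8c4b52)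 (Net.cons (nat_lit 256) (nat_lit 0x75f7bcafd377bffbaf9d6f7e) (Net.cons (nat_lit 128) (nat_lit 0x329dd0b79ecaafd617bbc819) (Net.cons (nat_lit 64) (nat_lit 0x474ce24c00000000000000004a4d7808b7f5f3e100000000000000009d10aff29370e2a0) (Net.cons (nat_lit 32) (nat_lit 0xced1b59900000000dce7fce9000000006b6afc650000000049f1582a00000000d0aa2d13) (Net.cons (nat_lit 16) (nat_lit 0x464c0000234900007fba0000e80e00007ead0000191300002ce90000fa8b00005feb00005dbb00007e65) (Net.cons (nat_lit 8) (nat_lit 0x4300f5006800a8009300e900c5004a00dd00b6000100b8004a0074006c0016008100010047000c007a008f) (Net.cons (nat_lit 4) (nat_lit 0x4070e050e0c0c030b02040901040d0d030d02080e04070102010a0f09050d0d010c0d05070c050c03070f05) (Net.cons (nat_lit 2) (nat_lit 0x1013113120103112302203210033132000033122022323113122130033103211031011201121321123212220) (Net.cons (nat_lit 1) (nat_lit 0x1110014101551514541110055510445400015410451514004544011511511005044504014445411540004554) Net.nil)))))))))))))))))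

theorem o_g255_ok : Net.ok 351 o_g255 = true := by decide +kernel

noncomputable def o_g256 : Net := (Net.cons (nat_lit 1) (nat_lit 0x445440514111001401510011141151415515154554501040404405441100405454015405544015011454045) (Net.cons (nat_lit 2) (nat_lit 0x122323312011230012222231010312202232122033220033202333033120113331031210021332002322102) (Net.cons (nat_lit 4) (nat_lit 0xd0b000d050d080c000b000803040b030302050f0e0207090607080d0f040b0900060a010f0c0e0a060400) (Net.cons (nat_lit 8) (nat_lit 0x3900d6007e004f001b000300c600f5000300f8004a003c00a200cc001100d20010009900890038008c0000) (Net.cons (nat_lit 16) (nat_lit 0x49da0000cb6e0000143500008683000040fe0000a46900008211000004980000d3100000810400008000) (Net.cons (nat_lit 32) (nat_lit 0xe2021cc800000000b5e642830000000045ce3f4400000000ec8a0a13000000000af0e592) (Net.cons (nat_lit 64) (nat_lit 0x661961d00000000000000001b444f813c743c2000000000000000009486545a00000000) (Net.cons (nat_lit 128) (nat_lit 0xc8bd0e554974a08923044e92178196cd)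 (Net.cons (nat_lit 256) (nat_lit 0x59f5ff89ff97fefb1fb7f6fd) (Net.cons (nat_lit 128) (nat_lit 0x542b239172c5971c2d0efdbe) (Net.cons (nat_lit 64) (nat_lit 0x1c3823060000000000000000c0f9ba826b82fd190000000000000000b46505e89b74a216) (Net.cons (nat_lit 32) (nat_lit 0xb207f0e000000000a433eae800000000d0a9a1ae000000008c958f540000000064223327) (Net.cons (nat_lit 16) (nat_lit 0x53050000ffe1000059d7000075910000129000004f74000089110000e6ad0000c00800007dce00006fc3) (Net.cons (nat_lit 8) (nat_lit 0x19001d001d00e600d8005f00a1002a004b00ed0030003d001600fd005200bc008a00e000bd00f10055003f) (Net.cons (nat_lit 4) (nat_lit 0x20809050f0103030c010b0e07010708090f06070d0201020f010e040f09080300000605010d0b0f0e030d0e) (Net.cons (nat_lit 2) (nat_lit 0x332122210213213112131100200333313023332212213033113030321323012301223010001011013021221) (Net.cons (nat_lit 1) (nat_lit 0x450514104454440040110455014405100455401450555011501454551515414055010415111004145405450) Net.nil)))))))))))))))))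

theorem o_g256_ok : Net.ok 351 o_g256 = true := by decide +kernel

noncomputable def o_g257 : Net := (Net.cons (nat_lit 1) (nat_lit 0x1445010404410500450551015100414041144105010040140015540045014554455110140405414544040450) (Net.cons (nat_lit 2) (nat_lit 0x132021303332033111001221312032300300131332311220023123321100211201120022101312000023010) (Net.cons (nat_lit 4) (nat_lit 0x70e04020e03030e09050507080f02070c08080a0c0a0c05030909030a080b0206020a00040405070b080500) (Net.cons (nat_lit 8) (nat_lit 0x560071005a000a00b600b5009d007e001b006c0023004000a40022000c00e3004b002800eb009a00e00000) (Net.cons (nat_lit 16) (nat_lit 0x742800006e7f0000a851000035cf0000d144000091b000002a4c00002410000046120000823700000000) (Net.cons (nat_lit 32) (nat_lit 0xe85444f3000000006e3232ac000000000405960e000000008ce900070000000030482044) (Net.cons (nat_lit 64) (nat_lit 0x1120909500000000000000006c1083805e296bea0000000000000000cee8e80200000000) (Net.cons (nat_lit 128) (nat_lit 0x4dcd8166008042668a118054068b9c99)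 (Net.cons (nat_lit 256) (nat_lit 0x4ee3d6e7cff9ebd6379f9fff) (Net.cons (nat_lit 128) (nat_lit 0xac89f13381996e5557a28e6) (Net.cons (nat_lit 64) (nat_lit 0x6909a84700000000000000004c7c8203db630144000000000000000093f7bf23c110fa73) (Net.cons (nat_lit 32) (nat_lit 0x44af2bf000000000b9d7844c00000000a4c0e1ee000000004b29d9460000000035a0f5ed) (Net.cons (nat_lit 16) (nat_lit 0x2a90000c6b20000a7af0000544700003b770000bdd4000006cf0000321900004640000077ae00008680) (Net.cons (nat_lit 8) (nat_lit 0x1400830098002c00ad007000bf003d003800be003f00ee0022008d00ca00ac00a0007e0016000c00a10040) (Net.cons (nat_lit 4) (nat_lit 0x50808020f030503050b0b0f04080a030c000e00090602050f050206000b0c0200090f0e03040f0501040d02) (Net.cons (nat_lit 2) (nat_lit 0x121231101330231103310103300030330003331223120320221331221302301203122120022232030323103) (Net.cons (nat_lit 1) (nat_lit 0x501001550104540115101005010005041554100005040140451544404511014000110150410504015141515) Net.nil)))))))))))))))))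

theorem o_g257_ok : Net.ok 351 o_g257 = true := by decide +kernel

noncomputable def o_g258 : Net := (Net.cons (nat_lit 1) (nat_lit 0x100040510540455441054410405445040040510050411010054004001141501041051145000141044004400) (Net.cons (nat_lit 2) (nat_lit 0x1211010110002313300102320102012210322213220303121110200000032102032301111311022323301000) (Net.cons (nat_lit 4) (nat_lit 0x40605040305010b070b01080a0603000e080f0703050a0b0a0000000902020302060b0d0e0d0a0008070000) (Net.cons (nat_lit 8) (nat_lit 0x65002100100008002100ba00af008000130026002400a100540000000100b8007400ba0054000700c20000) (Net.cons (nat_lit 16) (nat_lit 0x659000056440000006800000db50000b98400000806000000000000171a000040a200007db400000000) (Net.cons (nat_lit 32) (nat_lit 0x9c63f17400000000010407200000000007740100000000008ac701410000000008000000) (Net.cons (nat_lit 64) (nat_lit 0x227842810000000000000000110000628800000000000000000000000000000000000000) (Net.cons (nat_lit 128) (nat_lit 0x19cf38d9ff137e3abe6a154)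 (Net.cons (nat_lit 256) (nat_lit 0x99cf38d9ff137e3abe6a154) (Net.cons (nat_lit 128) (nat_lit 0x19cf38d9ff137e3abe6a154) (Net.cons (nat_lit 64) (nat_lit 0x266d7fa30000000000000000820089f159022eb500000000000000001bd59e29d40a3de6) (Net.cons (nat_lit 32) (nat_lit 0x2d73e2a500000000b1030fb70000000017629b9700000000a8e71f5100000000b9a447b4) (Net.cons (nat_lit 16) (nat_lit 0x675d0000d54e0000116900008ebb0000bcc2000099110000a3160000049b0000bb0f00006e3100009b85) (Net.cons (nat_lit 8) (nat_lit 0x67003100000018003300aa00bf009000030036003400f100440010002100940054009a007c000700c20020) (Net.cons (nat_lit 4) (nat_lit 0x406050c0301010b070f01080a0607040e0a0f0703050a0b0a0000040906020302060b0d040d0a0008070a00) (Net.cons (nat_lit 2) (nat_lit 0x1211010110002313300102320102012210322213220303121110200002032300012301113131022323103200) (Net.cons (nat_lit 1) (nat_lit 0x100040510541455441054410405445040040510150411010054004001141501041111145000141044044400) Net.nil)))))))))))))))))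

theorem o_g258_ok : Net.ok 351 o_g258 = true := by decide +kernel

noncomputable def o_g259 : Net := (Net.cons (nat_lit 1) (nat_lit 0x1004505440540050415550101554401050405005105540545104554151151110001050145110050055000440) (Net.cons (nat_lit 2) (nat_lit 0x1302132222301212023033100110120301102110100321200321210312002333033011100000200010230020) (Net.cons (nat_lit 4) (nat_lit 0x20b03060b07050e07040604090508070e0f090309000a0b090504020f03050e09070a07010f050907030400) (Net.cons (nat_lit 8) (nat_lit 0x78005300900049006e00fc00ce004300d9002500b500b700fd005100e30062002000eb00f5008800440080) (Net.cons (nat_lit 16) (nat_lit 0x1ecb0000034700004a7b00001ec20000657100004e010000f10d00004907000030300000165800000000) (Net.cons (nat_lit 32) (nat_lit 0xa893d00500000000e053559200000000af4c4d5200000000e4108513000000002880cec0) (Net.cons (nat_lit 64) (nat_lit 0x3445104100000000000000001042bc682212a12900000000000000004910f02080000000) (Net.cons (nat_lit 128) (nat_lit 0x9c168e3c8a4a80280c6018a0a02c0a05)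 (Net.cons (nat_lit 256) (nat_lit 0x1ecbd6bc7f72fea1e2aeaaed) (Net.cons (nat_lit 128) (nat_lit 0x3838d05288286bf6f50a696a) (Net.cons (nat_lit 64) (nat_lit 0xc8e7d6c00000000000000001a7084384f698f96000000000000000014f0bfa4c096663b) (Net.cons (nat_lit 32) (nat_lit 0xe6c3ba4300000000a591678600000000fee95a4600000000d00a9236000000006edd94d0) (Net.cons (nat_lit 16) (nat_lit 0x20ca00003e7e0000327b000036ea00005b66000025550000e81c0000e51300002a450000171800002840) (Net.cons (nat_lit 8) (nat_lit 0x5e00070094003900ee009800be000300eb00c200d300e200dc005900b200130042009e00f90080006c00c4) (Net.cons (nat_lit 4) (nat_lit 0x40903060a07040f07020604090009030b080f030d050f0c090001060e03040c0d010e06050b000d02030605) (Net.cons (nat_lit 2) (nat_lit 0x1303123223301212123023001010120311013111100331300221211212013222033001000010200100230020) (Net.cons (nat_lit 1) (nat_lit 0x1004505440540050415550101554401050505004115540545104554151151110001150145110050055040440) Net.nil)))))))))))))))))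

theorem o_g259_ok : Net.ok 351 o_g259 = true := by decide +kernel

noncomputable def o_g260 : Net := (Net.cons (nat_lit 1) (nat_lit 0x1104050115544404544505040044541044400450010000000000000001510511040041005004100100004400) (Net.cons (nat_lit 2) (nat_lit 0x1212010022202002132200030110101200012020320021000202000002020302002120201201000101001000) (Net.cons (nat_lit 4) (nat_lit 0xa0f040800040206080d0c08010402030000000809010000010400090a00090a0c0c030205040400000000) (Net.cons (nat_lit 8) (nat_lit 0x6800460029009800a600b90050000e001900320000002000280080008800b0008d006c00d8004000400000) (Net.cons (nat_lit 16) (nat_lit 0x47b2000012a50000d8a50000202c000080440000000100000000000084c100002bc80000983000000000) (Net.cons (nat_lit 32) (nat_lit 0xd9eb5100000000082882652000000002006804400000000008894200000000000080000) (Net.cons (nat_lit 64) (nat_lit 0x44440dc0000000000000000010a420108000000000000000000000000000000000000000) (Net.cons (nat_lit 128) (nat_lit 0x20a00d00bca6b73cf4ed40f0)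 (Net.cons (nat_lit 256) (nat_lit 0x20a80d00bca6b73cf4ed40f0) (Net.cons (nat_lit 128) (nat_lit 0x20a00d00bca6b73cf4ed40f0) (Net.cons (nat_lit 64) (nat_lit 0x2776cdc4000000000000000050ad2052a220a20400000000000000003a79890125d01fa1) (Net.cons (nat_lit 32) (nat_lit 0xd9eb531000000008388267a00000000200680650000000020581d210000000060f8c971) (Net.cons (nat_lit 16) (nat_lit 0x7b2000012a5000098a500002a2c000092450000000100004a000000046100002b4c0000d818000040a0) (Net.cons (nat_lit 8) (nat_lit 0x6a00460029009800a600b90050004e00190032000000200028008000080036008d00ee0058004000400080) (Net.cons (nat_lit 4) (nat_lit 0xa0f040800040206080d0c0a010502030000000809010000010600090a00090a0c0c030205040400000000) (Net.cons (nat_lit 2) (nat_lit 0x1212010022202002132200030110101200012020320021000202000002020302002120201201000101001000) (Net.cons (nat_lit 1) (nat_lit 0x1104050115544404544505040044541044400450010000000000000001510511040041005004100100004400) Net.nil)))))))))))))))))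

theorem o_g260_ok : Net.ok 351 o_g260 = true := by decide +kernel

noncomputable def o_g261 : Net := (Net.cons (nat_lit 1) (nat_lit 0x1154110010514441450005415105450540011014045441140115545054001050410041001440041100010540) (Net.cons (nat_lit 2) (nat_lit 0x213230132033113123012111231000011223303323033030013010232322022003110132032012001000) (Net.cons (nat_lit 4) (nat_lit 0x40f00020d0e09000906090104060500020e060c0a000303000a00040a020700040309040f0a070a090b0800) (Net.cons (nat_lit 8) (nat_lit 0x69008e0065009900ea00920046000a00c000040010004e003a000800d200f2004300da0002008400540080) (Net.cons (nat_lit 16) (nat_lit 0x2c5f0000534200006173000091a1000026880000220d000043090000840000004c90000004c400008000) (Net.cons (nat_lit 32) (nat_lit 0x63d4011d000000008523c8c900000000124000610000000065124608000000000f261994) (Net.cons (nat_lit 64) (nat_lit 0xe1479040000000000000000449f001a0285818100000000000000001194c11b80000000) (Net.cons (nat_lit 128) (nat_lit 0x80230c0e04016000009c000a00120101)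 (Net.cons (nat_lit 256) (nat_lit 0x65296267159fc33b8b7f1981) (Net.cons (nat_lit 128) (nat_lit 0xf42164944601c1a1cc4e4fb) (Net.cons (nat_lit 64) (nat_lit 0x68f398bb00000000000000004e9e053b83cd898000000000000000009fd1c1cba0388484) (Net.cons (nat_lit 32) (nat_lit 0x47df615500000000852e15c100000000328507fa0000000001c330ce000000008f6d8d0e) (Net.cons (nat_lit 16) (nat_lit 0x47cb0000ffd7000053cb0000b0390000e6850000728c000042980000e0d000006cb10000acc800001110) (Net.cons (nat_lit 8) (nat_lit 0x2300e100e500d300ee009200420047008000290014005f0032004000d7003c0043008c0098009c00500080) (Net.cons (nat_lit 4) (nat_lit 0x4060104050f05080106090504060505000a020c0a000302010a00040e02030004030b000f06060a0d0a0800) (Net.cons (nat_lit 2) (nat_lit 0x200012030032123333123012111231100011323303323033230013010332322022200012132032012001000) (Net.cons (nat_lit 1) (nat_lit 0x1154510010504451450005414105450540415014045441140115545054101040410040401450041110010540) Net.nil)))))))))))))))))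

theorem o_g261_ok : Net.ok 351 o_g261 = true := by decide +kernel

noncomputable def ot_c12_K : List Net := [o_g255, o_g256, o_g257, o_g258, o_g259, o_g260, o_g261]

theorem ot_c12_K_ok : okE 351 ot_c12_K = true := (okE_cons.2 ⟨o_g255_ok, (okE_cons.2 ⟨o_g256_ok, (okE_cons.2 ⟨o_g257_ok, (okE_cons.2 ⟨o_g258_ok, (okE_cons.2 ⟨o_g259_ok, (okE_cons.2 ⟨o_g260_ok, (okE_cons.2 ⟨o_g261_ok, (okE_nil 351)⟩)⟩)⟩)⟩)⟩)⟩)⟩)

noncomputable def o_V263 : List Net := [o_g, o_g30]

theorem o_V263_ok : okE 351 o_V263 = true := (okE_cons.2 ⟨o_g_ok, (okE_cons.2 ⟨o_g30_ok, (okE_nil 351)⟩)⟩)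

noncomputable def o_V265 : List Net := [o_g30]

theorem o_V265_ok : okE 351 o_V265 = true := (okE_cons.2 ⟨o_g30_ok, (okE_nil 351)⟩)

noncomputable def o_V266 : List Net := []

theorem o_V266_ok : okE 351 o_V266 = true := (okE_nil 351)

noncomputable def ot_c12_cnt_EG : List Net := [o_b, o_c, o_d, o_e, o_f, o_g, o_h, o_i, o_g1, o_g2, o_g3, o_g4, o_g5, o_g8, o_g9, o_g12, o_g13, o_g14, o_g17, o_g18, o_g19, o_g20, o_g23, o_g24, o_g25, o_g26, o_g27, o_g30, o_g31, o_g32, o_g35, o_g117]

theorem ot_c12_cnt_EG_ok : okE 351 ot_c12_cnt_EG = true := (okE_cons.2 ⟨o_b_ok, (okE_cons.2 ⟨o_c_ok, (okE_cons.2 ⟨o_d_ok, (okE_cons.2 ⟨o_e_ok, (okE_cons.2 ⟨o_f_ok, (okE_cons.2 ⟨o_g_ok, (okE_cons.2 ⟨o_h_ok, (okE_cons.2 ⟨o_i_ok, (okE_cons.2 ⟨o_g1_ok, (okE_cons.2 ⟨o_g2_ok, (okE_cons.2 ⟨o_g3_ok, (okE_cons.2 ⟨o_g4_ok, (okE_cons.2 ⟨o_g5_ok, (okE_cons.2 ⟨o_g8_ok, (okE_cons.2 ⟨o_g9_ok, (okE_cons.2 ⟨o_g12_ok, (okE_cons.2 ⟨o_g13_ok, (okE_cons.2 ⟨o_g14_ok, (okE_cons.2 ⟨o_g17_ok, (okE_cons.2 ⟨o_g18_ok,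 (okE_cons.2 ⟨o_g19_ok, (okE_cons.2 ⟨o_g20_ok, (okE_cons.2 ⟨o_g23_ok, (okE_cons.2 ⟨o_g24_ok, (okE_cons.2 ⟨o_g25_ok, (okE_cons.2 ⟨o_g26_ok, (okE_cons.2 ⟨o_g27_ok, (okE_cons.2 ⟨o_g30_ok, (okE_cons.2 ⟨o_g31_ok, (okE_cons.2 ⟨o_g32_ok, (okE_cons.2 ⟨o_g35_ok, (okE_cons.2 ⟨o_g117_ok, (okE_nil 351)⟩)⟩)⟩)⟩)⟩)⟩)⟩)⟩)⟩)⟩)⟩)⟩)⟩)⟩)⟩)⟩)⟩)⟩)⟩)⟩)⟩)⟩)⟩)⟩)⟩)⟩)⟩)⟩)⟩)⟩)⟩)⟩)

noncomputable def o_g267 : Net := (Net.cons (nat_lit 1) (nat_lit 0x154054501500541504141440051144155014101105541450501045101005400554540454500151100544000) (Net.cons (nat_lit 2) (nat_lit 0x1121020313033023033113100303133230130111112203323210103212300033320323313301111021200200) (Net.cons (nat_lit 4) (nat_lit 0x40a080e0b01030b0f0f0b06090a0500010d0804080a070b030e0606050e030b0a090b0f0b06080500030200) (Net.cons (nat_lit 8) (nat_lit 0x4f002c003600b200500073001900a7001e009e002f00dc00a40077004e0068009d00810011005a00010080) (Net.cons (nat_lit 16) (nat_lit 0xb0000bd3a0000a5fa000084e000006a190000392700008e930000b3510000037b0000401b00008000)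 (Net.cons (nat_lit 32) (nat_lit 0x364352870000000094179795000000002d211da600000000220b23220000000010925101) (Net.cons (nat_lit 64) (nat_lit 0x11a488810000000000000000c43c52d680c494210000000000000000a0800d7600000000) (Net.cons (nat_lit 128) (nat_lit 0xd27e8c312a6281a40008dd59b5a54c88) (Net.cons (nat_lit 256) (nat_lit 0x6e6bf3fcbdbcff7ff5ffccbf) (Net.cons (nat_lit 128) (nat_lit 0x661ed14f1cc04e96b92c62e6) (Net.cons (nat_lit 64) (nat_lit 0x675c8bd90000000000000000c123ee7614e43c580000000000000000b52fbcd00ee9d6be) (Net.cons (nat_lit 32) (nat_lit 0xc268dcba00000000b3462a14000000008a89480500000000f2f452fe00000000ca56503f) (Net.cons (nat_lit 16) (nat_lit 0x4619000040d800005df100008e5c0000c60000003bbd000036d70000353f0000e5c70000613b0000c58b) (Net.cons (nat_lit 8) (nat_lit 0xd00300015001f00a700ab007d00cc006e002a00b2007f00110034000d00bd009300c40089001800670096) (Net.cons (nat_lit 4) (nat_lit 0x6090b05010e0201060709050c00060e0305010b0a00040a040b0207010d020601080d0607060f06050f020e)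 (Net.cons (nat_lit 2) (nat_lit 0x1033131132323311222322001011130112112312203323330310101201233302011221200330232210000033) (Net.cons (nat_lit 1) (nat_lit 0x141511444411101040515400040140150404144105110051014404554050410015441041454110101040440) Net.nil)))))))))))))))))

theorem o_g267_ok : Net.ok 351 o_g267 = true := by decide +kernel

noncomputable def o_g268 : Net := (Net.cons (nat_lit 1) (nat_lit 0x41105004154454515001451405110144105411414000405544151010414400440541115141150004450411) (Net.cons (nat_lit 2) (nat_lit 0x1300110201200302322300032230111231123121113131133321111031032110233230333022021122030300) (Net.cons (nat_lit 4) (nat_lit 0xc0f0c0601010304050a0d06060e090303020607070f0d0c06030600070f0b0000040d0c040b0905090c00) (Net.cons (nat_lit 8) (nat_lit 0x76004b0037002a00b40072004d00b500fc003a00df00a0003c00ae0013008200b400ca00090009000c0000) (Net.cons (nat_lit 16) (nat_lit 0x367c00004bc1000038ff00007c0a0000d43f0000f92e0000f31600000c5d0000453b000083b100000000) (Net.cons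 (nat_lit 32) (nat_lit 0x2c6b824400000000cf3230050000000054bc9a63000000005b99b2360000000042340913) (Net.cons (nat_lit 64) (nat_lit 0x14382b10000000000000000136222089524507c00000000000000008454324880000000) (Net.cons (nat_lit 128) (nat_lit 0x9c0fe23b96fca4086a1ec609a98b17d4) (Net.cons (nat_lit 256) (nat_lit 0x5ffcbd6eefdeff6bafbf5fdf) (Net.cons (nat_lit 128) (nat_lit 0x1f57f36b8bef8aa8b4973801) (Net.cons (nat_lit 64) (nat_lit 0x48086daa0000000000000000930cff224813a9390000000000000000a67cf658ad136813) (Net.cons (nat_lit 32) (nat_lit 0xe0c8ecc00000000ddba23f300000000784d5f1c00000000e1ba92df000000008a8ee6b1) (Net.cons (nat_lit 16) (nat_lit 0x7b1a00000fe500002cb70000752d00000f130000a72300004d6e00001b95000046c100003b990000e67f) (Net.cons (nat_lit 8) (nat_lit 0x100f1004e0093002b00dc00740095000f00410012002f00690057000800da003000b00094005600560084) (Net.cons (nat_lit 4) (nat_lit 0x40c050a050601040f070b0d0601000a0c0b0f0c0302060902080c0707060a0f0b07060e00000f0e01010d0d) (Net.cons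 (nat_lit 2) (nat_lit 0x1333311211300121021310010200103230030213202033323000001030322220132310020120101032313310) (Net.cons (nat_lit 1) (nat_lit 0x1055410114544451411015011515015505011445401411141500511105015140555145114510414005411144) Net.nil)))))))))))))))))

theorem o_g268_ok : Net.ok 351 o_g268 = true := by decide +kernel

noncomputable def o_g269 : Net := (Net.cons (nat_lit 1) (nat_lit 0x1414400400405001055540414410414041145541011555110141015101445510151004145055144054500004) (Net.cons (nat_lit 2) (nat_lit 0x221201321320211110230220023032303323013013110221112312032210202021031021032202122032300) (Net.cons (nat_lit 4) (nat_lit 0x7010309000d090a060f070d0f040f00040c0b040f07040f05070e010104070507000b000f0d0b0501000800) (Net.cons (nat_lit 8) (nat_lit 0x2c0028007600c800ee0081003100d300d200bb00fc00a900270021008500c80070008600e1001e008a0000) (Net.cons (nat_lit 16) (nat_lit 0xae70000fdf70000280b0000137300004cf000006655000048c10000503500006a100000c2a100000000) (Net.cons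 (nat_lit 32) (nat_lit 0xb588c7b00000000dcab99a8000000001ac9647300000000431683a40000000025025e05) (Net.cons (nat_lit 64) (nat_lit 0x250490100000000000000000ac86da95343d3f840000000000000000902e841100000000) (Net.cons (nat_lit 128) (nat_lit 0xda57626c405824a5a0309294a1451923) (Net.cons (nat_lit 256) (nat_lit 0x52dc2eefb2bef6f7adefb9f7) (Net.cons (nat_lit 128) (nat_lit 0x521b1862f5d10b29cfbdbad7) (Net.cons (nat_lit 64) (nat_lit 0x407a7d7f00000000000000004aae4fefab44a0b80000000000000000e2aa7f24a716ce10) (Net.cons (nat_lit 32) (nat_lit 0x70528ea60000000073ba294f00000000b3b6dc0a00000000115597a0000000006c09c62b) (Net.cons (nat_lit 16) (nat_lit 0x7e93000095fd0000164e000070270000fa190000cffe0000b5ee000074fc0000dbbc0000f0a20000c3b0) (Net.cons (nat_lit 8) (nat_lit 0x40060005f006a0054005300eb0095000500d200ef00df00a900cb00c900c0007800d20059001900550011) (Net.cons (nat_lit 4) (nat_lit 0xa060e040c0d09070d020902020c0c050301000400010c070f04090007040402070f0a01030c04040e0d04) (Net.cons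 (nat_lit 2) (nat_lit 0x331100231121212220213201002202133231310333001301103023121323222231032210001030301123303) (Net.cons (nat_lit 1) (nat_lit 0x10515500501451544105455001550145141500555411505051010505051501555040015410105105114115) Net.nil)))))))))))))))))

theorem o_g269_ok : Net.ok 351 o_g269 = true := by decide +kernel

noncomputable def o_g270 : Net := (Net.cons (nat_lit 1) (nat_lit 0x1555415500410105555010451445000401555401110151400041010004100454404000415054110110144104) (Net.cons (nat_lit 2) (nat_lit 0x132010232313133203102032301321023003222021001033223120031133112030210002313031130312320) (Net.cons (nat_lit 4) (nat_lit 0x107000a060907030d09020f0007050806060c050a010a0a090402080001060b09060d070d0a0a0d0a020200) (Net.cons (nat_lit 8) (nat_lit 0x7300c200f3000100450069009900540006001d00c3008c0030002000df00b0001e00f70087004500b40000) (Net.cons (nat_lit 16) (nat_lit 0x34a3000091da00000855000053f40000802b000018040000000000004ebc0000a94b00008c0a00000000) (Net.cons (nat_lit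 32) (nat_lit 0x64d30ce200000000050926010000000028a20175000000006128b3480000000000000000) (Net.cons (nat_lit 64) (nat_lit 0x2a8a30250000000000000000d2006898a000000000000000000000000000000000000000) (Net.cons (nat_lit 128) (nat_lit 0x5d549cb1df77f8bdb38ea5ce) (Net.cons (nat_lit 256) (nat_lit 0x7d549cb1df77f8bdb38ea5ce) (Net.cons (nat_lit 128) (nat_lit 0x5d549cb1df77f8bdb38ea5ce) (Net.cons (nat_lit 64) (nat_lit 0x656e61d40000000000000000ae45898aad6e060900000000000000002a6b1527c1d3ae58) (Net.cons (nat_lit 32) (nat_lit 0xb12649ce00000000c948406d0000000061e1172800000000e8d91e4200000000bf557712) (Net.cons (nat_lit 16) (nat_lit 0x7dd7000015ff00007f6d0000cb5e00008d110000493d0000c83e0000d57400008a4f0000bdc0000021f8) (Net.cons (nat_lit 8) (nat_lit 0x36003200e30055004600b9001b0071005a006b009700f30033003200dd001a00f60027007500d7002c0012) (Net.cons (nat_lit 4) (nat_lit 0x408060a0a050d08050f080305090d070c020209000f090306050e0e08090e03010e050b0d070205020a0b08) (Net.cons (nat_lit 2)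 (nat_lit 0x1222013211311301323022201221101221322203230100321023331133112031210002313031130312321) (Net.cons (nat_lit 1) (nat_lit 0x144415500450101541411440541404001555440110101400045015004104454444004455555510150144104) Net.nil)))))))))))))))))

theorem o_g270_ok : Net.ok 351 o_g270 = true := by decide +kernel

noncomputable def o_g271 : Net := (Net.cons (nat_lit 1) (nat_lit 0x1141110111501514455400005040000445404040015150115050000001015411101101505055454000015410) (Net.cons (nat_lit 2) (nat_lit 0x1111312020022220031311113203020222012103311201201200211012121123033111331231020330031200) (Net.cons (nat_lit 4) (nat_lit 0x40d000b0402030f040104050c02000804020a0d0e0a0e0f00040600000b0a0509090b05010c0d0c02080000) (Net.cons (nat_lit 8) (nat_lit 0x18004400f3009a0094001b008b004400e5008100520050006b0000007800c400c0005900d4008000840000) (Net.cons (nat_lit 16) (nat_lit 0x749e000050c10000b4a2000097f20000c1280000ae100000800000002184000010a60000412000000000) (Net.cons (nat_lit 32) (nat_lit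 0xa5530310000000084714b01000000000682c04e00000000410a0d8c0000000000000000) (Net.cons (nat_lit 64) (nat_lit 0xc446700000000000000000022f082680000000000000000000000008000000000000000) (Net.cons (nat_lit 128) (nat_lit 0x4c81adcb37f38f6bb0c6d22f) (Net.cons (nat_lit 256) (nat_lit 0x4c81adcbb7f38f6bb0c6d22f) (Net.cons (nat_lit 128) (nat_lit 0x4c81adcb37f38f6bb0c6d22f) (Net.cons (nat_lit 64) (nat_lit 0x633bb4960000000000000000c91395be6437fb050000000000000000c246b134399cfce9) (Net.cons (nat_lit 32) (nat_lit 0x24c2e59d00000000502e6db60000000040357cf7000000007eeaa94000000000c444b485) (Net.cons (nat_lit 16) (nat_lit 0xaf300003d990000d59f0000af490000ae46000023eb0000560d00003dc80000487b00005869000018d9) (Net.cons (nat_lit 8) (nat_lit 0x6400c400e3003d0034000b00e20038006c0086003b003c003b003a007500c000c80055008500860086000e) (Net.cons (nat_lit 4) (nat_lit 0x40200020a050a0e000b000604000c09080f0107070b040904000506000b0a05090c0a01050d0c0c06090401) (Net.cons (nat_lit 2) (nat_lit 0x221221101011112230032220110133331003002122023111113322312121223023101230330030230131200)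 (Net.cons (nat_lit 1) (nat_lit 0x404455040414151501151550110154111111151551445540105515005005111051101505455444011015410) Net.nil)))))))))))))))))

theorem o_g271_ok : Net.ok 351 o_g271 = true := by decide +kernel

noncomputable def o_g272 : Net := (Net.cons (nat_lit 1) (nat_lit 0x414015545400500000501000454140001554440040000000101004005415051004450010041041000101000) (Net.cons (nat_lit 2) (nat_lit 0x1210121223020003101231132132120022001201001300000001000001101211300301000223000320020000) (Net.cons (nat_lit 4) (nat_lit 0x300010600040108010200050001090c0008010208000000000000000109050107080e01060c0000000c0000) (Net.cons (nat_lit 8) (nat_lit 0x100510024008f008500c00028008200000088001000000000000000c3006c00e100a20068000e00000000) (Net.cons (nat_lit 16) (nat_lit 0x30500000a9eb0000b433000099c10000444000000002000000000000024400000183000005b200000000) (Net.cons (nat_lit 32) (nat_lit 0xd50222200000000310041400000000000010a2000000000238410860000000000800000) (Net.cons (nat_lit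 64) (nat_lit 0x1109c2000000000000000000040082400000000000000000000000000000000000000000) (Net.cons (nat_lit 128) (nat_lit 0x302c008a57f8ef0120f12ca) (Net.cons (nat_lit 256) (nat_lit 0x382c008a57f8ef0120f12ca) (Net.cons (nat_lit 128) (nat_lit 0x302c008a57f8ef0120f12ca) (Net.cons (nat_lit 64) (nat_lit 0x3b4bea3d00000000000000001480d304ae1220480000000000000000a2c227878146fb11) (Net.cons (nat_lit 32) (nat_lit 0x4d54236200000000310058030000000000050a60000000003384128f0000000044900229) (Net.cons (nat_lit 16) (nat_lit 0x30580000a9eb0000b43300009985000044c00000000200000108000042440000078300000fb200000000) (Net.cons (nat_lit 8) (nat_lit 0x430051002400af008500c0002800aa00000088003000000002000000c3006c00e100a20068000e00200000) (Net.cons (nat_lit 4) (nat_lit 0x300010600040108010200050105090800080002080001040000000001090501070a0e01060e0000000c0000) (Net.cons (nat_lit 2) (nat_lit 0x1210121223020003101231132132120022001201001300000001000001101211301301000223000320020000) (Net.cons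 (nat_lit 1) (nat_lit 0x414015545400500000501000454140001554440040000000101004005415051004450010041041000101000) Net.nil)))))))))))))))))

theorem o_g272_ok : Net.ok 351 o_g272 = true := by decide +kernel

noncomputable def o_g273 : Net := (Net.cons (nat_lit 1) (nat_lit 0x555451010401404015140404114055040001040040501404000000015444104015004441005550000010040) (Net.cons (nat_lit 2) (nat_lit 0x1223211231012200300103311130102322022101100220000000000012120100123102200301220200001000) (Net.cons (nat_lit 4) (nat_lit 0x50d02010405080f010e080a060206060009000408050e0c0001000004050a09090c0a0a0b0a050000000200) (Net.cons (nat_lit 8) (nat_lit 0x48005f0091006d0062000700d800600090009100150000000000000042001c000e00200088001c000a0000) (Net.cons (nat_lit 16) (nat_lit 0x144800005cd200006198000097a5000083890000261000000000000024d000008215000008a000000000) (Net.cons (nat_lit 32) (nat_lit 0xe92ad30e0000000019a12a10000000006014a59500000000c28044000000000000000000) (Net.cons (nat_lit 64) (nat_lit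 0x11582001000000000000000014463c500000000000000000000000000000000080000000) (Net.cons (nat_lit 128) (nat_lit 0x2ff7dfff7eff7f733caee436) (Net.cons (nat_lit 256) (nat_lit 0x2ff7dfff7eff7f73bcaee436) (Net.cons (nat_lit 128) (nat_lit 0x2ff7dfff7eff7f733caee436) (Net.cons (nat_lit 64) (nat_lit 0x7228d42e00000000000000002e8e1b5c40bc6c8b0000000000000000a0483818f68c6e1b) (Net.cons (nat_lit 32) (nat_lit 0xd34474b600000000ea46181d00000000ce0fbd5600000000ea8b441400000000210000bc) (Net.cons (nat_lit 16) (nat_lit 0x7e4e00005cef0000dde30000cf0e0000b324000085ad00000eeb000064d80000c23d000008a900004008) (Net.cons (nat_lit 8) (nat_lit 0x600090009100150000000000000048005f0091006d0062000700d80042001c000e0020008c009e000a0000) (Net.cons (nat_lit 4) (nat_lit 0x6060009000408040e0d00010100050c03010405080f000e080a060204050a09090c0a0a0b0a050000000200) (Net.cons (nat_lit 2) (nat_lit 0x1023220221011002200000000000122321123101220030010331113012120100123102200301220200001000) (Net.cons (nat_lit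 1) (nat_lit 0x550400010400405014040000000055545101040140401514040411415444144015004441045550000010040) Net.nil)))))))))))))))))

theorem o_g273_ok : Net.ok 351 o_g273 = true := by decide +kernel

noncomputable def ot_c13_K : List Net := [o_g268, o_g269, o_g270, o_g271, o_g272, o_g273]

theorem ot_c13_K_ok : okE 351 ot_c13_K = true := (okE_cons.2 ⟨o_g268_ok, (okE_cons.2 ⟨o_g269_ok, (okE_cons.2 ⟨o_g270_ok, (okE_cons.2 ⟨o_g271_ok, (okE_cons.2 ⟨o_g272_ok, (okE_cons.2 ⟨o_g273_ok, (okE_nil 351)⟩)⟩)⟩)⟩)⟩)⟩)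

noncomputable def ot_c13_cnt_EG : List Net := [o_b, o_c, o_d, o_e, o_f, o_g, o_h, o_i, o_g1, o_g2, o_g3, o_g4, o_g5, o_g8, o_g9, o_g12, o_g13, o_g14, o_g17, o_g18, o_g19, o_g20, o_g23, o_g24, o_g25, o_g26, o_g27, o_g30, o_g31, o_g32, o_g35, o_g117]

theorem ot_c13_cnt_EG_ok : okE 351 ot_c13_cnt_EG = true := (okE_cons.2 ⟨o_b_ok, (okE_cons.2 ⟨o_c_ok, (okE_cons.2 ⟨o_d_ok, (okE_cons.2 ⟨o_e_ok, (okE_cons.2 ⟨o_f_ok, (okE_cons.2 ⟨o_g_ok, (okE_cons.2 ⟨o_h_ok, (okE_cons.2 ⟨o_i_ok, (okE_cons.2 ⟨o_g1_ok, (okE_cons.2 ⟨o_g2_ok, (okE_cons.2 ⟨o_g3_ok, (okE_cons.2 ⟨o_g4_ok, (okE_cons.2 ⟨o_g5_ok, (okE_cons.2 ⟨o_g8_ok, (okE_cons.2 ⟨o_g9_ok, (okE_cons.2 ⟨o_g12_ok, (okE_cons.2 ⟨o_g13_ok, (okE_cons.2 ⟨o_g14_ok, (okE_cons.2 ⟨o_g17_ok, (okE_cons.2 ⟨o_g18_ok, (okE_cons.2 ⟨o_g19_ok, (okE_cons.2 ⟨o_g20_ok, (okE_cons.2 ⟨o_g23_ok, (okE_cons.2 ⟨o_g24_ok, (okE_cons.2 ⟨o_g25_ok, (okE_cons.2 ⟨o_g26_ok, (okE_cons.2 ⟨o_g27_ok, (okE_cons.2 ⟨o_g30_ok, (okE_cons.2 ⟨o_g31_ok, (okE_cons.2 ⟨o_g32_ok, (okE_cons.2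 ⟨o_g35_ok, (okE_cons.2 ⟨o_g117_ok, (okE_nil 351)⟩)⟩)⟩)⟩)⟩)⟩)⟩)⟩)⟩)⟩)⟩)⟩)⟩)⟩)⟩)⟩)⟩)⟩)⟩)⟩)⟩)⟩)⟩)⟩)⟩)⟩)⟩)⟩)⟩)⟩)⟩)⟩)

noncomputable def o_g275 : Net := (Net.cons (nat_lit 1) (nat_lit 0x11450154145401114414115414000001544111115545414545554055014100154440414441005450044150) (Net.cons (nat_lit 2) (nat_lit 0x100132013210232222102313020203003022012200031000002200120231230233011323033331111120000) (Net.cons (nat_lit 4) (nat_lit 0x70c0602010209040b090e0b000506020c0b09070f0c0d0b08020a09050b0301070f08040d090c0f01000408) (Net.cons (nat_lit 8) (nat_lit 0x1700a20086009b002000f90007002800d2005f00fd007a0079002600a500b300620094005e003000960000) (Net.cons (nat_lit 16) (nat_lit 0xa20000841d000025980000ce3c0000a96c00004f900000e855000010330000d8500000110100008000) (Net.cons (nat_lit 32) (nat_lit 0xe0fb684c000000002418b6b400000000d4049af100000000a28c41210000000002369838) (Net.cons (nat_lit 64) (nat_lit 0x5c0212130000000000000000cfe4a149078e3b89000000000000000044123c3200000000) (Net.cons (nat_lit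 128) (nat_lit 0x8d668a5d0d0090638ba7f2b382d64b88) (Net.cons (nat_lit 256) (nat_lit 0x1f3ddbebefbffef7d7f6dbfa) (Net.cons (nat_lit 128) (nat_lit 0x4beaebe6f223071414e61854) (Net.cons (nat_lit 64) (nat_lit 0x5b214e5200000000000000006b50b9b550a26f96000000000000000011b7b825e14b5f0b) (Net.cons (nat_lit 32) (nat_lit 0x7ceed9e5000000003fb16484000000008664ad3500000000a93bb69e00000000aab7e17e) (Net.cons (nat_lit 16) (nat_lit 0x26980000fd5f000081da000042f60000ef2100003331000045ec00002d120000f71200007da400006501) (Net.cons (nat_lit 8) (nat_lit 0x2f009900e5008000dd00200089003700fb00c9005c0007009500040023002700fb007e0094008f005b0070) (Net.cons (nat_lit 4) (nat_lit 0x40500080a07070e0d020a0805090b0a0d060501060f0c050c070609060e0f0c040103070b0f0904090e0e07) (Net.cons (nat_lit 2) (nat_lit 0x1322011021002033212113103203232000003030101121110230302223232012001032132312222123313320) (Net.cons (nat_lit 1) (nat_lit 0x1550504141555545154404554410405454544400040555515141510414014401004155044411114550545500)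 Net.nil)))))))))))))))))

theorem o_g275_ok : Net.ok 351 o_g275 = true := by decide +kernel

noncomputable def o_g276 : Net := (Net.cons (nat_lit 1) (nat_lit 0x1154010015411451504111541445451411504151550544540505045554004405010114105141500400414140) (Net.cons (nat_lit 2) (nat_lit 0x1020323020221133110131033221200331313001330303212120033003222122210010200331233110012202) (Net.cons (nat_lit 4) (nat_lit 0x2040b09080d050607010a000a0b0d04080600050901070b08060509090f020d0f09010c080d0303000c0400) (Net.cons (nat_lit 8) (nat_lit 0x5a00d4004700c000e6005b00620012003c008f003d004e00dd00a800da000b00010081000e005900000000) (Net.cons (nat_lit 16) (nat_lit 0x16f7000003d90000deb10000b318000059c30000a4a90000475500001020000092ae00000c8e00000000) (Net.cons (nat_lit 32) (nat_lit 0xd5a5a61000000000c101a8d00000000c676300300000000152840e6000000007916e4e1) (Net.cons (nat_lit 64) (nat_lit 0x21601ca0000000000000000040c24510e45608510000000000000000990ea10300000000) (Net.cons (nat_lit 128) (nat_lit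 0x6278dbbb764414058ac05ac81192458c) (Net.cons (nat_lit 256) (nat_lit 0x7efedc27bbffffcf159fe5ee) (Net.cons (nat_lit 128) (nat_lit 0x3d5ad454033fecefad452aae) (Net.cons (nat_lit 64) (nat_lit 0x46b5a6c000000000000000003c4cfbd689a136470000000000000000b67a2e91e21a9917) (Net.cons (nat_lit 32) (nat_lit 0x52b98b6e0000000005abe087000000004eb8859c00000000311bd4ea00000000208ecbdb) (Net.cons (nat_lit 16) (nat_lit 0x7ed70000011600003f9f00008dc8000059ce00007ca800000e580000ee510000d1da00002e9600007862) (Net.cons (nat_lit 8) (nat_lit 0x19009e00de002200e400ac0053008d00e7007b004800760067003a002300720080009700e2004b007d009d) (Net.cons (nat_lit 4) (nat_lit 0x3030f0a0407070408030e06000b080005060a0c0b05020604030a04080505050f0f0709070d0505060f0b04) (Net.cons (nat_lit 2) (nat_lit 0x123132021023130223210022310221133002111110021132103200332310021100111002021100021201232) (Net.cons (nat_lit 1) (nat_lit 0x45145045005005541115050054140440511540455555444100050541105455154054540045105104100) Net.nil)))))))))))))))))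

theorem o_g276_ok : Net.ok 351 o_g276 = true := by decide +kernel

noncomputable def o_g277 : Net := (Net.cons (nat_lit 1) (nat_lit 0x1450415414151505015005101545010005005111500510411050441540144151115545111015110004001400) (Net.cons (nat_lit 2) (nat_lit 0x132302201232031233210210331312011310331212013121032322133130002230220210203021110011210) (Net.cons (nat_lit 4) (nat_lit 0x602090a0b08040e0f01040e000f0806010500070f080a0c090b000e000a060904080202050b080a0800) (Net.cons (nat_lit 8) (nat_lit 0x5000cd006e009500de000500f400b00073000200360092004a009d004700d000e0003400aa002c00990000) (Net.cons (nat_lit 16) (nat_lit 0x143b000042d10000ac380000a97a00002d7b00009ad100004b8e0000131e0000a9c70000091000008000) (Net.cons (nat_lit 32) (nat_lit 0xc1e954df00000000e534119b000000000bc0083f00000000d0ac92e50000000006056009) (Net.cons (nat_lit 64) (nat_lit 0x3811968b0000000000000000790ea7f04cb0c85a000000000000000008404dc280000000) (Net.cons (nat_lit 128) (nat_lit 0x1c2e981dbb74a0d6c248a71941415809)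 (Net.cons (nat_lit 256) (nat_lit 0x7f7df7f6ebffffdbd371596f) (Net.cons (nat_lit 128) (nat_lit 0x6ba56f5ae7a940f43c5c18f9) (Net.cons (nat_lit 64) (nat_lit 0x48eb774700000000000000006f4279ad998aabf9000000000000000008434ddcfa58eb67) (Net.cons (nat_lit 32) (nat_lit 0xc6d9f4dd00000000a9eceb1b000000002a8c85d00000000092e140eb0000000023344809) (Net.cons (nat_lit 16) (nat_lit 0x7cfa000028930000cefd00005a320000482a00008b3200004c630000d9d80000c38b0000ab9a00002941) (Net.cons (nat_lit 8) (nat_lit 0x51006c00fe001000df000500fc000900760017009100b400c7003900f200d400da00b0006e00ae00b30083) (Net.cons (nat_lit 4) (nat_lit 0xa0e02010a0b010d020f0b04060c070906090d000d090b000c080b010e00040e0405090303050f08020c02) (Net.cons (nat_lit 2) (nat_lit 0x132322201232033233010230311312033310313210013121212322333130002212220212203021110031230) (Net.cons (nat_lit 1) (nat_lit 0x1450415414151505015005101545010005005111500510411050441540144151115545111015110004001400) Net.nil)))))))))))))))))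

theorem o_g277_ok : Net.ok 351 o_g277 = true := by decide +kernel

noncomputable def o_g278 : Net := (Net.cons (nat_lit 1) (nat_lit 0x1005044101554041115040155555104441500045050400551005510005055415104440404400155051414540) (Net.cons (nat_lit 2) (nat_lit 0x2232332202101103111222221111322023123131001312320312331122312201002330223313111332230) (Net.cons (nat_lit 4) (nat_lit 0x20d030c010f0f0600010105040c0a0a02060b0c06010607000e0d0b08000f050a0401030707070c04030c00) (Net.cons (nat_lit 8) (nat_lit 0x5007000ac008600da001000ad0028004e006c00ee00d800580024007000060030003d0023000000460000) (Net.cons (nat_lit 16) (nat_lit 0x7de000026170000c6100000d6e90000fd270000f96d00002c3300006a2c000092f80000080800000000) (Net.cons (nat_lit 32) (nat_lit 0x77b4e3df00000000a8eba1e30000000048df0d9000000000a9390c8a000000000039008a) (Net.cons (nat_lit 64) (nat_lit 0x342268040000000000000000c8cb2c5b6ba1929000000000000000000390d02a80000000) (Net.cons (nat_lit 128) (nat_lit 0x56e86e7b6418086acc60258d82fb80c5)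 (Net.cons (nat_lit 256) (nat_lit 0x7e3ddbebdff4f7ef92ffe1dd) (Net.cons (nat_lit 128) (nat_lit 0xb9895eb6007c62810a96351) (Net.cons (nat_lit 64) (nat_lit 0x3d86e71d000000000000000062ed9518e47e8ad4000000000000000040dee26b420314ba) (Net.cons (nat_lit 32) (nat_lit 0x5a541400000000006cc6be8700000000bc5b98be0000000047243ded000000009e52f0ab) (Net.cons (nat_lit 16) (nat_lit 0x7c510000cf070000d51000007d350000916b0000e76d00005f51000094cd0000ea9f0000a2800000b073) (Net.cons (nat_lit 8) (nat_lit 0xf005b00c500dd005c009c006300bd00dc00dd004200380042002d0058004900de0074001c0031006800bf) (Net.cons (nat_lit 4) (nat_lit 0x20e010a0e0b060a0e06020c070902010904000f06020205060f080d0e0a0409080e010e080102040c080b0a) (Net.cons (nat_lit 2) (nat_lit 0x100010203200103323112331213303003101011211301331111322300203100213131123003300113303322) (Net.cons (nat_lit 1) (nat_lit 0x155104541515500154044151404514445401141500140010055511115504145040501515115511551151510) Net.nil)))))))))))))))))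

theorem o_g278_ok : Net.ok 351 o_g278 = true := by decide +kernel

noncomputable def o_g279 : Net := (Net.cons (nat_lit 1) (nat_lit 0x1055440010501454105045511444055110100041414501045104040455510551040440415550145544414155) (Net.cons (nat_lit 2) (nat_lit 0x221130222011210313120132310213211210011131233221210231200203233321231012333320222112322) (Net.cons (nat_lit 4) (nat_lit 0xd03030f0206010b08000b0d0c03010409010d0703020f070e0b040704040b040809080604070804070808) (Net.cons (nat_lit 8) (nat_lit 0xe0028003800b90017009c003600a900bf0049001000900081000600b4001100cd00f7000e000100400000) (Net.cons (nat_lit 16) (nat_lit 0x793400003f69000010360000c4c80000022100009c420000eaa60000808f0000449900000b1d00000000) (Net.cons (nat_lit 32) (nat_lit 0xc89ad07c00000000ede5845600000000893411b900000000b18e348300000000030020a4) (Net.cons (nat_lit 64) (nat_lit 0x48050406000000000000000060c43052e301871a00000000000000008a20269080000000) (Net.cons (nat_lit 128) (nat_lit 0x10c28ab5a84404200c829066c0911218)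 (Net.cons (nat_lit 256) (nat_lit 0x3dcf2cb98eaff7f6e4dd7b7e) (Net.cons (nat_lit 128) (nat_lit 0x589ae4aff387af4eff6f15d0) (Net.cons (nat_lit 64) (nat_lit 0x7911652000000000000000086e31adf5b4f2fa800000000000000009e92f2fbe9dda15d) (Net.cons (nat_lit 32) (nat_lit 0x7c0eb6340000000085a5ca5600000000957a832b000000004572c5f5000000007ee8fde4) (Net.cons (nat_lit 16) (nat_lit 0x19bf000082d900006bcc0000038a000026a80000a0e40000cb6a000029cb000094a70000b9f20000d8b4) (Net.cons (nat_lit 8) (nat_lit 0xe00290013007b00a8007600ef00160077003600ee0010003e000600cc00a10042003200320018004d009f) (Net.cons (nat_lit 4) (nat_lit 0x40503010504090f050f0e0f0408050b040909020d0f0a090403030d0a080907020605050603000a05060000) (Net.cons (nat_lit 2) (nat_lit 0x1013031030330213002003102013332313012322101033213011232221100123113011013300113312333323) (Net.cons (nat_lit 1) (nat_lit 0x1010444055050504015441540455444015545144500541445515140514510515545550555515154504405505) Net.nil)))))))))))))))))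

theorem o_g279_ok : Net.ok 351 o_g279 = true := by decide +kernel

noncomputable def ot_c14_K : List Net := [o_g276, o_g275, o_g277, o_g278, o_g279]

theorem ot_c14_K_ok : okE 351 ot_c14_K = true := (okE_cons.2 ⟨o_g276_ok, (okE_cons.2 ⟨o_g275_ok, (okE_cons.2 ⟨o_g277_ok, (okE_cons.2 ⟨o_g278_ok, (okE_cons.2 ⟨o_g279_ok, (okE_nil 351)⟩)⟩)⟩)⟩)⟩)

noncomputable def o_g281 : Net := (Net.cons (nat_lit 1) (nat_lit 0x151554001000544440001540510001540100404011114410450501101405454151040040050004110010040) (Net.cons (nat_lit 2) (nat_lit 0x1212013133112310130113302103002330133100122111201001220013200100321022223011000230000000) (Net.cons (nat_lit 4) (nat_lit 0x20b0f01010a05020a060906070903000a0d0a020601080d0103090e09020b0a020b0d000d02010002000800) (Net.cons (nat_lit 8) (nat_lit 0x3e00ee000700a0006800fe00960085009e007f00ce00a100730060001b008800030014009c000000000000) (Net.cons (nat_lit 16) (nat_lit 0x117000002f2e000083950000311b0000091a00002e830000e24100002829000052860000813900000000)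 (Net.cons (nat_lit 32) (nat_lit 0x88deaf0f000000000119cd7f000000004393750800000000190371000000000000328486) (Net.cons (nat_lit 64) (nat_lit 0x63444a1e0000000000000000f7b4060071144810000000000000000042a49ace80000000) (Net.cons (nat_lit 128) (nat_lit 0xef1ba087929a0466c73845846a867838) (Net.cons (nat_lit 256) (nat_lit 0x57db8f76f7bfffcffeff7cfa) (Net.cons (nat_lit 128) (nat_lit 0x2c7ede165b8467cff707c148) (Net.cons (nat_lit 64) (nat_lit 0x713d49820000000000000000f70c5200fb36733900000000000000006cbf1be712a28920) (Net.cons (nat_lit 32) (nat_lit 0xb0ac61dd000000002c20116f00000000939262a2000000004a26a790000000000a2b8404) (Net.cons (nat_lit 16) (nat_lit 0x2fe100001ec400009cd5000060810000c7f6000082fa0000b0ce0000f1380000baa6000055a4000098c0) (Net.cons (nat_lit 8) (nat_lit 0x15008e007f00df00a100e200e300ac00fe000500ab00fb00ee0006009b0099000300060084009000f40090) (Net.cons (nat_lit 4) (nat_lit 0x3050a0d0e020601080d050b090e020b0b01010b0d020a060106070109020b0a020b0d000502010007040804)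 (Net.cons (nat_lit 2) (nat_lit 0x21321311001221112010012200121201313311231013011330210313200100321022223011000230020000) (Net.cons (nat_lit 1) (nat_lit 0x15401004040111144104505015015155400100044444000154051001405454151040040450404110010040) Net.nil)))))))))))))))))

theorem o_g281_ok : Net.ok 351 o_g281 = true := by decide +kernel

noncomputable def o_g282 : Net := (Net.cons (nat_lit 1) (nat_lit 0x454415515544141554440105150115411014514545540505550151001444505544554540054400000010400) (Net.cons (nat_lit 2) (nat_lit 0x1200001222232012133110333211133231000132233003020210231111231322222130133302000100120210) (Net.cons (nat_lit 4) (nat_lit 0x30e060406000a0b0406070c0f080504010c0f080b030905020b090306080c04020b000d0a0e0f0001050000) (Net.cons (nat_lit 8) (nat_lit 0x3800bb00eb00e6002f00e10084007800060085005d008800880035005f003c002800850080002400550000) (Net.cons (nat_lit 16) (nat_lit 0x5ccb00003c02000024f200003456000065c00000e340000010440000d2c1000052660000861000000000) (Net.cons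 (nat_lit 32) (nat_lit 0xc1f18510000000006d8a4a1d000000005a52034800000000eac7787f000000001c204176) (Net.cons (nat_lit 64) (nat_lit 0x3728c01300000000000000009c60920baa200488000000000000000012a6270000000000) (Net.cons (nat_lit 128) (nat_lit 0xc8e026f10f65a143b8f0466ae5c854c7) (Net.cons (nat_lit 256) (nat_lit 0xf67fdfffffee7fbffe956f7) (Net.cons (nat_lit 128) (nat_lit 0x40df5d2a67edd7529fbe9f15) (Net.cons (nat_lit 64) (nat_lit 0x23b4147f0000000000000000236d8a927beacd5700000000000000008cb682377713b7d0) (Net.cons (nat_lit 32) (nat_lit 0x71105ce6000000004952faab000000003ba3ed9200000000a7d459ab0000000003707616) (Net.cons (nat_lit 16) (nat_lit 0x78cb0000cefe0000dcfc00000fc400007214000070cc00004b3a000070420000d4170000956500003240) (Net.cons (nat_lit 8) (nat_lit 0x7b00850005006f00090009003600b8003d00eb0075002f00e500f4004c003a002d008f000100b400420084) (Net.cons (nat_lit 4) (nat_lit 0x505010c0b080b030905030b0d03030e060406000a0b0406060c0f0d07080805020b000d0a0e0f0001080000) (Net.cons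 (nat_lit 2) (nat_lit 0x1332310001322331000202102311130000122223201213211033320110231322222130133302000100120210) (Net.cons (nat_lit 1) (nat_lit 0x1154110145145454455055501510045441150554414155444010555000444505544514540054400000111400) Net.nil)))))))))))))))))

theorem o_g282_ok : Net.ok 351 o_g282 = true := by decide +kernel

noncomputable def o_g283 : Net := (Net.cons (nat_lit 1) (nat_lit 0x1455004104515001044404044140100050400155110140140441450000400154000014101010000000010110) (Net.cons (nat_lit 2) (nat_lit 0x102030322001010320010230120322220012131003000320033122120022031000010022000200010020000) (Net.cons (nat_lit 4) (nat_lit 0x10c0e0a0803070100000c0b0b08010e0600040107040a0e0407030403000804010a00000c08000000000000) (Net.cons (nat_lit 8) (nat_lit 0x2300a200f200a10008000900260040008e00f8003300ca0085002a00400000008000800049000400000000) (Net.cons (nat_lit 16) (nat_lit 0x289600006199000003800000a99200002282000095a20000012200009000000080100000400c00000000) (Net.cons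 (nat_lit 32) (nat_lit 0x1061438d000000009288198000000000f1e930c300000000400098620000000000b08212) (Net.cons (nat_lit 64) (nat_lit 0x15b00180000000000000000040ca3428a004c80d00000000000000000000201000000000) (Net.cons (nat_lit 128) (nat_lit 0xd04fac7ea00002040000200015204180) (Net.cons (nat_lit 256) (nat_lit 0x7260fbf6040a269817f977b4) (Net.cons (nat_lit 128) (nat_lit 0x2008018d09b579077524ca00) (Net.cons (nat_lit 64) (nat_lit 0x17b002010000000000000000c2cf362e2884dbcf00000000000000000005201602000380) (Net.cons (nat_lit 32) (nat_lit 0x3161c38f00000000128e19800000000071e930cb000000008040986a0000000000b48212) (Net.cons (nat_lit 16) (nat_lit 0x28960000619900000b800000a9920000228300009da20000012a00009208000080100000480c00000000) (Net.cons (nat_lit 8) (nat_lit 0x6300a600f200a10048000900260040008e00f8003300ca00c5002a0000000000c000800049000400000000) (Net.cons (nat_lit 4) (nat_lit 0x10c0e0a0803070100000c0b0b08010e0600040107040a0e0407030403000804010a00000c08000000000000) (Net.cons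 (nat_lit 2) (nat_lit 0x102030322001010330010230120322220012131003000320033122120022031000010022000200010020000) (Net.cons (nat_lit 1) (nat_lit 0x1455004104515001044404044140100050400155110140140441450000400154000014101010000000010110) Net.nil)))))))))))))))))

theorem o_g283_ok : Net.ok 351 o_g283 = true := by decide +kernel

noncomputable def o_g284 : Net := (Net.cons (nat_lit 1) (nat_lit 0x1155114555055455455445401510045441150554414150444014115141444404544454540054400000400000) (Net.cons (nat_lit 2) (nat_lit 0x1320200120322330001313010310120011132223011201301323021001030122222330122202000102120010) (Net.cons (nat_lit 4) (nat_lit 0x60101020e0e0802000607050809080e080d090309080107050c040e050507050102010a070c0c0502060000) (Net.cons (nat_lit 8) (nat_lit 0x2b00d700a100bc004c00c800000081002500f00054003600c4003600ab0003002b00920010002400600000) (Net.cons (nat_lit 16) (nat_lit 0x52900000913f000001dc000018f9000081420000491800004d220000948a00000a6d0000a25000000000) (Net.cons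 (nat_lit 32) (nat_lit 0x5401ed080000000045a29b780000000043802734000000009ceca7360000000013420210) (Net.cons (nat_lit 64) (nat_lit 0x70ba01400000000000000005101cd082382a50800000000000000000b67270b80000000) (Net.cons (nat_lit 128) (nat_lit 0xffc39f1b4901b0230a050b2840090095) (Net.cons (nat_lit 256) (nat_lit 0x5d25b0b35fffafbbdb0f0495) (Net.cons (nat_lit 128) (nat_lit 0x46a2d15baa017ba82d2d8625) (Net.cons (nat_lit 64) (nat_lit 0x5edaeb0c0000000000000000712ad949fa91ad1800000000000000006b6730ab9dc83916) (Net.cons (nat_lit 32) (nat_lit 0x5004c9c80000000067a0bdfc00000000438752b4000000009cfe963400000000734207d0) (Net.cons (nat_lit 16) (nat_lit 0x72b10000913d000009fc00001ad800008a4b00004999000049620000d22800000a6f0000a25500002080) (Net.cons (nat_lit 8) (nat_lit 0x2b009300a100b8004400c800000081003500fa0055003600d0003600ab00030029009f0010002500660002) (Net.cons (nat_lit 4) (nat_lit 0x60105060a0e0802000207050e09080e080d090309080506050c040e010503050102010b030c0c0502010300) (Net.cons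 (nat_lit 2) (nat_lit 0x1320200120322331031313010310130011132223011201201323020000030122222330122202000102120010) (Net.cons (nat_lit 1) (nat_lit 0x1155114555055454405445401510045441551554414150444014155140444404544414540054400000501000) Net.nil)))))))))))))))))

theorem o_g284_ok : Net.ok 351 o_g284 = true := by decide +kernel

noncomputable def o_V285 : List Net := [o_g281, o_g282, o_g283, o_g284]

theorem o_V285_ok : okE 351 o_V285 = true := (okE_cons.2 ⟨o_g281_ok, (okE_cons.2 ⟨o_g282_ok, (okE_cons.2 ⟨o_g283_ok, (okE_cons.2 ⟨o_g284_ok, (okE_nil 351)⟩)⟩)⟩)⟩)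

noncomputable def o_V287 : List Net := [o_g282, o_g283, o_g284]

theorem o_V287_ok : okE 351 o_V287 = true := (okE_cons.2 ⟨o_g282_ok, (okE_cons.2 ⟨o_g283_ok, (okE_cons.2 ⟨o_g284_ok, (okE_nil 351)⟩)⟩)⟩)

noncomputable def o_V288 : List Net := [o_g283, o_g284]

theorem o_V288_ok : okE 351 o_V288 = true := (okE_cons.2 ⟨o_g283_ok, (okE_cons.2 ⟨o_g284_ok, (okE_nil 351)⟩)⟩)

noncomputable def o_V289 : List Net := []

theorem o_V289_ok : okE 351 o_V289 = true := (okE_nil 351)

noncomputable def ot_c14_cnt_EG : List Net := [o_b, o_c, o_d, o_e, o_f, o_g, o_h, o_i, o_g1, o_g2, o_g3, o_g4, o_g5, o_g8, o_g9, o_g12, o_g13, o_g14, o_g17, o_g18, o_g19, o_g20, o_g23, o_g24, o_g25, o_g26, o_g27, o_g30, o_g31, o_g32, o_g35, o_g281, o_g282, o_g283, o_g284]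

theorem ot_c14_cnt_EG_ok : okE 351 ot_c14_cnt_EG = true := (okE_cons.2 ⟨o_b_ok, (okE_cons.2 ⟨o_c_ok, (okE_cons.2 ⟨o_d_ok, (okE_cons.2 ⟨o_e_ok, (okE_cons.2 ⟨o_f_ok, (okE_cons.2 ⟨o_g_ok, (okE_cons.2 ⟨o_h_ok, (okE_cons.2 ⟨o_i_ok, (okE_cons.2 ⟨o_g1_ok, (okE_cons.2 ⟨o_g2_ok, (okE_cons.2 ⟨o_g3_ok, (okE_cons.2 ⟨o_g4_ok, (okE_cons.2 ⟨o_g5_ok, (okE_cons.2 ⟨o_g8_ok, (okE_cons.2 ⟨o_g9_ok, (okE_cons.2 ⟨o_g12_ok, (okE_cons.2 ⟨o_g13_ok, (okE_cons.2 ⟨o_g14_ok, (okE_cons.2 ⟨o_g17_ok, (okE_cons.2 ⟨o_g18_ok, (okE_cons.2 ⟨o_g19_ok, (okE_cons.2 ⟨o_g20_ok, (okE_cons.2 ⟨o_g23_ok, (okE_cons.2 ⟨o_g24_ok, (okE_cons.2 ⟨o_g25_ok, (okE_cons.2 ⟨o_g26_ok, (okE_cons.2 ⟨o_g27_ok, (okE_cons.2 ⟨o_g30_ok, (okE_cons.2 ⟨o_g31_ok, (okE_cons.2 ⟨o_g32_ok, (okE_cons.2 ⟨o_g35_ok, (okE_cons.2 ⟨o_g281_ok, (okE_cons.2 ⟨o_g282_ok, (okE_cons.2 ⟨o_g283_ok, (okE_cons.2 ⟨o_g284_ok, (okE_nil 351)⟩)⟩)⟩)⟩)⟩)⟩)⟩)⟩)⟩)⟩)⟩)⟩)⟩)⟩)⟩)⟩)⟩)⟩)⟩)⟩)⟩)⟩)⟩)⟩)⟩)⟩)⟩)⟩)⟩)⟩)⟩)⟩)⟩)⟩)⟩)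

noncomputable def o_g290 : Net := (Net.cons (nat_lit 1) (nat_lit 0x1144014400150045011005404105040450501114450445001055514554005151044141500141110051504150) (Net.cons (nat_lit 2) (nat_lit 0x311201103010103032032011331223121302123230133332131202202032102013022330100323120221002) (Net.cons (nat_lit 4) (nat_lit 0x7070e010b000d030507060c010905070e0e0b0d0d02060d0e0406000508040d0d0d0c050606040c09000800) (Net.cons (nat_lit 8) (nat_lit 0x300010004a00970069009d006c00a70043007e002c0077000100b200180003007100900077000a000d0080) (Net.cons (nat_lit 16) (nat_lit 0x27c20000386800002ab5000065a50000f95a0000ed5200006ce50000cb480000c02200003a5c00000000) (Net.cons (nat_lit 32) (nat_lit 0xa43959f300000000950f5e42000000000192ca0400000000d0aa031200000000280302c2) (Net.cons (nat_lit 64) (nat_lit 0x71030640000000000000000092860207e8c114200000000000000000d004d64100000000) (Net.cons (nat_lit 128) (nat_lit 0xc74af94181943800309251002c240700) (Net.cons (nat_lit 256) (nat_lit 0x57bcb995f9f7ff6fbeef7fe0)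 (Net.cons (nat_lit 128) (nat_lit 0x3fbe28fb4de6d3666a63cad2) (Net.cons (nat_lit 64) (nat_lit 0x1c076dd60000000000000000af1f09312ae17fc30000000000000000383586e394cd4b92) (Net.cons (nat_lit 32) (nat_lit 0xfc48d11400000000aa469db10000000027c30a1d000000002a95bab0000000006ee8d8ac) (Net.cons (nat_lit 16) (nat_lit 0x3172000043580000713f0000add90000fd12000071e90000f2f600007151000090910000f77f00002a53) (Net.cons (nat_lit 8) (nat_lit 0x7e0023001800a100f8007d00f5002200b5006400b20044004600950060009a00d500e100be00e700480085) (Net.cons (nat_lit 4) (nat_lit 0x7090c0a010d060604010c0c070a06000702090705050c010b0f03090d030e000e0b0b09080f06070b060107) (Net.cons (nat_lit 2) (nat_lit 0x311333022202102023022201212323002021132301110220113130031132023330231312323123201232120) (Net.cons (nat_lit 1) (nat_lit 0x1454400455444411151544010411541501040144141501114501144154451550555541405004105454554000) Net.nil)))))))))))))))))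

theorem o_g290_ok : Net.ok 351 o_g290 = true := by decide +kernel

noncomputable def o_g291 : Net := (Net.cons (nat_lit 1) (nat_lit 0x1010114015515445410004045040454501415554411005104055111000554111500040101451011410444050) (Net.cons (nat_lit 2) (nat_lit 0x1231123313122032010210112301022233002323123212120203233213022320033211331322112322120310) (Net.cons (nat_lit 4) (nat_lit 0x507050f0c05090b010d080e080b09020b040f0d08060e080f00000c08070703070a060d0509040106040208) (Net.cons (nat_lit 8) (nat_lit 0x1a004600f0003600ea00a700da008700e00070000f007800060044002b009100c100f00004000300d20000) (Net.cons (nat_lit 16) (nat_lit 0x1b6e0000109e00002425000034b10000a6520000f2310000150a0000e06500006bbe0000c60a00000000) (Net.cons (nat_lit 32) (nat_lit 0x47f7ef3d000000007a38305a00000000f8d6d3740000000061309f0d00000000052f2884) (Net.cons (nat_lit 64) (nat_lit 0x41c84bf10000000000000000c5a10452f290243200000000000000003940b62a00000000) (Net.cons (nat_lit 128) (nat_lit 0x48ca5a9090d07008832d087cc2000a60)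 (Net.cons (nat_lit 256) (nat_lit 0x55d0731ffbffbf7ecad93ee0) (Net.cons (nat_lit 128) (nat_lit 0x7605f030c22c592e3baf998) (Net.cons (nat_lit 64) (nat_lit 0x342fe5730000000000000000d99888699873b2db0000000000000000b929b08e234243d9) (Net.cons (nat_lit 32) (nat_lit 0x120432ba000000004092364700000000c26f9c570000000070ee86870000000052313d9e) (Net.cons (nat_lit 16) (nat_lit 0x7dcc0000261b000047f10000c5a100002abd00006ad500002cf10000e1430000f2780000c7e800001132) (Net.cons (nat_lit 8) (nat_lit 0x4d0018004700ee007b009900cf008b006900e100c10077001a00c1007a00e1009900b50032008300b100a0) (Net.cons (nat_lit 4) (nat_lit 0x7040107070802060e040a0202010c0b0d03030d0602040e01080a0906020d010d01060d0407000504040b) (Net.cons (nat_lit 2) (nat_lit 0x1311321300332320201131021100121132002010231220300322203121032033002230330331012322103130) (Net.cons (nat_lit 1) (nat_lit 0x1541454015555040001501554510450050411511410105010444144444501000540550541555405405440011) Net.nil)))))))))))))))))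

theorem o_g291_ok : Net.ok 351 o_g291 = true := by decide +kernel

noncomputable def o_g292 : Net := (Net.cons (nat_lit 1) (nat_lit 0x1510544414401454550544550551111010405405555150411441144401511140010145504041415414055400) (Net.cons (nat_lit 2) (nat_lit 0x1232000000002212200120221300330201323123330021332231102110131221012220010112112230213100) (Net.cons (nat_lit 4) (nat_lit 0x3010b0a0d0101030a0f0c0b000204020e0905000102020e07040a030c020905080c0808090a030f0e080700) (Net.cons (nat_lit 8) (nat_lit 0x7500400041004f001c0082002f00470084009000b300a7008d0018008b0034004d004000f4005200c00080) (Net.cons (nat_lit 16) (nat_lit 0x193b0000f1cf00005a130000408d000097380000bcdf00001080000001fc0000b3d00000244c00000000) (Net.cons (nat_lit 32) (nat_lit 0x1eb43260000000012b0e1480000000000baab200000000098433f7300000000100101c8) (Net.cons (nat_lit 64) (nat_lit 0x10352310000000000000000b010bd6204ec8f3100000000000000002ad298b780000000) (Net.cons (nat_lit 128) (nat_lit 0xdd0521491942c589ae19fcf805883a18)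 (Net.cons (nat_lit 256) (nat_lit 0x79e2fffbaedffeff878dbb18) (Net.cons (nat_lit 128) (nat_lit 0x77501164c4102026643faac) (Net.cons (nat_lit 64) (nat_lit 0x4ab1a3100000000000000008f4c4bb0514b428c00000000000000002d5e8b79f8930ef6) (Net.cons (nat_lit 32) (nat_lit 0x5677b0fd00000000e6417fe4000000009d278a7e00000000ac41edc500000000274539e6) (Net.cons (nat_lit 16) (nat_lit 0x7fd700008d9a0000f3400000579e00003de60000cbd500000c6a0000d04d0000c7e800000c370000bfb3) (Net.cons (nat_lit 8) (nat_lit 0x7a00cc0035001b00b1005500da009a006700d400c400a900a2008500e30017009f007a00060039001800ea) (Net.cons (nat_lit 4) (nat_lit 0x30b0e040b0e0e09060007090d0c070f09080d040a07070209060a04070c080107040f070608070a060f020e) (Net.cons (nat_lit 2) (nat_lit 0x32320220031010321331311221300232022321112102001113111322012223222131220331000123002010) (Net.cons (nat_lit 1) (nat_lit 0x501110411144050154505100154014415041040004014054140515054400040544150010400414010554154) Net.nil)))))))))))))))))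

theorem o_g292_ok : Net.ok 351 o_g292 = true := by decide +kernel

noncomputable def o_g293 : Net := (Net.cons (nat_lit 1) (nat_lit 0x1050515444151441454154415000441045515115145514105154510441141001554415155401011000150454) (Net.cons (nat_lit 2) (nat_lit 0x1132131122312311320031312222003112120233321320113203313210103212100203012030202101022320) (Net.cons (nat_lit 4) (nat_lit 0x502040306000a040f09090e06070e060103050b0f0f0b0b0c03020f07010a0d020f0f000403050e09050508) (Net.cons (nat_lit 8) (nat_lit 0x1600ca005f003b00a8004100110007009400ac008300c20091008c009600b40030009b0060002000160000) (Net.cons (nat_lit 16) (nat_lit 0x332b000008150000d27e00008e79000089ca0000a9130000ff9000007c3a0000560800005f1600000000) (Net.cons (nat_lit 32) (nat_lit 0x7ea4550a00000000bc7ba90600000000f5cb0b26000000005c444a2d0000000011059084) (Net.cons (nat_lit 64) (nat_lit 0x521f2a2000000000000000013042730865016ec00000000000000006847cd0e00000000) (Net.cons (nat_lit 128) (nat_lit 0xe108b77560cf0c91990146522e9a6038)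 (Net.cons (nat_lit 256) (nat_lit 0x60ff2e9bfbcfdf7fefdaf97f) (Net.cons (nat_lit 128) (nat_lit 0x61ea7b36237e9c50c1e30069) (Net.cons (nat_lit 64) (nat_lit 0x19dedd0500000000000000008616e922ec06f2df000000000000000089af09cab7942e23) (Net.cons (nat_lit 32) (nat_lit 0x8a36cab500000000eeb96113000000002c234fd8000000000a60670300000000e94832da) (Net.cons (nat_lit 16) (nat_lit 0x26de00006b2500000042000066a20000c97b0000b12200004a07000004ed0000303d0000173b0000439d) (Net.cons (nat_lit 8) (nat_lit 0x62003200ef00e100030092000e0061004f000400ae009d0050005e004200c900290082006c00d200d900ca) (Net.cons (nat_lit 4) (nat_lit 0xa070a05040102080008050704090e0f0a0d040e080a070b0d0a0406070a0a07070e0d07020404020b0509) (Net.cons (nat_lit 2) (nat_lit 0x122031301011022132013311310300321131130212011023130100033110330223323221333222113110002) (Net.cons (nat_lit 1) (nat_lit 0x1140011054140501550150144150001005140450404015545505551100144145041451451115141454511100) Net.nil)))))))))))))))))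

theorem o_g293_ok : Net.ok 351 o_g293 = true := by decide +kernel

noncomputable def ot_c15_K : List Net := [o_g291, o_g292, o_g293, o_g290]

theorem ot_c15_K_ok : okE 351 ot_c15_K = true := (okE_cons.2 ⟨o_g291_ok, (okE_cons.2 ⟨o_g292_ok, (okE_cons.2 ⟨o_g293_ok, (okE_cons.2 ⟨o_g290_ok, (okE_nil 351)⟩)⟩)⟩)⟩)

noncomputable def o_g295 : Net := (Net.cons (nat_lit 1) (nat_lit 0x1110444450414510450141145440115115111411441040001050401040441454540405140411141011150440) (Net.cons (nat_lit 2) (nat_lit 0x1333131310202010333201123032210332000132120011230332313303231010331313130210012131103010) (Net.cons (nat_lit 4) (nat_lit 0x70c0309000a01080a0b01000a0802010b05070901020a0e0b0900010f0d050c0e0e0a0206010f0800060000) (Net.cons (nat_lit 8) (nat_lit 0x5b005a0026006900a5005600e2007400430015008200e5005a00f600f10000004200d70014007c002b0000) (Net.cons (nat_lit 16) (nat_lit 0x610d0000284100005fbf0000107e00005b80000055ab000069dd00001c0b00004c700000025900000000) (Net.cons (nat_lit 32) (nat_lit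 0xb90ee96c000000000850332400000000a40abda10000000025a19a9c0000000010a1b901) (Net.cons (nat_lit 64) (nat_lit 0xa10a53000000000000000008010a66c80022c6900000000000000009409036a00000000) (Net.cons (nat_lit 128) (nat_lit 0xbdd3e99f020011c9886ae526a1958504) (Net.cons (nat_lit 256) (nat_lit 0x3e215dfddffbef7ea1f5a704) (Net.cons (nat_lit 128) (nat_lit 0x10285cf7d980074202ae73c3) (Net.cons (nat_lit 64) (nat_lit 0x338a5da70000000000000000083d41044cf39aa8000000000000000035ccabca20295945) (Net.cons (nat_lit 32) (nat_lit 0x5c4c969e00000000bd4f5190000000006d73a2f800000000a71d88650000000012e8f8c5) (Net.cons (nat_lit 16) (nat_lit 0x6c9f0000a5110000b25c000004d60000ac92000029ff00000eef000012d9000061a00000f25700002876) (Net.cons (nat_lit 8) (nat_lit 0x2f00c900b60095006e005500ca00dc00ff0093000600de001b0004006d003c004c005d00d100b200fa00a2) (Net.cons (nat_lit 4) (nat_lit 0xc0d0901080100080b030e08000f0d0d060e080f06020a070b02070f03070c090c060908040e0c0b0c0c06) (Net.cons (nat_lit 2) (nat_lit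 0x233311320021112011101311032122332003222301001013032110111221233121323112102223303221120) (Net.cons (nat_lit 1) (nat_lit 0x111544441011445410441100501445555040150505050045540504004040510400540544045151004150100) Net.nil)))))))))))))))))

theorem o_g295_ok : Net.ok 351 o_g295 = true := by decide +kernel

noncomputable def o_g296 : Net := (Net.cons (nat_lit 1) (nat_lit 0x1055411045100015011154451540041414415104454041044054145045150544104001404404001451001500) (Net.cons (nat_lit 2) (nat_lit 0x1000321033313310221230333322203332333001021202110331132211200221110323032303121123201200) (Net.cons (nat_lit 4) (nat_lit 0x5020f0b0a06090404000a0d08090f0e0d090c0b05070606040e03090300030e0b070c050f03010a06020900) (Net.cons (nat_lit 8) (nat_lit 0x1e00e00047008400c3000b005500230010003200950036007b003500e80050004b0012006e0009007d0080) (Net.cons (nat_lit 16) (nat_lit 0x331900008fd500007e980000c9a70000560c00000a500000d1e50000d0bd000082760000622000000000) (Net.cons (nat_lit 32) (nat_lit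 0x2e94d085000000008582f40000000000405584a7000000002a17900e0000000044c00b08) (Net.cons (nat_lit 64) (nat_lit 0x44e1582900000000000000005445c6c41618108b00000000000000003100004200000000) (Net.cons (nat_lit 128) (nat_lit 0x8a2a39060c8010a136616040d04a8110) (Net.cons (nat_lit 256) (nat_lit 0x1fafd1f57fe3e057f1de9b78) (Net.cons (nat_lit 128) (nat_lit 0x6a081c5846deff82d9b10762) (Net.cons (nat_lit 64) (nat_lit 0x78e0dbad00000000000000000ee96cda0fd8947f00000000000000008c0e50326370e0ee) (Net.cons (nat_lit 32) (nat_lit 0x941bb4d1000000005f80c40000000000d178131d000000002bd7293f000000000d2f8f6c) (Net.cons (nat_lit 16) (nat_lit 0x3a6300007bbf00000fba000042f700001e760000239b0000497200006c0a00009d5c0000f26a00006804) (Net.cons (nat_lit 8) (nat_lit 0x5a00b800e3003400fb0009004f007c00f600b2006600fd007200b1009a00480010002e00790047006200c4) (Net.cons (nat_lit 4) (nat_lit 0x40d010d0a000906070e060308060b03050c070e04020c020f0000020b0307050a08030d0b050e09030300) (Net.cons (nat_lit 2) (nat_lit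 0x1100333201331222211200231302230111201221003201020311213100020021202302032103330121013010) (Net.cons (nat_lit 1) (nat_lit 0x1405114055001540044144445140401015411100050055101414511011144110154151054055404111101510) Net.nil)))))))))))))))))

theorem o_g296_ok : Net.ok 351 o_g296 = true := by decide +kernel

noncomputable def o_g297 : Net := (Net.cons (nat_lit 1) (nat_lit 0x54141000505044401550411010441555100544445454400044005414115015144140444414050410015015) (Net.cons (nat_lit 2) (nat_lit 0x232102320020330102231003002103321130213302102303300010032001202110101103101101022310330) (Net.cons (nat_lit 4) (nat_lit 0xe040b07030305040e0c090203080904060e080e02090f0d0c03080e0005030b09070d0405040400050a00) (Net.cons (nat_lit 8) (nat_lit 0x67007e0027002f00be008c001100a4001700010000005500d10040000c0024000000100068005e00800000) (Net.cons (nat_lit 16) (nat_lit 0x222b0000846300005f7600002cdf00008e990000f31c000071c500003b2a000020a30000590800000000) (Net.cons (nat_lit 32) (nat_lit 0x890a44a200000000c0d02cc000000000455668fc000000000b82b4b800000000200260d5)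 (Net.cons (nat_lit 64) (nat_lit 0x419228600000000000000000000c3a811002ca950000000000000000f24f100300000000) (Net.cons (nat_lit 128) (nat_lit 0x5f39500bc092c905b10908990a082028) (Net.cons (nat_lit 256) (nat_lit 0x42bef93df7ff5f9b0b4d326c) (Net.cons (nat_lit 128) (nat_lit 0x69027fd2584d6a019ca65c20) (Net.cons (nat_lit 64) (nat_lit 0x2cec6bbc0000000000000000470ceb82de564ece00000000000000003eae532025420299) (Net.cons (nat_lit 32) (nat_lit 0x43c03cb00000000019fec8d100000000ce5306fe000000007cd298d30000000056423044) (Net.cons (nat_lit 16) (nat_lit 0x6d6300003d4300004bfe0000d29f00007fbb0000f8340000b3a8000081bb0000bd6200009b1700008961) (Net.cons (nat_lit 8) (nat_lit 0x4300a9002d00a500e600d2002000f200eb00190069005900d90081008c00c600aa008100df0060002800e9) (Net.cons (nat_lit 4) (nat_lit 0x60c04080200010e0d0c0f02070301020f0a080b0702020c0d0c0b060c0406000a08050e0b000b010c090309) (Net.cons (nat_lit 2) (nat_lit 0x333300021202100121322233300223020312233102333033030023100303333032003300311313201311200)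 (Net.cons (nat_lit 1) (nat_lit 0x4051045400501051440540101114540015141005044555514154455145105001144105114441415055045) Net.nil)))))))))))))))))

theorem o_g297_ok : Net.ok 351 o_g297 = true := by decide +kernel

noncomputable def o_g298 : Net := (Net.cons (nat_lit 1) (nat_lit 0x1554545011515450050055450151510501015100040555505014504514540054501501101004051145100504) (Net.cons (nat_lit 2) (nat_lit 0x222323332323012220011133301122100122323112123033132133102301103200000321000232112012000) (Net.cons (nat_lit 4) (nat_lit 0x40a0f00070409060a0e04010a0b03050d070107070b0303020b05080b0d000d040805060f0c03020b0a0600) (Net.cons (nat_lit 8) (nat_lit 0x54009800f00073002a00ac00b400a100c100930041003a00b90014004e00c50071000600d9006000000000) (Net.cons (nat_lit 16) (nat_lit 0xaad0000c5790000a2f80000b710000032bd0000896700006eb10000181000000a88000066c100000000) (Net.cons (nat_lit 32) (nat_lit 0xcd643ad800000000880800c300000000507e49130000000085430a00000000005007400b) (Net.cons (nat_lit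 64) (nat_lit 0x5840296a00000000000000004450c287a0b00a080000000000000000c900845100000000) (Net.cons (nat_lit 128) (nat_lit 0x3c5b07a41a020056091b039152669008) (Net.cons (nat_lit 256) (nat_lit 0x1b936c56efff8ff57367d72a) (Net.cons (nat_lit 128) (nat_lit 0x720670aa4803cfc2859f9ef9) (Net.cons (nat_lit 64) (nat_lit 0x1cafe13700000000000000006dd70325b61d20940000000000000000e821912daa4faa31) (Net.cons (nat_lit 32) (nat_lit 0x4a641c39000000009fb24ae80000000031ebe13100000000cf5e804c0000000068cf54cb) (Net.cons (nat_lit 16) (nat_lit 0x3e70000c5b80000cafc00005c2b00002814000089b2000065a800001109000076c9000057f90000cba2) (Net.cons (nat_lit 8) (nat_lit 0x1500910073001700eb00c0003a00b8008e00810015003a00d70015001e00d5006400b300d40029009e00f0) (Net.cons (nat_lit 4) (nat_lit 0xd0f06040609040a0904000101060c090700030f0b0307020b0200070e0c0d040f00020b0b0105010c0402) (Net.cons (nat_lit 2) (nat_lit 0x303131132303110230133001301202212332322010023031212333323301313321131011101222013032202) (Net.cons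 (nat_lit 1) (nat_lit 0x1504144110514550444454451451401154505504000041504050411514544044505445555454444501400144) Net.nil)))))))))))))))))

theorem o_g298_ok : Net.ok 351 o_g298 = true := by decide +kernel

noncomputable def o_V299 : List Net := [o_g295, o_g296, o_g297, o_g298]

theorem o_V299_ok : okE 351 o_V299 = true := (okE_cons.2 ⟨o_g295_ok, (okE_cons.2 ⟨o_g296_ok, (okE_cons.2 ⟨o_g297_ok, (okE_cons.2 ⟨o_g298_ok, (okE_nil 351)⟩)⟩)⟩)⟩)

noncomputable def o_V301 : List Net := [o_g296, o_g297, o_g298]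

theorem o_V301_ok : okE 351 o_V301 = true := (okE_cons.2 ⟨o_g296_ok, (okE_cons.2 ⟨o_g297_ok, (okE_cons.2 ⟨o_g298_ok, (okE_nil 351)⟩)⟩)⟩)

noncomputable def o_V302 : List Net := [o_g298]

theorem o_V302_ok : okE 351 o_V302 = true := (okE_cons.2 ⟨o_g298_ok, (okE_nil 351)⟩)

noncomputable def o_V303 : List Net := []

theorem o_V303_ok : okE 351 o_V303 = true := (okE_nil 351)

noncomputable def ot_c15_cnt_EG : List Net := [o_b, o_c, o_d, o_e, o_f, o_g, o_h, o_i, o_g1, o_g2, o_g3, o_g4, o_g5, o_g8, o_g9, o_g12, o_g13, o_g14, o_g17, o_g18, o_g19, o_g20, o_g23, o_g24, o_g25, o_g26, o_g27, o_g30, o_g31, o_g32, o_g35, o_g295, o_g296, o_g297, o_g298]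

theorem ot_c15_cnt_EG_ok : okE 351 ot_c15_cnt_EG = true := (okE_cons.2 ⟨o_b_ok, (okE_cons.2 ⟨o_c_ok, (okE_cons.2 ⟨o_d_ok, (okE_cons.2 ⟨o_e_ok, (okE_cons.2 ⟨o_f_ok, (okE_cons.2 ⟨o_g_ok, (okE_cons.2 ⟨o_h_ok, (okE_cons.2 ⟨o_i_ok, (okE_cons.2 ⟨o_g1_ok, (okE_cons.2 ⟨o_g2_ok, (okE_cons.2 ⟨o_g3_ok, (okE_cons.2 ⟨o_g4_ok, (okE_cons.2 ⟨o_g5_ok, (okE_cons.2 ⟨o_g8_ok, (okE_cons.2 ⟨o_g9_ok, (okE_cons.2 ⟨o_g12_ok, (okE_cons.2 ⟨o_g13_ok, (okE_cons.2 ⟨o_g14_ok, (okE_cons.2 ⟨o_g17_ok, (okE_cons.2 ⟨o_g18_ok, (okE_cons.2 ⟨o_g19_ok, (okE_cons.2 ⟨o_g20_ok, (okE_cons.2 ⟨o_g23_ok, (okE_cons.2 ⟨o_g24_ok, (okE_cons.2 ⟨o_g25_ok, (okE_cons.2 ⟨o_g26_ok, (okE_cons.2 ⟨o_g27_ok, (okE_cons.2 ⟨o_g30_ok, (okE_cons.2 ⟨o_g31_ok, (okE_cons.2 ⟨o_g32_ok, (okE_cons.2 ⟨o_g35_ok, (okE_cons.2 ⟨o_g295_ok, (okE_cons.2 ⟨o_g296_ok, (okE_cons.2 ⟨o_g297_ok, (okE_cons.2 ⟨o_g298_ok, (okE_nil 351)⟩)⟩)⟩)⟩)⟩)⟩)⟩)⟩)⟩)⟩)⟩)⟩)⟩)⟩)⟩)⟩)⟩)⟩)⟩)⟩)⟩)⟩)⟩)⟩)⟩)⟩)⟩)⟩)⟩)⟩)⟩)⟩)⟩)⟩)⟩)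

noncomputable def o_g304 : Net := (Net.cons (nat_lit 1) (nat_lit 0x1001440400104554410440145014511551544154500155445044054545415540015001051500445511541414) (Net.cons (nat_lit 2) (nat_lit 0x221000103022112023320323102211103013201333000123123332231022010120022313021320201220) (Net.cons (nat_lit 4) (nat_lit 0x308040907020309070d0a09030f0a0c07050205050d0601000a05080e05080805060b0002050e0e0e040008) (Net.cons (nat_lit 8) (nat_lit 0x7c00040079007d005c00b100960076001100fe001a00ba005b009d003300fc00c20085000f003500730080) (Net.cons (nat_lit 16) (nat_lit 0x7ebf000064180000872c000012fc00002a450000ca7000008020000034d3000011480000822500000000) (Net.cons (nat_lit 32) (nat_lit 0xb15014ca000000006b1959cd000000000028507c00000000c4fe00d0000000004810a932) (Net.cons (nat_lit 64) (nat_lit 0x175d6980000000000000000000c909f554945d2000000000000000000101c56100000000) (Net.cons (nat_lit 128) (nat_lit 0x2585dff35a8c922222c0209386010e98) (Net.cons (nat_lit 256) (nat_lit 0x7eecfa33a7f1f7f3cf1d0fba)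 (Net.cons (nat_lit 128) (nat_lit 0x2a64f421c1ea20fc5b906c6) (Net.cons (nat_lit 64) (nat_lit 0x7ad3d3e6000000000000000038235e16db9d5f880000000000000000aa78826723c5e779) (Net.cons (nat_lit 32) (nat_lit 0x46d011f1000000007c0a497e00000000b00f023a00000000e8694390000000005a74c566) (Net.cons (nat_lit 16) (nat_lit 0x5ddf0000ef78000051e2000004960000fe940000dc7f00007adb0000b8d300008a850000a62e00007740) (Net.cons (nat_lit 8) (nat_lit 0x720016001c001400ac00aa00f7000000d3000c00280077006a008400f000dd0060006c00b4000700570097) (Net.cons (nat_lit 4) (nat_lit 0x10b070a0f02010d090b0e07080e0808060304040d0a040808060f060a0d090e06070c0001060a070e09010a) (Net.cons (nat_lit 2) (nat_lit 0x223031310103033220102223112020311113031332231001213202013110102012121023120121131330113) (Net.cons (nat_lit 1) (nat_lit 0x45510101554150141415440450511404111514444010451050550015501555001155455001000144000) Net.nil)))))))))))))))))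

theorem o_g304_ok : Net.ok 351 o_g304 = true := by decide +kernel

noncomputable def o_g305 : Net := (Net.cons (nat_lit 1) (nat_lit 0x40415445544140540100415445501051404410050405454414114505440544415440415444455510044450) (Net.cons (nat_lit 2) (nat_lit 0x1123320021000110031210033211032303230111012301212231103103323210223113321203003201010230) (Net.cons (nat_lit 4) (nat_lit 0x4060f0d060009080d0d0009080a0c0b0c080f070b0e050e0f0700070c0a090c0f050a030b08080c06020008) (Net.cons (nat_lit 8) (nat_lit 0x3e005d00a4009d000f007b00200073000b0085007d003000e200160034009a00cf004b00eb006000640080) (Net.cons (nat_lit 16) (nat_lit 0x4db20000802b0000a5440000a5e90000065000003edd00001a11000052d700001bd30000404100000000) (Net.cons (nat_lit 32) (nat_lit 0xc042d760000000001884676f0000000007052ed5000000006e470acf000000000918bc40) (Net.cons (nat_lit 64) (nat_lit 0x21b1c3000000000000000064569c02204cdc9500000000000000002243c45180000000) (Net.cons (nat_lit 128) (nat_lit 0xbc9fdb0541f12644c21f5443243c1ad1)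 (Net.cons (nat_lit 256) (nat_lit 0x65f76ffde35fdcd3fe3d9fd3) (Net.cons (nat_lit 128) (nat_lit 0x76370db887763a3f1c4970a) (Net.cons (nat_lit 64) (nat_lit 0x5e0c0f600000000000000000ffb9e0f81a92d296000000000000000073b1367c9c8da947) (Net.cons (nat_lit 32) (nat_lit 0x650697c100000000335eb8c8000000005b19bcc80000000070e8289a000000004a9b4e39) (Net.cons (nat_lit 16) (nat_lit 0x322b000028ea000034630000e1300000979a0000007d00002cd40000a05f0000a7390000bac300003c8e) (Net.cons (nat_lit 8) (nat_lit 0x70002b00c00085006300280097009600a60065004c008f00d100db001700cb00fc002800920083001c005c) (Net.cons (nat_lit 4) (nat_lit 0x70c070c07040b000e0b010e030400040a0f09080a0b0b090304070f03060d0506000c0a030e010f070c080e) (Net.cons (nat_lit 2) (nat_lit 0x1100330332302020020311302320131123000000002222110231211300210130330112233323233010030312) (Net.cons (nat_lit 1) (nat_lit 0x4445500010544505410001155451055054105540444400044450140151110444144444515015405554544) Net.nil)))))))))))))))))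

theorem o_g305_ok : Net.ok 351 o_g305 = true := by decide +kernel

noncomputable def o_g306 : Net := (Net.cons (nat_lit 1) (nat_lit 0x1505511411015505141051404510051400040010445515051544010454451101101440145501015110504510) (Net.cons (nat_lit 2) (nat_lit 0x1311232131022303021220211323100221321103202020332303023113110110231330233323303100200200) (Net.cons (nat_lit 4) (nat_lit 0x5070307040d080c0d070e080400020c04040807040a030b000c0606020a0209050603020e02090406010000) (Net.cons (nat_lit 8) (nat_lit 0x3600180087005200ca0095002a009b008200660019008f000a0047006800ac009200a400b100f700210080) (Net.cons (nat_lit 16) (nat_lit 0x8dc00009269000083eb0000568c0000049c000006eb0000ca530000f8a3000083a000008ae000008000) (Net.cons (nat_lit 32) (nat_lit 0x8d8811900000000c1701fc6000000005507c63f0000000059560193000000002080a038) (Net.cons (nat_lit 64) (nat_lit 0x48c1b7980000000000000000187521c39108a91200000000000000005023118500000000) (Net.cons (nat_lit 128) (nat_lit 0x642fb4f48290a909b8384615073340e2)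 (Net.cons (nat_lit 256) (nat_lit 0x5394ff7ff83ffffd4ff7caee) (Net.cons (nat_lit 128) (nat_lit 0x794ce0dbc8e257060e832221) (Net.cons (nat_lit 64) (nat_lit 0x278dccec00000000000000004ae55f022459bc7f0000000000000000bf56b56163e2645a) (Net.cons (nat_lit 32) (nat_lit 0xd0de5c9000000000380c11c00000000086d9bb75000000000cc7909f00000000866399c9) (Net.cons (nat_lit 16) (nat_lit 0x1c5b000009b9000076eb0000711e0000f7100000183c0000520d0000fba40000ba510000a52e0000e512) (Net.cons (nat_lit 8) (nat_lit 0x7700c90076007e004e00f30097002a000500e0001b00a600960050003200f000e3001d0027002d004900a4) (Net.cons (nat_lit 4) (nat_lit 0x200000905030803050f090707010b080e0e0c0609010208020b0f00040d090107000c060a080909040b000e) (Net.cons (nat_lit 2) (nat_lit 0x1201313023002003303130121313131233123220121130301130222321320311332023313322200122003220) (Net.cons (nat_lit 1) (nat_lit 0x404040011015150055151115010551415140515510441411055541445404504041104015100140505450140) Net.nil)))))))))))))))))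

theorem o_g306_ok : Net.ok 351 o_g306 = true := by decide +kernel

noncomputable def o_g307 : Net := (Net.cons (nat_lit 1) (nat_lit 0x441444005444501554111555141454405001551015114445045041040515044155504154015000540515144) (Net.cons (nat_lit 2) (nat_lit 0x1221102212001333001222031030312011200302221013112012030133122132200333033002112011032300) (Net.cons (nat_lit 4) (nat_lit 0x10c0304040f020408020a060a0a0d0c01070e0b000f0e00030f0d000403070b0100080a0c06080d02000500) (Net.cons (nat_lit 8) (nat_lit 0x4e005c005a0029003000a5004c00f200270098005b00f600cb00d7008b0066002d00ad005300c200280080) (Net.cons (nat_lit 16) (nat_lit 0x315b0000e82400009d4b0000faba0000c0640000934f0000304000002ab80000a341000003c600000000) (Net.cons (nat_lit 32) (nat_lit 0x3c1404fd00000000746200b800000000562a5e5f000000002aff2540000000000e52e500) (Net.cons (nat_lit 64) (nat_lit 0x1201009d0000000000000000e300568b18060e30000000000000000048022cd200000000) (Net.cons (nat_lit 128) (nat_lit 0x333a7c410062141000d20081189c2285)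 (Net.cons (nat_lit 256) (nat_lit 0x2ef797186bf6fdd35cdc2baf) (Net.cons (nat_lit 128) (nat_lit 0x67491309d887224ec6f029a0) (Net.cons (nat_lit 64) (nat_lit 0x4581e17b000000000000000041500b6238bbb882000000000000000000267d8a3d5b30e8) (Net.cons (nat_lit 32) (nat_lit 0x3a56bc6500000000075a6cef0000000082add17800000000b5e1b5c0000000006a0af78e) (Net.cons (nat_lit 16) (nat_lit 0x1efc0000a8110000d79a0000e3a4000022f30000ff5c000040ed000036fd0000009900000955000026a1) (Net.cons (nat_lit 8) (nat_lit 0x2400fd0078003900aa00f5003300c000ce003b00a9009700db00e600bb002d009800bc006300a9004e0081) (Net.cons (nat_lit 4) (nat_lit 0x602000c060d0208040c0a0a04020f060f0c0d0e04030f030a0905020107010107070b0f0c0b0c0a0a010c02) (Net.cons (nat_lit 2) (nat_lit 0x102213122210320323222323022003120211201232322020230212021112321123211003010102122302132) (Net.cons (nat_lit 1) (nat_lit 0x1505045445444514005040500000445114154540010101554140550500144441040444115144105500541155) Net.nil)))))))))))))))))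

theorem o_g307_ok : Net.ok 351 o_g307 = true := by decide +kernel

noncomputable def o_g308 : Net := (Net.cons (nat_lit 1) (nat_lit 0x1444515541554014551540004511004444055151045004044011111554100550415551111145115145011544) (Net.cons (nat_lit 2) (nat_lit 0x1310020122103022330110101230333020213002123031130321330102022233200033002220201010211102) (Net.cons (nat_lit 4) (nat_lit 0x2030f020a040e0600080b0d010608030a0804070603080304040e070f0e0e0d09020103050f030201060000) (Net.cons (nat_lit 8) (nat_lit 0x7a00e50006000500940097006c0058000000ff00bf001600e80098008d009c00b900100058000a00170000) (Net.cons (nat_lit 16) (nat_lit 0x3927000032eb0000fa5d00009dd000004ab9000020430000958100006a020000b8c40000c42b00000000) (Net.cons (nat_lit 32) (nat_lit 0x171b25000000000683a100000000000cc27251300000000299d34c0000000000400920c) (Net.cons (nat_lit 64) (nat_lit 0x544401790000000000000000b62e14a14db8ac040000000000000000830504e080000000) (Net.cons (nat_lit 128) (nat_lit 0x750659038220c04d3c106c1c90942111)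 (Net.cons (nat_lit 256) (nat_lit 0x6a39d6efbf956efdb6d7fb1d) (Net.cons (nat_lit 128) (nat_lit 0x648a7d91af6801faab97a0dc) (Net.cons (nat_lit 64) (nat_lit 0x6826777f00000000000000006156a0b7272b87490000000000000000c33ad4e3868bf6ec) (Net.cons (nat_lit 32) (nat_lit 0xcbe1cc77000000006b3cbd7000000000e339304f000000006f8e6b70000000005ae3642e) (Net.cons (nat_lit 16) (nat_lit 0x1f3000000c9b0000044d00000cd00000c9030000f74200008fa60000bec20000ebdc0000198000000c22) (Net.cons (nat_lit 8) (nat_lit 0x7f00ca00690041009a00a700fc004c0083002a00df005b00ef002e009f00ae00f8002000da000f00fc0026) (Net.cons (nat_lit 4) (nat_lit 0x2000604020606020c000a0d05020c070a01070602070c0207030f0400040e010e0201010d0d0901010c0306) (Net.cons (nat_lit 2) (nat_lit 0x1310301323121022330220100220223200202322101102003103211203022121113122013021101210100203) (Net.cons (nat_lit 1) (nat_lit 0x444500115410110045110000505004105101051004155051054151104500154141111150441101445014500) Net.nil)))))))))))))))))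

theorem o_g308_ok : Net.ok 351 o_g308 = true := by decide +kernel

noncomputable def o_g309 : Net := (Net.cons (nat_lit 1) (nat_lit 0x144011450414141515551454550441154110554140000000010500114041540510000055404014100114000) (Net.cons (nat_lit 2) (nat_lit 0x1220120323232103020330222313121110001022311132002122000020020101111102220022032031220000) (Net.cons (nat_lit 4) (nat_lit 0x7040108030c050507010309090c060b0d04050c0b04070d050800000c020e040b0b000a0101000e00040200) (Net.cons (nat_lit 8) (nat_lit 0x7600bf000d00f600ae001e007e00c000590022009100040040000000c400e400c900590054005c00250000) (Net.cons (nat_lit 16) (nat_lit 0x31870000135900007ad80000a517000024020000061c0000000000007a850000e82a0000a62000000000) (Net.cons (nat_lit 32) (nat_lit 0x3729ccf000000000c20c4221000000003a0b0111000000000a0280280000000000000000) (Net.cons (nat_lit 64) (nat_lit 0x8040400000000000000000035004bc40000000000000000000000000000000000000000) (Net.cons (nat_lit 128) (nat_lit 0x2000227e012d3566efc62f6b4d32)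 (Net.cons (nat_lit 256) (nat_lit 0x227e012d3566efc62f6b4d32) (Net.cons (nat_lit 128) (nat_lit 0x227e012d3566efc62f6b4d32) (Net.cons (nat_lit 64) (nat_lit 0x5af7a7b10000000000000000725913b4977359310000000000000000ae215f4a3432d660) (Net.cons (nat_lit 32) (nat_lit 0xba7895eb00000000874d1f63000000003f1a5b0f00000000a0dfde6200000000f48cf3c4) (Net.cons (nat_lit 16) (nat_lit 0x31960000134a00007a890000e54600006452000046cd000020920000e684000065aa00002b3100009603) (Net.cons (nat_lit 8) (nat_lit 0x7600bf004d00b600ae001e00be00d0001900e2009100440040001100d60067007b00d900d5005f00b70002) (Net.cons (nat_lit 4) (nat_lit 0x7040108030c050507010309090c060b0d05050c0b05070d050800000c030f0c020b000a0102080e00040300) (Net.cons (nat_lit 2) (nat_lit 0x1220120323232103020330222313121110001022311132002122000020222101113102220022032031232000) (Net.cons (nat_lit 1) (nat_lit 0x144011450414141515551454550441154110554140000000010500114041540510000055404014100114000) Net.nil)))))))))))))))))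

theorem o_g309_ok : Net.ok 351 o_g309 = true := by decide +kernel

noncomputable def o_g310 : Net := (Net.cons (nat_lit 1) (nat_lit 0x1400040454050101514511505455140410114110045054144555005415041054150000154540000105144540) (Net.cons (nat_lit 2) (nat_lit 0x102110333203133000122032231103212203221113212001013320312002103332030211220222331101120) (Net.cons (nat_lit 4) (nat_lit 0x50b050a070101020e05070b0b020f0500070004060a0105080b02010a0d030805050007040a010b04090c08) (Net.cons (nat_lit 8) (nat_lit 0x7900dc00740007007e00d900b6005800000003001400cc006800b5009e00d20044005500b600cb00410080) (Net.cons (nat_lit 16) (nat_lit 0x54ea0000d6370000844a0000ec1100007e4c00004cb4000034ce00001a820000cd0b0000092000000000) (Net.cons (nat_lit 32) (nat_lit 0x876ba51e00000000a2586fc00000000000a4b8160000000008f5e2520000000050022015) (Net.cons (nat_lit 64) (nat_lit 0x86f2e1000000000000000082227402019b87d90000000000000000f508058280000000) (Net.cons (nat_lit 128) (nat_lit 0xe83e73960ec722104221923000243506)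 (Net.cons (nat_lit 256) (nat_lit 0x5ef7a2f4f7a9d7fe9cef771f) (Net.cons (nat_lit 128) (nat_lit 0x5b67e387f4987d8ce088cc5) (Net.cons (nat_lit 64) (nat_lit 0x4ce6944b00000000000000008289ae949fd7d9f10000000000000000c444978cc8e4d8c7) (Net.cons (nat_lit 32) (nat_lit 0x2eb65ba00000000f0e2a0190000000044807a3200000000b95524410000000000a62217) (Net.cons (nat_lit 16) (nat_lit 0x4c3b000027d5000000620000374e00002844000074390000b7e000004acf0000e52f0000e8c00000c78d) (Net.cons (nat_lit 8) (nat_lit 0x67009a000e00460016005d00c100c8001200260024000c0068005a00bf009600dd0055003e00e8009d004a) (Net.cons (nat_lit 4) (nat_lit 0x407030f0f07020608010f0f06050609000700050e010f0b090c0202070d0604040f08070e05000604050c04) (Net.cons (nat_lit 2) (nat_lit 0x2311300221132221002110010313202002213312032211333020213031003311330211001123123330221) (Net.cons (nat_lit 1) (nat_lit 0x1100145011400101504510501451140514100054015141010551414540141414145040055450014100140144) Net.nil)))))))))))))))))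

theorem o_g310_ok : Net.ok 351 o_g310 = true := by decide +kernel

noncomputable def o_g311 : Net := (Net.cons (nat_lit 1) (nat_lit 0x1541401405404005111100004450100140044014004144044514004500104001040050010040000000404000) (Net.cons (nat_lit 2) (nat_lit 0x1003022022030001122100033022331320221203310111102123120301100022000203003000000000000200) (Net.cons (nat_lit 4) (nat_lit 0x504070706000a000a000104050e070004090a0805020208080a080a060c010202010a010802000000000000) (Net.cons (nat_lit 8) (nat_lit 0x21000400d200010084000800d200830024001200bc008b001400cc0001008a000000500004000000000000) (Net.cons (nat_lit 16) (nat_lit 0x160a0000212000000ea400005e26000044080000a83d0000718800008a00000084420000002e00000000) (Net.cons (nat_lit 32) (nat_lit 0x2010034600000000d1dcc453000000000a254e7800000000038a0082000000000200180c) (Net.cons (nat_lit 64) (nat_lit 0x16051c440000000000000000ec47122c83a0721000000000000000000940000000000000) (Net.cons (nat_lit 128) (nat_lit 0xeefff00b802a02002002132488830040)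 (Net.cons (nat_lit 256) (nat_lit 0x9aa0789a94e3b6c9e9f1fe6) (Net.cons (nat_lit 128) (nat_lit 0xa7e3e703232d00281e3c368) (Net.cons (nat_lit 64) (nat_lit 0x1e0718440000000000000000ec771ebcfbe2723300000000000000000970000008400420) (Net.cons (nat_lit 32) (nat_lit 0x2012006600000000d1dec673000000000aa54f7c00000000038a00820000000002001b2c) (Net.cons (nat_lit 16) (nat_lit 0x168a0000212000000ea400005e26000044080000a83d0000718800008a80000084420000002e00000000) (Net.cons (nat_lit 8) (nat_lit 0x21000500d2000900b0000800f600830024001200bc008b001400cc0001008a00000051000400000000000c) (Net.cons (nat_lit 4) (nat_lit 0x504070706000a000a000104050e070404090a0805020208080a080a060c010202050a010802000000000000) (Net.cons (nat_lit 2) (nat_lit 0x1003022022030001122100033222331320221203310111102123122301100022000203003000000000000200) (Net.cons (nat_lit 1) (nat_lit 0x1541401405404005111100004450100140044014004144044514004500104001040050010040000000404000) Net.nil)))))))))))))))))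

theorem o_g311_ok : Net.ok 351 o_g311 = true := by decide +kernel

noncomputable def ot_c16_K : List Net := [o_g305, o_g306, o_g307, o_g308, o_g309, o_g310, o_g311]

theorem ot_c16_K_ok : okE 351 ot_c16_K = true := (okE_cons.2 ⟨o_g305_ok, (okE_cons.2 ⟨o_g306_ok, (okE_cons.2 ⟨o_g307_ok, (okE_cons.2 ⟨o_g308_ok, (okE_cons.2 ⟨o_g309_ok, (okE_cons.2 ⟨o_g310_ok, (okE_cons.2 ⟨o_g311_ok, (okE_nil 351)⟩)⟩)⟩)⟩)⟩)⟩)⟩)

noncomputable def o_V313 : List Net := [o_g241]

theorem o_V313_ok : okE 351 o_V313 = true := (okE_cons.2 ⟨o_g241_ok, (okE_nil 351)⟩)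

noncomputable def o_V315 : List Net := []

theorem o_V315_ok : okE 351 o_V315 = true := (okE_nil 351)

noncomputable def ot_c16_cnt_EG : List Net := [o_g1, o_g, o_g2, o_g3, o_g4, o_g5, o_g8, o_g9, o_g12, o_g13, o_g14, o_g17, o_g18, o_g19, o_g20, o_g23, o_g24, o_g25, o_g26, o_c, o_g27, o_g30, o_g31, o_g32, o_g35, o_b, o_d, o_e, o_f, o_h, o_i, o_g88, o_g89, o_g90, o_g91, o_g92, o_g93, o_g94, o_g208, o_g209, o_g210, o_g241, o_g240]

theorem ot_c16_cnt_EG_ok : okE 351 ot_c16_cnt_EG = true := (okE_cons.2 ⟨o_g1_ok, (okE_cons.2 ⟨o_g_ok, (okE_cons.2 ⟨o_g2_ok, (okE_cons.2 ⟨o_g3_ok, (okE_cons.2 ⟨o_g4_ok, (okE_cons.2 ⟨o_g5_ok, (okE_cons.2 ⟨o_g8_ok, (okE_cons.2 ⟨o_g9_ok, (okE_cons.2 ⟨o_g12_ok, (okE_cons.2 ⟨o_g13_ok, (okE_cons.2 ⟨o_g14_ok, (okE_cons.2 ⟨o_g17_ok, (okE_cons.2 ⟨o_g18_ok, (okE_cons.2 ⟨o_g19_ok, (okE_cons.2 ⟨o_g20_ok, (okE_cons.2 ⟨o_g23_ok, (okE_cons.2 ⟨o_g24_ok, (okE_cons.2 ⟨o_g25_ok, (okE_cons.2 ⟨o_g26_ok, (okE_cons.2 ⟨o_c_ok, (okE_cons.2 ⟨o_g27_ok, (okE_cons.2 ⟨o_g30_ok,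 (okE_cons.2 ⟨o_g31_ok, (okE_cons.2 ⟨o_g32_ok, (okE_cons.2 ⟨o_g35_ok, (okE_cons.2 ⟨o_b_ok, (okE_cons.2 ⟨o_d_ok, (okE_cons.2 ⟨o_e_ok, (okE_cons.2 ⟨o_f_ok, (okE_cons.2 ⟨o_h_ok, (okE_cons.2 ⟨o_i_ok, (okE_cons.2 ⟨o_g88_ok, (okE_cons.2 ⟨o_g89_ok, (okE_cons.2 ⟨o_g90_ok, (okE_cons.2 ⟨o_g91_ok, (okE_cons.2 ⟨o_g92_ok, (okE_cons.2 ⟨o_g93_ok, (okE_cons.2 ⟨o_g94_ok, (okE_cons.2 ⟨o_g208_ok, (okE_cons.2 ⟨o_g209_ok, (okE_cons.2 ⟨o_g210_ok, (okE_cons.2 ⟨o_g241_ok, (okE_cons.2 ⟨o_g240_ok, (okE_nil 351)⟩)⟩)⟩)⟩)⟩)⟩)⟩)⟩)⟩)⟩)⟩)⟩)⟩)⟩)⟩)⟩)⟩)⟩)⟩)⟩)⟩)⟩)⟩)⟩)⟩)⟩)⟩)⟩)⟩)⟩)⟩)⟩)⟩)⟩)⟩)⟩)⟩)⟩)⟩)⟩)⟩)⟩)⟩)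

noncomputable def o_g316 : Net := (Net.cons (nat_lit 1) (nat_lit 0x1040140145111510415000555401451415140414501154005540540055105115414144101015015440011014) (Net.cons (nat_lit 2) (nat_lit 0x231321113233222231300212222133200210211331232223230110300122020012020010100121021103110) (Net.cons (nat_lit 4) (nat_lit 0x207010b0d070b0c060301010d0600050205030b0c040e09030505030b0b050300050a060e0503040d020008) (Net.cons (nat_lit 8) (nat_lit 0x3b000b002200ed00b7004200de002d0081000200eb0056007500fc0026001900ae00330040002700020000) (Net.cons (nat_lit 16) (nat_lit 0x1bd50000f6c60000eee00000977e000055e600001b5500009e72000092110000ff4b0000382000000000) (Net.cons (nat_lit 32) (nat_lit 0xac3bc08b000000004877564c00000000abaf8d9b000000001c48932e0000000005181005) (Net.cons (nat_lit 64) (nat_lit 0x102ef9040000000000000000c6070c0f024ed1c60000000000000000355382cb00000000) (Net.cons (nat_lit 128) (nat_lit 0xef696aed1924aff100da2c5e8b485a27) (Net.cons (nat_lit 256) (nat_lit 0x5b26effd3fdbeedfefc8dae7)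 (Net.cons (nat_lit 128) (nat_lit 0x64df0261114c095846ccc895) (Net.cons (nat_lit 64) (nat_lit 0x479e39f5000000000000000036ce8f7358a1bd110000000000000000a5bf76ce8b114234) (Net.cons (nat_lit 32) (nat_lit 0xa7fc429500000000d2a4ee6d00000000bc2c12cb0000000047b49882000000004b9892a1) (Net.cons (nat_lit 16) (nat_lit 0x1fb100001eed000087bf00002575000077f2000096c100003aeb0000b1b00000e11e000066b00000461f) (Net.cons (nat_lit 8) (nat_lit 0x7b00cb008900b80076002d00b9001c006f00ed00400040007d00c9004b0094007c008b007200fc00b30042) (Net.cons (nat_lit 4) (nat_lit 0x4090101090709070202070e090b0f0d02090c05020507090900060f0809000a040d0e0d020f070b0a09000c) (Net.cons (nat_lit 2) (nat_lit 0x1231331321320001313303202103223210231131220011213311021130322123000330200223300313102110) (Net.cons (nat_lit 1) (nat_lit 0x1451051414555400405404511154045541145044450110040010145444140415001044550045115445440155) Net.nil)))))))))))))))))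

theorem o_g316_ok : Net.ok 351 o_g316 = true := by decide +kernel

noncomputable def o_g317 : Net := (Net.cons (nat_lit 1) (nat_lit 0x500411055415044101504404451114555400151401415050141411540111100441554101500144155010540) (Net.cons (nat_lit 2) (nat_lit 0x1110211212121232300203321203210331222301122310203023111102013020033232002031220130101320) (Net.cons (nat_lit 4) (nat_lit 0x40d0b0803010f08080d050c070f000702020806060308060207090502040c06020806030d000204020d08) (Net.cons (nat_lit 8) (nat_lit 0x4e0091001c00b1009a00980081008a000300b0005c00d20000000c009c009b005500fa0000002200610000) (Net.cons (nat_lit 16) (nat_lit 0x7e600004c930000e1400000a5830000e2330000785e00006dea0000c50a000008e00000883900000000) (Net.cons (nat_lit 32) (nat_lit 0x55a4acd4000000002eb06f5100000000b1c5a821000000005aa40d230000000068684046) (Net.cons (nat_lit 64) (nat_lit 0x6100008e00000000000000006438b23963c960460000000000000000851a025880000000) (Net.cons (nat_lit 128) (nat_lit 0x69831e3c8accba26bbabb22301208561)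 (Net.cons (nat_lit 256) (nat_lit 0x1fecbbffbffff2fbe1e9bf7f) (Net.cons (nat_lit 128) (nat_lit 0x26ac116d17724e87c34d7a72) (Net.cons (nat_lit 64) (nat_lit 0x3d6fdd8f00000000000000008911e60d70329cc800000000000000000ab4c654394a2a55) (Net.cons (nat_lit 32) (nat_lit 0xe1cb9a39000000007032e041000000008330b3cf0000000033f24b3e0000000070e316ca) (Net.cons (nat_lit 16) (nat_lit 0x361e00008f5f00008fd00000e0ea000048b20000a7b6000026ac000044ea000033b80000c68b00009cc7) (Net.cons (nat_lit 8) (nat_lit 0x5200b700c5000e004700aa00a7001600ae00a2003400720059001200c000fe00cb008b001000d900e000da) (Net.cons (nat_lit 4) (nat_lit 0x1000d0d0d0b080b030e010a030202090f0501030e00020e000b0f000a0e0502040f0a0f0a0a0c060d03030c) (Net.cons (nat_lit 2) (nat_lit 0x230002303130000033031111212112130333313110000221301101030002003220301033130201020300302) (Net.cons (nat_lit 1) (nat_lit 0x450155140504015455105141110140005554045114100015411455550111414500055414510041010001541) Net.nil)))))))))))))))))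

theorem o_g317_ok : Net.ok 351 o_g317 = true := by decide +kernel

noncomputable def o_g318 : Net := (Net.cons (nat_lit 1) (nat_lit 0x1141545514005454554500144155401455140545015111445155441104411054510000441440151404401405) (Net.cons (nat_lit 2) (nat_lit 0x102030222230101023030230203201221110202223313020031321133222001021023312030320033211000) (Net.cons (nat_lit 4) (nat_lit 0x4080b060c010e0b0d00030a0b070c050d0a020d0d05030e070108080d010700010501050b0b05010608) (Net.cons (nat_lit 8) (nat_lit 0x7400e0005100d9001f009900f500d2001400e900cb00eb009300ec00b000fe00d100d8008800c400a00080) (Net.cons (nat_lit 16) (nat_lit 0x78160000e57b00003c4a0000da2200005732000072b800008ad60000850100002d780000240800008000) (Net.cons (nat_lit 32) (nat_lit 0xf848658b000000007333b86f000000009b84464e00000000c2c302080000000010900208) (Net.cons (nat_lit 64) (nat_lit 0x345892320000000000000000c1b3b9c34405248b0000000000000000211bae8e00000000) (Net.cons (nat_lit 128) (nat_lit 0x799792048e4803a8e0b101f02a658247)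 (Net.cons (nat_lit 256) (nat_lit 0x6e4d1beff5bfafff3a75cff7) (Net.cons (nat_lit 128) (nat_lit 0xfc61b5a38f96803e481fced) (Net.cons (nat_lit 64) (nat_lit 0x19f98be7000000000000000041e9bf4f9825a7fa000000000000000068143e9b836ed9b8) (Net.cons (nat_lit 32) (nat_lit 0xbe61e29e00000000c936b06600000000cb06546f0000000061ff168400000000c7ded01c) (Net.cons (nat_lit 16) (nat_lit 0x10c20000e767000014470000d0c00000d5f40000f2d4000042e0000097ea000002ed00000d0d00001030) (Net.cons (nat_lit 8) (nat_lit 0x320031009e00fb00370038005500fb009e0019005f00ab0003003f00da00dd00bb00dc00c100fb00a800a0) (Net.cons (nat_lit 4) (nat_lit 0x90806040003010e050009000b040f0d000e0e0106050d0d0c0e090d0801080a0a0808060d0704090108) (Net.cons (nat_lit 2) (nat_lit 0x1213003202200003131002220321003223130222223013220223033110131023313322221232331031211202) (Net.cons (nat_lit 1) (nat_lit 0x411114015041544001110150145105511140105505450441411510014054444410511044445055041401505) Net.nil)))))))))))))))))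

theorem o_g318_ok : Net.ok 351 o_g318 = true := by decide +kernel

noncomputable def o_g319 : Net := (Net.cons (nat_lit 1) (nat_lit 0x545051440015450411005451551011410550445545014051540441151550511455044014040405040000111) (Net.cons (nat_lit 2) (nat_lit 0x103013201220201331232203101030130312223203010112013023003201102312200302021100201211320) (Net.cons (nat_lit 4) (nat_lit 0x10b0b090e080507030b030b0108020b070b060f0a0e090f02040407050c0c0708090008050801000a0c0408) (Net.cons (nat_lit 8) (nat_lit 0x5200750034008d00c2002c009100420094007f00dd002700410005002d00c4005f002d008800400000) (Net.cons (nat_lit 16) (nat_lit 0x46a30000ae860000c47d0000ae060000cc1d0000f3ce0000894e000008d1000065aa0000815000008000) (Net.cons (nat_lit 32) (nat_lit 0x69fedf70000000002f92330600000000487550d20000000021edb40c00000000060a000b) (Net.cons (nat_lit 64) (nat_lit 0x2c04882a00000000000000003e84b01090093541000000000000000022c722c900000000) (Net.cons (nat_lit 128) (nat_lit 0xeb3afca100016a6c0656491a59ae9488)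 (Net.cons (nat_lit 256) (nat_lit 0x5effa6c2ed7fffb7bafd5ca) (Net.cons (nat_lit 128) (nat_lit 0x2e00cacb128a48d2ac451992) (Net.cons (nat_lit 64) (nat_lit 0x1a066b6b0000000000000000fb9050c05e88a220000000000000000094d8e54208211248) (Net.cons (nat_lit 32) (nat_lit 0x6926927b00000000633a3ff00000000003f2cb4a000000002144ff4d00000000300b1659) (Net.cons (nat_lit 16) (nat_lit 0x588200005c4a0000e6d300001ea60000480e0000590f0000015d0000fcfb000069a30000d55a00004e0b) (Net.cons (nat_lit 8) (nat_lit 0xa00da00bf0013007100d200080099001d00dc00fe00cd00ac00140067009e00cd005e002e005a006b001a) (Net.cons (nat_lit 4) (nat_lit 0xf01090101010a0a070608050009020a05060f0c0e00060a0d0b0703080f0300090a080d0b0502060e0008) (Net.cons (nat_lit 2) (nat_lit 0x1203111122112222121332001321001021022021021200312003030121013121320202311301312230231330) (Net.cons (nat_lit 1) (nat_lit 0x1005041440145450000415541051415450511414140154055554550105504155545405011451411001050100) Net.nil)))))))))))))))))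

theorem o_g319_ok : Net.ok 351 o_g319 = true := by decide +kernel

noncomputable def o_g320 : Net := (Net.cons (nat_lit 1) (nat_lit 0x54511001404140504051005550540441410000105445154400410050040010400041000000000000000) (Net.cons (nat_lit 2) (nat_lit 0x10111323312203200012011202000100310201110002102101202002000032022001022000000000020100) (Net.cons (nat_lit 4) (nat_lit 0xb090d0a08020f010804010a090507090f040b080603070005020100090804000800040000000004000000) (Net.cons (nat_lit 8) (nat_lit 0x6b004200150073003e009600da006f00f80012006a0041002000e80012002400f800430004004000010000) (Net.cons (nat_lit 16) (nat_lit 0x64a900007673000044c20000cc0c00009ab9000075a60000a044000041a20000e2220000000400000000) (Net.cons (nat_lit 32) (nat_lit 0x2d00a20500000000039424820000000085610a0100000000827c00000000000002000018) (Net.cons (nat_lit 64) (nat_lit 0x2d136248000000000000000084a40c3210028c6700000000000000000540208c00000000) (Net.cons (nat_lit 128) (nat_lit 0xb6bacc8600c18030080e200151e02080)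 (Net.cons (nat_lit 256) (nat_lit 0x6bd38330fffe758d57e5f1c9) (Net.cons (nat_lit 128) (nat_lit 0x1ed6075780f0275a0caaca2) (Net.cons (nat_lit 64) (nat_lit 0x2e13e348000000000000000094e40c3a110a0c6700000000000000001560208c23088100) (Net.cons (nat_lit 32) (nat_lit 0x5d22b205000000005b94f4a200000000c5e10a0500000000827cc0040000000072201038) (Net.cons (nat_lit 16) (nat_lit 0x6caf00007673000074c20000cc0d00009ab9000055a600008064000065a00000e2220000100400000000) (Net.cons (nat_lit 8) (nat_lit 0x4b004200150073003e009200da00ef00f80012006a0061000000c80012002000f800630004004000210000) (Net.cons (nat_lit 4) (nat_lit 0xb090d0a08000f0108060108090707090f040b080603050005020102090806000802040000000004000002) (Net.cons (nat_lit 2) (nat_lit 0x10111323312203200032011202000100310201110002302101202002000012022001022000000000020100) (Net.cons (nat_lit 1) (nat_lit 0x54511001404140514051005550540441410010105445114400414050050010400041000000000000000) Net.nil)))))))))))))))))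

theorem o_g320_ok : Net.ok 351 o_g320 = true := by decide +kernel

noncomputable def ot_c17_K : List Net := [o_g317, o_g318, o_g319, o_g320]

theorem ot_c17_K_ok : okE 351 ot_c17_K = true := (okE_cons.2 ⟨o_g317_ok, (okE_cons.2 ⟨o_g318_ok, (okE_cons.2 ⟨o_g319_ok, (okE_cons.2 ⟨o_g320_ok, (okE_nil 351)⟩)⟩)⟩)⟩)

noncomputable def ot_c17_cnt_EG : List Net := [o_b, o_c, o_d, o_e, o_f, o_g, o_h, o_i, o_g1, o_g2, o_g3, o_g4, o_g5, o_g8, o_g9, o_g12, o_g13, o_g14, o_g17, o_g18, o_g19, o_g20, o_g23, o_g24, o_g25, o_g26, o_g27, o_g30, o_g31, o_g32, o_g35, o_g88, o_g89, o_g90, o_g91, o_g92, o_g93, o_g94, o_g208, o_g209, o_g210, o_g241, o_g240]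

theorem ot_c17_cnt_EG_ok : okE 351 ot_c17_cnt_EG = true := (okE_cons.2 ⟨o_b_ok, (okE_cons.2 ⟨o_c_ok, (okE_cons.2 ⟨o_d_ok, (okE_cons.2 ⟨o_e_ok, (okE_cons.2 ⟨o_f_ok, (okE_cons.2 ⟨o_g_ok, (okE_cons.2 ⟨o_h_ok, (okE_cons.2 ⟨o_i_ok, (okE_cons.2 ⟨o_g1_ok, (okE_cons.2 ⟨o_g2_ok, (okE_cons.2 ⟨o_g3_ok, (okE_cons.2 ⟨o_g4_ok, (okE_cons.2 ⟨o_g5_ok, (okE_cons.2 ⟨o_g8_ok, (okE_cons.2 ⟨o_g9_ok, (okE_cons.2 ⟨o_g12_ok, (okE_cons.2 ⟨o_g13_ok, (okE_cons.2 ⟨o_g14_ok, (okE_cons.2 ⟨o_g17_ok, (okE_cons.2 ⟨o_g18_ok, (okE_cons.2 ⟨o_g19_ok, (okE_cons.2 ⟨o_g20_ok, (okE_cons.2 ⟨o_g23_ok, (okE_cons.2 ⟨o_g24_ok, (okE_cons.2 ⟨o_g25_ok, (okE_cons.2 ⟨o_g26_ok, (okE_cons.2 ⟨o_g27_ok, (okE_cons.2 ⟨o_g30_ok, (okE_cons.2 ⟨o_g31_ok, (okE_cons.2 ⟨o_g32_ok, (okE_cons.2 ⟨o_g35_ok, (okE_cons.2 ⟨o_g88_ok, (okE_cons.2 ⟨o_g89_ok, (okE_cons.2 ⟨o_g90_ok, (okE_cons.2 ⟨o_g91_ok, (okE_cons.2 ⟨o_g92_ok, (okE_cons.2 ⟨o_g93_ok, (okE_cons.2 ⟨o_g94_ok, (okE_cons.2 ⟨o_g208_ok, (okE_cons.2 ⟨o_g209_ok, (okE_cons.2 ⟨o_g210_ok,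 (okE_cons.2 ⟨o_g241_ok, (okE_cons.2 ⟨o_g240_ok, (okE_nil 351)⟩)⟩)⟩)⟩)⟩)⟩)⟩)⟩)⟩)⟩)⟩)⟩)⟩)⟩)⟩)⟩)⟩)⟩)⟩)⟩)⟩)⟩)⟩)⟩)⟩)⟩)⟩)⟩)⟩)⟩)⟩)⟩)⟩)⟩)⟩)⟩)⟩)⟩)⟩)⟩)⟩)⟩)⟩)

noncomputable def o_g322 : Net := (Net.cons (nat_lit 1) (nat_lit 0x1450155005044511000055540545041400001104444544505410400041454155011514450450005454401014) (Net.cons (nat_lit 2) (nat_lit 0x313210100233210031003331103332330003113023021121220330013223113203333233030211230331012) (Net.cons (nat_lit 4) (nat_lit 0x4060e090907060004010c06020a0600050203080400060a08030d0d03020408090b0f0d0e0d040506080800) (Net.cons (nat_lit 8) (nat_lit 0x20009f0039000400f400c000a90040000600c00099006700ea009d0009002e005700490025005400220000) (Net.cons (nat_lit 16) (nat_lit 0x714e00004f4100000c15000070900000713a0000d4850000f118000021240000198500002a0000008000) (Net.cons (nat_lit 32) (nat_lit 0x9e0bd21c00000000834c762d00000000e580baf500000000b368821d00000000430c1a26) (Net.cons (nat_lit 64) (nat_lit 0x5a6c20830000000000000000c20585aa069009000000000000000000e2ac00e880000000)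 (Net.cons (nat_lit 128) (nat_lit 0x2b22f7888883a138fa7599eaf44a0e29) (Net.cons (nat_lit 256) (nat_lit 0x3fe7fbb8fafdddfefdce1f6b) (Net.cons (nat_lit 128) (nat_lit 0x71d60d453233b38f8b03564c) (Net.cons (nat_lit 64) (nat_lit 0x7527311700000000000000007c6b78505403866d0000000000000000536244fff0aa7951) (Net.cons (nat_lit 32) (nat_lit 0xccf0e26f00000000b27d51250000000056e0c05b00000000a0b3ab49000000008d63147f) (Net.cons (nat_lit 16) (nat_lit 0x26720000b7020000257d00004e650000f2960000aeff0000151400004f1a0000b9480000523e0000d02d) (Net.cons (nat_lit 8) (nat_lit 0x2e00d7008f00ea001800f10087007f00aa009c008f004500d500ad0015002700c10074005c0070007a00e1) (Net.cons (nat_lit 4) (nat_lit 0x408020c070c060003040c01010c0a0809000b000a080d010b06090b020e0a0a070e0f09000a060d040d080e) (Net.cons (nat_lit 2) (nat_lit 0x1303332011232233300302122333122010301013311322103303303302110102210212321112103230133201) (Net.cons (nat_lit 1) (nat_lit 0x144100010145145411055041551450150501515055141001044051105405501114450110411551415150155)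 Net.nil)))))))))))))))))

theorem o_g322_ok : Net.ok 351 o_g322 = true := by decide +kernel

noncomputable def o_g323 : Net := (Net.cons (nat_lit 1) (nat_lit 0x1011041445104011010511150154055440515005501414051110544441454004404400151154054150010014) (Net.cons (nat_lit 2) (nat_lit 0x1300030210113120233030323133303202221311011220111122313203012102213031120003030033112110) (Net.cons (nat_lit 4) (nat_lit 0x10b0201010b050a0504020c0a030d0002030c0c0b080d0b0e06000b0a0e0a060d0400050a04040508030000) (Net.cons (nat_lit 8) (nat_lit 0x25006400780078004900ce006700460010004e004d0086005b0072009a009200c6002c0067009000830080) (Net.cons (nat_lit 16) (nat_lit 0x68fb0000520100000e5500005166000069e60000a6ce0000dee3000019a50000910e0000800400000000) (Net.cons (nat_lit 32) (nat_lit 0x17a7206a00000000ccc39899000000001d40c30c00000000b30978340000000008200c0a) (Net.cons (nat_lit 64) (nat_lit 0x442d65800000000000000000e44f53086e80c15c0000000000000000420c19b000000000) (Net.cons (nat_lit 128) (nat_lit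 0xa21e2bf4695a951e0525f5090165228) (Net.cons (nat_lit 256) (nat_lit 0x57f5fdf3fb7f5ff4defe5f3a) (Net.cons (nat_lit 128) (nat_lit 0x259d20668e1ea277cbeb6571) (Net.cons (nat_lit 64) (nat_lit 0x4aad54da00000000000000005f93a331b0f0e31d0000000000000000f60085b062df2093) (Net.cons (nat_lit 32) (nat_lit 0xf4126a3b00000000bc167bb9000000004674d9f600000000a4ac60590000000054c4f87c) (Net.cons (nat_lit 16) (nat_lit 0x4a7600001a4f0000799d000067d100009d4a00006b100000999a0000630300009e430000035300008718) (Net.cons (nat_lit 8) (nat_lit 0x68006500f3004300cb005a00cd00bd00d400f3005a00f200e600de00ab00e60014000a0009006800db0030) (Net.cons (nat_lit 4) (nat_lit 0x5080301020004030e020802030a050e0106070e050c00050b040809050a00030004000f060c0d050f05010a) (Net.cons (nat_lit 2) (nat_lit 0x1102201233131202031303102030320002232320131220321121233311201022300100100211321022002002) (Net.cons (nat_lit 1) (nat_lit 0x1040114544544040004044401515510444105440150045140141104040004051001004154505500045451551)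 Net.nil)))))))))))))))))

theorem o_g323_ok : Net.ok 351 o_g323 = true := by decide +kernel

noncomputable def o_g324 : Net := (Net.cons (nat_lit 1) (nat_lit 0x1111541444505501511014400141454411505045400501414441541411544451101044145544414414550) (Net.cons (nat_lit 2) (nat_lit 0x1303102331121303001303312122123211222302010333222300201220300203202200203023020212000122) (Net.cons (nat_lit 4) (nat_lit 0x1090a0d020b000b010006090609040109000f0a0b0a0d0d0f00050004020006000c0403080a01090c0a0200) (Net.cons (nat_lit 8) (nat_lit 0x2600b7000a008000ec006e00e300800025003e00eb00d9009400d500c20054002c0050000c009500940000) (Net.cons (nat_lit 16) (nat_lit 0x5ed00000874a000021550000c3d60000820d0000fcaa0000d22900005b0b000084d80000011300000000) (Net.cons (nat_lit 32) (nat_lit 0x43dedf9800000000a329b73e000000006066e52100000000011ed8a50000000004e85160) (Net.cons (nat_lit 64) (nat_lit 0x111a442100000000000000004865dc330027b8440000000000000000195d504c00000000) (Net.cons (nat_lit 128) (nat_lit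 0xa78261de52212e28044f0d420a144048) (Net.cons (nat_lit 256) (nat_lit 0x72a56ee93ddf5d7f4fdf71ce) (Net.cons (nat_lit 128) (nat_lit 0x42858151e9b0b0ed9f12574d) (Net.cons (nat_lit 64) (nat_lit 0x6dfc93ce00000000000000000914012e9f2cba2600000000000000009c700cd5c22737f4) (Net.cons (nat_lit 32) (nat_lit 0xb375c7c00000000073cf1b1400000000505e852b00000000ae9ecd4000000000debf30f8) (Net.cons (nat_lit 16) (nat_lit 0x43b10000feb700001868000064200000f321000075140000a75200004389000031d70000f0dd00008f1e) (Net.cons (nat_lit 8) (nat_lit 0x7a00b400fb007800840068000b004800a8007500fd00d500ee00b5007e007d00d500ad004c00fc00c400f5) (Net.cons (nat_lit 4) (nat_lit 0x50600080a03070f0801010c0603000a040106000c0906050b06070b080b07050f010106020c0806080f0009) (Net.cons (nat_lit 2) (nat_lit 0x31010312213303123310330121102021312211330211122330100000102131122221021023103201012002) (Net.cons (nat_lit 1) (nat_lit 0x115440015441154100010151400101450451145445511400451145045540004411101110455140154104051)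 Net.nil)))))))))))))))))

theorem o_g324_ok : Net.ok 351 o_g324 = true := by decide +kernel

noncomputable def o_g325 : Net := (Net.cons (nat_lit 1) (nat_lit 0x51541544001414551114414404041511040011111044044105515555505500015001141111101541450) (Net.cons (nat_lit 2) (nat_lit 0x2303120230031323033321132222230300002220111031112223110110101310010110323003031233220) (Net.cons (nat_lit 4) (nat_lit 0x60e070103070d060202020104030f0508060a0b050d05010b08010b0e0a0c01000e050d010d070d04000000) (Net.cons (nat_lit 8) (nat_lit 0x2d001200ba007800b600d90030006c000100b100260045001c00af00d000d200c40097003700a400500000) (Net.cons (nat_lit 16) (nat_lit 0x3dd20000065e0000cb68000019bb0000831e0000fb4e0000c17b0000caa100008bc60000b21400000000) (Net.cons (nat_lit 32) (nat_lit 0xc91f6adc000000002105a10800000000556ab17000000000ee667e2a000000002581e2e6) (Net.cons (nat_lit 64) (nat_lit 0x64cf1c900000000000000004a002196e543e4dc0000000000000000200104a200000000) (Net.cons (nat_lit 128) (nat_lit 0x7f5814b1880820038d61609268461b5b)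 (Net.cons (nat_lit 256) (nat_lit 0x1a7e2273bdf76dbb6fc6fbff) (Net.cons (nat_lit 128) (nat_lit 0x79624e57240ef9bd7eb7b1a0) (Net.cons (nat_lit 64) (nat_lit 0x6ba139cf0000000000000000f6de5b0d0141c7be0000000000000000cab989941dfd8a2e) (Net.cons (nat_lit 32) (nat_lit 0x856772ad00000000083fa146000000007a22874300000000d41ba9fd00000000169d63bb) (Net.cons (nat_lit 16) (nat_lit 0x466400008af700008663000006d50000bb2a0000f9490000af0b000078170000c13200006efd000000a8) (Net.cons (nat_lit 8) (nat_lit 0x2400d800f9003400f5009c009f00f800350078009c0024009f00e00096008800f1001c002e00560058004e) (Net.cons (nat_lit 4) (nat_lit 0x704030f070708050005060e0f02070a0c0c0a04030f0a07050207070300030102030a0a0e0c07070f02040b) (Net.cons (nat_lit 2) (nat_lit 0x1102122112201122310232011300032230220001131032011313033032032211022330220121301012033212) (Net.cons (nat_lit 1) (nat_lit 0x510410504115010501015040014154541515104445151001555154005554401544415101040545440051540) Net.nil)))))))))))))))))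

theorem o_g325_ok : Net.ok 351 o_g325 = true := by decide +kernel

noncomputable def o_g326 : Net := (Net.cons (nat_lit 1) (nat_lit 0x1505445004140105115140040500401451045400410444544515104000010000101040440000000014000000) (Net.cons (nat_lit 2) (nat_lit 0x222232220220100121320222013111212021133030332212323310000003000000202022000002000000000) (Net.cons (nat_lit 4) (nat_lit 0x9080a0b0b0002010100000d060c0504080706030d090e070808080400020401040800000400080c000200) (Net.cons (nat_lit 8) (nat_lit 0x3a008e00a70009001b00d200480097002600f60078000800d9004400480066000000800048008300000000) (Net.cons (nat_lit 16) (nat_lit 0x2e18000081d2000031420000a7a000000264000082e70000680600000902000040000000000100000000) (Net.cons (nat_lit 32) (nat_lit 0x681008c8000000003408551600000000e000262c00000000ca0008280000000004824181) (Net.cons (nat_lit 64) (nat_lit 0x3890432900000000000000001c8f84a823282c2000000000000000000800000200000000) (Net.cons (nat_lit 128) (nat_lit 0x7d63ccfc800023300000002068080048)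 (Net.cons (nat_lit 256) (nat_lit 0x2a12a3b00c0303eb78887bfb) (Net.cons (nat_lit 128) (nat_lit 0x4d48291e61ac2820e67e066c) (Net.cons (nat_lit 64) (nat_lit 0x349041890000000000000000ff8b14e83b6c6e84000000000000000069000002084002a4) (Net.cons (nat_lit 32) (nat_lit 0xe81008c800000000340c551600000000e004272c00000000ca0008280000000004864181) (Net.cons (nat_lit 16) (nat_lit 0x2e98000081da000071430000a7e40000066400008ae700006a0600000942000040000000088100000004) (Net.cons (nat_lit 8) (nat_lit 0x3a008e00a70009001b0072004c0097002600f60078000800d9004400480066000000800048008300000004) (Net.cons (nat_lit 4) (nat_lit 0x9080a0b0b0002010100000d060c0504080706030d090e070808080400020401040800000400080c000200) (Net.cons (nat_lit 2) (nat_lit 0x222232220220100121300022013111212021133030332212323310000003000000202022000002000000020) (Net.cons (nat_lit 1) (nat_lit 0x1505445004140105115150040100401451045400010444544515104000011000101040440000000014000010) Net.nil)))))))))))))))))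

theorem o_g326_ok : Net.ok 351 o_g326 = true := by decide +kernel

noncomputable def o_g327 : Net := (Net.cons (nat_lit 1) (nat_lit 0x145504044151001455000140550100105451014100400540455455101555010411414004500155414500151) (Net.cons (nat_lit 2) (nat_lit 0x1011202320130312011301233222213100100012322111210300302100101121112333033210022130101212) (Net.cons (nat_lit 4) (nat_lit 0x30a08060c0e0a06020107060c050f0d0409040e090b010c0e0c00050e0c0b0e04090c000b04010002020100) (Net.cons (nat_lit 8) (nat_lit 0x5005e00d300e000dc003500eb003a0021000f007400b000bb00880008001c003800ce00a4005800d40000) (Net.cons (nat_lit 16) (nat_lit 0x23280000689700002363000009880000871a00006c4f00006b0a00002440000022240000b02c00000000) (Net.cons (nat_lit 32) (nat_lit 0xbc810c800000000086430780000000007756118a0000000037531442000000001106a262) (Net.cons (nat_lit 64) (nat_lit 0xf9d970000000000000000818158098ec104020000000000000000f717053d00000000) (Net.cons (nat_lit 128) (nat_lit 0x981bdfac02460320c51004aa04880102)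 (Net.cons (nat_lit 256) (nat_lit 0x17c74fe2f77f27bffefed95f) (Net.cons (nat_lit 128) (nat_lit 0x31ed0a0382d826ebb9ea6575) (Net.cons (nat_lit 64) (nat_lit 0x1e6acf4000000000000000020f73f11b55a150800000000000000007676239ad816f83f) (Net.cons (nat_lit 32) (nat_lit 0xf890288800000000061b0fad0000000045727918000000007f78d178000000001147a6ca) (Net.cons (nat_lit 16) (nat_lit 0x121f00006487000050cb0000f5850000881e00004f17000073700000456c0000a3080000b1c100001a51) (Net.cons (nat_lit 8) (nat_lit 0x20004700c900ca004f007300be002800030012002c00b700ea009a006800a5007100d000a1001d00c40072) (Net.cons (nat_lit 4) (nat_lit 0x20e08050c0d00010205010f0f040705040d0d0e0b0f030e0c0b0903040c070c000a0e0f090505020603030b) (Net.cons (nat_lit 2) (nat_lit 0x1111022220230103232211332233330100030232202110313321103300102333103003223001023123111001) (Net.cons (nat_lit 1) (nat_lit 0x155544014551405454001554540054105505104504500541015045144550510550405150501550514010150) Net.nil)))))))))))))))))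

theorem o_g327_ok : Net.ok 351 o_g327 = true := by decide +kernel

noncomputable def o_g328 : Net := (Net.cons (nat_lit 1) (nat_lit 0x45105154451451511011105541014411151145445101054401145401450501115541550440004140154444) (Net.cons (nat_lit 2) (nat_lit 0x1232322312203222112003312311311311000121022021022133320131311103212200221100032230031132) (Net.cons (nat_lit 4) (nat_lit 0x40e0a030f0a0e090f0e08020a0308030b0d05050a0f030e080407020a03020e08000a0d0c02030401020a00) (Net.cons (nat_lit 8) (nat_lit 0x5c00f8005c00da00e00028000c00e3002200c500b200e70028004b00d10092000000bf008b00f7004a0000) (Net.cons (nat_lit 16) (nat_lit 0x5ee00000f88f00007a36000044c900000f4d0000fe0300004c7a00000dd30000a0020000f88000008000) (Net.cons (nat_lit 32) (nat_lit 0x376d946c00000000aa5b04e200000000ed06240b00000000841306db0000000006a08540) (Net.cons (nat_lit 64) (nat_lit 0x6f1b329900000000000000000054d8d37a73701000000000000000004230f68000000000) (Net.cons (nat_lit 128) (nat_lit 0xa09adb85490004200209228ca2534044)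 (Net.cons (nat_lit 256) (nat_lit 0x7dd5d7bbf639f6cfa65fec6c) (Net.cons (nat_lit 128) (nat_lit 0x3813d351ece603fe0d62e00c) (Net.cons (nat_lit 64) (nat_lit 0x4e26bad7000000000000000017fd3ac2166795df0000000000000000c61afe40493f8047) (Net.cons (nat_lit 32) (nat_lit 0x1958d28000000000f76c068f00000000a1279c0100000000e8afdd6b00000000b09d4f4e) (Net.cons (nat_lit 16) (nat_lit 0x3e82000048e2000038de000000a800005e0f000088a70000f52b0000e4b200006cd20000e0ea000000a3) (Net.cons (nat_lit 8) (nat_lit 0x1c00fe002c009600ec0038004500c100e300c700b200f700b0005e001200e10014006c008500e100cb0089) (Net.cons (nat_lit 4) (nat_lit 0x80e07050c0a09090f020e0a0f0a020b070e0d0d0d0b00090c040a0909090a000c0a080c06000e020e0008) (Net.cons (nat_lit 2) (nat_lit 0x1312122332323210123111222200332211110311323023312132031220230121200211201212122010303331) (Net.cons (nat_lit 1) (nat_lit 0x55015540450444501000054141005415551004005014154041105104555555150554040144115101415441) Net.nil)))))))))))))))))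

theorem o_g328_ok : Net.ok 351 o_g328 = true := by decide +kernel

noncomputable def o_g329 : Net := (Net.cons (nat_lit 1) (nat_lit 0x1514404054550410000000415155101444011400500054011040540000410501414050040000000000001000) (Net.cons (nat_lit 2) (nat_lit 0x202011202020030102003002031020221100320310030010311210220210202011010122000002200000100) (Net.cons (nat_lit 4) (nat_lit 0x30c010b0603080e010c0c09090c080803030408000009010304090802040800000404000000000001000600) (Net.cons (nat_lit 8) (nat_lit 0x5f006c00e400330050008200f100a800b200270068008a0011000100080028001000020050000200000000) (Net.cons (nat_lit 16) (nat_lit 0x66430000304e00002381000070c2000020050000162a000000080000221a000000040000020000000000) (Net.cons (nat_lit 32) (nat_lit 0x48a98c84000000008400d80a00000000001a0a6400000000068f04000000000044000589) (Net.cons (nat_lit 64) (nat_lit 0x4050443900000000000000004402d564268455080000000000000000e0fd195a00000000) (Net.cons (nat_lit 128) (nat_lit 0x64bc174b80100120000084640400d008)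 (Net.cons (nat_lit 256) (nat_lit 0x369951fce4fdbf7e4c44d589) (Net.cons (nat_lit 128) (nat_lit 0x23f210212c065369fca2c) (Net.cons (nat_lit 64) (nat_lit 0x405074bb00000000000000004412d1642694450a0000000000000000e4f9195a00001080) (Net.cons (nat_lit 32) (nat_lit 0x4ab99ca400000000ad95da2a00000000014a1aec00000000069f16000000000064941589) (Net.cons (nat_lit 16) (nat_lit 0x66430000344a0000278d000074c6000020050000122a000000080000221a0000040c0000020000000400) (Net.cons (nat_lit 8) (nat_lit 0x5f006c00e000370054008600f500ac00b20027006800cb0031000900080028001000060050000200040001) (Net.cons (nat_lit 4) (nat_lit 0x30c010b0603080e010c0c09090c080803030408000009010304090802040800000404000000000001000600) (Net.cons (nat_lit 2) (nat_lit 0x202011202020030102003002031020221100320310030010311310220210202011010122000002200000100) (Net.cons (nat_lit 1) (nat_lit 0x1514404054550410000000415155101444011400500054011040540000410501414050040000000000001000) Net.nil)))))))))))))))))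

theorem o_g329_ok : Net.ok 351 o_g329 = true := by decide +kernel

noncomputable def ot_c18_K : List Net := [o_g323, o_g324, o_g325, o_g326, o_g327, o_g328, o_g329]

theorem ot_c18_K_ok : okE 351 ot_c18_K = true := (okE_cons.2 ⟨o_g323_ok, (okE_cons.2 ⟨o_g324_ok, (okE_cons.2 ⟨o_g325_ok, (okE_cons.2 ⟨o_g326_ok, (okE_cons.2 ⟨o_g327_ok, (okE_cons.2 ⟨o_g328_ok, (okE_cons.2 ⟨o_g329_ok, (okE_nil 351)⟩)⟩)⟩)⟩)⟩)⟩)⟩)

noncomputable def o_g331 : Net := (Net.cons (nat_lit 1) (nat_lit 0x1040501515541444510145500015005541110511044550054041014415515541014451110001540450004440) (Net.cons (nat_lit 2) (nat_lit 0x1122001312132010330003213120123002000012000201302021220231011033222322302111131002200020) (Net.cons (nat_lit 4) (nat_lit 0x6000f010709080f010f03040902080e0d09030a070f0b000808070b070906080b050d0e0d01030d08030f00) (Net.cons (nat_lit 8) (nat_lit 0x6400a300920080007f009100b80077002b001e0092003a00de007d003500750012003c000d005b00b00000) (Net.cons (nat_lit 16) (nat_lit 0x31f10000d0130000f4c00000f38d000075060000877300008a9a0000907c00000b240000656600000000)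 (Net.cons (nat_lit 32) (nat_lit 0x840cc01a000000003fbd6643000000007200715c000000006ea144aa000000000c983e10) (Net.cons (nat_lit 64) (nat_lit 0x1ec8302f0000000000000000a0148d0ccc09141000000000000000002080000380000000) (Net.cons (nat_lit 128) (nat_lit 0x4a24f9f5c30008e10100910e068c242d) (Net.cons (nat_lit 256) (nat_lit 0x43da8cf369a09d3fbf9c76ef) (Net.cons (nat_lit 128) (nat_lit 0xb0fef08bfd3948021c4507f) (Net.cons (nat_lit 64) (nat_lit 0xa14320d00000000000000007aabfe9aa505187800000000000000000cca928172ef6850) (Net.cons (nat_lit 32) (nat_lit 0xb6fb8d5c00000000f33d21420000000014ab4ac500000000d1de32d800000000672578a6) (Net.cons (nat_lit 16) (nat_lit 0x7f590000f0370000955800009c8300007ebc0000aed70000beb30000f35800003ba700008840000045f0) (Net.cons (nat_lit 8) (nat_lit 0x50005a00fa00fc00b60032002b00db00ba002d003200a80041009f0049009f00a700c200720041009800e2) (Net.cons (nat_lit 4) (nat_lit 0x3050609020b0c0b0d070a07040908090b060d020f010a0e07020d0409020d09030e080b04060505010a0a00)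 (Net.cons (nat_lit 2) (nat_lit 0x221001130323303331200033032202302323303200210131011133203031313231202022213333111231020) (Net.cons (nat_lit 1) (nat_lit 0x51151140010404010500441110545105414054155511140401004104445541440451404010541110504100) Net.nil)))))))))))))))))

theorem o_g331_ok : Net.ok 351 o_g331 = true := by decide +kernel

noncomputable def o_g332 : Net := (Net.cons (nat_lit 1) (nat_lit 0x4514140551010055014044555544140501044501554451541111555011044141410005411404540044140) (Net.cons (nat_lit 2) (nat_lit 0x1120333220203021130100102022103130003012333211111130221000133000121030022212103213021022) (Net.cons (nat_lit 4) (nat_lit 0x20d00070a0a0a0902020d02040d0c0504080a0903080c070a0d0c0e03090e040c060806080a0c01050a0100) (Net.cons (nat_lit 8) (nat_lit 0x6d004400c600c0000a00280041000500e4003f009e00a8007c00d100d3004f00bc005a000000e400410080) (Net.cons (nat_lit 16) (nat_lit 0x5d24000018a500003b220000153e0000228400000c020000baaa0000f40d000090d50000870800008000) (Net.cons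 (nat_lit 32) (nat_lit 0xcce5087500000000a2aad962000000002be6d17400000000803200650000000043841981) (Net.cons (nat_lit 64) (nat_lit 0x4c506386000000000000000074c2f3940bb0185300000000000000002002828000000000) (Net.cons (nat_lit 128) (nat_lit 0x268d3948c06faa2d322282941f5101a2) (Net.cons (nat_lit 256) (nat_lit 0x61efbead7fa29a969f5767ff) (Net.cons (nat_lit 128) (nat_lit 0x702a07d27359487ab0ef3026) (Net.cons (nat_lit 64) (nat_lit 0x1f1441a00000000000000000c0e35af5f32f4832000000000000000031c1088aa8b06801) (Net.cons (nat_lit 32) (nat_lit 0x15d7093500000000b9a7c2ee0000000097378fae00000000b0a75cde000000004e3f4bc9) (Net.cons (nat_lit 16) (nat_lit 0x2d7f00008ab00000fd7a00008ee80000ed8b000091ed00003fd00000787d0000994100009b000000c964) (Net.cons (nat_lit 8) (nat_lit 0x7e0040000500d0008900fe00db009900e6005900fb00d4006c00e100e800d100ac00d2005e00a3007d009c) (Net.cons (nat_lit 4) (nat_lit 0x306040f0a0a0b0f0e030a0607040a060e0d0a080b020e08090701050d0005050e07030c050d0c0207020400) (Net.cons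 (nat_lit 2) (nat_lit 0x213202210203030130131102212133231210312200212223232030032032122121222213033233001210222) (Net.cons (nat_lit 1) (nat_lit 0x50151054545054015404005544454405115555110554501001040500510100545151001050400055444010) Net.nil)))))))))))))))))

theorem o_g332_ok : Net.ok 351 o_g332 = true := by decide +kernel

noncomputable def o_g333 : Net := (Net.cons (nat_lit 1) (nat_lit 0x105550414110151414040105040045140410141100445045111151011105505140001104404100014044010) (Net.cons (nat_lit 2) (nat_lit 0x21021333211001201020130120200321223301112113030001233300231302111121212030301002020100) (Net.cons (nat_lit 4) (nat_lit 0x3060d0b0f020c00060c0d0a0b08060a0e07090a07000a02070404010f000502080a080a0805090900020400) (Net.cons (nat_lit 8) (nat_lit 0x24001300f3005c00cd003c0029007f008700a600330012004000ae008400f600ac001f0018004900180000) (Net.cons (nat_lit 16) (nat_lit 0x4d04000079640000e4040000205900003104000022a1000051c80000d79200000e540000848000000000) (Net.cons (nat_lit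 32) (nat_lit 0xe1282490000000089c2144c00000000d1d0a000000000006302128c0000000000149410) (Net.cons (nat_lit 64) (nat_lit 0x141800c000000000000000000045a8410508404800000000000000000001220400000000) (Net.cons (nat_lit 128) (nat_lit 0x6e9f7d28404d810080120a110320088) (Net.cons (nat_lit 256) (nat_lit 0x6db6fc5e0881bba510bb718c) (Net.cons (nat_lit 128) (nat_lit 0xefdc29143a52c3317429658) (Net.cons (nat_lit 64) (nat_lit 0x16a812e00000000000000000a97f215f26b057c800000000000000008631261e04b01200) (Net.cons (nat_lit 32) (nat_lit 0x66168e5b0000000086ea1acc00000000d25c344100000000450e322c0000000037369210) (Net.cons (nat_lit 16) (nat_lit 0x67c4000073e40000ec4c00002ad90000394400006a21000059080000ffd30000265400008c4000000a80) (Net.cons (nat_lit 8) (nat_lit 0x25001300f3005c00dd003c002900ff008700a6003300920040002e005400f600bc001f0098004900180000) (Net.cons (nat_lit 4) (nat_lit 0x3060d0b0f020c01060c0d0a0b08060e0e07090a07020b02070406010e040502080a080a0805090d00020402) (Net.cons (nat_lit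 2) (nat_lit 0x21021333211003201020330120200221223301112112130101233301331302111121212030301002020100) (Net.cons (nat_lit 1) (nat_lit 0x105550414110151414040105040045140410141100445045111151011105505140001104405100014144010) Net.nil)))))))))))))))))

theorem o_g333_ok : Net.ok 351 o_g333 = true := by decide +kernel

noncomputable def o_g334 : Net := (Net.cons (nat_lit 1) (nat_lit 0x544005040145015140010541440155110545011555154005004550415544441045154141041001000114000) (Net.cons (nat_lit 2) (nat_lit 0x1330113003300002000231101311302232202213131323232033000023331333020300233212201232213000) (Net.cons (nat_lit 4) (nat_lit 0x3050904030c0e00010304000c020707040006080603010f09070b0e0f020309090400000b0a020800050c00) (Net.cons (nat_lit 8) (nat_lit 0x2b00310021001100360048003000ce004c008e0015002c009e00f6006e00d000600011007100f400110000) (Net.cons (nat_lit 16) (nat_lit 0x369400009e310000bbd000002819000078870000afc00000b0bb000080e8000097280000390900000000) (Net.cons (nat_lit 32)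 (nat_lit 0x7011a4600000000087bf81d0000000003f0873cc000000003011071600000000101620b0) (Net.cons (nat_lit 64) (nat_lit 0x5c72a6a60000000000000000980370a352a2b08d00000000000000000000130400000000) (Net.cons (nat_lit 128) (nat_lit 0x99afc2a2858cd8101005000518112244) (Net.cons (nat_lit 256) (nat_lit 0x25dcd9183805bf1758f3aef6) (Net.cons (nat_lit 128) (nat_lit 0x29b7b72b42c03249664c3782) (Net.cons (nat_lit 64) (nat_lit 0x1c2220d600000000000000008c1ce547d7a3ffac000000000000000006001201366b2422) (Net.cons (nat_lit 32) (nat_lit 0x64902b64000000007fa313440000000043f5b78900000000af902cdb000000001a97a5e2) (Net.cons (nat_lit 16) (nat_lit 0x162d000092200000b3d00000fd1c00004d260000b4c90000cf8e0000c14b0000f428000024f900001444) (Net.cons (nat_lit 8) (nat_lit 0x5500b9008500020036002c0034004400cd0002008400bc00d900c000810068002b0091005a007000940010) (Net.cons (nat_lit 4) (nat_lit 0x20d09010e0c0e04090300000d03020f0c0f0c0c03000f0f020f0d02090e0801090e0b070006040906080500) (Net.cons (nat_lit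 2) (nat_lit 0x11223230301002000231101011111321201011321333323113103333321031220302203223221232113000) (Net.cons (nat_lit 1) (nat_lit 0x54401554140011100010501140540540111115145055410010044145455040045144504441401005155000) Net.nil)))))))))))))))))

theorem o_g334_ok : Net.ok 351 o_g334 = true := by decide +kernel

noncomputable def o_g335 : Net := (Net.cons (nat_lit 1) (nat_lit 0x1500005100501004111410004001554000051100045051151004004001104001000155000040000000001000) (Net.cons (nat_lit 2) (nat_lit 0x321331030000103212000220203210201223013223000230311302230022002000200000020000000000000) (Net.cons (nat_lit 4) (nat_lit 0x5030300000a0f03010d000205040e020f010e000101030a0a0b070a0001040008060402010000010a0000) (Net.cons (nat_lit 8) (nat_lit 0x2b00040085007a00aa000c00d400a8004d00e000850060002d0070009c0012000000c00000000000000000) (Net.cons (nat_lit 16) (nat_lit 0x40400000149f000088120000d28800002e3800003a87000046d000007c00000088400000020400000000) (Net.cons (nat_lit 32) (nat_lit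 0x480101900000000aa28a01c00000000087554a100000000885006600000000008103200) (Net.cons (nat_lit 64) (nat_lit 0x2d193022000000000000000090c2468a24d2302100000000000000000000000000000000) (Net.cons (nat_lit 128) (nat_lit 0xfa6eae3c8042100800000680280100a1) (Net.cons (nat_lit 256) (nat_lit 0x5442924b920436c839b9b9f7) (Net.cons (nat_lit 128) (nat_lit 0x28d474a809b1ce97ae4542a3) (Net.cons (nat_lit 64) (nat_lit 0x2d193420000000000000000098c2ff1a6552d9e500000000000000000800881000004002) (Net.cons (nat_lit 32) (nat_lit 0x49a10d900000000aa28c09c000000000875742100000000a85006600000000008107240) (Net.cons (nat_lit 16) (nat_lit 0x40420000149f000098120000d28800000fb800003a970000675300005c100000a8c20000020500001000) (Net.cons (nat_lit 8) (nat_lit 0x2b00040085007a00ab000c00d400a8004d00e000850060002d0070009c0012000000c00000000000000000) (Net.cons (nat_lit 4) (nat_lit 0x5030300000a0f03010d000205040e020f010e000101030a0a0b070a0001040008060402010000010a0000) (Net.cons (nat_lit 2) (nat_lit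 0x321331030000103212000220203210201223013223000230311302230022002000200000020000000000000) (Net.cons (nat_lit 1) (nat_lit 0x1500005100501004111410004001554000051501045051151004004001104001000155000040400004001000) Net.nil)))))))))))))))))

theorem o_g335_ok : Net.ok 351 o_g335 = true := by decide +kernel

noncomputable def o_V336 : List Net := [o_g331, o_g332, o_g333, o_g334, o_g335]

theorem o_V336_ok : okE 351 o_V336 = true := (okE_cons.2 ⟨o_g331_ok, (okE_cons.2 ⟨o_g332_ok, (okE_cons.2 ⟨o_g333_ok, (okE_cons.2 ⟨o_g334_ok, (okE_cons.2 ⟨o_g335_ok, (okE_nil 351)⟩)⟩)⟩)⟩)⟩)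

noncomputable def o_V338 : List Net := [o_g332, o_g333, o_g334, o_g335]

theorem o_V338_ok : okE 351 o_V338 = true := (okE_cons.2 ⟨o_g332_ok, (okE_cons.2 ⟨o_g333_ok, (okE_cons.2 ⟨o_g334_ok, (okE_cons.2 ⟨o_g335_ok, (okE_nil 351)⟩)⟩)⟩)⟩)

noncomputable def o_V339 : List Net := [o_g334, o_g335]

theorem o_V339_ok : okE 351 o_V339 = true := (okE_cons.2 ⟨o_g334_ok, (okE_cons.2 ⟨o_g335_ok, (okE_nil 351)⟩)⟩)

noncomputable def o_V340 : List Net := [o_g335]

theorem o_V340_ok : okE 351 o_V340 = true := (okE_cons.2 ⟨o_g335_ok, (okE_nil 351)⟩)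

noncomputable def o_V341 : List Net := []

theorem o_V341_ok : okE 351 o_V341 = true := (okE_nil 351)

noncomputable def ot_c18_cnt_EG : List Net := [o_b, o_c, o_d, o_e, o_f, o_g, o_h, o_i, o_g1, o_g2, o_g3, o_g4, o_g5, o_g8, o_g9, o_g12, o_g13, o_g14, o_g17, o_g18, o_g19, o_g20, o_g23, o_g24, o_g25, o_g26, o_g27, o_g30, o_g31, o_g32, o_g35, o_g331, o_g332, o_g333, o_g334, o_g335]

theorem ot_c18_cnt_EG_ok : okE 351 ot_c18_cnt_EG = true := (okE_cons.2 ⟨o_b_ok, (okE_cons.2 ⟨o_c_ok, (okE_cons.2 ⟨o_d_ok, (okE_cons.2 ⟨o_e_ok, (okE_cons.2 ⟨o_f_ok, (okE_cons.2 ⟨o_g_ok, (okE_cons.2 ⟨o_h_ok, (okE_cons.2 ⟨o_i_ok, (okE_cons.2 ⟨o_g1_ok, (okE_cons.2 ⟨o_g2_ok, (okE_cons.2 ⟨o_g3_ok, (okE_cons.2 ⟨o_g4_ok, (okE_cons.2 ⟨o_g5_ok, (okE_cons.2 ⟨o_g8_ok, (okE_cons.2 ⟨o_g9_ok, (okE_cons.2 ⟨o_g12_ok, (okE_cons.2 ⟨o_g13_ok, (okE_cons.2 ⟨o_g14_ok, (okE_cons.2 ⟨o_g17_ok, (okE_cons.2 ⟨o_g18_ok, (okE_cons.2 ⟨o_g19_ok, (okE_cons.2 ⟨o_g20_ok, (okE_cons.2 ⟨o_g23_ok, (okE_cons.2 ⟨o_g24_ok, (okE_cons.2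 ⟨o_g25_ok, (okE_cons.2 ⟨o_g26_ok, (okE_cons.2 ⟨o_g27_ok, (okE_cons.2 ⟨o_g30_ok, (okE_cons.2 ⟨o_g31_ok, (okE_cons.2 ⟨o_g32_ok, (okE_cons.2 ⟨o_g35_ok, (okE_cons.2 ⟨o_g331_ok, (okE_cons.2 ⟨o_g332_ok, (okE_cons.2 ⟨o_g333_ok, (okE_cons.2 ⟨o_g334_ok, (okE_cons.2 ⟨o_g335_ok, (okE_nil 351)⟩)⟩)⟩)⟩)⟩)⟩)⟩)⟩)⟩)⟩)⟩)⟩)⟩)⟩)⟩)⟩)⟩)⟩)⟩)⟩)⟩)⟩)⟩)⟩)⟩)⟩)⟩)⟩)⟩)⟩)⟩)⟩)⟩)⟩)⟩)⟩)

noncomputable def o_g342 : Net := (Net.cons (nat_lit 1) (nat_lit 0x1505155151401050411410114515415445014005410104401450454540054014050054051110505555554510) (Net.cons (nat_lit 2) (nat_lit 0x323012222101012323313132013221202311121331003132033103320201133213311301313230322312332) (Net.cons (nat_lit 4) (nat_lit 0x50e01010f0a0c0a0a01060a0d0d0c0205080e000b02040b06070a00050a010b070200080e0c06080e070c00) (Net.cons (nat_lit 8) (nat_lit 0x7e007e000a008800ed008000d800ac006b00b10004004000a1002000cd00b000de00c10033000100fe0000) (Net.cons (nat_lit 16) (nat_lit 0x1959000044fe0000bbd10000f3200000a90a0000a9c8000014bf00001a720000410d000040b000000000)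 (Net.cons (nat_lit 32) (nat_lit 0x35ec24230000000012134e2a00000000c11ba56000000000875a528800000000001a6095) (Net.cons (nat_lit 64) (nat_lit 0x542199720000000000000000f090ad517300000900000000000000008800800600000000) (Net.cons (nat_lit 128) (nat_lit 0xd320ca94cc966430245191da83801709) (Net.cons (nat_lit 256) (nat_lit 0x4dbff4ffee71dddebbe27fdd) (Net.cons (nat_lit 128) (nat_lit 0x406a714705b1f4a170d0afb4) (Net.cons (nat_lit 64) (nat_lit 0x64efd2f60000000000000000f2bbb1ddaa7086ec00000000000000008b1347d66efd39ff) (Net.cons (nat_lit 32) (nat_lit 0x888b364900000000aab2aaa900000000c117335b00000000a2466138000000000fea82bf) (Net.cons (nat_lit 16) (nat_lit 0x2a5100004e920000088f000098cb000085d9000059010000c9f30000344400005c980000f1dd0000868d) (Net.cons (nat_lit 8) (nat_lit 0x3d003e003900e300370064008400ff0049005000520036007100ce00cf000e009000e000a8001600b20026) (Net.cons (nat_lit 4) (nat_lit 0x7040505050507010d0202040c030e0e040e040c0f0d0300020e0e0e0102010b050d0b0e070b0f060d070e00)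 (Net.cons (nat_lit 2) (nat_lit 0x130100112202002001120103132220201103201011313122302133331201332023221103033013311021110) (Net.cons (nat_lit 1) (nat_lit 0x1551151414554005515101414450110105404005400440511110054000450115054114541455051504450441) Net.nil)))))))))))))))))

theorem o_g342_ok : Net.ok 351 o_g342 = true := by decide +kernel

noncomputable def o_g343 : Net := (Net.cons (nat_lit 1) (nat_lit 0x1541454411550414100150410145045405444440515544100400155551154040410111451440511115450050) (Net.cons (nat_lit 2) (nat_lit 0x112323000301101110333323003031133012101311123123013001002211300210213001110103220000030) (Net.cons (nat_lit 4) (nat_lit 0x20502000307020f070d0b0e0d0b070e0a02020c030a0c01050802040f020a040f07020b08070a02000c0000) (Net.cons (nat_lit 8) (nat_lit 0x2800a3007600aa00cc0009003a0095002c0029003d003a008a00dd00ae006c00a200b200e2007100b40000) (Net.cons (nat_lit 16) (nat_lit 0x234000003c00000ba450000462e000040a90000af2100008c940000513c000040050000934c00000000) (Net.cons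 (nat_lit 32) (nat_lit 0x9d00cf5700000000198d1e0f0000000049566b8a00000000280493080000000066002049) (Net.cons (nat_lit 64) (nat_lit 0x4e1e703c0000000000000000b20d0aa4c995541900000000000000007860240900000000) (Net.cons (nat_lit 128) (nat_lit 0xdf34a288641020329610a8b28a6cc58f) (Net.cons (nat_lit 256) (nat_lit 0x7470b733fe70effbafffe7ef) (Net.cons (nat_lit 128) (nat_lit 0x27cba75c3739f4ed907a193c) (Net.cons (nat_lit 64) (nat_lit 0x17ce32ca000000000000000032d32dc8009d922a00000000000000001f2281b7a7177b45) (Net.cons (nat_lit 32) (nat_lit 0x3f029eb200000000e836bfb500000000d450888b00000000101f633300000000e1e47dbe) (Net.cons (nat_lit 16) (nat_lit 0x46970000b7d500001a500000cd4f0000d89d00007b710000888600009f66000041ff00008b9500005d4f) (Net.cons (nat_lit 8) (nat_lit 0x2f00c20050005200b500020018007d00dd00df003a005a0042007800cd008300d50000005f00a400370075) (Net.cons (nat_lit 4) (nat_lit 0x40a0a06010c0d0108020b010a08010602060c07020f0e01000c0806030303010f02040c090a01010a0f0506) (Net.cons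 (nat_lit 2) (nat_lit 0x1223321320203312223330103212020323231012031322302001301332231311311313010020202002123031) (Net.cons (nat_lit 1) (nat_lit 0x1440500154105515115411014455115504040554015114451411555154144444445404045444440410004010) Net.nil)))))))))))))))))

theorem o_g343_ok : Net.ok 351 o_g343 = true := by decide +kernel

noncomputable def o_g344 : Net := (Net.cons (nat_lit 1) (nat_lit 0x1114441155455551001100444514001041454410101541045500550511505455051000454404550550141515) (Net.cons (nat_lit 2) (nat_lit 0x332103220323323101310321012123002131033110022101013303230203112002212013322002200332220) (Net.cons (nat_lit 4) (nat_lit 0x404080207000d0809060d000c0b000003020a00050801060c020b08000f0a030b090f060f0a090d09060808) (Net.cons (nat_lit 8) (nat_lit 0x7b00b700df00ee009200ca005c00ec0023004600cc0048008e00e6003500a2004a00fd0017002300580000) (Net.cons (nat_lit 16) (nat_lit 0x40390000e2e20000987a000035520000014a0000e282000069c50000cf0e0000919a0000a31000000000) (Net.cons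 (nat_lit 32) (nat_lit 0x93a12002000000002221148c000000000903c01800000000899ab8ad0000000031628901) (Net.cons (nat_lit 64) (nat_lit 0x6a0e82c500000000000000009458213cc4802d580000000000000000d3a22a8980000000) (Net.cons (nat_lit 128) (nat_lit 0x64313cca220594121f04ad50c2e040a1) (Net.cons (nat_lit 256) (nat_lit 0x6a4ffe73ffa6efffd6eb45b5) (Net.cons (nat_lit 128) (nat_lit 0x60e13b4fa0caa9261eff8222) (Net.cons (nat_lit 64) (nat_lit 0x15a16b66000000000000000012a626da542707940000000000000000c7c00f285f3f5a21) (Net.cons (nat_lit 32) (nat_lit 0x8c7ec3b700000000fd3586a4000000008494f44c00000000dd353ef8000000002850b209) (Net.cons (nat_lit 16) (nat_lit 0x58be00006aa300003f430000185e00008c1f00008bc40000bad40000752800008e5c0000216f0000b56e) (Net.cons (nat_lit 8) (nat_lit 0x24007f00fa00e80014002100c000aa007900360089004b008a00ea008400ca00fa00a8002c004d0044000d) (Net.cons (nat_lit 4) (nat_lit 0x60d020b08090607020406070907050e02010c03090f0a020a080a000a0208090f080307040a090504030203) (Net.cons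 (nat_lit 2) (nat_lit 0x221313112013213030031331201010220310313333302223101322331232023212213301332013213310001) (Net.cons (nat_lit 1) (nat_lit 0x405410404554104541515405400401455545440011510054115400111154410111045545450450510110554) Net.nil)))))))))))))))))

theorem o_g344_ok : Net.ok 351 o_g344 = true := by decide +kernel

noncomputable def o_g345 : Net := (Net.cons (nat_lit 1) (nat_lit 0x1444515155445145051151140154414510415100115510414445400501554500000554004104105514554114) (Net.cons (nat_lit 2) (nat_lit 0x1201131130003321230121322010131123022101313101033130302033113030123201121211223130200300) (Net.cons (nat_lit 4) (nat_lit 0x50406060f000a04080f0f060b0a0403060e090702080a0e0508050c010c0d07020b03060a00090f000c0308) (Net.cons (nat_lit 8) (nat_lit 0x25003f003200d0008500f4009800750066005a00370013005b008200e800cd00fa00dd0052009b00300080) (Net.cons (nat_lit 16) (nat_lit 0x7c330000413b000068cd000003f600006ba5000096a5000043f30000ec04000000930000dc6700000000) (Net.cons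 (nat_lit 32) (nat_lit 0x99b663f8000000005930b6c2000000003422224000000000e8130aa10000000048030b62) (Net.cons (nat_lit 64) (nat_lit 0x745cc960000000000000000503643e16210490300000000000000002019002600000000) (Net.cons (nat_lit 128) (nat_lit 0xacdff937a5a558c3a4862067500c2318) (Net.cons (nat_lit 256) (nat_lit 0x6fa75fcbe79ff3eff55cebbe) (Net.cons (nat_lit 128) (nat_lit 0x46410e2375ee22e6d1fcf191) (Net.cons (nat_lit 64) (nat_lit 0x1ae62eaa000000000000000083b6bb1457c505b00000000000000000d917d8ee1534f101) (Net.cons (nat_lit 32) (nat_lit 0x862f00320000000010b52de1000000000a6fd1f0000000007d4bc7a8000000005ba0ad0f) (Net.cons (nat_lit 16) (nat_lit 0xcb40000811b0000b0c900009b3e0000aa2000003c9c000051b10000c07600009c0c00002bf100002f85) (Net.cons (nat_lit 8) (nat_lit 0x2000f7003c0016009e00570069006000e6000b00a600b8001d0056004a008d00830044001300be004100af) (Net.cons (nat_lit 4) (nat_lit 0x3030e080e090e0108030c0e0509050b05080a0b0a0b0c0f0602000d0e0c080b0706020605030a03070b000e) (Net.cons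 (nat_lit 2) (nat_lit 0x1130321220300301202003223311313120203312212102132131203330312120101200131210102233221021) (Net.cons (nat_lit 1) (nat_lit 0x1105400140400045050155150410004145011145141110554505501055145040540414100145005001105554) Net.nil)))))))))))))))))

theorem o_g345_ok : Net.ok 351 o_g345 = true := by decide +kernel

noncomputable def o_g346 : Net := (Net.cons (nat_lit 1) (nat_lit 0x455000444044044514551441144111050410444005540140050004151504400504051051000504451400410) (Net.cons (nat_lit 2) (nat_lit 0x3131202120322120332333112201131130131123302103222131001210030231033122330300222003020) (Net.cons (nat_lit 4) (nat_lit 0x700050d0e030a0d0806060704000906080e040604070208060504090a0c08020a0f06090b05060101000000) (Net.cons (nat_lit 8) (nat_lit 0x1900250082000a0024004000dc00f5006b00cb009a003b00880091007100660091006f0038008800ca0000) (Net.cons (nat_lit 16) (nat_lit 0x65a700000e280000f9360000db860000e04400004d1000008e1600006639000030180000000500000000) (Net.cons (nat_lit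 32) (nat_lit 0xd03b4a7d00000000a9c171cb000000006114047900000000231e858100000000002140c0) (Net.cons (nat_lit 64) (nat_lit 0x3f584d680000000000000000031034f8170468500000000000000000121b45a180000000) (Net.cons (nat_lit 128) (nat_lit 0xe1dd433d94804b04d0f0491269022ce) (Net.cons (nat_lit 256) (nat_lit 0x7f6e2ebddf1fe7f7be9363de) (Net.cons (nat_lit 128) (nat_lit 0x2cb13942f08d245912d4f24a) (Net.cons (nat_lit 64) (nat_lit 0x296d765f0000000000000000379698b64332e89200000000000000001a35ada7a24a0068) (Net.cons (nat_lit 32) (nat_lit 0x5007ea5b000000000bebf509000000007194b471000000006906ceaa0000000008aa3ca3) (Net.cons (nat_lit 16) (nat_lit 0x39a500000f0a0000d67200007547000005460000d19400009616000076210000a20800006d8400009424) (Net.cons (nat_lit 8) (nat_lit 0xa006900ae009e00cf005200fd00e6009800ce009400b6003800a1003d0042002100bf003800eb00c2002d) (Net.cons (nat_lit 4) (nat_lit 0x1030b0c0a090c06090e050c0c0505000c0e020c070b0806030c090c0b0c0a00010c080e0d0601010a0c00) (Net.cons (nat_lit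 2) (nat_lit 0x1003021312210022333002133123223101320321300302303323223131000100203001021212011233023131) (Net.cons (nat_lit 1) (nat_lit 0x451110444455155501450401154000001000445005541544015404011015410005014041100515405414414) Net.nil)))))))))))))))))

theorem o_g346_ok : Net.ok 351 o_g346 = true := by decide +kernel

noncomputable def o_g347 : Net := (Net.cons (nat_lit 1) (nat_lit 0x501010541505151000450100144005044001440401041515000011505015441055440540005545044004540) (Net.cons (nat_lit 2) (nat_lit 0x1222130031100033101332113021300031021232020220033232003020101333131122010012212033230320) (Net.cons (nat_lit 4) (nat_lit 0x60f0c0b080f080c09040f050f0307090c030009010d090a0b0f0d0f0e080006090c010d08050b0801050908) (Net.cons (nat_lit 8) (nat_lit 0x2800ef00f6004500d10045000900a6001900f100900085001100a0006000c100b600f40003002500020000) (Net.cons (nat_lit 16) (nat_lit 0x2296000009de0000fb880000825b0000410500002b620000ad1f00009c92000017f50000183000000000) (Net.cons (nat_lit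 32) (nat_lit 0xbc562688000000006088c91400000000121409cc000000004222fbc500000000107b0d12) (Net.cons (nat_lit 64) (nat_lit 0xf0e90800000000000000000766b500e3260e4040000000000000000faad14b200000000) (Net.cons (nat_lit 128) (nat_lit 0x400a78c254408700333c922801052044) (Net.cons (nat_lit 256) (nat_lit 0x5ddebf73ffbff7ffc36526ff) (Net.cons (nat_lit 128) (nat_lit 0x3dfa92570cc9b305dec4dc47) (Net.cons (nat_lit 64) (nat_lit 0x2a6584b300000000000000006e08d2c07dc1490700000000000000000ad5627a00c5a065) (Net.cons (nat_lit 32) (nat_lit 0x967497530000000061810b14000000005a70d9270000000043ea87c100000000833b6ba5) (Net.cons (nat_lit 16) (nat_lit 0x12b600002c3e0000adbb0000aa5300007b4500002baf0000713a0000dde80000f91300002e17000083c8) (Net.cons (nat_lit 8) (nat_lit 0x6900de001100a300e1001c00b100a0003f00f800d1000400fa00b9002f008100ba00b6006500c7001600c2) (Net.cons (nat_lit 4) (nat_lit 0x20c0f0b080b0c0a09060e070808060b01070409010f0d0207080f02060f01010704000b0d000b0c01010903) (Net.cons (nat_lit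 2) (nat_lit 0x121102131100113130313031321312002011212201330010202323121300322323313030113210230220032) (Net.cons (nat_lit 1) (nat_lit 0x1401110504105051054511140000005045051040505440551444500155414440005441540401145454004441) Net.nil)))))))))))))))))

theorem o_g347_ok : Net.ok 351 o_g347 = true := by decide +kernel

noncomputable def o_g348 : Net := (Net.cons (nat_lit 1) (nat_lit 0x501110010500501415551041110155411000041015141550045450050000040140011105000004000000000) (Net.cons (nat_lit 2) (nat_lit 0x1101010201211330223220133220000211300010311220201012201000030211000011022000020000000000) (Net.cons (nat_lit 4) (nat_lit 0x500000b040a0a04020506020a09020d0201000a0d01080e0005040101010200010000000800020000010000) (Net.cons (nat_lit 8) (nat_lit 0x42001000c10035003a00450086002d002700b2000a007c00d0008200800028004000000004000200000000) (Net.cons (nat_lit 16) (nat_lit 0x4240000051f80000a0410000e9410000860400002375000074d400000060000001010000000000000000) (Net.cons (nat_lit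 32) (nat_lit 0xcd8d283b0000000048ac440500000000000048e200000000000015000000000000000210) (Net.cons (nat_lit 64) (nat_lit 0x610844520000000000000000005c4385450186730000000000000000186d202000000000) (Net.cons (nat_lit 128) (nat_lit 0x29dcff8980060673a800040144c00000) (Net.cons (nat_lit 256) (nat_lit 0x7506467bb86fade356ea0279) (Net.cons (nat_lit 128) (nat_lit 0xc373c52c900240de1d4bf23) (Net.cons (nat_lit 64) (nat_lit 0x6509467b0000000000000000015c43cd4119fc520000000000000000396d002804103a29) (Net.cons (nat_lit 32) (nat_lit 0xed8f283b000000004a8c642500000000200448e200000000200015000000000020062210) (Net.cons (nat_lit 16) (nat_lit 0x4348000051f8000080430000c9e10000862400000375000074d400002060000001210000000200002008) (Net.cons (nat_lit 8) (nat_lit 0x42001000c10035003a00450086002f002700b2000a007c00d0008200c00028004000000004000200000000) (Net.cons (nat_lit 4) (nat_lit 0x500020b040a0a04020506020a09020d0301000a0d01080e0005040101010200010000000800020000010000) (Net.cons (nat_lit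 2) (nat_lit 0x1101010201211330223220133220000211300010311220201013221000031211000011022000020000000000) (Net.cons (nat_lit 1) (nat_lit 0x501110010500501415551041110155411000041015141550045450050000040140011105000004000000000) Net.nil)))))))))))))))))

theorem o_g348_ok : Net.ok 351 o_g348 = true := by decide +kernel

noncomputable def ot_c19_K : List Net := [o_g343, o_g344, o_g345, o_g346, o_g347, o_g348]

theorem ot_c19_K_ok : okE 351 ot_c19_K = true := (okE_cons.2 ⟨o_g343_ok, (okE_cons.2 ⟨o_g344_ok, (okE_cons.2 ⟨o_g345_ok, (okE_cons.2 ⟨o_g346_ok, (okE_cons.2 ⟨o_g347_ok, (okE_cons.2 ⟨o_g348_ok, (okE_nil 351)⟩)⟩)⟩)⟩)⟩)⟩)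

noncomputable def ot_c19_cnt_EG : List Net := [o_g1, o_g, o_g2, o_g3, o_g4, o_g5, o_g8, o_g9, o_g12, o_g13, o_g14, o_g17, o_g18, o_g19, o_g20, o_g23, o_g24, o_g25, o_g26, o_c, o_g27, o_g30, o_g31, o_g32, o_g35, o_b, o_d, o_e, o_f, o_h, o_i, o_g88, o_g89, o_g90, o_g91, o_g92, o_g93, o_g94]

theorem ot_c19_cnt_EG_ok : okE 351 ot_c19_cnt_EG = true := (okE_cons.2 ⟨o_g1_ok, (okE_cons.2 ⟨o_g_ok, (okE_cons.2 ⟨o_g2_ok, (okE_cons.2 ⟨o_g3_ok, (okE_cons.2 ⟨o_g4_ok, (okE_cons.2 ⟨o_g5_ok, (okE_cons.2 ⟨o_g8_ok, (okE_cons.2 ⟨o_g9_ok, (okE_cons.2 ⟨o_g12_ok, (okE_cons.2 ⟨o_g13_ok, (okE_cons.2 ⟨o_g14_ok, (okE_cons.2 ⟨o_g17_ok, (okE_cons.2 ⟨o_g18_ok, (okE_cons.2 ⟨o_g19_ok, (okE_cons.2 ⟨o_g20_ok, (okE_cons.2 ⟨o_g23_ok, (okE_cons.2 ⟨o_g24_ok, (okE_cons.2 ⟨o_g25_ok, (okE_cons.2 ⟨o_g26_ok, (okE_cons.2 ⟨o_c_ok, (okE_cons.2 ⟨o_g27_ok, (okE_cons.2 ⟨o_g30_ok, (okE_cons.2 ⟨o_g31_ok, (okE_cons.2 ⟨o_g32_ok, (okE_cons.2 ⟨o_g35_ok, (okE_cons.2 ⟨o_b_ok, (okE_cons.2 ⟨o_d_ok, (okE_cons.2 ⟨o_e_ok, (okE_cons.2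 ⟨o_f_ok, (okE_cons.2 ⟨o_h_ok, (okE_cons.2 ⟨o_i_ok, (okE_cons.2 ⟨o_g88_ok, (okE_cons.2 ⟨o_g89_ok, (okE_cons.2 ⟨o_g90_ok, (okE_cons.2 ⟨o_g91_ok, (okE_cons.2 ⟨o_g92_ok, (okE_cons.2 ⟨o_g93_ok, (okE_cons.2 ⟨o_g94_ok, (okE_nil 351)⟩)⟩)⟩)⟩)⟩)⟩)⟩)⟩)⟩)⟩)⟩)⟩)⟩)⟩)⟩)⟩)⟩)⟩)⟩)⟩)⟩)⟩)⟩)⟩)⟩)⟩)⟩)⟩)⟩)⟩)⟩)⟩)⟩)⟩)⟩)⟩)⟩)⟩)

noncomputable def o_g350 : Net := (Net.cons (nat_lit 1) (nat_lit 0x5114004011415401115045100101051511140411141154151415414504505454514410451405440450005) (Net.cons (nat_lit 2) (nat_lit 0x111211130202301020203332333211203100031101332310233213331212301210301332300332231031120) (Net.cons (nat_lit 4) (nat_lit 0x30a050f080101030c0e070602040008080803010507030e040f0c0e0009050f0b0905090209060b07080308) (Net.cons (nat_lit 8) (nat_lit 0x54000b00da009f00db008b008300b800e600c70008003600c200f1008b0060003200da0026000c00510000) (Net.cons (nat_lit 16) (nat_lit 0x73940000e1d40000e149000062fc0000ae2700003911000035a40000884d00009c490000b40800000000) (Net.cons (nat_lit 32) (nat_lit 0xd855f89d0000000016d438e0000000004a0517190000000000fe9170000000004013880e)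 (Net.cons (nat_lit 64) (nat_lit 0x531324c0000000000000000a12202051b45ad1200000000000000002810004200000000) (Net.cons (nat_lit 128) (nat_lit 0xe28a6ca40addac8280a6020450204094) (Net.cons (nat_lit 256) (nat_lit 0x7adfefe3acb6936f776078fd) (Net.cons (nat_lit 128) (nat_lit 0x64ba599195234803259a22d9) (Net.cons (nat_lit 64) (nat_lit 0x6420109c000000000000000023e38b263fe07b4900000000000000004e39605247bbf243) (Net.cons (nat_lit 32) (nat_lit 0xc64322b50000000079d14771000000008848052f000000008958fc21000000003392f20e) (Net.cons (nat_lit 16) (nat_lit 0x37e7000003120000cb020000fb2f0000029b000084350000c8d6000030dc0000b14b0000792500002040) (Net.cons (nat_lit 8) (nat_lit 0x240099009f00f300020073000b00fb002f00c200bc003400b400f5008900f3009000c90021001300580085) (Net.cons (nat_lit 4) (nat_lit 0x60304040a0f03050b0b050a0b080504020507000b03000c06030e0d0a01040c0d060402090b0d050d080c06) (Net.cons (nat_lit 2) (nat_lit 0x313230121113021010100001302210121000100333323301331033201201000333001001302220313023003)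 (Net.cons (nat_lit 1) (nat_lit 0x1000110104145551004001151404444011011444004144455411551155005114100010145441051510040005) Net.nil)))))))))))))))))

theorem o_g350_ok : Net.ok 351 o_g350 = true := by decide +kernel

noncomputable def o_g351 : Net := (Net.cons (nat_lit 1) (nat_lit 0x1405011001044005154404145000051455141450041104154040510004141150010455500400115411405514) (Net.cons (nat_lit 2) (nat_lit 0x1211113313111131123331011011113132211302030002121120300330323023031030123130320221322122) (Net.cons (nat_lit 4) (nat_lit 0x507080e090f0b0a0a080108060e010700040e0b0009020c000305040f09020c0d0e00090301070f01030208) (Net.cons (nat_lit 8) (nat_lit 0x7800ee009a005e00d900b10021003e008500b70055009c0089008300d900e6007c006300e900e200100000) (Net.cons (nat_lit 16) (nat_lit 0x125e0000956800002f040000e733000007350000e3440000898e00004f250000109a0000243800008000) (Net.cons (nat_lit 32) (nat_lit 0xaf17947f00000000786f22ce0000000014286f4800000000e604a2a80000000073d84005) (Net.cons (nat_lit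 64) (nat_lit 0x34ca5cc50000000000000000b009cbb025203c8a0000000000000000869f054180000000) (Net.cons (nat_lit 128) (nat_lit 0x98c77aee853203032a8fcca9d00a6794) (Net.cons (nat_lit 256) (nat_lit 0x47f62ff7ffbfffe9f0fbf7f7) (Net.cons (nat_lit 128) (nat_lit 0x51ad48596dd7c13ae1635584) (Net.cons (nat_lit 64) (nat_lit 0x6099c6cb0000000000000000fcb9569f3738d9670000000000000000bc46b43a88327fc5) (Net.cons (nat_lit 32) (nat_lit 0xbbe1d10300000000bab1de2700000000f095665300000000a77fb4a200000000b124bdb1) (Net.cons (nat_lit 16) (nat_lit 0x36910000ce7900002921000094820000a165000074cc0000eea000002f0b00008c1500005c2a00002c78) (Net.cons (nat_lit 8) (nat_lit 0x1d005b009e00f5001a00700086008f0052001000d8009f007500480008002000cb00ba00d900e3007f00d0) (Net.cons (nat_lit 4) (nat_lit 0x4090c03010b0a0800030a0609090b0c030103010f03090b0b07060802090906010d0f080c050b0b06020607) (Net.cons (nat_lit 2) (nat_lit 0x133123013032101111011333223311101222203312102113020221032232123112022320100132300210221)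 (Net.cons (nat_lit 1) (nat_lit 0x55554144014401114505101555145140045155455041100154414500054545000110105044111004051540) Net.nil)))))))))))))))))

theorem o_g351_ok : Net.ok 351 o_g351 = true := by decide +kernel

noncomputable def o_g352 : Net := (Net.cons (nat_lit 1) (nat_lit 0x504550145550505440441540001450051550040044054455050404501454145104101044141004051451104) (Net.cons (nat_lit 2) (nat_lit 0x1231331013212210021301230110300220002113033332122203022333220202301303000202301203310230) (Net.cons (nat_lit 4) (nat_lit 0x70701050f020a0004020203000a020d0a0208060a0e020c0f040e010d0d0d0100050c0e060a0d080d010408) (Net.cons (nat_lit 8) (nat_lit 0x4b0056006d009f004b00a30059004d008a00a9000500c8000c00db00b4004a005a004c00c4008e00250000) (Net.cons (nat_lit 16) (nat_lit 0x3a04000089d00000a493000000120000c9dc00009070000035ec00004c080000a0ce0000459400000000) (Net.cons (nat_lit 32) (nat_lit 0x6da5a93a00000000fea0096f0000000039cad974000000000493e378000000000973107c) (Net.cons (nat_lit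 64) (nat_lit 0x33c6a1c00000000000000004092c061200c9c42000000000000000081032ba900000000) (Net.cons (nat_lit 128) (nat_lit 0xa9cec9098a0c8cc152b20120cd2022a2) (Net.cons (nat_lit 256) (nat_lit 0x4edf9ee5dff3ffefed38effa) (Net.cons (nat_lit 128) (nat_lit 0x3b9ad9b1c9b701de4681c391) (Net.cons (nat_lit 64) (nat_lit 0x5e20dde80000000000000000755892622937d3d7000000000000000009c5f5e8f488549b) (Net.cons (nat_lit 32) (nat_lit 0xd7ff03e3000000000f25e19c000000002684697500000000276f2475000000001322ffbf) (Net.cons (nat_lit 16) (nat_lit 0x279a00002d870000f4190000a9850000696600007e0500000ae500005862000011b80000cde00000105b) (Net.cons (nat_lit 8) (nat_lit 0x53008d006800df0021004d009200dc005b001d009000d900cc003f00c80049009c0040005e00a2003600c4) (Net.cons (nat_lit 4) (nat_lit 0x7070907090f08030e080002090d08040303030e0709060b08040b030a0b04080909050c0f0d000a0d0c070d) (Net.cons (nat_lit 2) (nat_lit 0x1112233131132310120100331101300323103221111323230311223103231123233312321222030003220121)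 (Net.cons (nat_lit 1) (nat_lit 0x1004401105405514045010514450411140141144104401404115145410040550450140154001411154150410) Net.nil)))))))))))))))))

theorem o_g352_ok : Net.ok 351 o_g352 = true := by decide +kernel

noncomputable def o_g353 : Net := (Net.cons (nat_lit 1) (nat_lit 0x1505444014055550050100050550414055405105001444401040541444401145444101414001551045500400) (Net.cons (nat_lit 2) (nat_lit 0x211112132132031301233210021130023011113331133310211002203013321021121201303333022022110) (Net.cons (nat_lit 4) (nat_lit 0x30f0f060e030f060a0a0106090e050f070208020506030709070c0803060e040300030700010a0c0b0a0200) (Net.cons (nat_lit 8) (nat_lit 0x2200f40006006b00b400ea00a1000d00a7004700170042005100c70047000b000000c600b200e800ad0080) (Net.cons (nat_lit 16) (nat_lit 0x4b7400009c3f000003c00000f3d400005a89000014f80000fc2b0000d09c0000abf10000b2c900000000) (Net.cons (nat_lit 32) (nat_lit 0x8f9f465800000000868b273900000000940789ad00000000633f1468000000000983ed52) (Net.cons (nat_lit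 64) (nat_lit 0x1e06a42a0000000000000000081d208474140a8800000000000000003e80a35000000000) (Net.cons (nat_lit 128) (nat_lit 0x86983cbd04103a504c904080422cc1ae) (Net.cons (nat_lit 256) (nat_lit 0x459fff5d7fd0effcde3efbee) (Net.cons (nat_lit 128) (nat_lit 0x547d1494f7b5d5ea22d2eacf) (Net.cons (nat_lit 64) (nat_lit 0x20a13baf00000000000000001e75500b7c0b11c600000000000000003a3d9ad233f9c622) (Net.cons (nat_lit 32) (nat_lit 0x899a4a3c00000000729a72010000000086defde400000000fdfa1015000000000a16d694) (Net.cons (nat_lit 16) (nat_lit 0x117c0000767000006fa50000eda500001643000051e600004aee00003570000033c40000a67b000004c4) (Net.cons (nat_lit 8) (nat_lit 0x4000bb006c00b000c900aa00fb005500a7004d007500ef00870049004d004900b40027009e0082004c00a0) (Net.cons (nat_lit 4) (nat_lit 0x40b03060e070208010a0507080b020d04030805030c0b0a0d070d000b0e07010308000303090708080f0a03) (Net.cons (nat_lit 2) (nat_lit 0x221112232211102130302323001310030101023233333331332000101300123010012032301113120130300)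 (Net.cons (nat_lit 1) (nat_lit 0x504145000445545000500150450040051040145045041511050041104405105450100041044041050500111) Net.nil)))))))))))))))))

theorem o_g353_ok : Net.ok 351 o_g353 = true := by decide +kernel

noncomputable def o_g354 : Net := (Net.cons (nat_lit 1) (nat_lit 0x1150154150155410411005455100115015415015541041100545510011440544555111511014441155015010) (Net.cons (nat_lit 2) (nat_lit 0x223212200211002003322130300022321220021100200332213030010020032133332300000211231220210) (Net.cons (nat_lit 4) (nat_lit 0x50904080a09010a030d00050d00010904080a0d010e030d000109000204080707080b050b0905020c060a00) (Net.cons (nat_lit 8) (nat_lit 0x49007500280088008600860086004f00f300aa000e004000000000007300e8001f00c300b2000400600080) (Net.cons (nat_lit 16) (nat_lit 0x29a60000b95a0000183e0000e079000065ac0000a534000000000000307900002424000000b300000000) (Net.cons (nat_lit 32) (nat_lit 0x8169780300000000d0b601010000000002107414000000001382ab010000000000000000) (Net.cons (nat_lit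 64) (nat_lit 0x123a10720000000000000000000844838000000000000000000000000000000000000000) (Net.cons (nat_lit 128) (nat_lit 0x8000000018a6d5d4288e6e9ba61d00ae) (Net.cons (nat_lit 256) (nat_lit 0x18a6d5d4288e6e9ba61d00ae) (Net.cons (nat_lit 128) (nat_lit 0x18a6d5d4288e6e9ba61d00ae) (Net.cons (nat_lit 64) (nat_lit 0x43422284000000000000000022b617d9454a846700000000000000000a09d6e195cb6d8e) (Net.cons (nat_lit 32) (nat_lit 0x82d1df2900000000d0b2e2670000000026a0d26400000000799bff2000000000a0426c38) (Net.cons (nat_lit 16) (nat_lit 0x4a5600003da000005e90000000cf0000d548000000180000143a00005bb20000a13f000000f2000023c1) (Net.cons (nat_lit 8) (nat_lit 0x6b00a1009700aa0026005600c500ed00670091002800e000d00043003100b80091000b000b00a6002a00c4) (Net.cons (nat_lit 4) (nat_lit 0x2090a0a0a0603020a0500060f0206090a0e0a0203060e0500060f02000c0c0502020e0d0b090f0a0d0c0006) (Net.cons (nat_lit 2) (nat_lit 0x331233120133202311113000310033123312013320231111300031010013331001313310020023120202301)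 (Net.cons (nat_lit 1) (nat_lit 0x15540554001410400015544001001554055400141040001554400110414040015105151115400440055415) Net.nil)))))))))))))))))

theorem o_g354_ok : Net.ok 351 o_g354 = true := by decide +kernel

noncomputable def o_g355 : Net := (Net.cons (nat_lit 1) (nat_lit 0x541100555145000010004455000050010054404500000000400400001050400150451044100441104004000) (Net.cons (nat_lit 2) (nat_lit 0x1222322322221322201033000032030330030103000020000000000011121002010330200210023202001000) (Net.cons (nat_lit 4) (nat_lit 0x50e010e0301030a00040c000803000e070c02020200020100000800040306000f0600040404000a04000000) (Net.cons (nat_lit 8) (nat_lit 0x2800b0000200800066003a00e0000800de00260080000200080080005800600048001e005800ac00020000) (Net.cons (nat_lit 16) (nat_lit 0xcee0000908a0000c00000001e0200004066000002000000000000004828000009020000198e00000000) (Net.cons (nat_lit 32) (nat_lit 0x1201195300000000905a810400000000400088900000000003282c030000000000000000) (Net.cons (nat_lit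 64) (nat_lit 0x4a000bc000000000000000000080024a0000000000000000000000000000000000000000) (Net.cons (nat_lit 128) (nat_lit 0x800000000ac2a3088082035b448398ea) (Net.cons (nat_lit 256) (nat_lit 0xac2a3088082035b448398ea) (Net.cons (nat_lit 128) (nat_lit 0xac2a3088082035b448398ea) (Net.cons (nat_lit 64) (nat_lit 0x72a047d400000000000000006cd0826cb88c48020000000000000000010b204122230d5a) (Net.cons (nat_lit 32) (nat_lit 0x1a01115100000000b87a81060000000068808a1200000000476da44f000000004889924c) (Net.cons (nat_lit 16) (nat_lit 0x46e0000b8ca0000c80000001e030000486600000a80000000800000582800001b2a00001d8600000008) (Net.cons (nat_lit 8) (nat_lit 0x2800b0008600800066003b00e0000800de00370080000300080080005400600044001e007800ac00020008) (Net.cons (nat_lit 4) (nat_lit 0x70e010e0301030a08040c000803020e070c020202000a0100000800040306000f0600040404000a04000000) (Net.cons (nat_lit 2) (nat_lit 0x1222322322223322201033000232030330030103200020000000020011121002010330200210023202001000) (Net.cons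 (nat_lit 1) (nat_lit 0x541100555145000010004455000050010054404500000000400400001050400150451044100441104004000) Net.nil)))))))))))))))))

theorem o_g355_ok : Net.ok 351 o_g355 = true := by decide +kernel

noncomputable def ot_c20_K : List Net := [o_g351, o_g352, o_g353, o_g354, o_g355]

theorem ot_c20_K_ok : okE 351 ot_c20_K = true := (okE_cons.2 ⟨o_g351_ok, (okE_cons.2 ⟨o_g352_ok, (okE_cons.2 ⟨o_g353_ok, (okE_cons.2 ⟨o_g354_ok, (okE_cons.2 ⟨o_g355_ok, (okE_nil 351)⟩)⟩)⟩)⟩)⟩)

noncomputable def o_g357 : Net := (Net.cons (nat_lit 1) (nat_lit 0x1150155410454400514444444144440540010510115500111110141115015050501144514044115004510440) (Net.cons (nat_lit 2) (nat_lit 0x202112330023122112330221323323200202112012223020302013010331133300203230023210000011020) (Net.cons (nat_lit 4) (nat_lit 0x602030e0d0a0d0300010b0e0005040008030b050d0e0f0a090504080100020d0609090d0a0e00030b0c0800) (Net.cons (nat_lit 8) (nat_lit 0x12003d005900160049007800a30051007e00380023003a0041008000380003006b0094001e00a200b10000)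 (Net.cons (nat_lit 16) (nat_lit 0x7f40000f1210000fc880000162a00004ec5000094c1000000000000ec5d0000400200000f0000000000) (Net.cons (nat_lit 32) (nat_lit 0xd8055a640000000028e3a2700000000030558e270000000082311d120000000000000000) (Net.cons (nat_lit 64) (nat_lit 0x181e3cbc00000000000000002110d0ae0000000000000000000000000000800000000000) (Net.cons (nat_lit 128) (nat_lit 0x84e069bbdd7d6bef170b866) (Net.cons (nat_lit 256) (nat_lit 0x84e069bbdd7d6bef170b866) (Net.cons (nat_lit 128) (nat_lit 0x84e069bbdd756bef170b866) (Net.cons (nat_lit 64) (nat_lit 0x3bdb21cf0000000000000000080a9ca29ab9264300000000000000007acf9281d0702d36) (Net.cons (nat_lit 32) (nat_lit 0x9d83f43200000000a0b276c1000000007286782c00000000d68f70ba00000000d3604430) (Net.cons (nat_lit 16) (nat_lit 0x2eb4000058f30000a6bd00005e6a000076c50000e7f50000efc100009a38000093df0000f68a000044e0) (Net.cons (nat_lit 8) (nat_lit 0x2003e00f90085009a0066009d009100e6000800aa008900a20076007e002d008900650052000000510064) (Net.cons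 (nat_lit 4) (nat_lit 0x60003070d02030103000d0900040400080a0b040e0a08020a0b060407030b07050e080f0c0e050b02060c06) (Net.cons (nat_lit 2) (nat_lit 0x203102231023230033020232323323002200112030333133223312010131320130200210210302033221110) (Net.cons (nat_lit 1) (nat_lit 0x1154154410504550440411151551440140010505100515514440400410015050150140510044015000110410) Net.nil)))))))))))))))))

theorem o_g357_ok : Net.ok 351 o_g357 = true := by decide +kernel

noncomputable def o_g358 : Net := (Net.cons (nat_lit 1) (nat_lit 0x1454410401505045105541454111404151401001054504410111500010044040100000000000000000041) (Net.cons (nat_lit 2) (nat_lit 0x1201200102002331121030112223130020132330003030201011221000023000023100202200001000020000) (Net.cons (nat_lit 4) (nat_lit 0x70a0b050c020b0d0e0609080408040e000c0d080108080206060808040c080401000b0c0a08000000000100) (Net.cons (nat_lit 8) (nat_lit 0x47003400a0003e00b50021003e004800d60059007400e30061001a00430014008800000048000400080080) (Net.cons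 (nat_lit 16) (nat_lit 0x67b300008a6b0000e8e80000d9f50000d1d5000072b9000092f80000c0200000fb580000e83900000000) (Net.cons (nat_lit 32) (nat_lit 0x26f8333c000000005fdd2aa200000000b1d4d7e2000000006004010d00000000006a4156) (Net.cons (nat_lit 64) (nat_lit 0x558b81c00000000000000003088240313a8260b00000000000000000000fca480000000) (Net.cons (nat_lit 128) (nat_lit 0xe6d70b1e28d309b65daaa29399522719) (Net.cons (nat_lit 256) (nat_lit 0x7ed3cffffffffef7dd7b77df) (Net.cons (nat_lit 128) (nat_lit 0x729bddc65b65174e44e3cf7a) (Net.cons (nat_lit 64) (nat_lit 0x51a87aeb0000000000000000f11dd1530d60aa390000000000000000a05374a8c8085061) (Net.cons (nat_lit 32) (nat_lit 0xe365d688000000005d2421b700000000b0e7db6d00000000e6044735000000000063c952) (Net.cons (nat_lit 16) (nat_lit 0x7a20000ee4600002d4300005e040000557c000017870000060e000082330000bb5400006835000001d0) (Net.cons (nat_lit 8) (nat_lit 0x4800d60059007400e30061001a0067003400a0007e00b50021003e004300140088004000480004000800a0) (Net.cons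 (nat_lit 4) (nat_lit 0x40e000c0d080108080206060808070a0b050c020b0d0e0609080408040c080401000b0c0a08000000000100) (Net.cons (nat_lit 2) (nat_lit 0x1300201323300030302010112210120120010200233112103011222300023000023100202200001000020000) (Net.cons (nat_lit 1) (nat_lit 0x1114041514010010545044101115000145441040150504510554145400010044040100000000000000000041) Net.nil)))))))))))))))))

theorem o_g358_ok : Net.ok 351 o_g358 = true := by decide +kernel

noncomputable def o_g359 : Net := (Net.cons (nat_lit 1) (nat_lit 0x1454410401505045105541454111404151401001054504410111500010044040100000000000000000041) (Net.cons (nat_lit 2) (nat_lit 0x1201200100002331121030112223330000132330003030201011221000023000023100202000001000020000) (Net.cons (nat_lit 4) (nat_lit 0x70a0b050c020b0d0e0609000408040e020c0d0801080802060608000404080401000b0c0200000000000100) (Net.cons (nat_lit 8) (nat_lit 0x4f0034002200be00b500a1003e00c800d60059007400e30061001200430094008000800040000400000000) (Net.cons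 (nat_lit 16) (nat_lit 0x3021000058bd0000803d00004824000019a50000434c0000098e00003840000040840000004000000000) (Net.cons (nat_lit 32) (nat_lit 0xf54c3bf0000000000fd704340000000070aab24d0000000006e528210000000010008000) (Net.cons (nat_lit 64) (nat_lit 0x44292179000000000000000031ab4640402a206d00000000000000002090a8b200000000) (Net.cons (nat_lit 128) (nat_lit 0x7ecee67a800ca8240122110930240200) (Net.cons (nat_lit 256) (nat_lit 0x5e0da86cb5bbb9bb30bc2bb5) (Net.cons (nat_lit 128) (nat_lit 0x13cfe29436711047d679244) (Net.cons (nat_lit 64) (nat_lit 0x4469217d000000000000000051ca6e4840ab3049000000000000000060d0a8ba00001004) (Net.cons (nat_lit 32) (nat_lit 0xf54c3bf8000000004fd605b40000000070abb2450000000006e528290000000050018000) (Net.cons (nat_lit 16) (nat_lit 0x74210000589c0000803d0000680400001bad0000434c000029af00003840000042840000204100000000) (Net.cons (nat_lit 8) (nat_lit 0x6f0034002200fe00b500a1003e00c800d60059007400e30061001200430094008000c00040000400000020) (Net.cons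 (nat_lit 4) (nat_lit 0x70a0b050c020b0d0e0609000408040e020c0d0801080802060608000404080401000b0c0200000000000100) (Net.cons (nat_lit 2) (nat_lit 0x1201200100002331121030112223330000132330003030201011221000023000023100202000001000020000) (Net.cons (nat_lit 1) (nat_lit 0x1454410401505045105541454111404151401001054504410111500010044040100000000000000000041) Net.nil)))))))))))))))))

theorem o_g359_ok : Net.ok 351 o_g359 = true := by decide +kernel

noncomputable def o_V360 : List Net := [o_g171, o_g357, o_g358, o_g359]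

theorem o_V360_ok : okE 351 o_V360 = true := (okE_cons.2 ⟨o_g171_ok, (okE_cons.2 ⟨o_g357_ok, (okE_cons.2 ⟨o_g358_ok, (okE_cons.2 ⟨o_g359_ok, (okE_nil 351)⟩)⟩)⟩)⟩)

noncomputable def o_V362 : List Net := [o_g357, o_g358, o_g359]

theorem o_V362_ok : okE 351 o_V362 = true := (okE_cons.2 ⟨o_g357_ok, (okE_cons.2 ⟨o_g358_ok, (okE_cons.2 ⟨o_g359_ok, (okE_nil 351)⟩)⟩)⟩)

noncomputable def o_V363 : List Net := [o_g358, o_g359]

theorem o_V363_ok : okE 351 o_V363 = true := (okE_cons.2 ⟨o_g358_ok, (okE_cons.2 ⟨o_g359_ok, (okE_nil 351)⟩)⟩)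

noncomputable def o_V364 : List Net := [o_g359]

theorem o_V364_ok : okE 351 o_V364 = true := (okE_cons.2 ⟨o_g359_ok, (okE_nil 351)⟩)

noncomputable def o_V365 : List Net := []

theorem o_V365_ok : okE 351 o_V365 = true := (okE_nil 351)

noncomputable def ot_c20_cnt_EG : List Net := [o_b, o_c, o_d, o_e, o_f, o_g, o_h, o_i, o_g1, o_g2, o_g3, o_g4, o_g5, o_g8, o_g9, o_g12, o_g13, o_g14, o_g17, o_g18, o_g19, o_g20, o_g23, o_g24, o_g25, o_g26, o_g27, o_g30, o_g31, o_g32, o_g35, o_g171, o_g357, o_g358, o_g359, o_g170, o_g172, o_g173, o_g111]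

theorem ot_c20_cnt_EG_ok : okE 351 ot_c20_cnt_EG = true := (okE_cons.2 ⟨o_b_ok, (okE_cons.2 ⟨o_c_ok, (okE_cons.2 ⟨o_d_ok, (okE_cons.2 ⟨o_e_ok, (okE_cons.2 ⟨o_f_ok, (okE_cons.2 ⟨o_g_ok, (okE_cons.2 ⟨o_h_ok, (okE_cons.2 ⟨o_i_ok, (okE_cons.2 ⟨o_g1_ok, (okE_cons.2 ⟨o_g2_ok, (okE_cons.2 ⟨o_g3_ok, (okE_cons.2 ⟨o_g4_ok, (okE_cons.2 ⟨o_g5_ok, (okE_cons.2 ⟨o_g8_ok, (okE_cons.2 ⟨o_g9_ok, (okE_cons.2 ⟨o_g12_ok, (okE_cons.2 ⟨o_g13_ok, (okE_cons.2 ⟨o_g14_ok, (okE_cons.2 ⟨o_g17_ok, (okE_cons.2 ⟨o_g18_ok, (okE_cons.2 ⟨o_g19_ok, (okE_cons.2 ⟨o_g20_ok, (okE_cons.2 ⟨o_g23_ok, (okE_cons.2 ⟨o_g24_ok, (okE_cons.2 ⟨o_g25_ok, (okE_cons.2 ⟨o_g26_ok, (okE_cons.2 ⟨o_g27_ok, (okE_cons.2 ⟨o_g30_ok, (okE_cons.2 ⟨o_g31_ok, (okE_cons.2 ⟨o_g32_ok, (okE_cons.2 ⟨o_g35_ok, (okE_cons.2 ⟨o_g171_ok, (okE_cons.2 ⟨o_g357_ok, (okE_cons.2 ⟨o_g358_ok, (okE_cons.2 ⟨o_g359_ok, (okE_cons.2 ⟨o_g170_ok, (okE_cons.2 ⟨o_g172_ok, (okE_cons.2 ⟨o_g173_ok, (okE_cons.2 ⟨o_g111_ok, (okE_nil 351)⟩)⟩)⟩)⟩)⟩)⟩)⟩)⟩)⟩)⟩)⟩)⟩)⟩)⟩)⟩)⟩)⟩)⟩)⟩)⟩)⟩)⟩)⟩)⟩)⟩)⟩)⟩)⟩)⟩)⟩)⟩)⟩)⟩)⟩)⟩)⟩)⟩)⟩)⟩)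

noncomputable def o_g366 : Net := (Net.cons (nat_lit 1) (nat_lit 0x1414001401151411055514505051545005441454144451011445544045144540141154114015100501011400) (Net.cons (nat_lit 2) (nat_lit 0x1102131100032102332002203010031211320222000033033133133302100212222133202103312000030210) (Net.cons (nat_lit 4) (nat_lit 0x104050f0d0a01040208040305010f0804070f0208090e0f0409090d0605050d0b060d0c0206040102090400) (Net.cons (nat_lit 8) (nat_lit 0xd000b00c50033001400a50049006800b000d30020007100ba00a100bc00eb00bc0044001000d1009a0080) (Net.cons (nat_lit 16) (nat_lit 0xb640000613900001f19000068160000d0780000a3eb0000d4610000720800003c780000850700000000) (Net.cons (nat_lit 32) (nat_lit 0x8de005b70000000053509f22000000004bc21e7d0000000028d583a800000000110700c2) (Net.cons (nat_lit 64) (nat_lit 0x8834d4b000000000000000080c046303d6750fe0000000000000000a42f703000000000) (Net.cons (nat_lit 128) (nat_lit 0xbe8f7e1a5410aa445951220929835a08) (Net.cons (nat_lit 256) (nat_lit 0x7497fac7ffff77bd6d83ff7c)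 (Net.cons (nat_lit 128) (nat_lit 0x7ee4ada35e112165b81be054) (Net.cons (nat_lit 64) (nat_lit 0x14244fc0000000000000000da87615451eb87ba0000000000000000eed947142539c60a) (Net.cons (nat_lit 32) (nat_lit 0x75b0b400000000069c138df000000003c41d0b10000000050c28df6000000000742e245) (Net.cons (nat_lit 16) (nat_lit 0x2ca000002c4a0000947300007bd2000077c90000bfe6000032d30000fdc000000f6f0000e54e0000d4dd) (Net.cons (nat_lit 8) (nat_lit 0x190065004200eb006d0006001c006800a50025006200b700d8000900ad009a00d30073009e005300220005) (Net.cons (nat_lit 4) (nat_lit 0x30d07050a080e040806020707000c0f04020b080b0d0d0a0f03060107010e0903040f0d0607050804060f0e) (Net.cons (nat_lit 2) (nat_lit 0x102230002203133111033222212030301211110220010002210300200101000222103003033213101303302) (Net.cons (nat_lit 1) (nat_lit 0x504044054411540410545511451155154455111410014551140004411511545041010404111515001154450) Net.nil)))))))))))))))))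

theorem o_g366_ok : Net.ok 351 o_g366 = true := by decide +kernel

noncomputable def o_g367 : Net := (Net.cons (nat_lit 1) (nat_lit 0x1550555450405411505144115014114105444151405515505041444005141015015511550004010140114441) (Net.cons (nat_lit 2) (nat_lit 0x221112011321223003010322333212313320331033213333001112131133301303310020310323323022130) (Net.cons (nat_lit 4) (nat_lit 0x20807050d000f0d080a0b0e080f020b09050c0e0c0e000c0207040a0d000806030705030304010a0d040c00) (Net.cons (nat_lit 8) (nat_lit 0x2e00ed00fa008c007a00bd006200f000fd005a00a300ae00560045005200e600a300200028004e00200080) (Net.cons (nat_lit 16) (nat_lit 0xc55000039c3000031e40000c955000070770000f25400004a8b0000437900000c020000487900000000) (Net.cons (nat_lit 32) (nat_lit 0x268156ac00000000cbeff102000000006b00182800000000d4beec8a0000000048e8b022) (Net.cons (nat_lit 64) (nat_lit 0x6daa1b4900000000000000001222227595003820000000000000000080f23c3580000000) (Net.cons (nat_lit 128) (nat_lit 0x5dc75bf5b024446501234a94e1f81948)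 (Net.cons (nat_lit 256) (nat_lit 0x7627effdedfbfeb5f9f9df4b) (Net.cons (nat_lit 128) (nat_lit 0x402cf623af1bfb9eb6c35dea) (Net.cons (nat_lit 64) (nat_lit 0x4a5499060000000000000000f53b04fe43f445290000000000000000ad65f1ec6d8573cb) (Net.cons (nat_lit 32) (nat_lit 0xf11d705c000000006234504c000000001f12d1490000000093d15a90000000005ef598da) (Net.cons (nat_lit 16) (nat_lit 0x376200006e0300005c3b0000112d00009c5e000053a100002fb600009bb400000e7b0000776600007e23) (Net.cons (nat_lit 8) (nat_lit 0x62001b001600e200320084007d00d70048006a009b002b001100c4001f000e007b009d00ed00bb00540013) (Net.cons (nat_lit 4) (nat_lit 0x40c0207050902090d090c090c020206020701040709070f0d06070a05050b04030905080b0c06080b040b0a) (Net.cons (nat_lit 2) (nat_lit 0x1311001023232033133002023220032012223120110100112321233203330333112233231301322112033003) (Net.cons (nat_lit 1) (nat_lit 0x1551010541045041404411144101104000441440150015544441541055054004111414100555014044400510) Net.nil)))))))))))))))))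

theorem o_g367_ok : Net.ok 351 o_g367 = true := by decide +kernel

noncomputable def o_g368 : Net := (Net.cons (nat_lit 1) (nat_lit 0x1555050411410445414401000100405404101550051505440500445444040514141155445140551504551000) (Net.cons (nat_lit 2) (nat_lit 0x1221333300231320121000130220303133001230123122220033323330332302021030220333322212122120) (Net.cons (nat_lit 4) (nat_lit 0x70a06040e060a0d010303060800080e0e030f0e04000c090e030304050b010d0e040303010b0a0d03070300) (Net.cons (nat_lit 8) (nat_lit 0x3e000d006b00ea008500ef00c100210066002e0055006b00c700d0000a00a2005e002a00cc00f0008c0080) (Net.cons (nat_lit 16) (nat_lit 0x38ea00009f770000a8490000e12d00008951000080810000240b000030410000c1340000853800000000) (Net.cons (nat_lit 32) (nat_lit 0x5c8e65980000000010e4e4e800000000263204040000000051a27835000000003f3c1282) (Net.cons (nat_lit 64) (nat_lit 0x410ab8850000000000000000a1b39063001346a100000000000000006650a48280000000) (Net.cons (nat_lit 128) (nat_lit 0xba9f8c887f160649f0abc2202e614014)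 (Net.cons (nat_lit 256) (nat_lit 0x7f76ee4dfeffe6eeff7df7bc) (Net.cons (nat_lit 128) (nat_lit 0x1aef2e36b964d46377ef80ca) (Net.cons (nat_lit 64) (nat_lit 0x1adf031600000000000000005fdde3ac623b5db4000000000000000099726ed2209b53ff) (Net.cons (nat_lit 32) (nat_lit 0xc9ae767d00000000a2637312000000008f6a892e00000000263bbef000000000371d5d14) (Net.cons (nat_lit 16) (nat_lit 0x93c0000cffd0000291e0000eb4e000062bb00001a3c0000aed3000070b3000025ca00009c8d0000819f) (Net.cons (nat_lit 8) (nat_lit 0x7000bb00720074008c00c1001000fc007e00fa007b0002004000ca00fd00a5004a008200a2004a006b0017) (Net.cons (nat_lit 4) (nat_lit 0x30404010b00000a07050005020a0b0e0b0601070e0e030508030c06050c01090c0f0b020e060a0905090f0d) (Net.cons (nat_lit 2) (nat_lit 0x302112110001220003010102300132123011331120210132323231200221221111132231130000320001233) (Net.cons (nat_lit 1) (nat_lit 0x411104414555401114540044004440404504445515445005014555451140545040145114010444404451004) Net.nil)))))))))))))))))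

theorem o_g368_ok : Net.ok 351 o_g368 = true := by decide +kernel

noncomputable def o_g369 : Net := (Net.cons (nat_lit 1) (nat_lit 0x1515401541101415044150141545500451150040550151415505004045501054415105100101511551011040) (Net.cons (nat_lit 2) (nat_lit 0x302010021221101103303001010010320121030333132020001323233101133232011310323031000120030) (Net.cons (nat_lit 4) (nat_lit 0x10004040f060200060d04090b050b04050a0d0105050c0b0d01090004010a030d02000a0b0a090b0a0a0c08) (Net.cons (nat_lit 8) (nat_lit 0x1800860050004f00c400bb00f200cc00e000da003500ae004e0014003a00fc00e4008400150013000c0000) (Net.cons (nat_lit 16) (nat_lit 0x58e700006b8000000c8c00007bd300009690000083e20000484b00003d9400004b370000b85200008000) (Net.cons (nat_lit 32) (nat_lit 0x448a73a20000000078640e8e00000000819edc1c000000004614ec0900000000282ca208) (Net.cons (nat_lit 64) (nat_lit 0x3554c0c7000000000000000002b8b1299a28530800000000000000005301d14680000000) (Net.cons (nat_lit 128) (nat_lit 0xcf6bbaa598280d0a01a6993680c08061)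 (Net.cons (nat_lit 256) (nat_lit 0x3d7b3d8f5bb7fbf6c9fde36d) (Net.cons (nat_lit 128) (nat_lit 0x7eab89c04db2d66c9578f33f) (Net.cons (nat_lit 64) (nat_lit 0x48be36da0000000000000000f76e6a0d52bb882c0000000000000000ab10dd6cddb74cc4) (Net.cons (nat_lit 32) (nat_lit 0x8d85d9100000000bff5b5cf000000002eee64070000000015d68ce40000000083d50897) (Net.cons (nat_lit 16) (nat_lit 0x38460000d78b00004972000094c9000059f7000051c000001f3e00009a800000d83c00009b9700007f8f) (Net.cons (nat_lit 8) (nat_lit 0x41000c00fe00b9003300f000da00b30026003a007e008a00a10028007e003000ec00ae00f700a200a30064) (Net.cons (nat_lit 4) (nat_lit 0x509030603020f05070c03050d000300080c01020d070d0a0f0d0c030c020a0207090903030d070506090f) (Net.cons (nat_lit 2) (nat_lit 0x313131213302331002103301033130301102311333331022213030031100330103001000332230130131331) (Net.cons (nat_lit 1) (nat_lit 0x414411014411144104544055005540145055044044410415151104405144040555501001011011150155110) Net.nil)))))))))))))))))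

theorem o_g369_ok : Net.ok 351 o_g369 = true := by decide +kernel

noncomputable def o_g370 : Net := (Net.cons (nat_lit 1) (nat_lit 0x1114405544445504054505450404110401050554014545015501111501500111404014101045410041441114) (Net.cons (nat_lit 2) (nat_lit 0x13202302312310302002023011333322212110033001332122120301123110100030311110322033102220) (Net.cons (nat_lit 4) (nat_lit 0x30a03020e02060d0b030b030800090503080e030d0f0a00080d040e0d05000f07050807010a09010d0d0600) (Net.cons (nat_lit 8) (nat_lit 0x1200e2001a00d300b30047009000890088000d003800c00003000c001800df000b0054009800fd00110000) (Net.cons (nat_lit 16) (nat_lit 0xac9000076c80000baa2000083c50000d907000006ec000057590000031200001d030000010000000000) (Net.cons (nat_lit 32) (nat_lit 0x30c5381000000007ad818c60000000022e820d5000000000b28ce450000000030cb0489) (Net.cons (nat_lit 64) (nat_lit 0x4a990808000000000000000019b5911f10222a3800000000000000004020050000000000) (Net.cons (nat_lit 128) (nat_lit 0x7f91496200121ee082210081198c2040)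 (Net.cons (nat_lit 256) (nat_lit 0x7056fef7c76bad89bb8dfeea) (Net.cons (nat_lit 128) (nat_lit 0x197f0a75800e947c0e935289) (Net.cons (nat_lit 64) (nat_lit 0x699d0048000000000000000071acc0518ee247f00000000000000000c03114204fee7600) (Net.cons (nat_lit 32) (nat_lit 0x3246b2a3000000006ed550f600000000a571d2a1000000006d2992d00000000037509481) (Net.cons (nat_lit 16) (nat_lit 0x20b000021c20000dde0000097c100006c3a00005dab00004611000068a200002d50000031510000db48) (Net.cons (nat_lit 8) (nat_lit 0x1100d6001800e300d100290050008b008e0000003d004c008f00060006002b00190040004a00f9009b0070) (Net.cons (nat_lit 4) (nat_lit 0x10f01040a070e05050101070008080502030205010b070306090e0c0b0e010d020d0d020f0a0c00010c0f02) (Net.cons (nat_lit 2) (nat_lit 0x12213221113333110221002011323322221101303101301320023332221111100300002101022021220202) (Net.cons (nat_lit 1) (nat_lit 0x114050545041504115544410004140440041445551140110514510105515101404504104455111044540154) Net.nil)))))))))))))))))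

theorem o_g370_ok : Net.ok 351 o_g370 = true := by decide +kernel

noncomputable def o_g371 : Net := (Net.cons (nat_lit 1) (nat_lit 0x1501141014114505414540045144504010110410001411404010444000400044400000004414010150400000) (Net.cons (nat_lit 2) (nat_lit 0x1110033332202213333201130111003012100021012202211030022010220323010021123121100100001010) (Net.cons (nat_lit 4) (nat_lit 0x70308080b0b0100090a09000a070d090a0a030704090309010c060e04030f00030c0a0b0d04080200030100) (Net.cons (nat_lit 8) (nat_lit 0x1f005a0032008800c40059007000f80081006c008000b00063001600300048009b005a0006007d00410000) (Net.cons (nat_lit 16) (nat_lit 0x4f6c00001be10000c5ae000028b50000c955000052470000a70500005031000000180000022400000000) (Net.cons (nat_lit 32) (nat_lit 0xc1b2273a00000000607f306e0000000048b4010800000000100991a80000000003161104) (Net.cons (nat_lit 64) (nat_lit 0x2a9e0a2100000000000000002208e888a314de6000000000000000000e8970a800000000) (Net.cons (nat_lit 128) (nat_lit 0x6318aabead5e00c4204071b904c2542a)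 (Net.cons (nat_lit 256) (nat_lit 0x7d5ed1f5afc973fd7fde7ffe) (Net.cons (nat_lit 128) (nat_lit 0x24314e28607621bb4fcfd4df) (Net.cons (nat_lit 64) (nat_lit 0x71b10ac700000000000000002bebfa98a87bad8400000000000000008c2931e8493d10f6) (Net.cons (nat_lit 32) (nat_lit 0xd1a2ed2800000000215f622f0000000058961b1800000000532b8bf80000000001360114) (Net.cons (nat_lit 16) (nat_lit 0x1f3c000009b30000c7fe0000f8e50000881500005b570000a747000000310000484800000c3400005040) (Net.cons (nat_lit 8) (nat_lit 0x5f0018007000d8009600c9002000a800cb002c00d000f20067005400b2000800d9002e0097002d00030050) (Net.cons (nat_lit 4) (nat_lit 0x70309080b0b0100090a09000a070d090a0a030704090309010c060e04030f00030c0a0b0e05080200030100) (Net.cons (nat_lit 2) (nat_lit 0x1110033332202213333201130111003012101021012212211030022011220323010021123121100100001010) (Net.cons (nat_lit 1) (nat_lit 0x1501141014114505414540045144504010110410001411404010444000400044400000004414010150400000) Net.nil)))))))))))))))))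

theorem o_g371_ok : Net.ok 351 o_g371 = true := by decide +kernel

noncomputable def o_g372 : Net := (Net.cons (nat_lit 1) (nat_lit 0x1454010041405544405451550500145401004140554440545155050015445054001140404500150540014500) (Net.cons (nat_lit 2) (nat_lit 0x303203002232011202113300120030320300223201120211330012010030203031331321210113000231000) (Net.cons (nat_lit 4) (nat_lit 0x50509050d040f0f030a0908060501000d0008000a0a070f0d0c03000006000101090f07000a070c04080000) (Net.cons (nat_lit 8) (nat_lit 0x38009600d500c800e600070003002800c000d6008e00e4004000000089005000ea00800074008000440000) (Net.cons (nat_lit 16) (nat_lit 0x21600000ad4200003d6c00005821000023df000008810000800000003c17000099d00000e1c600000000) (Net.cons (nat_lit 32) (nat_lit 0x43cd41d60000000095d44a200000000040515dea00000000810102050000000000000000) (Net.cons (nat_lit 64) (nat_lit 0x40d410300000000000000006e0403218000000000000000000000000000000000000000) (Net.cons (nat_lit 128) (nat_lit 0x58709c25feeec3eddd3f5f42)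 (Net.cons (nat_lit 256) (nat_lit 0x58709c25feeec3eddd3f5f42) (Net.cons (nat_lit 128) (nat_lit 0x58709c25feeec3eddd3f5f42) (Net.cons (nat_lit 64) (nat_lit 0x7024d3d90000000000000000056c4b44fcb6948d000000000000000093122a8216711417) (Net.cons (nat_lit 32) (nat_lit 0xbea90fd10000000011ae4a6000000000a6f237e2000000004c190396000000005d36aec1) (Net.cons (nat_lit 16) (nat_lit 0x21500000933400009fa40000547800009dbd000010c40000702b00003c46000062c00000698e000059c0) (Net.cons (nat_lit 8) (nat_lit 0x51000200ed008000a60072008f0015000000fe009300e0003500c800c500c100ee00f2007200ec00150035) (Net.cons (nat_lit 4) (nat_lit 0x101090d0d0800050f0c0f03060904050d08080c04000b090b06030c040f0501080d0a070108030501080b04) (Net.cons (nat_lit 2) (nat_lit 0x1202201303010321202323212102120220130301032120232321210212130202031231221212231000221120) (Net.cons (nat_lit 1) (nat_lit 0x444451051015411040544540505044445105101541104054454050510541054011040001404454541400401) Net.nil)))))))))))))))))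

theorem o_g372_ok : Net.ok 351 o_g372 = true := by decide +kernel

noncomputable def o_g373 : Net := (Net.cons (nat_lit 1) (nat_lit 0x111514004055441000155400510401004101150110400000000010144054001000505100410501000000) (Net.cons (nat_lit 2) (nat_lit 0x1022222001202313212303123012220002213100300010012010010033323120002310103200020300110000) (Net.cons (nat_lit 4) (nat_lit 0x50a010b0a000803090204020d0103060d040306050001070000000006070302040804010808010800090000) (Net.cons (nat_lit 8) (nat_lit 0x3b00d80000002c000000ea000c005a009c0000000300000081000000e70034000000050070004100070000) (Net.cons (nat_lit 16) (nat_lit 0x54300000c08000014140000031a0000dd400000016000000000000052e0000043000000e68c00000000) (Net.cons (nat_lit 32) (nat_lit 0x4893e11a00000000511a0140000000000151ac22000000004c0100a00000000000000000) (Net.cons (nat_lit 64) (nat_lit 0xe43e8400000000000000000008c0600000000000000000000000000000000000000000) (Net.cons (nat_lit 128) (nat_lit 0x210592a404fae167e5e96c60)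 (Net.cons (nat_lit 256) (nat_lit 0x210592a404fae167e5e96c60) (Net.cons (nat_lit 128) (nat_lit 0x210592a404fae167e5e96c60) (Net.cons (nat_lit 64) (nat_lit 0x29f43ebf0000000000000000fb054060ad1e01200000000000000000400c02040c0701a4) (Net.cons (nat_lit 32) (nat_lit 0x4c9be93a00000000d9160160000000008d3dac2200000000dd21c3e400000000099cf740) (Net.cons (nat_lit 16) (nat_lit 0x25530000bf18000094140000831a0000dddc00000160000080000000d3f40000c20d0000ef8000000104) (Net.cons (nat_lit 8) (nat_lit 0x1b00d80040002c000000ee000c005a009c00040007002000e1000000ef00360000000500780049000f0000) (Net.cons (nat_lit 4) (nat_lit 0x50a010b0a000803090204020d0103060504030e050001070000000006070302040804010808010800090000) (Net.cons (nat_lit 2) (nat_lit 0x1022222001202313212303123012220002213100300010012010010033323121002310303300020300110100) (Net.cons (nat_lit 1) (nat_lit 0x511514404055441140555400510441004141150110414040000010544054011000505500410501000100) Net.nil)))))))))))))))))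

theorem o_g373_ok : Net.ok 351 o_g373 = true := by decide +kernel

noncomputable def ot_c21_K : List Net := [o_g367, o_g368, o_g369, o_g370, o_g371, o_g372, o_g373]

theorem ot_c21_K_ok : okE 351 ot_c21_K = true := (okE_cons.2 ⟨o_g367_ok, (okE_cons.2 ⟨o_g368_ok, (okE_cons.2 ⟨o_g369_ok, (okE_cons.2 ⟨o_g370_ok, (okE_cons.2 ⟨o_g371_ok, (okE_cons.2 ⟨o_g372_ok, (okE_cons.2 ⟨o_g373_ok, (okE_nil 351)⟩)⟩)⟩)⟩)⟩)⟩)⟩)

noncomputable def ot_c21_cnt_EG : List Net := [o_b, o_c, o_d, o_e, o_f, o_g, o_h, o_i, o_g1, o_g2, o_g3, o_g4, o_g5, o_g8, o_g9, o_g12, o_g13, o_g14, o_g17, o_g18, o_g19, o_g20, o_g23, o_g24, o_g25, o_g26, o_g27, o_g30, o_g31, o_g32, o_g35, o_g331, o_g332, o_g333, o_g334, o_g335]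

theorem ot_c21_cnt_EG_ok : okE 351 ot_c21_cnt_EG = true := (okE_cons.2 ⟨o_b_ok, (okE_cons.2 ⟨o_c_ok, (okE_cons.2 ⟨o_d_ok, (okE_cons.2 ⟨o_e_ok, (okE_cons.2 ⟨o_f_ok, (okE_cons.2 ⟨o_g_ok, (okE_cons.2 ⟨o_h_ok, (okE_cons.2 ⟨o_i_ok, (okE_cons.2 ⟨o_g1_ok, (okE_cons.2 ⟨o_g2_ok, (okE_cons.2 ⟨o_g3_ok, (okE_cons.2 ⟨o_g4_ok, (okE_cons.2 ⟨o_g5_ok, (okE_cons.2 ⟨o_g8_ok, (okE_cons.2 ⟨o_g9_ok, (okE_cons.2 ⟨o_g12_ok, (okE_cons.2 ⟨o_g13_ok, (okE_cons.2 ⟨o_g14_ok, (okE_cons.2 ⟨o_g17_ok, (okE_cons.2 ⟨o_g18_ok, (okE_cons.2 ⟨o_g19_ok, (okE_cons.2 ⟨o_g20_ok, (okE_cons.2 ⟨o_g23_ok, (okE_cons.2 ⟨o_g24_ok, (okE_cons.2 ⟨o_g25_ok, (okE_cons.2 ⟨o_g26_ok, (okE_cons.2 ⟨o_g27_ok, (okE_cons.2 ⟨o_g30_ok, (okE_cons.2 ⟨o_g31_ok, (okE_cons.2 ⟨o_g32_ok, (okE_cons.2 ⟨o_g35_ok, (okE_cons.2 ⟨o_g331_ok, (okE_cons.2 ⟨o_g332_ok, (okE_cons.2 ⟨o_g333_ok, (okE_cons.2 ⟨o_g334_ok, (okE_cons.2 ⟨o_g335_ok, (okE_nil 351)⟩)⟩)⟩)⟩)⟩)⟩)⟩)⟩)⟩)⟩)⟩)⟩)⟩)⟩)⟩)⟩)⟩)⟩)⟩)⟩)⟩)⟩)⟩)⟩)⟩)⟩)⟩)⟩)⟩)⟩)⟩)⟩)⟩)⟩)⟩)⟩)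

noncomputable def o_g375 : Net := (Net.cons (nat_lit 1) (nat_lit 0x554001454110014545541115440441454154104455145044141554050440050004504410011114011540401) (Net.cons (nat_lit 2) (nat_lit 0x1112031123033203231100331012113020033132213102001003223201333222333010033332132123112000) (Net.cons (nat_lit 4) (nat_lit 0x10f020d00090a0c0a030f0d0a0d0a0303000d000304000507020d030d0d0701060f0f000706050300000a00) (Net.cons (nat_lit 8) (nat_lit 0x1b00e900c1007100bb00fe000b004800da002000bf00d200aa0005004b00ff00d8006000e10008004c0000) (Net.cons (nat_lit 16) (nat_lit 0x272f00009a9b0000aa600000160800007c4c0000553a00004a0300008414000062ee00000a2100000000) (Net.cons (nat_lit 32) (nat_lit 0x7d69c4e1000000008ca4bca400000000442417320000000069aa4cc700000000328b6143) (Net.cons (nat_lit 64) (nat_lit 0x5620e01c00000000000000008082a4cb88a1a200000000000000000067450c7a00000000) (Net.cons (nat_lit 128) (nat_lit 0xdaa13c4561958358b943242222722157) (Net.cons (nat_lit 256) (nat_lit 0x719fffd9ffff3dffb7f33177)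 (Net.cons (nat_lit 128) (nat_lit 0x3fc74ad6d42dbf9c87082fc1) (Net.cons (nat_lit 64) (nat_lit 0x2ddc354200000000000000003e9fde1253645b7e00000000000000005eede15273399b26) (Net.cons (nat_lit 32) (nat_lit 0x41ce4a6e00000000d8acff2b00000000a5841fb200000000ae99e27f000000008a7047ed) (Net.cons (nat_lit 16) (nat_lit 0x64310000bea20000318d0000c83b00007843000072370000ccce00000d640000c10b00003ec30000c872) (Net.cons (nat_lit 8) (nat_lit 0x50088004c003c00cb00a00057008700c400790030009400b2009d005800ea00310042004c007800260011) (Net.cons (nat_lit 4) (nat_lit 0x50b0f020c0709000103020b0c07060d0c0d0c0c0f030d0705090606000e0c070003010e060b0a0f0900090c) (Net.cons (nat_lit 2) (nat_lit 0x1313302012113121302301020023021223102032321021310331321033323333213200100100010003032220) (Net.cons (nat_lit 1) (nat_lit 0x541015145455541554454404554415144045540455411014540144141441105515150551014411051415044) Net.nil)))))))))))))))))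

theorem o_g375_ok : Net.ok 351 o_g375 = true := by decide +kernel

noncomputable def o_g376 : Net := (Net.cons (nat_lit 1) (nat_lit 0x1540055155050015404455441041055055114044000440510145000554540055515104440140001004001141) (Net.cons (nat_lit 2) (nat_lit 0x1003021221002233112112111210030222110000203023030331103031322112223031210030310031322020) (Net.cons (nat_lit 4) (nat_lit 0x100010d0d090d020d00070207060a0f080a000604030f09050f0b08090f0602050502050906070401060200) (Net.cons (nat_lit 8) (nat_lit 0x4e006a009500f2003800a600240014000000f700f9004800b900f70084006900b1009100f100a100500000) (Net.cons (nat_lit 16) (nat_lit 0x14d300009f6600007d8e0000ddc60000c229000028ce0000b1920000212a00007ded00003d8300008000) (Net.cons (nat_lit 32) (nat_lit 0x1b653351000000001c43494000000000708eea9f000000007a370808000000001d4e0366) (Net.cons (nat_lit 64) (nat_lit 0x1a65691a00000000000000001c10b798038d489000000000000000007880c88280000000) (Net.cons (nat_lit 128) (nat_lit 0x4cdd042e800e2cf42984a19b43618060)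 (Net.cons (nat_lit 256) (nat_lit 0x2b3e7efefde5ed9bfb6797e4) (Net.cons (nat_lit 128) (nat_lit 0x6a882e9a9be61206303efdb0) (Net.cons (nat_lit 64) (nat_lit 0x74308b35000000000000000007203f5077d60fa60000000000000000e6cf73590d44bce0) (Net.cons (nat_lit 32) (nat_lit 0x6e0ae5a6000000001d22bb1d000000009eca8882000000003368ec8b0000000096a010a9) (Net.cons (nat_lit 16) (nat_lit 0x23250000445e0000ab64000064310000929700001248000051ce00000ad100002bbd0000ee8800000a31) (Net.cons (nat_lit 8) (nat_lit 0x5d00900022005200ea008a00c8006500d6009800af005000c0001a004700b3006300e6000500f6006f0010) (Net.cons (nat_lit 4) (nat_lit 0x70e0b080a0a0003050101070b0c0b060806030c090c0c030909020d0a0b010c0b0d06070b0f0f050a090b0d) (Net.cons (nat_lit 2) (nat_lit 0x113222112213121011331131021333012033322310023001112132211232010133031200310201103132010) (Net.cons (nat_lit 1) (nat_lit 0x1100550050050145550145500110110011454405110544040114104405505511050145010044150050440455) Net.nil)))))))))))))))))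

theorem o_g376_ok : Net.ok 351 o_g376 = true := by decide +kernel

noncomputable def o_g377 : Net := (Net.cons (nat_lit 1) (nat_lit 0x1405155400155000505045055500010454444500440415411450151150505555444100104151015454104050) (Net.cons (nat_lit 2) (nat_lit 0x1323202121022210333122100233323032200012030230113011001113120232021312022121030301230002) (Net.cons (nat_lit 4) (nat_lit 0x30f000e020306050e0206080005090507000c0e04040004040e000d050700040108000c0507090708030100) (Net.cons (nat_lit 8) (nat_lit 0x3500c6005100340098008400d4006d002300ae0066004100fb0047002c00a800b1003500da00fa00c20080) (Net.cons (nat_lit 16) (nat_lit 0x48c00000953600002ed80000ad860000974400000a5e0000f656000090b20000352f0000810100008000) (Net.cons (nat_lit 32) (nat_lit 0x98e57030000000006e5f783a000000000a00570100000000c68fb3320000000078d80c04) (Net.cons (nat_lit 64) (nat_lit 0x192555b100000000000000006413bc72d898616100000000000000000060608480000000) (Net.cons (nat_lit 128) (nat_lit 0x65237b11bee84109430c38132702845c)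 (Net.cons (nat_lit 256) (nat_lit 0x3ee8fbbfc37f7ef7e7c7df5f) (Net.cons (nat_lit 128) (nat_lit 0x7e160d5c8a58ff77384772e3) (Net.cons (nat_lit 64) (nat_lit 0x42942f5000000000000000006398e603aa4e706d0000000000000000739c724a148558a4) (Net.cons (nat_lit 32) (nat_lit 0x8f9b3f52000000008ca64d0800000000b60222d600000000062d95ba000000003e3c60f4) (Net.cons (nat_lit 16) (nat_lit 0x7e7e000090ce0000159100002e4b000092c000007e330000362f0000e681000006d40000925900006bdc) (Net.cons (nat_lit 8) (nat_lit 0x2c007c004600dc003500410003007a006200fd00e700d700d30095005b002200e30014004e000b004b0031) (Net.cons (nat_lit 4) (nat_lit 0x7030c0d000507070e0e01060f0e0c0601000d0a0c000a030e000f070702090801020f0601030406010a0004) (Net.cons (nat_lit 2) (nat_lit 0x1103102323200013330331200110321123120301313011231311122022333323322203103000020321020033) (Net.cons (nat_lit 1) (nat_lit 0x140454044510441441004505450505410444114014104555405505404400150050004155011514454401554) Net.nil)))))))))))))))))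

theorem o_g377_ok : Net.ok 351 o_g377 = true := by decide +kernel

noncomputable def o_g378 : Net := (Net.cons (nat_lit 1) (nat_lit 0x551450115551445104155411005055541011540144511415504000411144050415151000404010405145040) (Net.cons (nat_lit 2) (nat_lit 0x1213230312332020201133201100311233111331000222210211301210303201011203001113110201203300) (Net.cons (nat_lit 4) (nat_lit 0x70f060207000c090401030c0c0e0b010b0304000a0d0901040e07000007020501020f0102070b0b04060900) (Net.cons (nat_lit 8) (nat_lit 0x2500d50097004700290057009f00ed00e000d70081000900010000008a0073000b00fa003400a000620000) (Net.cons (nat_lit 16) (nat_lit 0x740a000038db00009501000025b2000091bc000024e00000800000003961000021c50000410200000000) (Net.cons (nat_lit 32) (nat_lit 0xf08e756000000000515bc090000000004c0488400000000058439630000000000000000) (Net.cons (nat_lit 64) (nat_lit 0x28884141000000000000000025a82e400000000000000000000000000000000000000000) (Net.cons (nat_lit 128) (nat_lit 0x2275921b6daaaed85e9c6966)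 (Net.cons (nat_lit 256) (nat_lit 0x2275921b6daaaed85e9c6966) (Net.cons (nat_lit 128) (nat_lit 0x22f5921b6daaaed85e9c6966) (Net.cons (nat_lit 64) (nat_lit 0x7db1b8d600000000000000004aaea2f1d5e459a10000000000000000b27c1332ef31acc1) (Net.cons (nat_lit 32) (nat_lit 0xcf25d4900000000026b5b42100000000e5e7a3a7000000007f85d232000000004c919213) (Net.cons (nat_lit 16) (nat_lit 0x2f6f000091990000adef0000bf0500001af10000ce420000414200001f7f00003710000013e500007f1c) (Net.cons (nat_lit 8) (nat_lit 0x11009c008900950059005400f500b3006c001700b3006b001c00e600c9008c00d3004100b0009d00e00010) (Net.cons (nat_lit 4) (nat_lit 0x20d09040d0f02000a010c0b0802040f0c010602040c020e0c070701060b0603090e0d0301080c0104040800) (Net.cons (nat_lit 2) (nat_lit 0x21031032133322201121330020100222113323120011100231013311113021202022011022013223000031) (Net.cons (nat_lit 1) (nat_lit 0x1405410110041555450150054455040550011004155500015415555400444544104105554045554115441111) Net.nil)))))))))))))))))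

theorem o_g378_ok : Net.ok 351 o_g378 = true := by decide +kernel

noncomputable def o_g379 : Net := (Net.cons (nat_lit 1) (nat_lit 0x1015515554514054015101015405414044000104010054041454015004510454115445411551550015455444) (Net.cons (nat_lit 2) (nat_lit 0x1202111021101311010312331001333303110200101023213013200200233011332311332331320021200120) (Net.cons (nat_lit 4) (nat_lit 0x3000707050e0a010806070b070e0b0c0104060807040b0a010906000508000e0a0c070c030803040a0e0a00) (Net.cons (nat_lit 8) (nat_lit 0x16000c00b900d400cf008e00310074001100c400f200eb00f0008000ab0067009c001a007600f600c90080) (Net.cons (nat_lit 16) (nat_lit 0x67a00003595000070c1000045eb00005050000001d2000080800000c1d60000ccf20000280200000000) (Net.cons (nat_lit 32) (nat_lit 0x7e8c8a8f000000009a560b3e00000000536974bb0000000040dd90860000000000000000) (Net.cons (nat_lit 64) (nat_lit 0x40184100000000000000000910848100000008000000000000000000000000000000000) (Net.cons (nat_lit 128) (nat_lit 0x5d486d02fb1afcd5e9e592f8)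 (Net.cons (nat_lit 256) (nat_lit 0x5d486d02fb1afcd5e9e592f8) (Net.cons (nat_lit 128) (nat_lit 0x5d486d82fb1afcd5e9e592f8) (Net.cons (nat_lit 64) (nat_lit 0x6e3c90bb0000000000000000ed3284b382c4b25c0000000000000000e3012b9c23de9e3a) (Net.cons (nat_lit 32) (nat_lit 0x7e05de2900000000cb64533500000000389ebcd80000000030fe19e4000000005a255f62) (Net.cons (nat_lit 16) (nat_lit 0x5bca00007454000043dc0000427d00001f3b0000a11700000c11000098fe00005c32000024560000c336) (Net.cons (nat_lit 8) (nat_lit 0x74005400ee009d00e2007e00260017009200e400b500c800fe00b4009b007f002f001300c2007100d30096) (Net.cons (nat_lit 4) (nat_lit 0x30b0801050201060800090a060c0f0b0905060f06060a0f090c030608080d0b0c0d0e0b0c050e09080a0a) (Net.cons (nat_lit 2) (nat_lit 0x1122021032131113212012031221123223210001203023023103212300011012131231113131103231100030) (Net.cons (nat_lit 1) (nat_lit 0x114404141511154011151405011540115140444450150440415050404455414540100401454440545515400) Net.nil)))))))))))))))))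

theorem o_g379_ok : Net.ok 351 o_g379 = true := by decide +kernel

noncomputable def o_g380 : Net := (Net.cons (nat_lit 1) (nat_lit 0x1051050501405414440500445410105105050140541444050044541015040504410055515014145044055140) (Net.cons (nat_lit 2) (nat_lit 0x20030120023300333312232010000003012002330033331223201000131223330111001230103301110220) (Net.cons (nat_lit 4) (nat_lit 0x20f0002090e0a0d0d06090200000a07080a090e020d0d06010200000d0204060308020b050d08010b0b00) (Net.cons (nat_lit 8) (nat_lit 0x5c0054009800bb00030018009c004000c000040023009b0080000000a5001500510046006a00d500090000) (Net.cons (nat_lit 16) (nat_lit 0x644a000007830000588f000020600000de4b00001c01000080800000364c00008a520000a82c00000000) (Net.cons (nat_lit 32) (nat_lit 0x556c8192000000002c785041000000004891c8bc000000005286a5280000000000000000) (Net.cons (nat_lit 64) (nat_lit 0x635500ea0000000000000000413445b08080000000000000000000000000000000000000) (Net.cons (nat_lit 128) (nat_lit 0x380bbc4e63bf75b3d3de92b4)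 (Net.cons (nat_lit 256) (nat_lit 0x388bbc4e63bf75b3d3de92b4) (Net.cons (nat_lit 128) (nat_lit 0x380bbc4e63bf75b3d3de92b4) (Net.cons (nat_lit 64) (nat_lit 0x4dbc6517000000000000000003bcdb752ef750cc00000000000000006a51444a9c47e3b4) (Net.cons (nat_lit 32) (nat_lit 0x793f49ab00000000ae709cd000000000eaaac7d4000000006ca2f526000000002d3ce9d2) (Net.cons (nat_lit 16) (nat_lit 0x3c7a00008d3000004cb3000024340000f726000048990000dca000000109000084310000494a00008854) (Net.cons (nat_lit 8) (nat_lit 0x70058001500b800f900b30044001f00c8008900200065002f00d8008900340000009200410035003000e2) (Net.cons (nat_lit 4) (nat_lit 0x305050803060200080504050a090b0d0d0003060200000d04050a09020f0607000208070b050b00080d0904) (Net.cons (nat_lit 2) (nat_lit 0x1112231220032202110321203201311223122003220211032120320101220320231101123222101300001230) (Net.cons (nat_lit 1) (nat_lit 0x1540144404550105151455415150154014440455010515145541515011440144010150015050155454040140) Net.nil)))))))))))))))))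

theorem o_g380_ok : Net.ok 351 o_g380 = true := by decide +kernel

noncomputable def ot_c22_K : List Net := [o_g376, o_g377, o_g378, o_g379, o_g380]

theorem ot_c22_K_ok : okE 351 ot_c22_K = true := (okE_cons.2 ⟨o_g376_ok, (okE_cons.2 ⟨o_g377_ok, (okE_cons.2 ⟨o_g378_ok, (okE_cons.2 ⟨o_g379_ok, (okE_cons.2 ⟨o_g380_ok, (okE_nil 351)⟩)⟩)⟩)⟩)⟩)

noncomputable def o_g382 : Net := (Net.cons (nat_lit 1) (nat_lit 0x544054044105400111154505100550145415045144541155440441404541144405544045154114544115414) (Net.cons (nat_lit 2) (nat_lit 0x1323223311122102303303032020121002203200130222122212223133021100202301223030001321321020) (Net.cons (nat_lit 4) (nat_lit 0x405020f000c020a0204070804060204030904010c030a06090b090a080e0e0a0103040a0008030503090200) (Net.cons (nat_lit 8) (nat_lit 0x600ad009c00d7006f00380088002100080020006d00dd00b1003a00a7009200fc0033005100a100670000) (Net.cons (nat_lit 16) (nat_lit 0x6be0000c69b00003166000006c100008e530000e2eb00008a25000002bc000092250000c06200000000)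 (Net.cons (nat_lit 32) (nat_lit 0x7ae711000000000160a593100000000272f332000000000c04a0eff0000000004984585) (Net.cons (nat_lit 64) (nat_lit 0x6eea2406000000000000000020392c9c20c4e44000000000000000003008020100000000) (Net.cons (nat_lit 128) (nat_lit 0x91badc6e12059f3024040110714860c0) (Net.cons (nat_lit 256) (nat_lit 0x1337df73b4dc67997dde76f6) (Net.cons (nat_lit 128) (nat_lit 0x154e31a5950122e142c9641f) (Net.cons (nat_lit 64) (nat_lit 0x7df824800000000000000000b6fb679b11bc788f000000000000000000452843463a140b) (Net.cons (nat_lit 32) (nat_lit 0x82be72c0000000002082d898000000009918131200000000ff4ca8cf00000000e98845d5) (Net.cons (nat_lit 16) (nat_lit 0x53e20000c1cc00002953000025c900009555000037be00009fa70000c5e000003d810000a21e00001018) (Net.cons (nat_lit 8) (nat_lit 0x4600b900a000d500c200d900c8009700a600e60027006b008b00ef00a700b3005500ad0038002500620052) (Net.cons (nat_lit 4) (nat_lit 0xe00000c09060b090400050d0f05060c0d0706000d01030b07050908010d000b0a060202080b050c0d0302)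 (Net.cons (nat_lit 2) (nat_lit 0x131232230022302223333320121203310020011133131122232022122320032122333032312333331300302) (Net.cons (nat_lit 1) (nat_lit 0x1054155014401411444104005414505010055011405111411150051544040001055155111051454541004404) Net.nil)))))))))))))))))

theorem o_g382_ok : Net.ok 351 o_g382 = true := by decide +kernel

noncomputable def o_g383 : Net := (Net.cons (nat_lit 1) (nat_lit 0x44400045151400501454010545154115115541504115004440140504510511410011015410045400050051) (Net.cons (nat_lit 2) (nat_lit 0x1023130022022123201212211220102201100011132022110211313330221032330322222030122031111000) (Net.cons (nat_lit 4) (nat_lit 0x1060705080501010a0c0a0e0e090e000a060a0e0c0904030a00010209050407010d05070f010d04000100) (Net.cons (nat_lit 8) (nat_lit 0x280004007a0090001000190026002c00b100eb00d60044004a00e40089001a007b00ed00e1002c00000000) (Net.cons (nat_lit 16) (nat_lit 0x5f5b00004d52000000050000a18b00009813000000cf00009770000059ae0000100400002b4500000000) (Net.cons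 (nat_lit 32) (nat_lit 0x4fa19d5a0000000055439a2c00000000b883d88400000000eb0c361a0000000056200b83) (Net.cons (nat_lit 64) (nat_lit 0x5ca141500000000000000000fd014ac72015887700000000000000002128000000000000) (Net.cons (nat_lit 128) (nat_lit 0x7885af45908ec3668100400211110508) (Net.cons (nat_lit 256) (nat_lit 0x14fef7eff92948135f37e57a) (Net.cons (nat_lit 128) (nat_lit 0x6dac379c0452c0a258c05c4d) (Net.cons (nat_lit 64) (nat_lit 0x5e71180000000000000000000945fa3b71147a3d00000000000000002704e02044654251) (Net.cons (nat_lit 32) (nat_lit 0xe81bd0000000000d4c53a2c0000000046169592000000006b4b61f400000000db2d0be3) (Net.cons (nat_lit 16) (nat_lit 0x10700005d5200002b4c0000f00f0000673c0000d9c00000827f000071f7000048590000d34300005875) (Net.cons (nat_lit 8) (nat_lit 0x5500d200a000800022006c00060084009900f6001c004000c100ca00c20073002e002f00cb004f00d900b0) (Net.cons (nat_lit 4) (nat_lit 0x10503050c060108010a0c0e0e060c0c010d04020f0f03080e080808020c030b03010a0e050f080c0b040105) (Net.cons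 (nat_lit 2) (nat_lit 0x1103231130122123302232301020203003112233222302211012102203023232021332032313320131131031) (Net.cons (nat_lit 1) (nat_lit 0x1044114010011400545450501445004450415011511101014101005054405404450154501501154414000011) Net.nil)))))))))))))))))

theorem o_g383_ok : Net.ok 351 o_g383 = true := by decide +kernel

noncomputable def o_V384 : List Net := [o_g111, o_g382, o_g383]

theorem o_V384_ok : okE 351 o_V384 = true := (okE_cons.2 ⟨o_g111_ok, (okE_cons.2 ⟨o_g382_ok, (okE_cons.2 ⟨o_g383_ok, (okE_nil 351)⟩)⟩)⟩)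

noncomputable def o_V386 : List Net := [o_g382, o_g383]

theorem o_V386_ok : okE 351 o_V386 = true := (okE_cons.2 ⟨o_g382_ok, (okE_cons.2 ⟨o_g383_ok, (okE_nil 351)⟩)⟩)

noncomputable def o_V387 : List Net := [o_g383]

theorem o_V387_ok : okE 351 o_V387 = true := (okE_cons.2 ⟨o_g383_ok, (okE_nil 351)⟩)

noncomputable def o_V388 : List Net := []

theorem o_V388_ok : okE 351 o_V388 = true := (okE_nil 351)

noncomputable def ot_c22_cnt_EG : List Net := [o_b, o_c, o_d, o_e, o_f, o_g, o_h, o_i, o_g1, o_g2, o_g3, o_g4, o_g5, o_g8, o_g9, o_g12, o_g13, o_g14, o_g17, o_g18, o_g19, o_g20, o_g23, o_g24, o_g25, o_g26, o_g27, o_g30, o_g31, o_g32, o_g35, o_g111, o_g382, o_g383, o_g170, o_g171, o_g172, o_g173]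

theorem ot_c22_cnt_EG_ok : okE 351 ot_c22_cnt_EG = true := (okE_cons.2 ⟨o_b_ok, (okE_cons.2 ⟨o_c_ok, (okE_cons.2 ⟨o_d_ok, (okE_cons.2 ⟨o_e_ok, (okE_cons.2 ⟨o_f_ok, (okE_cons.2 ⟨o_g_ok, (okE_cons.2 ⟨o_h_ok, (okE_cons.2 ⟨o_i_ok, (okE_cons.2 ⟨o_g1_ok, (okE_cons.2 ⟨o_g2_ok, (okE_cons.2 ⟨o_g3_ok, (okE_cons.2 ⟨o_g4_ok, (okE_cons.2 ⟨o_g5_ok, (okE_cons.2 ⟨o_g8_ok, (okE_cons.2 ⟨o_g9_ok, (okE_cons.2 ⟨o_g12_ok, (okE_cons.2 ⟨o_g13_ok, (okE_cons.2 ⟨o_g14_ok, (okE_cons.2 ⟨o_g17_ok, (okE_cons.2 ⟨o_g18_ok, (okE_cons.2 ⟨o_g19_ok, (okE_cons.2 ⟨o_g20_ok, (okE_cons.2 ⟨o_g23_ok, (okE_cons.2 ⟨o_g24_ok, (okE_cons.2 ⟨o_g25_ok, (okE_cons.2 ⟨o_g26_ok, (okE_cons.2 ⟨o_g27_ok, (okE_cons.2 ⟨o_g30_ok, (okE_cons.2 ⟨o_g31_ok, (okE_cons.2 ⟨o_g32_ok, (okE_cons.2 ⟨o_g35_ok, (okE_cons.2 ⟨o_g111_ok, (okE_cons.2 ⟨o_g382_ok, (okE_cons.2 ⟨o_g383_ok, (okE_cons.2 ⟨o_g170_ok, (okE_cons.2 ⟨o_g171_ok, (okE_cons.2 ⟨o_g172_ok, (okE_cons.2 ⟨o_g173_ok, (okE_nil 351)⟩)⟩)⟩)⟩)⟩)⟩)⟩)⟩)⟩)⟩)⟩)⟩)⟩)⟩)⟩)⟩)⟩)⟩)⟩)⟩)⟩)⟩)⟩)⟩)⟩)⟩)⟩)⟩)⟩)⟩)⟩)⟩)⟩)⟩)⟩)⟩)⟩)⟩)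

noncomputable def o_g389 : Net := (Net.cons (nat_lit 1) (nat_lit 0x441505445044515500454545041011105505154101544445514140455054011000154550045450114000014) (Net.cons (nat_lit 2) (nat_lit 0x110221310123210211132031200010210230320100231121220320312202112011121221131230102321210) (Net.cons (nat_lit 4) (nat_lit 0x2090a070d0f0e0c0a060a060b0e000501070f0e040a030b090808020b030d050301070c000a090c010e0508) (Net.cons (nat_lit 8) (nat_lit 0x700c300e200e30046003d00bd0050009900b9005200f700f1008c002c00d7005c00c2009a002500280000) (Net.cons (nat_lit 16) (nat_lit 0x5440000fb890000611e0000b98200000d5300008b5d000086e600001306000005200000021300000000) (Net.cons (nat_lit 32) (nat_lit 0xb65242bc0000000052562a6a00000000b8c8005d000000000f0fa4b100000000004090d4) (Net.cons (nat_lit 64) (nat_lit 0x5b5755cc0000000000000000a354308c4c3ac4f1000000000000000005255c1000000000) (Net.cons (nat_lit 128) (nat_lit 0x8d17347f4c943b556558745322011c80) (Net.cons (nat_lit 256) (nat_lit 0x7df6bb55f5fd7fff3ed17ec9)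 (Net.cons (nat_lit 128) (nat_lit 0x52936fce3fd21c926c68beac) (Net.cons (nat_lit 64) (nat_lit 0x20bf5a800000000000000000c03604d6aef48a4f0000000000000000f65b30c87e6583ca) (Net.cons (nat_lit 32) (nat_lit 0x689a7f3300000000de102d0300000000beacae45000000000f30b26b0000000026104a4b) (Net.cons (nat_lit 16) (nat_lit 0x29f100003d6c0000109d000094c800006aff0000a02b00006fb5000065de0000947300002ebc0000a26c) (Net.cons (nat_lit 8) (nat_lit 0xe002b00a800d400c500c90099002200e200f8004300f1009f003900cc003b00f900c400e2009c00cc00fe) (Net.cons (nat_lit 4) (nat_lit 0x70b02070f0d0304070e020d0b0c0b040608010b010201020d0409000d0c0f0a06000908020d0b0405040607) (Net.cons (nat_lit 2) (nat_lit 0x322230032132000332210002111321312000123220302302033202330332301130222330012013031203231) (Net.cons (nat_lit 1) (nat_lit 0x15401500000445145105154511541010454004504110011105040450115510041401455505551511141411) Net.nil)))))))))))))))))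

theorem o_g389_ok : Net.ok 351 o_g389 = true := by decide +kernel

noncomputable def o_g390 : Net := (Net.cons (nat_lit 1) (nat_lit 0x551510044054444554045040504141441511001405415010001154105515041151401400500004105405511) (Net.cons (nat_lit 2) (nat_lit 0x111203220030121012203111210131222011320222330223100333101002131223212121133301021120000) (Net.cons (nat_lit 4) (nat_lit 0x6080703000907000c0f06060e080a0a0e0406040d050b0c000a0e0f0c07070b080f09000d0f0809020c0c00) (Net.cons (nat_lit 8) (nat_lit 0x2300680063002b008b003f002b002800f200f5003c000000f700f30002002600ef006e00c2009200020000) (Net.cons (nat_lit 16) (nat_lit 0x73320000ad5a00002a1c0000e36100006fb30000176900000053000056100000a3190000104100008000) (Net.cons (nat_lit 32) (nat_lit 0x11b6aa15000000001cfa87c200000000c4409795000000004ec9b2a40000000010af0918) (Net.cons (nat_lit 64) (nat_lit 0x299708c9000000000000000049486711400419a500000000000000008304285900000000) (Net.cons (nat_lit 128) (nat_lit 0x2e0044fe803d835235963d50a301f8b2)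 (Net.cons (nat_lit 256) (nat_lit 0x5c7fd35bbfd6fddba3bff8be) (Net.cons (nat_lit 128) (nat_lit 0x6a5974cd268965575da0713) (Net.cons (nat_lit 64) (nat_lit 0x448de3ab00000000000000006db05683194e8fbc00000000000000003aa3f136a4625b05) (Net.cons (nat_lit 32) (nat_lit 0xbfc6e44c00000000c73b75a400000000422a67cf0000000043ca2f9e00000000b939d2dd) (Net.cons (nat_lit 16) (nat_lit 0x483d0000350f00001e290000699f0000adbd00006add0000e8f30000b95200000dc400007b160000709b) (Net.cons (nat_lit 8) (nat_lit 0xc2005d009b006500a1006f00180021005e00eb00f400c5000500b700be007b002900a30049004100d3) (Net.cons (nat_lit 4) (nat_lit 0x3000c0a03030f030508030608020e07050a0b0e040a0a07080404020a0d0c000a0b0302050b0d0a090d010a) (Net.cons (nat_lit 2) (nat_lit 0x122103002330021321023113101110031222032120233131220123031310001211100123011113323303203) (Net.cons (nat_lit 1) (nat_lit 0x50440545454451100001500500554141511100405400104051415505051111501554005011450100140154) Net.nil)))))))))))))))))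

theorem o_g390_ok : Net.ok 351 o_g390 = true := by decide +kernel

noncomputable def o_g391 : Net := (Net.cons (nat_lit 1) (nat_lit 0x115440455045400545141414004514455055541540551401551104055414110010040140440000440040500) (Net.cons (nat_lit 2) (nat_lit 0x1130311321200133230131102003013303100022322202103020031322001032222000202222132200121000) (Net.cons (nat_lit 4) (nat_lit 0x20e030a0509020808010a070f0a04070a09040e0c000b0406060800010b0e02050e0b0f0b040606020c0008) (Net.cons (nat_lit 8) (nat_lit 0x4b008300f400ea00af00fb00e8001000880034000c00920097000c00ee002000c2004c0017008900a00000) (Net.cons (nat_lit 16) (nat_lit 0x430000008e99000097f0000092480000d1880000c57a0000453900001db800009f8e0000a99800000000) (Net.cons (nat_lit 32) (nat_lit 0xc72e9fda000000008316e6c2000000009644502e00000000c8543f16000000000e040004) (Net.cons (nat_lit 64) (nat_lit 0xfd22864000000000000000082d8270a03103a240000000000000000a734005180000000) (Net.cons (nat_lit 128) (nat_lit 0x967653b68c4580c0845804060310a800)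 (Net.cons (nat_lit 256) (nat_lit 0x6effabe0ef7cd7dfc730a804) (Net.cons (nat_lit 128) (nat_lit 0x549acda84d424aa1b9153fc) (Net.cons (nat_lit 64) (nat_lit 0x55d24e6d000000000000000080d8a70a1390000c0000000000000000a5781e47c88cb840) (Net.cons (nat_lit 32) (nat_lit 0xede937fe0000000031d2cdd600000000b6d616f600000000c255351e000000008ff732e4) (Net.cons (nat_lit 16) (nat_lit 0x410e0000b53f00009f7c0000c0450000c3840000dd6f0000df1c000007b0000045520000125500009054) (Net.cons (nat_lit 8) (nat_lit 0x43009b005e00ca003700fb00e8000000800094006e009200ff00ac00f600ac005200d4002e002800a10060) (Net.cons (nat_lit 4) (nat_lit 0x20e030a070b00080a020a0f0d0a0c070a0904060c000b040f0e080b01090e0205060b0d0b07050f00050808) (Net.cons (nat_lit 2) (nat_lit 0x1130313303202113232131322023233303103321121202303022030123001032202000302122330202123020) (Net.cons (nat_lit 1) (nat_lit 0x515440555045400555141414105514455455541541551441051515455414110050040140440001450040501) Net.nil)))))))))))))))))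

theorem o_g391_ok : Net.ok 351 o_g391 = true := by decide +kernel

noncomputable def o_g392 : Net := (Net.cons (nat_lit 1) (nat_lit 0x115410114550554104511111501454414145014411001054554111414444144041451410440001010155500) (Net.cons (nat_lit 2) (nat_lit 0x133230000120111213213133322021030032331012220303312132233121013330313332322221202102300) (Net.cons (nat_lit 4) (nat_lit 0xe0c06080504040b0c0d0c0c0805070c0207020c030c02030709000f0d0a09080f0800000b080905040d00) (Net.cons (nat_lit 8) (nat_lit 0x600c000c400e200a700bc00f8001b00bf00df000a00a800f200e1001000d4009f0042004b000000610000) (Net.cons (nat_lit 16) (nat_lit 0x15cd00001ee8000000b80000cc98000062670000cbac0000d0b4000054b50000d4080000085a00000000) (Net.cons (nat_lit 32) (nat_lit 0x492d215300000000ce107a5000000000456e0959000000007694050c0000000010198050) (Net.cons (nat_lit 64) (nat_lit 0x28225246000000000000000002682c1510134c010000000000000000f104500900000000) (Net.cons (nat_lit 128) (nat_lit 0x6c4d62e760908810730e66475ea4347d)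 (Net.cons (nat_lit 256) (nat_lit 0x71b6df19f7deff4f5ff53fff) (Net.cons (nat_lit 128) (nat_lit 0x711b2e8a75dd5f2206fc8) (Net.cons (nat_lit 64) (nat_lit 0x631f5d6300000000000000003ca53e7df2cf178f0000000000000000334ca5d750551e90) (Net.cons (nat_lit 32) (nat_lit 0x782b205000000000f40c0e5b000000005a657b1500000000a313d39a00000000204cd443) (Net.cons (nat_lit 16) (nat_lit 0x50e90000b73a000070fa00009c7800003097000082230000aca60000ad8100005884000032ed0000d101) (Net.cons (nat_lit 8) (nat_lit 0x5300d6000f00bf00c100b400a10039009d00a30068002000ed0062007800aa00ff009a00ee000f00ad00d5) (Net.cons (nat_lit 4) (nat_lit 0x106010d060d050c0708070a0a00040109060f050c010e0a0a0504040b05040f0d0505020b0909090d090c04) (Net.cons (nat_lit 2) (nat_lit 0x1112321001003131233202030103133131112200102223102213022223110233002011020012330313103220) (Net.cons (nat_lit 1) (nat_lit 0x150501004150154545011414510554050455105510015010050554510444550001454450404504150415500) Net.nil)))))))))))))))))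

theorem o_g392_ok : Net.ok 351 o_g392 = true := by decide +kernel

noncomputable def o_g393 : Net := (Net.cons (nat_lit 1) (nat_lit 0x540001404501450054415055550100141504441144514014554111005101055545011455451440040505405) (Net.cons (nat_lit 2) (nat_lit 0x100121233113113030333031102030221012000110320333003310330112330013220133130001223123130) (Net.cons (nat_lit 4) (nat_lit 0x603000d05080801090b03010b0d030d0f0703060d070a0b060e090c0d0b07050c000906040004080c080000) (Net.cons (nat_lit 8) (nat_lit 0xc008b000b005500b200e300f80074005b00ef00e90044009000cd00d40004000900860037004800480000) (Net.cons (nat_lit 16) (nat_lit 0x3d5c00003dd3000028d80000806e000006f2000081a0000098540000680c000080db0000004200000000) (Net.cons (nat_lit 32) (nat_lit 0xc526c0db00000000b9a100350000000058079d910000000038a05c0f00000000004940c1) (Net.cons (nat_lit 64) (nat_lit 0x51f826280000000000000000200288ac4750400100000000000000001497800280000000) (Net.cons (nat_lit 128) (nat_lit 0xaef184e9142c020628288f74610c48c2)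 (Net.cons (nat_lit 256) (nat_lit 0x742cee67bebfbfffe7dc48de) (Net.cons (nat_lit 128) (nat_lit 0x374cb0692366b1325531cee8) (Net.cons (nat_lit 64) (nat_lit 0x3c7bdfa200000000000000004f97b2117a6b574a000000000000000032d38b9589f5f320) (Net.cons (nat_lit 32) (nat_lit 0x91f80bfc00000000a7831fb90000000042fb033f0000000012e5888a00000000adf68744) (Net.cons (nat_lit 16) (nat_lit 0x74a60000b3be000060a70000b28e0000fb810000e52d000052970000240b000009240000aa2400009369) (Net.cons (nat_lit 8) (nat_lit 0x6c00c3002a0007004b003f0060008400bf00040029004f00840095008d001c00fd000c00d300ab007c00b5) (Net.cons (nat_lit 4) (nat_lit 0x30a040c0204090e09030c0f0505080a0a04080e00000c0f070001060c080b0f0d0e09030b000f0b00090c0b) (Net.cons (nat_lit 2) (nat_lit 0x232121201320331122203330123220033130221310001000233202032133033100313301222012311022133) (Net.cons (nat_lit 1) (nat_lit 0x501054414044154050550544141510550105115501545040150445400015410145110104555100400114504) Net.nil)))))))))))))))))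

theorem o_g393_ok : Net.ok 351 o_g393 = true := by decide +kernel

noncomputable def o_g394 : Net := (Net.cons (nat_lit 1) (nat_lit 0x111540500044104005015110015444415055115511440010544014054514011551110104400440155014104) (Net.cons (nat_lit 2) (nat_lit 0x1122301211300223012102331221100001213333220021022332131023220323201233222220031310200130) (Net.cons (nat_lit 4) (nat_lit 0x2050a08060a0d05000f030d06050e0f090202040c0800010a0d000a0503080507030002060e0e060c040e08) (Net.cons (nat_lit 8) (nat_lit 0xf000d005800a100e000ec001c006c006f00540053004f004500070026004300f20069001100a200c60000) (Net.cons (nat_lit 16) (nat_lit 0x7e100000e6b90000f8160000c3680000832c00003bf20000b30600005f65000067d2000014a000000000) (Net.cons (nat_lit 32) (nat_lit 0xe75999a3000000006a7073ee00000000b23f5ba000000000a4b60fd10000000000283095) (Net.cons (nat_lit 64) (nat_lit 0x588107c000000000000000080a0a8cc106897db000000000000000085c0823900000000) (Net.cons (nat_lit 128) (nat_lit 0xe9c6918aa4342189883ab86c92992456)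 (Net.cons (nat_lit 256) (nat_lit 0x643c2dcdadfbfaffd39d77f6) (Net.cons (nat_lit 128) (nat_lit 0x4a5a6acdb0408d0a4e94d089) (Net.cons (nat_lit 64) (nat_lit 0x489c13cc0000000000000000ea3cc8c89912edf4000000000000000066866a589fd72ba6) (Net.cons (nat_lit 32) (nat_lit 0xc9475edf00000000cb7039f5000000003c04d26a00000000efe8053200000000f7a23807) (Net.cons (nat_lit 16) (nat_lit 0x4e91000005f60000781f000057620000e6550000d288000092d40000338c0000cb710000ac2f0000af3d) (Net.cons (nat_lit 8) (nat_lit 0xf0015009f00b800f900af009d005a0078000700fc002d00fd008d007400ff005900ca00fc0077009a0060) (Net.cons (nat_lit 4) (nat_lit 0x2050b050b020f0b000b0f02040a0a000e0206020d0302020e050f02050e000f07090409010301020b04050e) (Net.cons (nat_lit 2) (nat_lit 0x1220202333010020313110323110013001300102232021012223020220012313001032013112100222331123) (Net.cons (nat_lit 1) (nat_lit 0x50455400055110004551504514415104455045111540440101055145050500050100111454114415044154) Net.nil)))))))))))))))))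

theorem o_g394_ok : Net.ok 351 o_g394 = true := by decide +kernel

noncomputable def o_g395 : Net := (Net.cons (nat_lit 1) (nat_lit 0x44015441505504015004000044514014011150551001014500015045141115515001041400000041010000) (Net.cons (nat_lit 2) (nat_lit 0x223122303302231012230121003021212233211123212130231013100211113302002301003100302022100) (Net.cons (nat_lit 4) (nat_lit 0x509000b070c01000500050f0f0b08040a03080b0500010f0c0b0d00050c06000b0409050e08080c00000600) (Net.cons (nat_lit 8) (nat_lit 0x65006b009a0005007d004a0009008300ba005a00c9005c001800a4001f00e9006d00d1008400c900010000) (Net.cons (nat_lit 16) (nat_lit 0x6ee100002c3b0000da2e00004ea50000da6a0000fae00000bae00000052e00001600000020db00000000) (Net.cons (nat_lit 32) (nat_lit 0x1358f00c0000000054bb458f000000000804294b00000000351935000000000002c00014) (Net.cons (nat_lit 64) (nat_lit 0x2c2edf170000000000000000c5933e1c21640a8e00000000000000000140493300000000) (Net.cons (nat_lit 128) (nat_lit 0x6a189913848841510013200811200e8e)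 (Net.cons (nat_lit 256) (nat_lit 0x3ddbfb5f6b53793b51340e9e) (Net.cons (nat_lit 128) (nat_lit 0x1fa4445b859b278caae87e65) (Net.cons (nat_lit 64) (nat_lit 0x7eefde9d000000000000000095bb3f9cb2240a040000000000000000796c4c7bb740040a) (Net.cons (nat_lit 32) (nat_lit 0xfb3df40c00000000fdbf502f000000004807cbeb000000001c59300000000000e283c494) (Net.cons (nat_lit 16) (nat_lit 0x6f6100002d3a0000dbae000047340000da6a0000bfe00000faf00000052f00005781000020db00004000) (Net.cons (nat_lit 8) (nat_lit 0x65002a00de0004007c004e000000c300bb001a00e9005c003800e400df00ea006d00d10084008900410020) (Net.cons (nat_lit 4) (nat_lit 0x509000b070c0100050005070f0b00040a03080b0500010f0c0b0d02050c06000b0409050608080c00000600) (Net.cons (nat_lit 2) (nat_lit 0x223122303302231212231121033021212233211123212130231013100211113302002301003100302022100) (Net.cons (nat_lit 1) (nat_lit 0x444015541505510015004404115504014411150551001014500415045141515515001041400000051010000) Net.nil)))))))))))))))))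

theorem o_g395_ok : Net.ok 351 o_g395 = true := by decide +kernel

noncomputable def ot_c23_K : List Net := [o_g390, o_g391, o_g392, o_g393, o_g394, o_g395]

theorem ot_c23_K_ok : okE 351 ot_c23_K = true := (okE_cons.2 ⟨o_g390_ok, (okE_cons.2 ⟨o_g391_ok, (okE_cons.2 ⟨o_g392_ok, (okE_cons.2 ⟨o_g393_ok, (okE_cons.2 ⟨o_g394_ok, (okE_cons.2 ⟨o_g395_ok, (okE_nil 351)⟩)⟩)⟩)⟩)⟩)⟩)

noncomputable def o_g397 : Net := (Net.cons (nat_lit 1) (nat_lit 0x1140445114545404554505500011545015415111014410404504540011445054150440505045115154450011) (Net.cons (nat_lit 2) (nat_lit 0x1220231232003110012233123200011002313011311132311313203031120323202321112302012103110000) (Net.cons (nat_lit 4) (nat_lit 0x30304060f04070e02030c09080505080e0602020801020a0d090d030a060c02050f0700070600090e0c0908) (Net.cons (nat_lit 8) (nat_lit 0xb00f400d00087002a001d002100da00fd0073006e0031002400c30006001b0081001b004400800000) (Net.cons (nat_lit 16) (nat_lit 0x54a70000beda00002bad00002ccd00005c0800004a7d0000a9fc00005f1300000a630000600400000000)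 (Net.cons (nat_lit 32) (nat_lit 0xa01c8265000000001cd6f51700000000020a52c00000000054186ed9000000001c5888a8) (Net.cons (nat_lit 64) (nat_lit 0x48e01cb000000000000000013585066035210240000000000000000359616cb00000000) (Net.cons (nat_lit 128) (nat_lit 0x505d85e9b219000445d048e649025050) (Net.cons (nat_lit 256) (nat_lit 0x3ffff807f5dfffef5d3af7fd) (Net.cons (nat_lit 128) (nat_lit 0x4c49701262167fdc91926029) (Net.cons (nat_lit 64) (nat_lit 0x958e776000000000000000066a24dcd96105b810000000000000000b944c6a5eb142c9d) (Net.cons (nat_lit 32) (nat_lit 0xb52b492d00000000aa4fe31a0000000026f01fb000000000fa7463570000000054b47491) (Net.cons (nat_lit 16) (nat_lit 0x68b6000062ee0000fb8b000060a00000eb1d000059250000732c0000ffcd000069330000b3930000ae64) (Net.cons (nat_lit 8) (nat_lit 0x7f000000bd000b004f003800e200cb00b5006d00620035007400e200f4006800e60066008f003600cc00e1) (Net.cons (nat_lit 4) (nat_lit 0x10f07060b020a0904040c000506050d000e01020c08080400030d0404090a01010d0d05030a0b0d080e0705)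 (Net.cons (nat_lit 2) (nat_lit 0x31003210211330203211223101300302211211112210003000321322020031002203122330031123200311) (Net.cons (nat_lit 1) (nat_lit 0x1401404540111050401410405555414505005041400044055505405455150510511411041041514514545015) Net.nil)))))))))))))))))

theorem o_g397_ok : Net.ok 351 o_g397 = true := by decide +kernel

noncomputable def o_g398 : Net := (Net.cons (nat_lit 1) (nat_lit 0x1011404405141004115111105505101115450011011044045115040114410040055151101415050555154454) (Net.cons (nat_lit 2) (nat_lit 0x1213121230121001122232331213200130030303221002032001132313120000003010322120110321130002) (Net.cons (nat_lit 4) (nat_lit 0x3040a0e0204040d09070a0f0405080b010905030e0b0e09060e0f05090600030d0101070d070d0404010608) (Net.cons (nat_lit 8) (nat_lit 0x27008d002d00e2000400c30058009500c30019000f00110060008e007a007000d000dc003b00dd00610000) (Net.cons (nat_lit 16) (nat_lit 0x3bdb00009af200000ada000095a40000118200009d200000949200004c400000c1000000fa2300000000)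 (Net.cons (nat_lit 32) (nat_lit 0x3002e68e000000009a462c0b0000000027c1acad000000009126e813000000004120120e) (Net.cons (nat_lit 64) (nat_lit 0xcb22d650000000000000000c31313150400262400000000000000009d60659600000000) (Net.cons (nat_lit 128) (nat_lit 0x181fca950d9110d1c29b76740a098209) (Net.cons (nat_lit 256) (nat_lit 0x4df79fdbdffff7f7fabdaa2f) (Net.cons (nat_lit 128) (nat_lit 0xef0c9ea2382c9bc47482657) (Net.cons (nat_lit 64) (nat_lit 0x415c94ec00000000000000008809cdaa42f4fa730000000000000000d7016ec6828566a8) (Net.cons (nat_lit 32) (nat_lit 0x796d826000000000bc57e859000000006b143eec000000002c79418200000000b03ffe0e) (Net.cons (nat_lit 16) (nat_lit 0x6a0300004b0a00002f880000ee640000d015000058fa0000bb6800003a270000f41d0000886100007d6a) (Net.cons (nat_lit 8) (nat_lit 0x600034006900ee004b007e00f20028000a009600c1001f00ba00f700e500e000ca00ee007d00a300bb0020) (Net.cons (nat_lit 4) (nat_lit 0x70009000e01090a0c06030e04050906010e05030601080a0f01020a0d0d010e05050508010e05090b0b0d0a)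 (Net.cons (nat_lit 2) (nat_lit 0x1211103212123100322201313302300210311232320311022130033211023231223331333130003100033230) (Net.cons (nat_lit 1) (nat_lit 0x1150545115405154510544504014000111004411501400055154500155400104014104541110155014015550) Net.nil)))))))))))))))))

theorem o_g398_ok : Net.ok 351 o_g398 = true := by decide +kernel

noncomputable def o_g399 : Net := (Net.cons (nat_lit 1) (nat_lit 0x1450104511505505404515115105445111401455541144050541140515451500510444551145504154151454) (Net.cons (nat_lit 2) (nat_lit 0x1013033010312100110301000202230233000030030300312133112323233332030203222201011101110102) (Net.cons (nat_lit 4) (nat_lit 0x4010e0e0b08050505030f0a0b0d03080d05030f060007020c0507010c0a08030e0e0e0704040a01040e0600) (Net.cons (nat_lit 8) (nat_lit 0x68000c00d20000008700ab00ac00e000b900b400df00330095004200da002300ac00a400ab000500890000) (Net.cons (nat_lit 16) (nat_lit 0x5ef70000b7720000429c0000e8d0000048a10000602c0000951a00000868000096d80000a9e300008000)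 (Net.cons (nat_lit 32) (nat_lit 0xe3cd026d000000005c18bf5b000000001881016800000000a1b2422a00000000227c2c00) (Net.cons (nat_lit 64) (nat_lit 0x6a4e742700000000000000003b512e4f41dc1a4d000000000000000020b980e880000000) (Net.cons (nat_lit 128) (nat_lit 0xb7881859c1340111455558290448dce0) (Net.cons (nat_lit 256) (nat_lit 0x4bbf9f55fffddbf9a57dfcf2) (Net.cons (nat_lit 128) (nat_lit 0x69d4c2b00940261ecd4a1dbc) (Net.cons (nat_lit 64) (nat_lit 0x241389f30000000000000000d61016d1956ce651000000000000000048315968c9d2229e) (Net.cons (nat_lit 32) (nat_lit 0xebd4a2ff00000000fd58b94b0000000010d7031c000000008be9bb680000000098dbd654) (Net.cons (nat_lit 16) (nat_lit 0x7ed30000ae420000cfde00007e840000a8810000703e0000dc1a000080a30000f33800009be300003382) (Net.cons (nat_lit 8) (nat_lit 0x56000900c30044006f00c5009800b0001500a6007500f2009c00b800d1004a00a800c0003b007d00a30004) (Net.cons (nat_lit 4) (nat_lit 0x2090a0709040005070b08040a0d0a00090907070e0607020805030f0c0809010e090a0f05010c0b04060604)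 (Net.cons (nat_lit 2) (nat_lit 0x211013210002321112110020233111203100312012300302113210131331120102122202201201321132112) (Net.cons (nat_lit 1) (nat_lit 0x1555154450005505011505115145541151501154051544051500554515155540505144111105555551151550) Net.nil)))))))))))))))))

theorem o_g399_ok : Net.ok 351 o_g399 = true := by decide +kernel

noncomputable def o_g400 : Net := (Net.cons (nat_lit 1) (nat_lit 0x1540054514141401001514040110401440415050414001550015451441000000000050000000100140004000) (Net.cons (nat_lit 2) (nat_lit 0x322113132320021120020002222001300210201311000102233002011301021000000001000000000000000) (Net.cons (nat_lit 4) (nat_lit 0x807000004030906060904080b0405050d0104010008040c0c080806040200000002000000000000020800) (Net.cons (nat_lit 8) (nat_lit 0x47000f007000980061004900f300800070006000190000001000a400000024006200400042002000800000) (Net.cons (nat_lit 16) (nat_lit 0x6e9900008612000077560000451300007830000040710000e1030000405a000000000000040000000000) (Net.cons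 (nat_lit 32) (nat_lit 0x287c224d00000000f09032a2000000003206c87100000000100282180000000042042001) (Net.cons (nat_lit 64) (nat_lit 0x2185c955000000000000000000d000a01144855900000000000000004218236f80000000) (Net.cons (nat_lit 128) (nat_lit 0xf2d67132c21a23928a00010010440040) (Net.cons (nat_lit 256) (nat_lit 0x725f3392ce5a377fd1c4ff47) (Net.cons (nat_lit 128) (nat_lit 0x4bfa87799a04c98032a620f2) (Net.cons (nat_lit 64) (nat_lit 0x25e5f95f000000000000000004f400a411a4e5fb0000000000000000425c236f80a030a2) (Net.cons (nat_lit 32) (nat_lit 0x283c264d00000000f09132a2000000003247c87100000000104282180000000042442401) (Net.cons (nat_lit 16) (nat_lit 0x6f1900008612000077560000459300007830000040710000e1830000405a000000800000040000000180) (Net.cons (nat_lit 8) (nat_lit 0x47000f007000980061004900f300800070006000190000001000a400000024006200400042002000800000) (Net.cons (nat_lit 4) (nat_lit 0x807000004030906060904080b0405050d0104010008040c0c0c0806040200000002000000000000020800) (Net.cons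 (nat_lit 2) (nat_lit 0x322113132320021120020002222001300210201311000102233002011301021000000001000000000000000) (Net.cons (nat_lit 1) (nat_lit 0x1540054514141401001514040110401440415050414001550015451441000000000050000000100140004000) Net.nil)))))))))))))))))

theorem o_g400_ok : Net.ok 351 o_g400 = true := by decide +kernel

noncomputable def o_g401 : Net := (Net.cons (nat_lit 1) (nat_lit 0x1514040504055001054450015100400010451450440501045500150515140050451111151051550140100000) (Net.cons (nat_lit 2) (nat_lit 0x1013011122030230113112313130211112231102111210220030230230002110122011302000131100000000) (Net.cons (nat_lit 4) (nat_lit 0x60309000e010d0e01020706010a020f05070605090908050b05070107010d08000804070700000600000500) (Net.cons (nat_lit 8) (nat_lit 0x310027009100220001007d008b006500fd000300ac00cc0033007b006c0090000a00060003000700700080) (Net.cons (nat_lit 16) (nat_lit 0x37d4000067a100006ef7000008910000f10e0000e5920000d47500000a74000088000000732500000000) (Net.cons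 (nat_lit 32) (nat_lit 0x73b5001200000000c3d87e8500000000815009c2000000008a00182000000000204d0240) (Net.cons (nat_lit 64) (nat_lit 0x280531000000000000000000200080008970c01100000000000000002026802000000000) (Net.cons (nat_lit 128) (nat_lit 0xf89498fde1c00422224080020a12b120) (Net.cons (nat_lit 256) (nat_lit 0x63c2acb2637fe2732bd7f9e2) (Net.cons (nat_lit 128) (nat_lit 0xaeac6496a108ca669003772) (Net.cons (nat_lit 64) (nat_lit 0x7f2fbbc700000000000000006479e0e1be734896000000000000000026360380e30299e6) (Net.cons (nat_lit 32) (nat_lit 0xbbe545520000000083c97fec00000000c1d5899300000000ca001f6900000000703de302) (Net.cons (nat_lit 16) (nat_lit 0x37d4000047a100006eb7000008930000f15e000065920000d5350000aa74000088000000532500008050) (Net.cons (nat_lit 8) (nat_lit 0x71000700b100660001007d009b006500fd002300ac00cc0033007b007d0090001e00060083004700700082) (Net.cons (nat_lit 4) (nat_lit 0x6030b000c010d0e01020706010a000f05070605090908050b050f0105010d08000804050700020600000702) (Net.cons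 (nat_lit 2) (nat_lit 0x1013011122030230113112313130211112231103111210220030230230002110122011302000131110000000) (Net.cons (nat_lit 1) (nat_lit 0x1514040504055001054450015100400010451450440501045500150515140050451111151051550140100000) Net.nil)))))))))))))))))

theorem o_g401_ok : Net.ok 351 o_g401 = true := by decide +kernel

noncomputable def o_V402 : List Net := [o_g397, o_g398, o_g399, o_g400, o_g401]

theorem o_V402_ok : okE 351 o_V402 = true := (okE_cons.2 ⟨o_g397_ok, (okE_cons.2 ⟨o_g398_ok, (okE_cons.2 ⟨o_g399_ok, (okE_cons.2 ⟨o_g400_ok, (okE_cons.2 ⟨o_g401_ok, (okE_nil 351)⟩)⟩)⟩)⟩)⟩)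

noncomputable def o_V404 : List Net := [o_g398, o_g399, o_g400, o_g401]

theorem o_V404_ok : okE 351 o_V404 = true := (okE_cons.2 ⟨o_g398_ok, (okE_cons.2 ⟨o_g399_ok, (okE_cons.2 ⟨o_g400_ok, (okE_cons.2 ⟨o_g401_ok, (okE_nil 351)⟩)⟩)⟩)⟩)

noncomputable def o_V405 : List Net := [o_g399, o_g400, o_g401]

theorem o_V405_ok : okE 351 o_V405 = true := (okE_cons.2 ⟨o_g399_ok, (okE_cons.2 ⟨o_g400_ok, (okE_cons.2 ⟨o_g401_ok, (okE_nil 351)⟩)⟩)⟩)

noncomputable def o_V406 : List Net := [o_g400, o_g401]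

theorem o_V406_ok : okE 351 o_V406 = true := (okE_cons.2 ⟨o_g400_ok, (okE_cons.2 ⟨o_g401_ok, (okE_nil 351)⟩)⟩)

noncomputable def o_V407 : List Net := []

theorem o_V407_ok : okE 351 o_V407 = true := (okE_nil 351)

noncomputable def ot_c23_cnt_EG : List Net := [o_b, o_c, o_d, o_e, o_f, o_g, o_h, o_i, o_g1, o_g2, o_g3, o_g4, o_g5, o_g8, o_g9, o_g12, o_g13, o_g14, o_g17, o_g18, o_g19, o_g20, o_g23, o_g24, o_g25, o_g26, o_g27, o_g30, o_g31, o_g32, o_g35, o_g88, o_g89, o_g90, o_g91, o_g92, o_g93, o_g94, o_g397, o_g398, o_g399, o_g400, o_g401]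

theorem ot_c23_cnt_EG_ok : okE 351 ot_c23_cnt_EG = true := (okE_cons.2 ⟨o_b_ok, (okE_cons.2 ⟨o_c_ok, (okE_cons.2 ⟨o_d_ok, (okE_cons.2 ⟨o_e_ok, (okE_cons.2 ⟨o_f_ok, (okE_cons.2 ⟨o_g_ok, (okE_cons.2 ⟨o_h_ok, (okE_cons.2 ⟨o_i_ok, (okE_cons.2 ⟨o_g1_ok, (okE_cons.2 ⟨o_g2_ok, (okE_cons.2 ⟨o_g3_ok, (okE_cons.2 ⟨o_g4_ok, (okE_cons.2 ⟨o_g5_ok, (okE_cons.2 ⟨o_g8_ok, (okE_cons.2 ⟨o_g9_ok, (okE_cons.2 ⟨o_g12_ok, (okE_cons.2 ⟨o_g13_ok, (okE_cons.2 ⟨o_g14_ok, (okE_cons.2 ⟨o_g17_ok, (okE_cons.2 ⟨o_g18_ok, (okE_cons.2 ⟨o_g19_ok, (okE_cons.2 ⟨o_g20_ok, (okE_cons.2 ⟨o_g23_ok, (okE_cons.2 ⟨o_g24_ok, (okE_cons.2 ⟨o_g25_ok, (okE_cons.2 ⟨o_g26_ok, (okE_cons.2 ⟨o_g27_ok, (okE_cons.2 ⟨o_g30_ok, (okE_cons.2 ⟨o_g31_ok, (okE_cons.2 ⟨o_g32_ok, (okE_cons.2 ⟨o_g35_ok, (okE_cons.2 ⟨o_g88_ok, (okE_cons.2 ⟨o_g89_ok, (okE_cons.2 ⟨o_g90_ok, (okE_cons.2 ⟨o_g91_ok, (okE_cons.2 ⟨o_g92_ok, (okE_cons.2 ⟨o_g93_ok, (okE_cons.2 ⟨o_g94_ok, (okE_cons.2 ⟨o_g397_ok, (okE_cons.2 ⟨o_g398_ok, (okE_cons.2 ⟨o_g399_ok,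 (okE_cons.2 ⟨o_g400_ok, (okE_cons.2 ⟨o_g401_ok, (okE_nil 351)⟩)⟩)⟩)⟩)⟩)⟩)⟩)⟩)⟩)⟩)⟩)⟩)⟩)⟩)⟩)⟩)⟩)⟩)⟩)⟩)⟩)⟩)⟩)⟩)⟩)⟩)⟩)⟩)⟩)⟩)⟩)⟩)⟩)⟩)⟩)⟩)⟩)⟩)⟩)⟩)⟩)⟩)⟩)

noncomputable def o_g408 : Net := (Net.cons (nat_lit 1) (nat_lit 0x1151100505044540505041505010054044541051151044051011011504555141045505101105100054440514) (Net.cons (nat_lit 2) (nat_lit 0x1220110322110212111131012101332021231110323311013311221002012312011010032001103230230020) (Net.cons (nat_lit 4) (nat_lit 0x70e060b060c02040c0c0904090e020109040407000a0f0403030e0d0406040d0a06080509030f070c000c08) (Net.cons (nat_lit 8) (nat_lit 0x3a00a60046001d007400700032001c00bf00dd00a7000b0022009400b000f100310016001e002b00000080) (Net.cons (nat_lit 16) (nat_lit 0x29e00000b2650000199c0000b84f00007f8600004fe900009c680000bd740000ce74000021d300000000) (Net.cons (nat_lit 32) (nat_lit 0x56a98903000000000beb0a610000000008d04481000000008ca1819600000000020d5840) (Net.cons (nat_lit 64) (nat_lit 0x708b855000000000000000000c270412040d59d00000000000000005039180800000000)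 (Net.cons (nat_lit 128) (nat_lit 0xc13dd00a874a7c904056f9008c81892c) (Net.cons (nat_lit 256) (nat_lit 0xf5f7ede58fffdf8bf8bdded) (Net.cons (nat_lit 128) (nat_lit 0x6e63ff2545dd937d095aa740) (Net.cons (nat_lit 64) (nat_lit 0x2cfc74f2000000000000000011a29980e79264b00000000000000000f23ba2066dccaf18) (Net.cons (nat_lit 32) (nat_lit 0xf0fb694e000000006dc983bb00000000c5a8987c00000000c10247fe00000000f7b60f36) (Net.cons (nat_lit 16) (nat_lit 0x1ccb0000906b000006d5000042c40000af940000cb9a0000e189000008040000ece90000b0b200003e1c) (Net.cons (nat_lit 8) (nat_lit 0x3a00a100db002800ac004f001e001e009a007d000a00a700e400c500a20037005d009100c9000500fe00cb) (Net.cons (nat_lit 4) (nat_lit 0x608030e090e0f0608010f000c050305090d07050e0a0507000d0207070c0c0f03040c090f04030209000901) (Net.cons (nat_lit 2) (nat_lit 0x1320122002020010332003311022011131121012013122032032333100013123030301331323103230202000) (Net.cons (nat_lit 1) (nat_lit 0x1040155544154114550104451040115150541454155044415115515444114550141111515400515444511150)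 Net.nil)))))))))))))))))

theorem o_g408_ok : Net.ok 351 o_g408 = true := by decide +kernel

noncomputable def o_g409 : Net := (Net.cons (nat_lit 1) (nat_lit 0x1000140550040405054101110105141005154454115454504044415154514141000511405444415045444141) (Net.cons (nat_lit 2) (nat_lit 0x122232220300230001000032311221101330033032323221202300323333231011233222102131300221300) (Net.cons (nat_lit 4) (nat_lit 0x3090801040e0e070f03070303010706000f060904050000000d0105020e030101000c0e020e0b0306010008) (Net.cons (nat_lit 8) (nat_lit 0x5e00ce001f00e0000e00f20004005400df009d0042007e00a4004300ea00b300a2008a000400d200b00000) (Net.cons (nat_lit 16) (nat_lit 0x1d090000bf910000809a00001d69000096c6000050820000b8a1000000540000e0c800007ce900008000) (Net.cons (nat_lit 32) (nat_lit 0x78a96fbd000000004d18a92800000000c6aa705a000000002609053200000000087d4213) (Net.cons (nat_lit 64) (nat_lit 0x804b70e0000000000000000944896719c9c08120000000000000000230a696580000000) (Net.cons (nat_lit 128) (nat_lit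 0x338d59bac4d572880102417180220c62) (Net.cons (nat_lit 256) (nat_lit 0x45f5f3ebe30f79fd9da6acf7) (Net.cons (nat_lit 128) (nat_lit 0x213e6f59e575c73efb92cdc3) (Net.cons (nat_lit 64) (nat_lit 0x731e18110000000000000000cb6f79d35514d9c60000000000000000196e56f87cd5bf21) (Net.cons (nat_lit 32) (nat_lit 0x326de28500000000ec1ee7d700000000690f2e4a000000009d021a970000000055971457) (Net.cons (nat_lit 16) (nat_lit 0x3cac0000a910000018f10000b5de0000e95d000059c20000b79e0000191400006ab20000ae45000022c0) (Net.cons (nat_lit 8) (nat_lit 0x5300a700ef0085002d00a900730012001e00d6004d003800590051007100370082004a00f80077004f0033) (Net.cons (nat_lit 4) (nat_lit 0x70d0d0100030a00020a0503070b06070f0000020e0f00030802070a00040703000a070e0e02040801040b05) (Net.cons (nat_lit 2) (nat_lit 0x101300323022103030313221020320201231210303001032131211310032032003300323223020310232011) (Net.cons (nat_lit 1) (nat_lit 0x1441051110440404144450444154114544551150041415400551404140510511111544041050551404404514)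 Net.nil)))))))))))))))))

theorem o_g409_ok : Net.ok 351 o_g409 = true := by decide +kernel

noncomputable def o_g410 : Net := (Net.cons (nat_lit 1) (nat_lit 0x1151040541551405041504150145415440411151550014154145014454400511150450110505544515505151) (Net.cons (nat_lit 2) (nat_lit 0x103223221213323200222102230103220033012123321011211301312230033100201123021011222100100) (Net.cons (nat_lit 4) (nat_lit 0x50400040a0e0a020309000d000a0b020707020f0508000b070700080401030a0c0c09050a0f040e00090408) (Net.cons (nat_lit 8) (nat_lit 0x1300e200c400990082009400a600680039007500c500da002400f60041002300240028009600b100110000) (Net.cons (nat_lit 16) (nat_lit 0x1eb70000fd520000a48c00005e460000c0b300008e020000b2630000b02e000020090000205000000000) (Net.cons (nat_lit 32) (nat_lit 0xeaba46ed00000000a4a4c39600000000d650ac160000000080b69023000000001608201c) (Net.cons (nat_lit 64) (nat_lit 0x62a9625c000000000000000062c109de40c4210000000000000000002870489000000000) (Net.cons (nat_lit 128) (nat_lit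 0x621e956222c51e2060f9f8635a00a160) (Net.cons (nat_lit 256) (nat_lit 0x6effffaf7afdfcfffb5aed73) (Net.cons (nat_lit 128) (nat_lit 0x271e75beed9316be484405bc) (Net.cons (nat_lit 64) (nat_lit 0x184b93b000000000000000006e34d1f0a210f7110000000000000000c99afa162b91761f) (Net.cons (nat_lit 32) (nat_lit 0xe9c5aa1500000000a07b52b000000000f28d72a100000000a72a5d2100000000249644fb) (Net.cons (nat_lit 16) (nat_lit 0x4ec7000096f00000518f00000a1400005ee80000c26b0000f79a0000fd2a00000bbe000030f8000080ee) (Net.cons (nat_lit 8) (nat_lit 0xb50073008b00d300740085004a0023000e00b900f3003900670015002300ad003500e0003200e40046) (Net.cons (nat_lit 4) (nat_lit 0x60f0a01010f02050c0e030a02090104010f0c04060700090b030f000605010a080c0e040804090b090b030a) (Net.cons (nat_lit 2) (nat_lit 0x223231020021320121201302010131322302213131232012230222220330200101023023330310011131202) (Net.cons (nat_lit 1) (nat_lit 0x555514141501500015045450144145115405155510014454400154555141155144510504101455504150451) Net.nil)))))))))))))))))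

theorem o_g410_ok : Net.ok 351 o_g410 = true := by decide +kernel

noncomputable def o_g411 : Net := (Net.cons (nat_lit 1) (nat_lit 0x550400450501145540551505101401045401040010145540001541545454114504544451011050454545510) (Net.cons (nat_lit 2) (nat_lit 0x332301121000000203213111103322033211101100231221211200202222331320120233021012011023000) (Net.cons (nat_lit 4) (nat_lit 0x7050c0804040a04040a03050f0e02080c050f030c0a0609080907080e0c0409040e0f0d0e0c0802090000) (Net.cons (nat_lit 8) (nat_lit 0x78008500060064000b0000006d000400fc00a5000700a0008600d5004000b200b4001800d8000900100000) (Net.cons (nat_lit 16) (nat_lit 0x10120000dc6400004b63000048b20000e4cd00009fcf0000dc17000099e7000024260000cba500008000) (Net.cons (nat_lit 32) (nat_lit 0x748ad1350000000025e531f4000000009c9f0a54000000007013068000000000050c3153) (Net.cons (nat_lit 64) (nat_lit 0x7cc2815400000000000000003401c059bd949aa000000000000000000340046080000000) (Net.cons (nat_lit 128) (nat_lit 0x67f3902c1a253682b205d260030a2840)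 (Net.cons (nat_lit 256) (nat_lit 0x5bbf7edef3ffde69a76ee976) (Net.cons (nat_lit 128) (nat_lit 0x11b241487a14d435f6458436) (Net.cons (nat_lit 64) (nat_lit 0xad8c86300000000000000004b009ef0ab0bbe8000000000000000000e7394049c9b2d8b) (Net.cons (nat_lit 32) (nat_lit 0xf905db4500000000b2b752da000000005b99c7f300000000bd85cb6c000000007d9d03a5) (Net.cons (nat_lit 16) (nat_lit 0x5ee50000045000005bc400006e93000082d700003a940000de78000040ae000069250000995b00007f7c) (Net.cons (nat_lit 8) (nat_lit 0x54009e007c00730018003500a800e0008800d500d100d900ec0073009600e50038008e00ae007200b20097) (Net.cons (nat_lit 4) (nat_lit 0x7000b00070c080b050f010904050c0b0f04070c0704080909060f0f0d0b080b0804040e0903030205000205) (Net.cons (nat_lit 2) (nat_lit 0x22013102120200121022102011203013011331131011002211300101012230200122231202131002001220) (Net.cons (nat_lit 1) (nat_lit 0x515015414141045150410454410110145505440414450055410500445041104114055555144000101050000) Net.nil)))))))))))))))))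

theorem o_g411_ok : Net.ok 351 o_g411 = true := by decide +kernel

noncomputable def o_g412 : Net := (Net.cons (nat_lit 1) (nat_lit 0x40045154105050010440544551454411544401141054114510415055044545040511455511511550014500) (Net.cons (nat_lit 2) (nat_lit 0x1223131122301033112211011201003133103003111032103313021023332200201131103123111030100310) (Net.cons (nat_lit 4) (nat_lit 0x3090f0a0e070d090e0d090104070a0e0506080d03000f0b0e0101060f06050d090a0c0a0309010601000900) (Net.cons (nat_lit 8) (nat_lit 0x36008b004d007c0057001b004000d600f4004800f3004500d5000c001e003600a1001300ff008f00480080) (Net.cons (nat_lit 16) (nat_lit 0x1c220000f46b0000c43700007cff0000a1750000548a000071da000041d00000c4270000244c00000000) (Net.cons (nat_lit 32) (nat_lit 0x135a3dd100000000856cc6ba000000002203470400000000e21c4b520000000015b48c0d) (Net.cons (nat_lit 64) (nat_lit 0x288c4c2b00000000000000001858a7c8c2880202000000000000000011240f1980000000) (Net.cons (nat_lit 128) (nat_lit 0x778a1a5f350455100050a30442820203)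 (Net.cons (nat_lit 256) (nat_lit 0x7f05d77611fcaf7fd3ea0a0b) (Net.cons (nat_lit 128) (nat_lit 0x21840b6928212e929d8915b3) (Net.cons (nat_lit 64) (nat_lit 0x3d33bab900000000000000007a38e79ad39104030000000000000000945e1564980d1228) (Net.cons (nat_lit 32) (nat_lit 0x12725fbe00000000932ec94c00000000fa9b0d5200000000b6124b4300000000383b0c61) (Net.cons (nat_lit 16) (nat_lit 0x7d7f0000f4240000256b0000a1e300003717000090e9000075c7000005990000d22e00005805000031ad) (Net.cons (nat_lit 8) (nat_lit 0x7d007c00460065003f001f00550040004000ea0023003400460014001e003f008f00550093000500110090) (Net.cons (nat_lit 4) (nat_lit 0x6090a0c04020909000d0103020d000707010f0508000301040306060f07030d0809080f0d010f0701080200) (Net.cons (nat_lit 2) (nat_lit 0x230310133011110130200030323132023003122323022320203330203333213003032001103303321122320) (Net.cons (nat_lit 1) (nat_lit 0x101505444010010515510454400545045450104445011144504545014400545000415451511104150014154) Net.nil)))))))))))))))))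

theorem o_g412_ok : Net.ok 351 o_g412 = true := by decide +kernel

noncomputable def o_g413 : Net := (Net.cons (nat_lit 1) (nat_lit 0x1105114415451454501444545414000441110544455504044000401141440554445055055441441555050044) (Net.cons (nat_lit 2) (nat_lit 0x1130230301131122021223322131031021002010111223220021102321132201000121201222001201123220) (Net.cons (nat_lit 4) (nat_lit 0xe080f0e080a0c0a05000b0c0b070402090a000e05020a0e0f0e0b0503010e020a050f0d0d010108020108) (Net.cons (nat_lit 8) (nat_lit 0x320052003700420077006400bd00c6009c00da00660065007000aa00a0000400f200a0004a002100a30080) (Net.cons (nat_lit 16) (nat_lit 0x6810000b00d00008ae1000026a5000076cf00006d130000603400000f72000099900000179900000000) (Net.cons (nat_lit 32) (nat_lit 0x8b100249000000002e8d120800000000aad4854d0000000002371260000000002495810c) (Net.cons (nat_lit 64) (nat_lit 0x5adc064800000000000000004855440d324808200000000000000000f462a08200000000) (Net.cons (nat_lit 128) (nat_lit 0xc733ba111ad50002300d1456244402a)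 (Net.cons (nat_lit 256) (nat_lit 0x35fdf534fff2f3d77adee2fe) (Net.cons (nat_lit 128) (nat_lit 0x1b30f143d62c6c4bc2ef587d) (Net.cons (nat_lit 64) (nat_lit 0x5eda26c500000000000000005d74030d7241186b0000000000000000b9211b93661be93d) (Net.cons (nat_lit 32) (nat_lit 0x7f12169b0000000004ac91f900000000520205c400000000472fb2c500000000c0c400da) (Net.cons (nat_lit 16) (nat_lit 0x2ba60000d1dd00005c660000492000004d1900009e19000083360000ff790000f1e2000076e200005c30) (Net.cons (nat_lit 8) (nat_lit 0xc00fb00b3004a000c0074008200320084005c00ae000f003a008d00db009c007a00c2003800c900e5004e) (Net.cons (nat_lit 4) (nat_lit 0x206040b0b0d080c0405090e0a0f0f030102080e0d0f0d060f0f010a01070e090902070902050803070a0c07) (Net.cons (nat_lit 2) (nat_lit 0x311222031321002100330320120300233203130303201333122222221222221111123210023100013202303) (Net.cons (nat_lit 1) (nat_lit 0x1054415441551554051444010014110041414444011101501411005401555004505155451051041515541010) Net.nil)))))))))))))))))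

theorem o_g413_ok : Net.ok 351 o_g413 = true := by decide +kernel

noncomputable def o_g414 : Net := (Net.cons (nat_lit 1) (nat_lit 0x444000545150455055145101454445150415411405444044140455450100144504401515415000411155444) (Net.cons (nat_lit 2) (nat_lit 0x321110313031112220302201320201033013201131111203203321001211322231312030203233122002120) (Net.cons (nat_lit 4) (nat_lit 0x4020a0c0a0b0c0d050c0b0c0e070c0e0400030c0c0a0e0f06040d0500060709000f03040b02040d00020808) (Net.cons (nat_lit 8) (nat_lit 0x340061004e002800c4006100bb00900048001b00980031004c0093006d009200ab0011002e00c900800000) (Net.cons (nat_lit 16) (nat_lit 0x5d8800009d0a0000a0d7000084d1000005a60000438600006c1b00004fa800001bd20000420000000000) (Net.cons (nat_lit 32) (nat_lit 0x177d8c0300000000fca6f64c000000000d9d8c2a00000000942aa3920000000036c14342) (Net.cons (nat_lit 64) (nat_lit 0x4055805500000000000000001836a59a1a511d1000000000000000004c8a429e80000000) (Net.cons (nat_lit 128) (nat_lit 0xc24415559830808cc0cc271504c83a03)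 (Net.cons (nat_lit 256) (nat_lit 0x5eb1e6fcfdee779f9ccefbe3) (Net.cons (nat_lit 128) (nat_lit 0x3c431319fa37b8df23eab4ee) (Net.cons (nat_lit 64) (nat_lit 0x3b884d1700000000000000009f283259859b6f4f0000000000000000531b84e8863ba588) (Net.cons (nat_lit 32) (nat_lit 0xab309817000000006c7656850000000093465f2a00000000cc557517000000000df98e56) (Net.cons (nat_lit 16) (nat_lit 0x30a1000042cc0000840a000040dd0000033a00005e9c0000401c0000668b000009f80000377000000c30) (Net.cons (nat_lit 8) (nat_lit 0x4800ab0007002400ac00710063006200d4008a001b00de00c5004100c70053003e0043004a008e00350008) (Net.cons (nat_lit 4) (nat_lit 0xe0a0e000f0a0d0f070d060c0e0d08080e020904030b05040a0a090d0f0f020106030c0302040d0101000d) (Net.cons (nat_lit 2) (nat_lit 0x1332132101331031001202012203333023231112303033103332201032110123220123211110021321000330) (Net.cons (nat_lit 1) (nat_lit 0x1550450504444544544150151041100145405405154005101055551115445041050001405005145100551045) Net.nil)))))))))))))))))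

theorem o_g414_ok : Net.ok 351 o_g414 = true := by decide +kernel

noncomputable def o_g415 : Net := (Net.cons (nat_lit 1) (nat_lit 0x1001055445054154051144550544400440141140015110451015545411405040104145005015405045150004) (Net.cons (nat_lit 2) (nat_lit 0x1301331103201023313020113222102113020223231100211003033032220201322321200020303221123032) (Net.cons (nat_lit 4) (nat_lit 0x20809090c06050b0f0f090a0f0d0f0c01040d070b020d050c00010404050404050908050202090604060000) (Net.cons (nat_lit 8) (nat_lit 0x650062003c00f600720016006e00ab008900f700c4002000ad005e0064000000f7005900c40028002c0080) (Net.cons (nat_lit 16) (nat_lit 0x42c400009232000011930000f90b0000ba1300001aa00000402500005ab80000b82a0000a40900000000) (Net.cons (nat_lit 32) (nat_lit 0x457d4711000000008020409500000000489a63f90000000000231b960000000030080043) (Net.cons (nat_lit 64) (nat_lit 0x50c699600000000000000000c253480a054e086400000000000000002536017080000000) (Net.cons (nat_lit 128) (nat_lit 0x43947c27a02004c111aec70505260084)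 (Net.cons (nat_lit 256) (nat_lit 0x28e59ee7b5fed7f7ff3711d6) (Net.cons (nat_lit 128) (nat_lit 0x4c3c83d991cd1668ace1ddb3) (Net.cons (nat_lit 64) (nat_lit 0xe0f1b760000000000000000cb192525154acd700000000000000000f54e94f586109916) (Net.cons (nat_lit 32) (nat_lit 0x65fadf7000000000650808f00000000071af8af9000000008cea9170000000000800dd25) (Net.cons (nat_lit 16) (nat_lit 0x4960000092b7000049c00000542100009d7f00002b7c0000080b000072420000b672000009880000c144) (Net.cons (nat_lit 8) (nat_lit 0x5b00f400ca00650089004800bb0082008900d500df00b300bd002c00a400cf0023006f008c008900e100a9) (Net.cons (nat_lit 4) (nat_lit 0xa0e0c0402060b0007010f0201010101010f0902020b060c0203020f02060f0c0f0a0f030f04030901030b) (Net.cons (nat_lit 2) (nat_lit 0x1201021330102103223133120223222111230321313313231123232112102212120211021122002232213330) (Net.cons (nat_lit 1) (nat_lit 0x515055054440444111440151414155445455441105504100400515154555414444045115405044554450010) Net.nil)))))))))))))))))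

theorem o_g415_ok : Net.ok 351 o_g415 = true := by decide +kernel

noncomputable def ot_c24_K : List Net := [o_g409, o_g410, o_g411, o_g412, o_g413, o_g414, o_g415]

theorem ot_c24_K_ok : okE 351 ot_c24_K = true := (okE_cons.2 ⟨o_g409_ok, (okE_cons.2 ⟨o_g410_ok, (okE_cons.2 ⟨o_g411_ok, (okE_cons.2 ⟨o_g412_ok, (okE_cons.2 ⟨o_g413_ok, (okE_cons.2 ⟨o_g414_ok, (okE_cons.2 ⟨o_g415_ok, (okE_nil 351)⟩)⟩)⟩)⟩)⟩)⟩)⟩)

noncomputable def o_g417 : Net := (Net.cons (nat_lit 1) (nat_lit 0x1004414114010500445450501445040454405015511101111110105414510004550114000545144010000011) (Net.cons (nat_lit 2) (nat_lit 0x1012000103300101103313233322312131221222100033202011021212310131022201102222333031210010) (Net.cons (nat_lit 4) (nat_lit 0x10a0a0f0a020001020301090700020d06080f0b02030d0d070d030e04000d05040b07080e01030d050e0200) (Net.cons (nat_lit 8) (nat_lit 0x4100380004007200a40086001400ef00cf0006009a004100bb0032006a005600a70089005800c300000000) (Net.cons (nat_lit 16) (nat_lit 0x117f00009cf60000ef0c0000baba0000203100002415000092420000765c000018a000008f2e00008000)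 (Net.cons (nat_lit 32) (nat_lit 0x13448a20000000006b2d4068000000001018405e000000000cc45a440000000052330c6e) (Net.cons (nat_lit 64) (nat_lit 0x1fa9953b00000000000000004278a89380087b5f00000000000000000040000000000000) (Net.cons (nat_lit 128) (nat_lit 0xeb8bc92f10401194404090924c090842) (Net.cons (nat_lit 256) (nat_lit 0x50ff7db4e06e99b64fc99bfb) (Net.cons (nat_lit 128) (nat_lit 0x45466b0d3034b2c684af1034) (Net.cons (nat_lit 64) (nat_lit 0x4c09006b0000000000000000607941f2b5b20a1d000000000000000058de0240312d8c11) (Net.cons (nat_lit 32) (nat_lit 0x132cac0000000000996f41280000000063d4ffcf000000001d6bcf9a0000000086188d0a) (Net.cons (nat_lit 16) (nat_lit 0x43c00009dd400005b6e00003bfc0000ce160000b287000073d4000005970000943400009b4f00009105) (Net.cons (nat_lit 8) (nat_lit 0x67004800020051002600d700dc00d3005c0064002a00f4004c008f00a3004c00e6009700fb00c500c00010) (Net.cons (nat_lit 4) (nat_lit 0x609000e0a0c00010001050503080d010c030a0d020c020c0d0c090e0a0f030f0f0b050b080a0d0f070e0201)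 (Net.cons (nat_lit 2) (nat_lit 0x20233113322101103322033120130130011100201103321310021300132201103220330003333031012030) (Net.cons (nat_lit 1) (nat_lit 0x150451145150500401454010545040145101151104015400400040504514411110050010410045010150051) Net.nil)))))))))))))))))

theorem o_g417_ok : Net.ok 351 o_g417 = true := by decide +kernel

noncomputable def o_V418 : List Net := [o_g382, o_g417]

theorem o_V418_ok : okE 351 o_V418 = true := (okE_cons.2 ⟨o_g382_ok, (okE_cons.2 ⟨o_g417_ok, (okE_nil 351)⟩)⟩)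

noncomputable def o_V420 : List Net := [o_g417]

theorem o_V420_ok : okE 351 o_V420 = true := (okE_cons.2 ⟨o_g417_ok, (okE_nil 351)⟩)

noncomputable def o_V421 : List Net := []

theorem o_V421_ok : okE 351 o_V421 = true := (okE_nil 351)

noncomputable def ot_c24_cnt_EG : List Net := [o_g1, o_g, o_g2, o_g3, o_g4, o_g5, o_g8, o_g9, o_g12, o_g13, o_g14, o_g17, o_g18, o_g19, o_g20, o_g23, o_g24, o_g25, o_g26, o_c, o_g27, o_g30, o_g31, o_g32, o_g35, o_b, o_d, o_e, o_f, o_h, o_i, o_g170, o_g171, o_g172, o_g173, o_g111, o_g382, o_g383, o_g417]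

theorem ot_c24_cnt_EG_ok : okE 351 ot_c24_cnt_EG = true := (okE_cons.2 ⟨o_g1_ok, (okE_cons.2 ⟨o_g_ok, (okE_cons.2 ⟨o_g2_ok, (okE_cons.2 ⟨o_g3_ok, (okE_cons.2 ⟨o_g4_ok, (okE_cons.2 ⟨o_g5_ok, (okE_cons.2 ⟨o_g8_ok, (okE_cons.2 ⟨o_g9_ok, (okE_cons.2 ⟨o_g12_ok, (okE_cons.2 ⟨o_g13_ok, (okE_cons.2 ⟨o_g14_ok, (okE_cons.2 ⟨o_g17_ok, (okE_cons.2 ⟨o_g18_ok, (okE_cons.2 ⟨o_g19_ok, (okE_cons.2 ⟨o_g20_ok, (okE_cons.2 ⟨o_g23_ok, (okE_cons.2 ⟨o_g24_ok, (okE_cons.2 ⟨o_g25_ok, (okE_cons.2 ⟨o_g26_ok, (okE_cons.2 ⟨o_c_ok, (okE_cons.2 ⟨o_g27_ok, (okE_cons.2 ⟨o_g30_ok, (okE_cons.2 ⟨o_g31_ok, (okE_cons.2 ⟨o_g32_ok, (okE_cons.2 ⟨o_g35_ok, (okE_cons.2 ⟨o_b_ok, (okE_cons.2 ⟨o_d_ok, (okE_cons.2 ⟨o_e_ok, (okE_cons.2 ⟨o_f_ok, (okE_cons.2 ⟨o_h_ok, (okE_cons.2 ⟨o_i_ok, (okE_cons.2 ⟨o_g170_ok, (okE_cons.2 ⟨o_g171_ok, (okE_cons.2 ⟨o_g172_ok, (okE_cons.2 ⟨o_g173_ok, (okE_cons.2 ⟨o_g111_ok, (okE_cons.2 ⟨o_g382_ok, (okE_cons.2 ⟨o_g383_ok, (okE_cons.2 ⟨o_g417_ok, (okE_nil 351)⟩)⟩)⟩)⟩)⟩)⟩)⟩)⟩)⟩)⟩)⟩)⟩)⟩)⟩)⟩)⟩)⟩)⟩)⟩)⟩)⟩)⟩)⟩)⟩)⟩)⟩)⟩)⟩)⟩)⟩)⟩)⟩)⟩)⟩)⟩)⟩)⟩)⟩)⟩)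

noncomputable def o_g422 : Net := (Net.cons (nat_lit 1) (nat_lit 0x54051405054400405411551550454410414010514510010051145111040145444441054440150450114100) (Net.cons (nat_lit 2) (nat_lit 0x1123220332223313213312313200301103002113020100032211011313033321321131001201231323101012) (Net.cons (nat_lit 4) (nat_lit 0x60f0b08050a0c0209090f0c04040d0e000a020708060a030504000401010406050f04080b090501020400) (Net.cons (nat_lit 8) (nat_lit 0x540084006e009100ed005200ca004300ce00300003004200060003000d00f10003001b004a004600320000) (Net.cons (nat_lit 16) (nat_lit 0x61310000a56200009203000058030000febe0000089600008c130000caa90000e6920000eee000000000) (Net.cons (nat_lit 32) (nat_lit 0x9d8ee3600000000d0616d47000000003a6b650b00000000299015ca000000000b47f885) (Net.cons (nat_lit 64) (nat_lit 0x7404141e0000000000000000c2c625f980140202000000000000000054d9699300000000) (Net.cons (nat_lit 128) (nat_lit 0x1929c60289204c08084220b800100203) (Net.cons (nat_lit 256) (nat_lit 0x6ff9ce5e7fdb6bbbd917ba87)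 (Net.cons (nat_lit 128) (nat_lit 0x698ce447ce871145223a2140) (Net.cons (nat_lit 64) (nat_lit 0x4b06b1b10000000000000000dac7e1a1007220000000000000000000d587efa1e8b55483) (Net.cons (nat_lit 32) (nat_lit 0x67e1176800000000015b0d52000000001ea65875000000008a96fbd100000000c5f188c7) (Net.cons (nat_lit 16) (nat_lit 0x6d0000ff490000a22b0000090900003164000000010000bc2300005092000094550000c3b800001606) (Net.cons (nat_lit 8) (nat_lit 0x560030005e006e001f00010023005b000f00cf00ad00e800eb003a00d100870033009f00da00bc005a004c) (Net.cons (nat_lit 4) (nat_lit 0x40b0808020f04020c06070f090f01060f0d000a0f020a0c070f09030e04090d0b0d0800040a0a05050a0400) (Net.cons (nat_lit 2) (nat_lit 0x1001223031112201302022230111330031320102121120202313330201132131220211311111333232312032) (Net.cons (nat_lit 1) (nat_lit 0x451044540145401540145551410004550110141515401140445145441544005000051544001105551101104) Net.nil)))))))))))))))))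

theorem o_g422_ok : Net.ok 351 o_g422 = true := by decide +kernel

noncomputable def o_g423 : Net := (Net.cons (nat_lit 1) (nat_lit 0x1015001411441411415100500001544101405050401005054111540551041405551040411540400001011144) (Net.cons (nat_lit 2) (nat_lit 0x321200232211312203033223110220221220133123210201231101213113233311130003320310232022000) (Net.cons (nat_lit 4) (nat_lit 0x30a0f0e04090d080201000d09070c00050709000c0c0e0a0400010e0e0c0805040d09080301080f05030608) (Net.cons (nat_lit 8) (nat_lit 0x5f000e006c0018009200f1007d0096003a003a007c001a003c0010000e0039001c00d0005a004200a10080) (Net.cons (nat_lit 16) (nat_lit 0x3315000090d20000dc0500001ecf0000a30f0000b862000082130000d9de000000e20000f09400008000) (Net.cons (nat_lit 32) (nat_lit 0x3d5eb011000000008c5eb2df00000000c81d038000000000562421900000000001b8c010) (Net.cons (nat_lit 64) (nat_lit 0x2a5062f50000000000000000ce25d9eec0a01b8600000000000000000010840b00000000) (Net.cons (nat_lit 128) (nat_lit 0x520a30cd8c0880608411d02002a011a7)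 (Net.cons (nat_lit 256) (nat_lit 0x7efabff6bdb1f5ef03fa51b7) (Net.cons (nat_lit 128) (nat_lit 0x11524428a8a649324ba9be96) (Net.cons (nat_lit 64) (nat_lit 0x69fc5aeb00000000000000006e33d92ec3a8101600000000000000008f78164d162618c1) (Net.cons (nat_lit 32) (nat_lit 0xb2e8539400000000d3fc14f800000000b6de0abd000000007c9a62b30000000036364467) (Net.cons (nat_lit 16) (nat_lit 0x7d4300007dd200006420000003690000fcec0000c7bb00008893000095bb00001af4000075e00000af93) (Net.cons (nat_lit 8) (nat_lit 0x36008d0055002a002f003e004600f700a8009b003d006600e9001f00d900ad000c00db00a1006000cb0027) (Net.cons (nat_lit 4) (nat_lit 0x6090c06050d0b0c07060104090e03070e080a040e090c020408090a05090405050a050e02020a0c000b0c0e) (Net.cons (nat_lit 2) (nat_lit 0x23302020010300200221322032331013113332131331213200001312130033231232230230100032032303) (Net.cons (nat_lit 1) (nat_lit 0x1514155050550501541144540140055444400500405044145110040504140515511004014005005051540144) Net.nil)))))))))))))))))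

theorem o_g423_ok : Net.ok 351 o_g423 = true := by decide +kernel

noncomputable def o_g424 : Net := (Net.cons (nat_lit 1) (nat_lit 0x1450105414404501005404410454450544054010004445555154100041045141014000105111444510154140) (Net.cons (nat_lit 2) (nat_lit 0x1110213130312223012310301333101113023021201330130100032330201122323210000201121322021302) (Net.cons (nat_lit 4) (nat_lit 0x10b0a0a02060e0f02020104060b040a0704030204090407080c030d0b060702060102010e01000b0a0b0100) (Net.cons (nat_lit 8) (nat_lit 0x5200a6007900e100af0088000300f600c000200019008b004a006d001800f10023008300050014008a0080) (Net.cons (nat_lit 16) (nat_lit 0x71860000ac32000008130000a4710000815c000046ad0000416c0000901400008db2000036cc00000000) (Net.cons (nat_lit 32) (nat_lit 0x760648900000000187d738800000000d0888d300000000042ea36000000000052818b09) (Net.cons (nat_lit 64) (nat_lit 0x4c90b140000000000000000a1a15c2586614b1000000000000000000604839100000000) (Net.cons (nat_lit 128) (nat_lit 0x1915819aa90414e861a8400484040a10)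 (Net.cons (nat_lit 256) (nat_lit 0x799ef6ea6fafe795ccc58b1c) (Net.cons (nat_lit 128) (nat_lit 0x21acfa4c8348bc3733511d63) (Net.cons (nat_lit 64) (nat_lit 0x632129cf0000000000000000a1a9fd2526c3493500000000000000007097578340cd4911) (Net.cons (nat_lit 32) (nat_lit 0xd9002237000000001561c20a000000009b759953000000005fc9203b00000000484ef399) (Net.cons (nat_lit 16) (nat_lit 0x493d0000976a0000630c000047e4000018c2000077d2000056810000ee0d00004a6300001a5200005154) (Net.cons (nat_lit 8) (nat_lit 0x2000a1003d00b50031000a002f0057007e0008008400bd00d6008d002100f00032003f0087006f00120056) (Net.cons (nat_lit 4) (nat_lit 0x409030d07070d050d0d000e000d01030e0208040007020f0b0807090d0c0d0c0b0b020f0305000d06070a) (Net.cons (nat_lit 2) (nat_lit 0x1212030300120100332230212310221213202000131000300210321210011011321120222300201322130212) (Net.cons (nat_lit 1) (nat_lit 0x1010515151550010515440005050040500455414554454111411055044010451044400150405510144540404) Net.nil)))))))))))))))))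

theorem o_g424_ok : Net.ok 351 o_g424 = true := by decide +kernel

noncomputable def o_g425 : Net := (Net.cons (nat_lit 1) (nat_lit 0x51050054114504404140401005510004045044114004514511405450401401154451104150444050151140) (Net.cons (nat_lit 2) (nat_lit 0x1213101113301221323031003130210202310332222020003202203323202310211031000023123120332100) (Net.cons (nat_lit 4) (nat_lit 0x40e0e06000600070c0505030904010d09070709080c0c0308060a020c0c0b0509060e010b07060b0d090700) (Net.cons (nat_lit 8) (nat_lit 0x2600b300d200670099008800c10028004a0031002500e60056009d004c002d000100c0004a00c600550000) (Net.cons (nat_lit 16) (nat_lit 0x1c0c000007fc000075940000d0cc000001950000001e000024cb00006a1e000043e10000a54100008000) (Net.cons (nat_lit 32) (nat_lit 0x4b833f12000000002667234700000000a810628c00000000d90b0f4a0000000021b00002) (Net.cons (nat_lit 64) (nat_lit 0x3080240c00000000000000008a5b3ffcd241558600000000000000002200097280000000) (Net.cons (nat_lit 128) (nat_lit 0x3412431504378021a0132b3416000480)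 (Net.cons (nat_lit 256) (nat_lit 0x7db7cf7fef3babf6b7e02480) (Net.cons (nat_lit 128) (nat_lit 0x343c03287ecc57d8c0e0f67e) (Net.cons (nat_lit 64) (nat_lit 0x6be9b01400000000000000003a4f3ff4cac180060000000000000000ac10859bdf594116) (Net.cons (nat_lit 32) (nat_lit 0xb48ed88200000000ebb1105e00000000de8e643d00000000754b04e400000000e8f446d2) (Net.cons (nat_lit 16) (nat_lit 0x7f960000ff0b00007b230000f7ea0000919500006f7c00005d750000d35e0000d9b90000a0be00001484) (Net.cons (nat_lit 8) (nat_lit 0x2f0009009700dc001c00ee009200de005300f400a500e10095002f00200071001a00ee00e5008f00c0002e) (Net.cons (nat_lit 4) (nat_lit 0x6090f000c060b040e060a0c03070d0e0a0f010c0205040c0f0b0e010a0c0d0900050f090a010005090d0102) (Net.cons (nat_lit 2) (nat_lit 0x1200330123113103313311100120322011011232203230230021320132221202211301030310113310222312) (Net.cons (nat_lit 1) (nat_lit 0x1515455551505500440510004100055441400515044001411055014404555040005144104040154544054) Net.nil)))))))))))))))))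

theorem o_g425_ok : Net.ok 351 o_g425 = true := by decide +kernel

noncomputable def o_g426 : Net := (Net.cons (nat_lit 1) (nat_lit 0x501150514155515514444004041445401401054415510015045044000040400000101005004001000000000) (Net.cons (nat_lit 2) (nat_lit 0x132221020020023301100121001110202310102210102200012100002200220202203000020200000000) (Net.cons (nat_lit 4) (nat_lit 0x6020a00090400010f0e0000080405010008080a0e0b0d030805010405000007070005000a00000000000000) (Net.cons (nat_lit 8) (nat_lit 0x2100c400bf006500cc0004004c002800c80008003c0029006c00c000010000002800890044001200000000) (Net.cons (nat_lit 16) (nat_lit 0x3b6100002762000063e400000cd00000d04000004d260000699800000840000000050000000000000000) (Net.cons (nat_lit 32) (nat_lit 0xeb000a46000000000000d08c000000005b08123800000000210081100000000004280810) (Net.cons (nat_lit 64) (nat_lit 0x505e200000000000000005320b60610000216000000000000000014451a2500000000) (Net.cons (nat_lit 128) (nat_lit 0x7fcc1b5d002809400800140000000204)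 (Net.cons (nat_lit 256) (nat_lit 0x2c6c8fffde471f252c690a04) (Net.cons (nat_lit 128) (nat_lit 0x120051402020bc1a492ac2b6) (Net.cons (nat_lit 64) (nat_lit 0x152d6de200000000000000007320be861028021700000000000000003645102504280800) (Net.cons (nat_lit 32) (nat_lit 0xe3900246000000004000d88c000000005708323a0000000021008910000000000c280810) (Net.cons (nat_lit 16) (nat_lit 0x3b6100006763000065e400002cd00000d0440000cf2700007b9c00000a41000004050000320000000000) (Net.cons (nat_lit 8) (nat_lit 0x2100c600bf006500cc0004004d002800c80008003c0029006c00c000010000002800890044001200000000) (Net.cons (nat_lit 4) (nat_lit 0x6020e00090400010f0e0000080405010008080a0e0b0d030805010405000007070405000a00000000000000) (Net.cons (nat_lit 2) (nat_lit 0x132221020020023301100121001110202310102210102200012100002200220202203000020200000000) (Net.cons (nat_lit 1) (nat_lit 0x501150514155515514444004041445401401054415510015045044000040400000101005004001000000000) Net.nil)))))))))))))))))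

theorem o_g426_ok : Net.ok 351 o_g426 = true := by decide +kernel

noncomputable def o_g427 : Net := (Net.cons (nat_lit 1) (nat_lit 0x515405005404440105045004551410410104000444010500400000015501100010500004400004010000000) (Net.cons (nat_lit 2) (nat_lit 0x1312101130100130001012003110000121020010011000003000302002201201200132120121000013000020) (Net.cons (nat_lit 4) (nat_lit 0x30e0507080001060c0808000b020c010b0d0000010c0c08010008000b01060500030a06030001000c040800) (Net.cons (nat_lit 8) (nat_lit 0x4f00200090004300a000000021009f00000020004900800000000000490036002800220040000000000000) (Net.cons (nat_lit 16) (nat_lit 0x143000009b40000002100000200b0000114000000088000000000000c930000080500000100000000000) (Net.cons (nat_lit 32) (nat_lit 0x649010000000000010208141000000000000010000000000a94274020000000000000000) (Net.cons (nat_lit 64) (nat_lit 0x100000000000000000000040008a000000000000000000000000000000000000000000) (Net.cons (nat_lit 128) (nat_lit 0x330017040008a0000008000)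 (Net.cons (nat_lit 256) (nat_lit 0x330017040008a0000008000) (Net.cons (nat_lit 128) (nat_lit 0x330017040008a0000008000) (Net.cons (nat_lit 64) (nat_lit 0x2480101000000000000000004000ab40104020010000000000000000e973ff0210000000) (Net.cons (nat_lit 32) (nat_lit 0xf7a0505000000000102bf5c10000000048986100000000002946b5560000000000000000) (Net.cons (nat_lit 16) (nat_lit 0x542d00009b50000002880000200b00001950000091880000000000004936000000560000900200004008) (Net.cons (nat_lit 8) (nat_lit 0x4f00220090004700a00000002b009f00200020004d00800000001800690037002800220044000000840084) (Net.cons (nat_lit 4) (nat_lit 0x30e0507080001060c0a09000b030c010b0d0000010c0c0a030008020b01060500030e06030805000c040802) (Net.cons (nat_lit 2) (nat_lit 0x1312101130100130001012003110000121020010011000003000302002301201200133120121101013000020) (Net.cons (nat_lit 1) (nat_lit 0x515405005444440105045004551410410104004444010500400000015501100010500004400004010000100) Net.nil)))))))))))))))))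

theorem o_g427_ok : Net.ok 351 o_g427 = true := by decide +kernel

noncomputable def ot_c25_K : List Net := [o_g423, o_g424, o_g425, o_g426, o_g427]

theorem ot_c25_K_ok : okE 351 ot_c25_K = true := (okE_cons.2 ⟨o_g423_ok, (okE_cons.2 ⟨o_g424_ok, (okE_cons.2 ⟨o_g425_ok, (okE_cons.2 ⟨o_g426_ok, (okE_cons.2 ⟨o_g427_ok, (okE_nil 351)⟩)⟩)⟩)⟩)⟩)

noncomputable def o_g429 : Net := (Net.cons (nat_lit 1) (nat_lit 0x515101445541040404455140044144145054450551510111040051550011140000510044154010000440000) (Net.cons (nat_lit 2) (nat_lit 0x201223310032000313102201120333211321023023123213113311210111320302232012201130220100000) (Net.cons (nat_lit 4) (nat_lit 0x30e0902060400050b02060606010c0d090e040e090e000c0a09010a01060f0b090e0e0b0201000204000000) (Net.cons (nat_lit 8) (nat_lit 0x4e00050018007000d4004e0050002c006d00ed00c200230040000e005f00a300db000c0072002000a00080) (Net.cons (nat_lit 16) (nat_lit 0x4320000d2da0000323600009e9b00000251000035360000c32d000002b1000081160000154400000000)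 (Net.cons (nat_lit 32) (nat_lit 0x4d0c306200000000060463ea000000000733a2f400000000704002ca0000000037410080) (Net.cons (nat_lit 64) (nat_lit 0xdb12c40000000000000000498c41a00455301a00000000000000002e03680880000000) (Net.cons (nat_lit 128) (nat_lit 0x6ef67d8a240942006a00b022201654cc) (Net.cons (nat_lit 256) (nat_lit 0x674f42c0fed7fdaea79756cc) (Net.cons (nat_lit 128) (nat_lit 0x289d74fa6b08b6706e5ad22c) (Net.cons (nat_lit 64) (nat_lit 0x5f9fd9260000000000000000498f6182017157d90000000000000000ac434e1a374629d6) (Net.cons (nat_lit 32) (nat_lit 0xcd6c3473000000001645e7d900000000867384e500000000f008a4db00000000b7213692) (Net.cons (nat_lit 16) (nat_lit 0x47a000092da0000103400009e9800004250000035360000e32e000042f1000081160000154600000202) (Net.cons (nat_lit 8) (nat_lit 0xe00150018003000f6004c0050008d006c00df00c000220071000f005f00e100f9002e0072002000a20082) (Net.cons (nat_lit 4) (nat_lit 0x30e0902060400050b02060606010c0d0d0e040e090e000c0a09010a01060f0b090e0e0b0201000204010000)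 (Net.cons (nat_lit 2) (nat_lit 0x201223310032000313102201120333211321023023123213113311210111320302232012201130220100000) (Net.cons (nat_lit 1) (nat_lit 0x515101445541040404455140044144145054450551510111040051550011140000510044154010000440000) Net.nil)))))))))))))))))

theorem o_g429_ok : Net.ok 351 o_g429 = true := by decide +kernel

noncomputable def o_g430 : Net := (Net.cons (nat_lit 1) (nat_lit 0x1001114001105154010015000154514010010440040101450100000141000050000400000040014000004400) (Net.cons (nat_lit 2) (nat_lit 0x200313213000012213012123300222222102322312332223122221010001112230020000000000100000000) (Net.cons (nat_lit 4) (nat_lit 0x2010d03050003030c050f040802090d020803080a0e00020d03000406000808080408080100040600000000) (Net.cons (nat_lit 8) (nat_lit 0x5d004b00c100310076006600100029007200a80089006f00a0003400b40089002000000009008000000000) (Net.cons (nat_lit 16) (nat_lit 0x4c0000f980000087a70000c021000080180000040b0000a86900002090000011000000420000000000) (Net.cons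 (nat_lit 32) (nat_lit 0xcdec79000000000890421a90000000070e289c800000000000c00000000000010510a41) (Net.cons (nat_lit 64) (nat_lit 0x134121e0000000000000000ca0024054160039100000000000000002828430200000000) (Net.cons (nat_lit 128) (nat_lit 0x48dcaee3100801590422020124800288) (Net.cons (nat_lit 256) (nat_lit 0x112d03597dff4f03a491578f) (Net.cons (nat_lit 128) (nat_lit 0x3aea38d2868a9265790a2f99) (Net.cons (nat_lit 64) (nat_lit 0x1759b170000000000000000fa00e464416322b900000000000000002828c36200032101) (Net.cons (nat_lit 32) (nat_lit 0xc7ec79100000000892429a8000000007042a9c900000000002c28110000000010d10a41) (Net.cons (nat_lit 16) (nat_lit 0x4d0000fd80000087af0000c82100008018000004230000ac69000020b0000019080000420100000400) (Net.cons (nat_lit 8) (nat_lit 0x5f004b00c100310076006600100039007200a80089006f00a0003c00b40089002000000009008000080000) (Net.cons (nat_lit 4) (nat_lit 0x2010d03050003030c050f040802090d0a0803080a0e00020d03000406000808080408080100040600000000) (Net.cons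 (nat_lit 2) (nat_lit 0x200313213000012213012123300222222102322312332223122221010001112230020000000000100000000) (Net.cons (nat_lit 1) (nat_lit 0x1001114001105154010015000154514010010440040101450100000141000050000400000040014000004400) Net.nil)))))))))))))))))

theorem o_g430_ok : Net.ok 351 o_g430 = true := by decide +kernel

noncomputable def o_V431 : List Net := [o_g172, o_g429, o_g430]

theorem o_V431_ok : okE 351 o_V431 = true := (okE_cons.2 ⟨o_g172_ok, (okE_cons.2 ⟨o_g429_ok, (okE_cons.2 ⟨o_g430_ok, (okE_nil 351)⟩)⟩)⟩)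

noncomputable def o_V433 : List Net := [o_g429, o_g430]

theorem o_V433_ok : okE 351 o_V433 = true := (okE_cons.2 ⟨o_g429_ok, (okE_cons.2 ⟨o_g430_ok, (okE_nil 351)⟩)⟩)

noncomputable def o_V434 : List Net := [o_g430]

theorem o_V434_ok : okE 351 o_V434 = true := (okE_cons.2 ⟨o_g430_ok, (okE_nil 351)⟩)

noncomputable def o_V435 : List Net := []

theorem o_V435_ok : okE 351 o_V435 = true := (okE_nil 351)

noncomputable def ot_c25_cnt_EG : List Net := [o_b, o_c, o_d, o_e, o_f, o_g, o_h, o_i, o_g1, o_g2, o_g3, o_g4, o_g5, o_g8, o_g9, o_g12, o_g13, o_g14, o_g17, o_g18, o_g19, o_g20, o_g23, o_g24, o_g25, o_g26, o_g27, o_g30, o_g31, o_g32, o_g35, o_g172, o_g429, o_g430]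

theorem ot_c25_cnt_EG_ok : okE 351 ot_c25_cnt_EG = true := (okE_cons.2 ⟨o_b_ok, (okE_cons.2 ⟨o_c_ok, (okE_cons.2 ⟨o_d_ok, (okE_cons.2 ⟨o_e_ok, (okE_cons.2 ⟨o_f_ok, (okE_cons.2 ⟨o_g_ok, (okE_cons.2 ⟨o_h_ok, (okE_cons.2 ⟨o_i_ok, (okE_cons.2 ⟨o_g1_ok, (okE_cons.2 ⟨o_g2_ok, (okE_cons.2 ⟨o_g3_ok, (okE_cons.2 ⟨o_g4_ok, (okE_cons.2 ⟨o_g5_ok, (okE_cons.2 ⟨o_g8_ok, (okE_cons.2 ⟨o_g9_ok, (okE_cons.2 ⟨o_g12_ok, (okE_cons.2 ⟨o_g13_ok, (okE_cons.2 ⟨o_g14_ok, (okE_cons.2 ⟨o_g17_ok, (okE_cons.2 ⟨o_g18_ok, (okE_cons.2 ⟨o_g19_ok, (okE_cons.2 ⟨o_g20_ok, (okE_cons.2 ⟨o_g23_ok, (okE_cons.2 ⟨o_g24_ok, (okE_cons.2 ⟨o_g25_ok, (okE_cons.2 ⟨o_g26_ok, (okE_cons.2 ⟨o_g27_ok, (okE_cons.2 ⟨o_g30_ok, (okE_cons.2 ⟨o_g31_ok, (okE_cons.2 ⟨o_g32_ok, (okE_cons.2 ⟨o_g35_ok, (okE_cons.2 ⟨o_g172_ok, (okE_cons.2 ⟨o_g429_ok, (okE_cons.2 ⟨o_g430_ok, (okE_nil 351)⟩)⟩)⟩)⟩)⟩)⟩)⟩)⟩)⟩)⟩)⟩)⟩)⟩)⟩)⟩)⟩)⟩)⟩)⟩)⟩)⟩)⟩)⟩)⟩)⟩)⟩)⟩)⟩)⟩)⟩)⟩)⟩)⟩)⟩)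

noncomputable def o_g436 : Net := (Net.cons (nat_lit 1) (nat_lit 0x441504010550505510114044101541405540440501505554045404451500411041540015055510054515005) (Net.cons (nat_lit 2) (nat_lit 0x1310101202310130031023221332200120122301130201330201202022331010231330001302201210032300) (Net.cons (nat_lit 4) (nat_lit 0x40d040a050e0407050f080b0306090900080e020c0a030204050d030603040a0c0c0900090e030b08080600) (Net.cons (nat_lit 8) (nat_lit 0x400ef00d1005b00f800bb0089002300960033001500a700e300be000b003600b1007200e0005000700000) (Net.cons (nat_lit 16) (nat_lit 0x43bc0000eac000005ace0000e5e0000086f5000079d60000a02f000012100000a9b60000702400000000) (Net.cons (nat_lit 32) (nat_lit 0xa43ac620000000024080750000000002a69dd5300000000010d125000000000780218a7) (Net.cons (nat_lit 64) (nat_lit 0x164f8da100000000000000000c8042262108154400000000000000006001e50400000000) (Net.cons (nat_lit 128) (nat_lit 0x196d15c940e904a072978b25cb56710e) (Net.cons (nat_lit 256) (nat_lit 0x4debafa772d7fffddf5673af)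 (Net.cons (nat_lit 128) (nat_lit 0x3addad588557592a9e2a6ca1) (Net.cons (nat_lit 64) (nat_lit 0x7e4313f4000000000000000007680f8184764d770000000000000000d2a0e6230b7284d0) (Net.cons (nat_lit 32) (nat_lit 0x7382600b000000006b3aedba00000000c10bb93800000000fe50c2d900000000dc7e53e3) (Net.cons (nat_lit 16) (nat_lit 0x4374000066c500003898000071cb00006e1e0000518e0000cfca0000a009000039c4000086ea0000e26b) (Net.cons (nat_lit 8) (nat_lit 0x71006400a000ed00e700db001a002c00d10044008800b9001d00ac001e00c900dc00b9007f006500bb00d3) (Net.cons (nat_lit 4) (nat_lit 0x203010801030306020d040e010f0109040f0f000e0c0e05010f09030f08030f0b030d0e040f0b0e02080001) (Net.cons (nat_lit 2) (nat_lit 0x1223230202322112200103320133203002131301201303221133002331101111232132122130232203001021) (Net.cons (nat_lit 1) (nat_lit 0x1000541515045040014154441511100401554510511010014445405101000414144010500045404111455500) Net.nil)))))))))))))))))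

theorem o_g436_ok : Net.ok 351 o_g436 = true := by decide +kernel

noncomputable def o_g437 : Net := (Net.cons (nat_lit 1) (nat_lit 0x141544140400410050545441410510501111045500441100541111414105410414155555505054451410445) (Net.cons (nat_lit 2) (nat_lit 0x1203121320330031232112211332222331130113030021233000310132013333200020331011012023011200) (Net.cons (nat_lit 4) (nat_lit 0x10d060a0b0e0a010b05030c0a0805050906010d070b080d050403080e05060907040500010a080000020100) (Net.cons (nat_lit 8) (nat_lit 0x66003d001c008900d80060003f00ed00c000a50018000600c500c8009800ce00550006006f00ae00250000) (Net.cons (nat_lit 16) (nat_lit 0x41390000a107000028c600003ca700005eac000052c60000370f00007f9400008a4e00001d3600000000) (Net.cons (nat_lit 32) (nat_lit 0xa621eab30000000005040778000000001c8e0a6400000000e8b381880000000019cc0464) (Net.cons (nat_lit 64) (nat_lit 0x6209e5120000000000000000e7f045a210858932000000000000000080a4198a00000000) (Net.cons (nat_lit 128) (nat_lit 0x3560dce1108d321963c0456268300e85)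 (Net.cons (nat_lit 256) (nat_lit 0x339dbefdebee5fffe9754f87) (Net.cons (nat_lit 128) (nat_lit 0x22a0deeeaa59125405b749c9) (Net.cons (nat_lit 64) (nat_lit 0x3c570e7a00000000000000007d49f21aa5b4fdb800000000000000009d0f5efee6302d11) (Net.cons (nat_lit 32) (nat_lit 0x3e7ac16f00000000941bf413000000004dc3395d000000002083a05d0000000028df9f73) (Net.cons (nat_lit 16) (nat_lit 0x24b20000451200003a870000ff130000fa9500008bd600003fcd00008dd0000012cd000049c500005310) (Net.cons (nat_lit 8) (nat_lit 0x4600e500290060009200fd00560021004d0015005500c400030075003400a500bd00c700b100a300250064) (Net.cons (nat_lit 4) (nat_lit 0x20504080c0f0703090600080d030c090307020b0b06080f07060e0c0a000705010e090a06020300030b0204) (Net.cons (nat_lit 2) (nat_lit 0x1331030113232020013202010231123212120020020301112220022232102122030133333221012333221003) (Net.cons (nat_lit 1) (nat_lit 0x444105051454015554055450044545400540014054540441451554010501405115111115405504405401150) Net.nil)))))))))))))))))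

theorem o_g437_ok : Net.ok 351 o_g437 = true := by decide +kernel

noncomputable def o_g438 : Net := (Net.cons (nat_lit 1) (nat_lit 0x110444410504450540151405410145401515514450504415445500541454505401405411040510450045104) (Net.cons (nat_lit 2) (nat_lit 0x212330120023000331032013232333211020031100321011033110221113113000110311111001312000300) (Net.cons (nat_lit 4) (nat_lit 0x2000f020d0805050708080f09090d03040d040b0801000d030d01010c000b010e0f080108090901060c0c00) (Net.cons (nat_lit 8) (nat_lit 0x3000a10086000d00a300fe00720053002900ab0014004300b200fc00d10077002800640056005a000e0080) (Net.cons (nat_lit 16) (nat_lit 0x7efd000072ad00009287000016550000ad140000d474000099dd0000d2c8000074a30000511000000000) (Net.cons (nat_lit 32) (nat_lit 0xc7c2e38a00000000a8214150000000002ba43b0800000000914583030000000008b5cd04) (Net.cons (nat_lit 64) (nat_lit 0x5088c94100000000000000000109888661355000000000000000000048d538b400000000) (Net.cons (nat_lit 128) (nat_lit 0x9044eef4042802401f49118450d4c1ab)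 (Net.cons (nat_lit 256) (nat_lit 0x643f06d65ffdbbf7d5f6dfab) (Net.cons (nat_lit 128) (nat_lit 0x424bb7344e604bff3f90760) (Net.cons (nat_lit 64) (nat_lit 0x2afa9579000000000000000054b52c1b096d806b00000000000000009f9d0a636c9c1192) (Net.cons (nat_lit 32) (nat_lit 0x7d793eb600000000e6d773d600000000eec6b9ba00000000237051d50000000045efecd9) (Net.cons (nat_lit 16) (nat_lit 0x5bd000000a2b0000f7c000003b26000084590000915100004a4100003abc0000e56800003d67000058ac) (Net.cons (nat_lit 8) (nat_lit 0xa00a6001a00cd001e008f0032009f007800b000c700ed006a00d30071002b0044007f002400c700f600dd) (Net.cons (nat_lit 4) (nat_lit 0x5060d0008010c03090c020e0203020a0604000c0b00070e0a0a050d09000c09000f090a0f060408020b0f0c) (Net.cons (nat_lit 2) (nat_lit 0x312302133123113301033230003003232220000100300302333122320033232031113003302200001330033) (Net.cons (nat_lit 1) (nat_lit 0x1110515511104100541444150550115541510445100551455110401010114010005050154140115051505104) Net.nil)))))))))))))))))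

theorem o_g438_ok : Net.ok 351 o_g438 = true := by decide +kernel

noncomputable def o_g439 : Net := (Net.cons (nat_lit 1) (nat_lit 0x100051511041041505405455001000544504144515415155150500105101411051054145500111010001540) (Net.cons (nat_lit 2) (nat_lit 0x131101100333122233023312120312220222111202232310202112111231103133320123101220303113220) (Net.cons (nat_lit 4) (nat_lit 0x304020d07040d040b0e050b0c0300070f0900010c010c0f0204070d00090a0602060a07090a0009010a0300) (Net.cons (nat_lit 8) (nat_lit 0x1000cb005300dc00d300bc006c0067002e00ab008400c900c7008500fe006e00e20026008b008a005d0000) (Net.cons (nat_lit 16) (nat_lit 0x1e0900004fe00000a05b00000c7e0000e7680000c8c40000d9880000e05a00004cd500004da100000000) (Net.cons (nat_lit 32) (nat_lit 0xcd64d79f00000000602820b100000000004a89b50000000004a40cf100000000143aa61c) (Net.cons (nat_lit 64) (nat_lit 0x6519ac2400000000000000000725a290032c9000000000000000000080904b6d80000000) (Net.cons (nat_lit 128) (nat_lit 0xd249b00f104cc2d263140d004520700b)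 (Net.cons (nat_lit 256) (nat_lit 0x507edefbe796dffde5ebf16f) (Net.cons (nat_lit 128) (nat_lit 0x4ecf227caf2606b52cb5be93) (Net.cons (nat_lit 64) (nat_lit 0x5dabbb4e0000000000000000564a0988bf28387f0000000000000000e6847eff18081f62) (Net.cons (nat_lit 32) (nat_lit 0x8f06dec100000000e7bdbea400000000496f3cd000000000d99df54f00000000d6c8ab11) (Net.cons (nat_lit 16) (nat_lit 0x3e53000000640000e70a0000b340000093b80000b9d7000041270000c8e50000118a0000b31d00008402) (Net.cons (nat_lit 8) (nat_lit 0x5c009b003700a5004a0051006a00dc0078001200ab004200f900f000af004200af00ab004d009a00db00bd) (Net.cons (nat_lit 4) (nat_lit 0x50a09060d0c0400070800070f0e08040b0c0d01060e02080b0d0e06040f0901070b070c04080f0b0d080604) (Net.cons (nat_lit 2) (nat_lit 0x213031201320222211221031311300221313113331101220122200010301300003012200313312321102030) (Net.cons (nat_lit 1) (nat_lit 0x1551100410054401450110450445400444505110551515145005404401101550415551004104551044451051) Net.nil)))))))))))))))))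

theorem o_g439_ok : Net.ok 351 o_g439 = true := by decide +kernel

noncomputable def o_g440 : Net := (Net.cons (nat_lit 1) (nat_lit 0x1005114455504045551444544514040111510114551054004511554051011401150110110050110415500041) (Net.cons (nat_lit 2) (nat_lit 0x1312123111023121330303033020230103311231132203323011300310003320312133021031122130002110) (Net.cons (nat_lit 4) (nat_lit 0x60f000b0c0c0f0503000f0b09000b090d0903090402030d0e000f0c0e0d010d040b040a0807070004080208) (Net.cons (nat_lit 8) (nat_lit 0x3000b2002200b000ce00a1007d0037004800af002500c300b30099004b006000190039003500c200de0080) (Net.cons (nat_lit 16) (nat_lit 0x3922000003970000de4a000088bd0000d5c4000055d100004973000064b30000214500001e9a00000000) (Net.cons (nat_lit 32) (nat_lit 0x3e5595b80000000097835880000000001164ec37000000004a0c1df8000000007c8594ad) (Net.cons (nat_lit 64) (nat_lit 0x7c204d480000000000000000bbb836910a43529800000000000000004482d96000000000) (Net.cons (nat_lit 128) (nat_lit 0x2d7b84df41095121a2e0901f0d168e10)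 (Net.cons (nat_lit 256) (nat_lit 0x439bd7eff6e2fdff7db79e55) (Net.cons (nat_lit 128) (nat_lit 0x172ed9a81023aa3ef570ee43) (Net.cons (nat_lit 64) (nat_lit 0x17afc48200000000000000000b6d88131e3c3cb50000000000000000218def728f403daa) (Net.cons (nat_lit 32) (nat_lit 0x9c64ae7000000000cbc9a810000000000f143e17000000003d224b05000000005f6f998b) (Net.cons (nat_lit 16) (nat_lit 0x6e4c000092440000d43d00007d9300005a55000056fe0000a21a000076f4000011b7000018f70000c0a6) (Net.cons (nat_lit 8) (nat_lit 0x6e00660060006300c100b60048000b00c400d300bd006300370060000c0090004e00a0008900d900220050) (Net.cons (nat_lit 4) (nat_lit 0x3060a050f0f05000a0b0b03050d020e0c040c0d0f030e090e040408060e04080c0403030e0202030a0f0208) (Net.cons (nat_lit 2) (nat_lit 0x302322011102010222121132031203101103213332120031302110310030100302200333100212310003120) (Net.cons (nat_lit 1) (nat_lit 0x441150155550155000050440545400111545101144454051144045115450010114504055500550101541115) Net.nil)))))))))))))))))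

theorem o_g440_ok : Net.ok 351 o_g440 = true := by decide +kernel

noncomputable def o_g441 : Net := (Net.cons (nat_lit 1) (nat_lit 0x10414145014141001501554015045044514140541554555440004144110414100445405154100115145015) (Net.cons (nat_lit 2) (nat_lit 0x1102302222332310231232030320233033313020202213320001210121111123222123010100030201310000) (Net.cons (nat_lit 4) (nat_lit 0x702070b060c0f0b0205050a0b0803060807040100010a0607020d05080200090a030d0c020d0405030b0f00) (Net.cons (nat_lit 8) (nat_lit 0x15005c008c005300b90039000e00e600ac006a00100041002500500055000c00b0001000b700ef00550080) (Net.cons (nat_lit 16) (nat_lit 0x77710000226600004d3f000014590000d9f20000a054000096440000e0080000413800009c6000000000) (Net.cons (nat_lit 32) (nat_lit 0xadab967000000000a888b02a000000002ae30e1000000000c84144080000000008d8c622) (Net.cons (nat_lit 64) (nat_lit 0x4b85e7900000000000000000404018489345c33500000000000000005980410500000000) (Net.cons (nat_lit 128) (nat_lit 0xdf4a3414b12022289dc965fd805408c1)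 (Net.cons (nat_lit 256) (nat_lit 0x397ceebffdebfdffe3dd1fe1) (Net.cons (nat_lit 128) (nat_lit 0x77a74c1bbf452e0e544aa3e4) (Net.cons (nat_lit 64) (nat_lit 0x23a529f500000000000000003c4120808260e014000000000000000049498b7e34169f80) (Net.cons (nat_lit 32) (nat_lit 0xda15adc000000000f2b2a78000000002dea0da00000000088caf46f0000000042bac761) (Net.cons (nat_lit 16) (nat_lit 0x65540000a72e0000ddb5000062fb0000c1bf0000a84e000037340000b60b0000a7320000c6f20000c184) (Net.cons (nat_lit 8) (nat_lit 0x10007e00a8004200810074006c00e400ac0007001e00cc0065003400d7004f00f800d6006200b400910041) (Net.cons (nat_lit 4) (nat_lit 0x30f060000080a020b0f0901080e0b02080e0a0b02040200070b0a000c02010a090001080e0d0d04010b0e06) (Net.cons (nat_lit 2) (nat_lit 0x1101222332332300311333322120213133013030323133310213010021011122330321023223120303002101) (Net.cons (nat_lit 1) (nat_lit 0x1011514404001540000100111451014144045104105515055045104140410054545540415410540014104554) Net.nil)))))))))))))))))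

theorem o_g441_ok : Net.ok 351 o_g441 = true := by decide +kernel

noncomputable def o_g442 : Net := (Net.cons (nat_lit 1) (nat_lit 0x511005155405550414011515410055550441515401504401011450000114050451514150411411041054550) (Net.cons (nat_lit 2) (nat_lit 0x1121112302200003001000002012323102210302022023320132031320012133123103021121210201232212) (Net.cons (nat_lit 4) (nat_lit 0x30e0205070d09080d0c0e020b020f0f01010e0a0b0208060b0208040b03020f080a040b0007080504080908) (Net.cons (nat_lit 8) (nat_lit 0x2c000e00bb00ef004100bd00dc0081009f0010000300e000db0053004000d400a2008d009200e100240080) (Net.cons (nat_lit 16) (nat_lit 0x490900006a2a0000dd580000e58e0000d8d80000785100008ab0000045b9000005060000d81900000000) (Net.cons (nat_lit 32) (nat_lit 0x8302368a000000006feace29000000008505808a00000000ea17066e0000000034610849) (Net.cons (nat_lit 64) (nat_lit 0x879540f0000000000000000920283a58264e80500000000000000002098c80480000000) (Net.cons (nat_lit 128) (nat_lit 0x92e4e9a1050038c880463b2c8eaf05ec)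 (Net.cons (nat_lit 256) (nat_lit 0x7fb479cae5defb2cafef0ded) (Net.cons (nat_lit 128) (nat_lit 0x1c13460940340f5a46609250) (Net.cons (nat_lit 64) (nat_lit 0x52a3034d00000000000000009044d3e7e55cd8440000000000000000001bfa4cf1ac1d54) (Net.cons (nat_lit 32) (nat_lit 0xc3da74ee000000003a40a96e00000000872cdfb900000000da1101ed00000000e9cbb0c8) (Net.cons (nat_lit 16) (nat_lit 0x38d100002d440000d5100000b8aa0000def8000069020000c04b0000d5f80000143800006c810000b425) (Net.cons (nat_lit 8) (nat_lit 0x2a001b003500ac006100d800bf000100da0053007700f200d3007f0047003d0085007d004b0013006900b8) (Net.cons (nat_lit 4) (nat_lit 0x204040d0b040a0c0d000c0b0d04040f0107090a0f010807090a0d0c0807030f09020d020806070f05040109) (Net.cons (nat_lit 2) (nat_lit 0x1231012321302200001120023001220302301120132021320130320132011212103322300121130220012022) (Net.cons (nat_lit 1) (nat_lit 0x154014555445554414050511450515514011114545100010001445514015450541101154014441155055441) Net.nil)))))))))))))))))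

theorem o_g442_ok : Net.ok 351 o_g442 = true := by decide +kernel

noncomputable def ot_c26_K : List Net := [o_g437, o_g438, o_g439, o_g440, o_g441, o_g442]

theorem ot_c26_K_ok : okE 351 ot_c26_K = true := (okE_cons.2 ⟨o_g437_ok, (okE_cons.2 ⟨o_g438_ok, (okE_cons.2 ⟨o_g439_ok, (okE_cons.2 ⟨o_g440_ok, (okE_cons.2 ⟨o_g441_ok, (okE_cons.2 ⟨o_g442_ok, (okE_nil 351)⟩)⟩)⟩)⟩)⟩)⟩)

noncomputable def ot_c26_cnt_EG : List Net := [o_g1, o_g, o_g2, o_g3, o_g4, o_g5, o_g8, o_g9, o_g12, o_g13, o_g14, o_g17, o_g18, o_g19, o_g20, o_g23, o_g24, o_g25, o_g26, o_c, o_g27, o_g30, o_g31, o_g32, o_g35, o_b, o_d, o_e, o_f, o_h, o_i, o_g88, o_g89, o_g90, o_g91, o_g92, o_g93, o_g94]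

theorem ot_c26_cnt_EG_ok : okE 351 ot_c26_cnt_EG = true := (okE_cons.2 ⟨o_g1_ok, (okE_cons.2 ⟨o_g_ok, (okE_cons.2 ⟨o_g2_ok, (okE_cons.2 ⟨o_g3_ok, (okE_cons.2 ⟨o_g4_ok, (okE_cons.2 ⟨o_g5_ok, (okE_cons.2 ⟨o_g8_ok, (okE_cons.2 ⟨o_g9_ok, (okE_cons.2 ⟨o_g12_ok, (okE_cons.2 ⟨o_g13_ok, (okE_cons.2 ⟨o_g14_ok, (okE_cons.2 ⟨o_g17_ok, (okE_cons.2 ⟨o_g18_ok, (okE_cons.2 ⟨o_g19_ok, (okE_cons.2 ⟨o_g20_ok, (okE_cons.2 ⟨o_g23_ok, (okE_cons.2 ⟨o_g24_ok, (okE_cons.2 ⟨o_g25_ok, (okE_cons.2 ⟨o_g26_ok, (okE_cons.2 ⟨o_c_ok, (okE_cons.2 ⟨o_g27_ok, (okE_cons.2 ⟨o_g30_ok, (okE_cons.2 ⟨o_g31_ok, (okE_cons.2 ⟨o_g32_ok, (okE_cons.2 ⟨o_g35_ok, (okE_cons.2 ⟨o_b_ok, (okE_cons.2 ⟨o_d_ok, (okE_cons.2 ⟨o_e_ok, (okE_cons.2 ⟨o_f_ok, (okE_cons.2 ⟨o_h_ok, (okE_cons.2 ⟨o_i_ok, (okE_cons.2 ⟨o_g88_ok, (okE_cons.2 ⟨o_g89_ok, (okE_cons.2 ⟨o_g90_ok, (okE_cons.2 ⟨o_g91_ok, (okE_cons.2 ⟨o_g92_ok, (okE_cons.2 ⟨o_g93_ok, (okE_cons.2 ⟨o_g94_ok, (okE_nil 351)⟩)⟩)⟩)⟩)⟩)⟩)⟩)⟩)⟩)⟩)⟩)⟩)⟩)⟩)⟩)⟩)⟩)⟩)⟩)⟩)⟩)⟩)⟩)⟩)⟩)⟩)⟩)⟩)⟩)⟩)⟩)⟩)⟩)⟩)⟩)⟩)⟩)⟩)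

noncomputable def o_g444 : Net := (Net.cons (nat_lit 1) (nat_lit 0x1511401050415551055100401051140054505155415100151011404411455500415454045011051554101054) (Net.cons (nat_lit 2) (nat_lit 0x233211211312032002120121023321011232302331122002211223301122323213022103231332120120120) (Net.cons (nat_lit 4) (nat_lit 0x1090d06050b08010706060308060d0b0a0d0407050f010f03010e02060700070205040e0f0c000402000008) (Net.cons (nat_lit 8) (nat_lit 0x50009400f7002b005b00a9005c00da00ef00aa00af00cd00d0006800680030000400890042009200100080) (Net.cons (nat_lit 16) (nat_lit 0x331a000069610000281f0000f075000095100000b1ce0000dab800003f0b000048fa00008ab400008000) (Net.cons (nat_lit 32) (nat_lit 0x47d0fe7800000000c10a9ca7000000009848425800000000230d0d550000000067a4248b) (Net.cons (nat_lit 64) (nat_lit 0x23583ff7000000000000000035378866051f020b0000000000000000245a646080000000) (Net.cons (nat_lit 128) (nat_lit 0x918ce7d1f900964be117214e104c0830) (Net.cons (nat_lit 256) (nat_lit 0x7b07f6efed7fedfeb0dcff3b)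 (Net.cons (nat_lit 128) (nat_lit 0x3ddb458ecc6539e7cb083329) (Net.cons (nat_lit 64) (nat_lit 0x7cfe34270000000000000000c17cb4e128d7477000000000000000004047ebdc8a811732) (Net.cons (nat_lit 32) (nat_lit 0xd4fc5f1a00000000575dcf7a0000000078f1409500000000d0395303000000002fdb2a30) (Net.cons (nat_lit 16) (nat_lit 0x6eb4000014cc0000dd010000f5e50000701900006f360000ce39000057160000965500000f7b0000cc71) (Net.cons (nat_lit 8) (nat_lit 0x4a001d005300db000c00da004400a100b700120035006000a10079003300c9003d0031009d00bf00e2001f) (Net.cons (nat_lit 4) (nat_lit 0x60b0205070505020b06020405080102000d02040e0a00070205090d0d07040d010b0a02050a030306060006) (Net.cons (nat_lit 2) (nat_lit 0x1021230102020123011322102000230201131230310001131101301310002332110100320120211100220110) (Net.cons (nat_lit 1) (nat_lit 0x501145540505045455440045405540551050110115000115451415044400050111141044104140140440151) Net.nil)))))))))))))))))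

theorem o_g444_ok : Net.ok 351 o_g444 = true := by decide +kernel

noncomputable def o_g445 : Net := (Net.cons (nat_lit 1) (nat_lit 0x114050401110554540415551054110400411155544550411541404515100454554114150000140005454015) (Net.cons (nat_lit 2) (nat_lit 0x313231313220020320103001300313102232321323013033132033322101220102213111230030222022300) (Net.cons (nat_lit 4) (nat_lit 0x2040606010e0302040b0904080b0e0e04010206010808010f0a0f030500060e08030f0902050b06070c0f00) (Net.cons (nat_lit 8) (nat_lit 0x23007b00aa0075006f002f000e00cb002a006e00e000f7002000a50027009f008300f00028000500440000) (Net.cons (nat_lit 16) (nat_lit 0x49410000146100005cc8000025e50000061c00005a5800002432000032a9000074e1000040d000000000) (Net.cons (nat_lit 32) (nat_lit 0x4d42105c00000000700376120000000089c6100000000000002259040000000001844028) (Net.cons (nat_lit 64) (nat_lit 0x590029200000000000000009584380906801d900000000000000000801c280580000000) (Net.cons (nat_lit 128) (nat_lit 0xb2723c1329b0081a07e0a772ab2831c2)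 (Net.cons (nat_lit 256) (nat_lit 0x6db749dba7ffef77ebe97beb) (Net.cons (nat_lit 128) (nat_lit 0x3705879360a6252e429f8b55) (Net.cons (nat_lit 64) (nat_lit 0x66935b3b00000000000000009dc43c2acca4f39600000000000000006a773900e329eacc) (Net.cons (nat_lit 32) (nat_lit 0xfe30346d0000000052bb943a0000000071a218ec0000000002f4f417000000006fdc1428) (Net.cons (nat_lit 16) (nat_lit 0xcee0000d039000029820000c0d90000aaaf00003a2c0000b2a8000032f90000d4ca000069e50000204d) (Net.cons (nat_lit 8) (nat_lit 0x22007100ad0074000d0006001f005b00a800c300ca000500db00280077006b00fc00ca002e0055000b0042) (Net.cons (nat_lit 4) (nat_lit 0x3090603090902020e090d04090c080b050100020304000004020e0e05000900080707080202060e010e0f04) (Net.cons (nat_lit 2) (nat_lit 0x1312231023322323330103200321233202222301320213130121323122011013133113011030123022030302) (Net.cons (nat_lit 1) (nat_lit 0x400455041144015515145151014100411141514441551114040005415040110411451141144105041114111) Net.nil)))))))))))))))))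

theorem o_g445_ok : Net.ok 351 o_g445 = true := by decide +kernel

noncomputable def o_g446 : Net := (Net.cons (nat_lit 1) (nat_lit 0x1115451540141015100000415141511404105045454550115145114050400451055014511101511510445404) (Net.cons (nat_lit 2) (nat_lit 0x11220302112032120013303202033310030010013032002213210001332112303000000121022020111100) (Net.cons (nat_lit 4) (nat_lit 0x20f0e040d02090b0e050008080b0a0b0f0a0e020201040a04020e0c090303070303000a080a0e030c070100) (Net.cons (nat_lit 8) (nat_lit 0x370060004f00e600b500b50061002a005700ac00b8005b00f3007200b90049008100cd00a2006c00020000) (Net.cons (nat_lit 16) (nat_lit 0x67220000ff6c00008961000043a100000836000017b900009aaa0000d105000028900000a14300000000) (Net.cons (nat_lit 32) (nat_lit 0x9801313a00000000dbcc49980000000010b08a680000000070e95a7c000000000c419871) (Net.cons (nat_lit 64) (nat_lit 0x31035016000000000000000080c90b7d3010c75400000000000000001ef0004600000000) (Net.cons (nat_lit 128) (nat_lit 0xdf41facc9020a4fbe82ea89161d31104)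 (Net.cons (nat_lit 256) (nat_lit 0x7c39befbfeffbcd7edf3d5dd) (Net.cons (nat_lit 128) (nat_lit 0x4473daaece8ec923ac0620d7) (Net.cons (nat_lit 64) (nat_lit 0x8cc6b700000000000000000f33f85ee2f88d4be0000000000000000fa1c69fe3fd1e65a) (Net.cons (nat_lit 32) (nat_lit 0x577b87f000000000b65dc3080000000027e8d35800000000836a04ac00000000f09d18ee) (Net.cons (nat_lit 16) (nat_lit 0x55b000002c770000a3030000d52000001d13000056830000b6330000d16b0000cc8b000064790000f2b5) (Net.cons (nat_lit 8) (nat_lit 0x2900f3007900f10078000200e600b60031000e00a800af00370036007900ff007300e50032006600af0091) (Net.cons (nat_lit 4) (nat_lit 0x50e09060e010e090f090403020509070b050e0a010205080c0e03010b050a0d040b0e0c050704080d060709) (Net.cons (nat_lit 2) (nat_lit 0x1130120202132030213021210321033333200210233333213130133103021322331203322122220311213223) (Net.cons (nat_lit 1) (nat_lit 0x1541450554500155114404451500011005414401040554414050055551041505101014114504100500405540) Net.nil)))))))))))))))))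

theorem o_g446_ok : Net.ok 351 o_g446 = true := by decide +kernel

noncomputable def o_g447 : Net := (Net.cons (nat_lit 1) (nat_lit 0x1044405510011041414104054541051155005554051514144150101415101140505101055104405501544454) (Net.cons (nat_lit 2) (nat_lit 0x1023230002021221101022313311123131202101123011130010220201122003330203032121001120100110) (Net.cons (nat_lit 4) (nat_lit 0x40d09070c020c04030c070609000a0d04050600000a0d0008010108070f020808060a0601040a0f080a0700) (Net.cons (nat_lit 8) (nat_lit 0xa006900f00031009400f30093004800210025003a003000d0008000630091009300320007008a00480000) (Net.cons (nat_lit 16) (nat_lit 0x7a70000115c0000a30d0000fdfa000020300000083000000000000003e9000043a00000110200000000) (Net.cons (nat_lit 32) (nat_lit 0xffcf38bf0000000082590c4000000000a08989cc0000000000910d630000000000000000) (Net.cons (nat_lit 64) (nat_lit 0x401768100000000000000000943f02000000000000000000000000008000000000000000) (Net.cons (nat_lit 128) (nat_lit 0x724aa444bcff77ba1a755fd4)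 (Net.cons (nat_lit 256) (nat_lit 0x724aa444bcff77ba1a755fd4) (Net.cons (nat_lit 128) (nat_lit 0x724aa4443cff77ba1a755fd4) (Net.cons (nat_lit 64) (nat_lit 0x69a503cd000000000000000098be59a2c2fe841f0000000000000000f29c4b15ce250472) (Net.cons (nat_lit 32) (nat_lit 0x8d7b68aa00000000c23d20c600000000b0da0776000000007926977f000000000cc99336) (Net.cons (nat_lit 16) (nat_lit 0x2fef0000419d0000f3c90000f1ae0000551100008e5a0000d4b2000018990000efab00008699000056be) (Net.cons (nat_lit 8) (nat_lit 0x3800c20098002000f0009700e300910090009100a8003e006400100041000e000400b1002800da00840023) (Net.cons (nat_lit 4) (nat_lit 0x40e0a0707040d09090b000a03020b030c090b00020e050804000903070b02080a070d040202010d0c0c0403) (Net.cons (nat_lit 2) (nat_lit 0x1210011123020210102123333111230320213103322010211230310201020101333202033320020030131310) (Net.cons (nat_lit 1) (nat_lit 0x1004541110155045454154045140451101004150051110140151041515004150545114111545515401554055) Net.nil)))))))))))))))))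

theorem o_g447_ok : Net.ok 351 o_g447 = true := by decide +kernel

noncomputable def ot_c27_K : List Net := [o_g444, o_g445, o_g446, o_g447]

theorem ot_c27_K_ok : okE 351 ot_c27_K = true := (okE_cons.2 ⟨o_g444_ok, (okE_cons.2 ⟨o_g445_ok, (okE_cons.2 ⟨o_g446_ok, (okE_cons.2 ⟨o_g447_ok, (okE_nil 351)⟩)⟩)⟩)⟩)

noncomputable def ot_c27_cnt_EG : List Net := [o_b, o_c, o_d, o_e, o_f, o_g, o_h, o_i, o_g1, o_g2, o_g3, o_g4, o_g5, o_g8, o_g9, o_g12, o_g13, o_g14, o_g17, o_g18, o_g19, o_g20, o_g23, o_g24, o_g25, o_g26, o_g27, o_g30, o_g31, o_g32, o_g35, o_g132, o_g133, o_g134, o_g135, o_g221]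

theorem ot_c27_cnt_EG_ok : okE 351 ot_c27_cnt_EG = true := (okE_cons.2 ⟨o_b_ok, (okE_cons.2 ⟨o_c_ok, (okE_cons.2 ⟨o_d_ok, (okE_cons.2 ⟨o_e_ok, (okE_cons.2 ⟨o_f_ok, (okE_cons.2 ⟨o_g_ok, (okE_cons.2 ⟨o_h_ok, (okE_cons.2 ⟨o_i_ok, (okE_cons.2 ⟨o_g1_ok, (okE_cons.2 ⟨o_g2_ok, (okE_cons.2 ⟨o_g3_ok, (okE_cons.2 ⟨o_g4_ok, (okE_cons.2 ⟨o_g5_ok, (okE_cons.2 ⟨o_g8_ok, (okE_cons.2 ⟨o_g9_ok, (okE_cons.2 ⟨o_g12_ok, (okE_cons.2 ⟨o_g13_ok, (okE_cons.2 ⟨o_g14_ok, (okE_cons.2 ⟨o_g17_ok, (okE_cons.2 ⟨o_g18_ok, (okE_cons.2 ⟨o_g19_ok, (okE_cons.2 ⟨o_g20_ok, (okE_cons.2 ⟨o_g23_ok, (okE_cons.2 ⟨o_g24_ok, (okE_cons.2 ⟨o_g25_ok, (okE_cons.2 ⟨o_g26_ok, (okE_cons.2 ⟨o_g27_ok, (okE_cons.2 ⟨o_g30_ok, (okE_cons.2 ⟨o_g31_ok, (okE_cons.2 ⟨o_g32_ok, (okE_cons.2 ⟨o_g35_ok, (okE_cons.2 ⟨o_g132_ok, (okE_cons.2 ⟨o_g133_ok, (okE_cons.2 ⟨o_g134_ok, (okE_cons.2 ⟨o_g135_ok, (okE_cons.2 ⟨o_g221_ok, (okE_nil 351)⟩)⟩)⟩)⟩)⟩)⟩)⟩)⟩)⟩)⟩)⟩)⟩)⟩)⟩)⟩)⟩)⟩)⟩)⟩)⟩)⟩)⟩)⟩)⟩)⟩)⟩)⟩)⟩)⟩)⟩)⟩)⟩)⟩)⟩)⟩)⟩)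

noncomputable def o_g449 : Net := (Net.cons (nat_lit 1) (nat_lit 0x1554515040505555551515454514001404500051100510555044551551450545151151550151550150454150) (Net.cons (nat_lit 2) (nat_lit 0x1201133022021132202003012203032200010100013133211113212111221012131000002212022132022300) (Net.cons (nat_lit 4) (nat_lit 0x7010a00060200070403080708080808060f0b0c0a060a040e0c020d02000f030a0c0f000508050704020f00) (Net.cons (nat_lit 8) (nat_lit 0x1a00dd00d200d9009700f700e1006000b3005c00c800b500e000220046005900a50020005a005a00200000) (Net.cons (nat_lit 16) (nat_lit 0xd7c00006f4700001f19000040da0000021f00000f790000c00a0000a2920000019b0000405c00008000) (Net.cons (nat_lit 32) (nat_lit 0xfe0e624300000000d18a07e900000000cf6d40f50000000058324a440000000005168858) (Net.cons (nat_lit 64) (nat_lit 0x457b4a4b00000000000000005202740f001e10190000000000000000059994a000000000) (Net.cons (nat_lit 128) (nat_lit 0x2c56838e89a1e1711920a38541d28000) (Net.cons (nat_lit 256) (nat_lit 0xdb1e9777dbfbfb5d7dbc21a)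 (Net.cons (nat_lit 128) (nat_lit 0x3bc11c4be609fcc4569c4b85) (Net.cons (nat_lit 64) (nat_lit 0x5fa605b60000000000000000aed9cbdfedc0c8b300000000000000004fe92f4e01e3bfa4) (Net.cons (nat_lit 32) (nat_lit 0xd052bfc300000000367a77ec00000000e9f3da5f00000000f8419f8000000000a988516f) (Net.cons (nat_lit 16) (nat_lit 0x7930000290000006b8e0000713a00006a0e0000875a000020dd00007b990000239500000fb500004dbf) (Net.cons (nat_lit 8) (nat_lit 0x750012009c009b00d000130026008500910026003e0070008c00c4000700ce0016006100dd00da004e003d) (Net.cons (nat_lit 4) (nat_lit 0x6080f03020d010b060c0004070d05070e0d0009090d0405060a030100000503060e070b0a01020b0f090708) (Net.cons (nat_lit 2) (nat_lit 0x1133010033130333221210120013022321330302021300222220220311113121130330210123022100303) (Net.cons (nat_lit 1) (nat_lit 0x1055454054140001410145055555155555155010450050405154555011411041140000055454011550114111) Net.nil)))))))))))))))))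

theorem o_g449_ok : Net.ok 351 o_g449 = true := by decide +kernel

noncomputable def o_g450 : Net := (Net.cons (nat_lit 1) (nat_lit 0x510045441150050014504001100051054405001054100441054140005555101145145445401414500505055) (Net.cons (nat_lit 2) (nat_lit 0x1321223330302110333101130112320323330010330132112110121220121301221101201021111300131030) (Net.cons (nat_lit 4) (nat_lit 0x40a080a0009060e0103010e0407050f0e0107050507060b000f0c000f09070a0b04010701080d010c080108) (Net.cons (nat_lit 8) (nat_lit 0x4009f0009004300600061009e00ca000800df001600d0008d00cc0013003500ab00a2001e000800140000) (Net.cons (nat_lit 16) (nat_lit 0x5c7c0000f6eb000003e500002aba0000bead0000d081000004900000d8e2000062dd000022d300000000) (Net.cons (nat_lit 32) (nat_lit 0x82e3119b0000000051a6740f000000005a83ab7400000000d97052d90000000010c00430) (Net.cons (nat_lit 64) (nat_lit 0xc7aaac200000000000000006c445296040054c800000000000000004002138080000000) (Net.cons (nat_lit 128) (nat_lit 0xfc3c85ec0890352700219074258ecac8)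 (Net.cons (nat_lit 256) (nat_lit 0x19d4f7776137d7fcefeecfdb) (Net.cons (nat_lit 128) (nat_lit 0x99776ea82d9cb5712f5f8b8) (Net.cons (nat_lit 64) (nat_lit 0x6e91947a0000000000000000355cf0120862a96f0000000000000000bf357a80b02103c5) (Net.cons (nat_lit 32) (nat_lit 0x78495e7b00000000e3b76c38000000002629bedd00000000ba81d4b100000000742a7f0c) (Net.cons (nat_lit 16) (nat_lit 0x33f500004fe70000d463000062680000df0a0000af6b0000ff940000f04a0000c2bd000004b2000007e8) (Net.cons (nat_lit 8) (nat_lit 0x5e0059004300d300f7000d001d00d600b80098004b00ee00de008500a4008300cb00a7006300d8005000d1) (Net.cons (nat_lit 4) (nat_lit 0x40a040b060101020e01060f0b0d08010c0b03070b04000e0306050c020a080e060405030505040b040d050a) (Net.cons (nat_lit 2) (nat_lit 0x223303001113002033131133232030023313220010230011311101022000333313003010320300213013000) (Net.cons (nat_lit 1) (nat_lit 0x100514401455050104000451505155554551100044014401050410500504150144455444150440451504145) Net.nil)))))))))))))))))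

theorem o_g450_ok : Net.ok 351 o_g450 = true := by decide +kernel

noncomputable def o_g451 : Net := (Net.cons (nat_lit 1) (nat_lit 0x1044511054415540400100401101540044054514444115451114441015450544440011050410511001044510) (Net.cons (nat_lit 2) (nat_lit 0x1132302212310111311122121331102313002330010230330020013230313233333212021213000002332030) (Net.cons (nat_lit 4) (nat_lit 0x507090c0c030103010c0f0e0b0e0e030f09020a0b010f020502030e010d0b0e090300010e04010000040008) (Net.cons (nat_lit 8) (nat_lit 0xf00c2009c009b0018007600b7003a004a000f00a000e8003000dc0021009500ac00910038006400b50000) (Net.cons (nat_lit 16) (nat_lit 0x18ab00000d13000058850000928c00005c5600004c21000090f900001a890000ca010000825000000000) (Net.cons (nat_lit 32) (nat_lit 0x6c50ef830000000008040d050000000030413649000000000ea4585400000000007304f0) (Net.cons (nat_lit 64) (nat_lit 0x1027360000000000000000f3ef80840a104add0000000000000000a310101900000000) (Net.cons (nat_lit 128) (nat_lit 0xd7426d6755d080095d40a3881ea02d94)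 (Net.cons (nat_lit 256) (nat_lit 0x75f9daadff5bfff93eff2d97) (Net.cons (nat_lit 128) (nat_lit 0x6f7040bf25fdaea2ce45b6db) (Net.cons (nat_lit 64) (nat_lit 0x1f13af40000000000000000086acf152904073c90000000000000000a10b6d724c84e69c) (Net.cons (nat_lit 32) (nat_lit 0x6a5c332a0000000005382f6e000000006e6a41fd0000000075c54e180000000032498294) (Net.cons (nat_lit 16) (nat_lit 0x1080000b10c000078630000e80b0000fb8e0000c0eb0000e5410000723e0000a362000063cb0000d802) (Net.cons (nat_lit 8) (nat_lit 0x3005100bc006000c5003c009400270066002200b600c5007f0055006300b0002f00f5008b00eb006b0098) (Net.cons (nat_lit 4) (nat_lit 0x60e0b0c0e0800050c0f050608070c0901090b06080e0a000f030e0e04090702080402080f0e060104040c02) (Net.cons (nat_lit 2) (nat_lit 0x331013202112232032332131301312130002231300001221322030323230330112111023231201301030201) (Net.cons (nat_lit 1) (nat_lit 0x1415110054455044051051550111054404040405115040015110115450541111504510440405440505050004) Net.nil)))))))))))))))))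

theorem o_g451_ok : Net.ok 351 o_g451 = true := by decide +kernel

noncomputable def o_g452 : Net := (Net.cons (nat_lit 1) (nat_lit 0x404101554001050155101005054450410114551445451114110514101501011011111510110154115414051) (Net.cons (nat_lit 2) (nat_lit 0x111000320210031213323101211122310100110203102223022211133202333013212300121300130013300) (Net.cons (nat_lit 4) (nat_lit 0x2090e0d0401010e060d0d040b070c0c000e0c0f0e0b09040707050c08090d050e07050c04010e0f01050008) (Net.cons (nat_lit 8) (nat_lit 0x41008300c60047000d00be004f009d005c0071002400aa0044001b001300420052005b0066000900e80000) (Net.cons (nat_lit 16) (nat_lit 0x40e90000c90600000b6a0000210a0000123e000022610000002b0000f4b700005bd80000211800000000) (Net.cons (nat_lit 32) (nat_lit 0xc48d14a1000000005b0045ba00000000a6625a6a00000000a104a33800000000050028d4) (Net.cons (nat_lit 64) (nat_lit 0x4f904146000000000000000080a094a3c21c312100000000000000003c18449800000000) (Net.cons (nat_lit 128) (nat_lit 0x529ef9a8002d03892085689e9152943)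 (Net.cons (nat_lit 256) (nat_lit 0x967f7f8bfbc5efbef95bb5f) (Net.cons (nat_lit 128) (nat_lit 0x2c7e0bdd43cc5eb813310605) (Net.cons (nat_lit 64) (nat_lit 0x2fa10c650000000000000000e0b429fa3cd3d61e000000000000000070415a5f96c51239) (Net.cons (nat_lit 32) (nat_lit 0x1d1356e3000000006cdc6d8600000000c371b67500000000a058b11600000000e0176a47) (Net.cons (nat_lit 16) (nat_lit 0x1d4d00008ba10000879b00009b53000059af0000af540000023a0000f4260000b67f0000c7500000be29) (Net.cons (nat_lit 8) (nat_lit 0x48006f00cc0096000000f700ca00f300740081002900d000410045009700ab00c7001e00af007600fe00ae) (Net.cons (nat_lit 4) (nat_lit 0x4040f0d06070c030e020508000304050c06080405070100020b000801000c0f0d020d0500020a070d090708) (Net.cons (nat_lit 2) (nat_lit 0x132203131330011333000003111002320132122331130103013303110213010000302022121303100331220) (Net.cons (nat_lit 1) (nat_lit 0x1000441404441001011510145054554011114550040500150114414005145014015505540544414450011140) Net.nil)))))))))))))))))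

theorem o_g452_ok : Net.ok 351 o_g452 = true := by decide +kernel

noncomputable def ot_c28_K : List Net := [o_g449, o_g450, o_g451, o_g452]

theorem ot_c28_K_ok : okE 351 ot_c28_K = true := (okE_cons.2 ⟨o_g449_ok, (okE_cons.2 ⟨o_g450_ok, (okE_cons.2 ⟨o_g451_ok, (okE_cons.2 ⟨o_g452_ok, (okE_nil 351)⟩)⟩)⟩)⟩)

noncomputable def o_g454 : Net := (Net.cons (nat_lit 1) (nat_lit 0x1540151145100511454154500514044150544514454505044441055045405504004450511111005400100100) (Net.cons (nat_lit 2) (nat_lit 0x1233002020213222232221110130002311132313123022200002122321320003220202122203011013020000) (Net.cons (nat_lit 4) (nat_lit 0x403050301090f020908090b0705010d0b000d04000300050808070c0e0e090f0f0d01040904030d07070d08) (Net.cons (nat_lit 8) (nat_lit 0x4e002600930085003f002f00c4009800e3002200dd008a009f007000090032001c00d400410020009b0000) (Net.cons (nat_lit 16) (nat_lit 0x18b10000743f0000a4e50000a9d300006f670000ffd10000a4b00000e8390000b5d2000042c300008000) (Net.cons (nat_lit 32) (nat_lit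 0x7219927100000000468080db00000000481395830000000028e99a60000000004027a554) (Net.cons (nat_lit 64) (nat_lit 0x2a11270200000000000000005690e541500b4440000000000000000018f0640480000000) (Net.cons (nat_lit 128) (nat_lit 0x29fbd899019a410a34904f45bc80b732) (Net.cons (nat_lit 256) (nat_lit 0x639ef9be7cfb6fcdbcffb77e) (Net.cons (nat_lit 128) (nat_lit 0x315bf40c469369a35b6a4f4e) (Net.cons (nat_lit 64) (nat_lit 0x4437e77d00000000000000005f1a8685a89ff62b000000000000000028a9ac49c621ff90) (Net.cons (nat_lit 32) (nat_lit 0x72f9f58f00000000b6acd40f0000000039ba3ba2000000007bec233e00000000c68abbb2) (Net.cons (nat_lit 16) (nat_lit 0x679f0000372e00009c6b0000fe08000075230000bdc800008fab0000d29200006f7800008eef00006bee) (Net.cons (nat_lit 8) (nat_lit 0x44003b005900a9006f00de007900b30033003a00fd00930083003f005a0074001500b600e5002600980096) (Net.cons (nat_lit 4) (nat_lit 0x6090502010f090e0b08090a0e0b0201070b0806020b04010607000c0501090e0b0e0d01030a0c0f0e020e08) (Net.cons (nat_lit 2) (nat_lit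 0x2330231122123203201003033112202111203120322210220133200201301322032121211232123002010) (Net.cons (nat_lit 1) (nat_lit 0x454000415101010050100001444045104000154451000014400550140500041415040544440001414104044) Net.nil)))))))))))))))))

theorem o_g454_ok : Net.ok 351 o_g454 = true := by decide +kernel

noncomputable def o_g455 : Net := (Net.cons (nat_lit 1) (nat_lit 0x1115151554554554014411454005001111054544110544515145015155550104444455001444004040154154) (Net.cons (nat_lit 2) (nat_lit 0x320332312001223121320303101102020311300020132310311323133100030020110000222111013200020) (Net.cons (nat_lit 4) (nat_lit 0x70703070605090908090f0202000b040d0e060d0a07060f0006000001040108020c0d040e0a050b04070500) (Net.cons (nat_lit 8) (nat_lit 0x42004400af00b6009400be008e005100e10087002f00f1002b000e008b004200cc009d0070001500080080) (Net.cons (nat_lit 16) (nat_lit 0x307b000063820000c5410000e67a0000b76b000070210000b05100008205000003350000240300000000) (Net.cons (nat_lit 32) (nat_lit 0x1c0220d400000000e04891ec000000000c5328b2000000000428c404000000000c5c4d38)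 (Net.cons (nat_lit 64) (nat_lit 0x61140c1000000000000000002c1085450b1e632500000000000000008e23c17b00000000) (Net.cons (nat_lit 128) (nat_lit 0x1f8b0e974f42c0938731054504a8bb2a) (Net.cons (nat_lit 256) (nat_lit 0x5f4fdbbbef37c57fb5faffea) (Net.cons (nat_lit 128) (nat_lit 0x4fef76ce768d88affe193b18) (Net.cons (nat_lit 64) (nat_lit 0x4b52dd4f0000000000000000d3a99b486570372f00000000000000001d2786b0f4a17650) (Net.cons (nat_lit 32) (nat_lit 0xdb16c58a00000000dfe1cbf300000000d5bf58b200000000b51c176c000000002fa8140c) (Net.cons (nat_lit 16) (nat_lit 0x38fb0000123b0000e2640000b1d40000627a00003ca60000627e0000d3b5000023440000e1f80000db0e) (Net.cons (nat_lit 8) (nat_lit 0x5004400eb00bb0015009f00f9008c00bc008d00f400bb00a500c0000b005b00bd00ed00e700c40067003a) (Net.cons (nat_lit 4) (nat_lit 0x503090d0805030305070e030505070c0900030f020c0d03060a0001060c050704060d02050f0b0801010106) (Net.cons (nat_lit 2) (nat_lit 0x221032332112310220122023033113011320202120200130130102302103030332220321322211220023102)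 (Net.cons (nat_lit 1) (nat_lit 0x500001100005141051440040401544010001514114540505455011404144100044455051445044544554044) Net.nil)))))))))))))))))

theorem o_g455_ok : Net.ok 351 o_g455 = true := by decide +kernel

noncomputable def o_g456 : Net := (Net.cons (nat_lit 1) (nat_lit 0x1555144411445114504004044541150040400155445010110544541444410510011410000000014445000040) (Net.cons (nat_lit 2) (nat_lit 0x123100212120130303200231302231032010222112333220233200111013130122220002101112003002000) (Net.cons (nat_lit 4) (nat_lit 0x1060f0c080904050a020408040d060008020f070e010b020a0205010e0e0d08000a0e040004000e0e000200) (Net.cons (nat_lit 8) (nat_lit 0x6a0003002c000b0030004000ba0038000500a400e0001c009300c4001200810031000c002c000000900000) (Net.cons (nat_lit 16) (nat_lit 0x6e3500000bb3000057180000d6540000c0f900000f10000010d80000794800008c9c00000aa400000000) (Net.cons (nat_lit 32) (nat_lit 0x9e0ecee000000000cb5200e000000000292078d000000000c20230c4000000001202504d) (Net.cons (nat_lit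 64) (nat_lit 0x1d9db4c200000000000000000019c3b3d1d28a040000000000000000200698ac00000000) (Net.cons (nat_lit 128) (nat_lit 0xfb0eb0f83205d901201ba755c0c20194) (Net.cons (nat_lit 256) (nat_lit 0x7e5fd9dd2a1fbffdd1c3fddf) (Net.cons (nat_lit 128) (nat_lit 0x43ffe5f5f023eb13b8c07320) (Net.cons (nat_lit 64) (nat_lit 0x4ddfae7e000000000000000089a1c3f7a8a0baf00000000000000000983ea9ecfa3628bc) (Net.cons (nat_lit 32) (nat_lit 0x973792ea00000000e66b08e000000000621470d900000000eb3a0a88000000005ef2604d) (Net.cons (nat_lit 16) (nat_lit 0x4e3500002bb30000575c0000e6540000e0f900003b50000030b800000d0d0000acfc00002aa400003000) (Net.cons (nat_lit 8) (nat_lit 0x6a0003002c000f00b0000000ba0038008500a400e00018009300c4005200c10031000c002c000000900000) (Net.cons (nat_lit 4) (nat_lit 0x1060f0c080900010e02040c0409060008020f070a010f060a0205050e0a0d08000e0e040004040e0e000200) (Net.cons (nat_lit 2) (nat_lit 0x123100212120130303200231302231032010222112333220333200111013130122220002101112003002000)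 (Net.cons (nat_lit 1) (nat_lit 0x1555144411445114504004044541150040400155445010110544541444410510011410000000014445000040) Net.nil)))))))))))))))))

theorem o_g456_ok : Net.ok 351 o_g456 = true := by decide +kernel

noncomputable def o_g457 : Net := (Net.cons (nat_lit 1) (nat_lit 0x51104000411005441000010000504000441001500050000000000015411100110100040040004114000000) (Net.cons (nat_lit 2) (nat_lit 0x232030100122110030000000100112000201302311202000000000000000201001102021011201001000200) (Net.cons (nat_lit 4) (nat_lit 0x50d010a090e0902070001040800020200010c06000c07010600000b02070001010c030106010b02000000) (Net.cons (nat_lit 8) (nat_lit 0x79002600c9000100ec0018002900130008008800c000080030000000c300260008000000d40018004e0000) (Net.cons (nat_lit 16) (nat_lit 0x688400007bcc0000018000000084000041400000248400000000000003000000a20a0000314f00000000) (Net.cons (nat_lit 32) (nat_lit 0x2c102088000000004805003200000000000804040000000010a000220000000000000000) (Net.cons (nat_lit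 64) (nat_lit 0xc00200c0000000000000000a09111c00000000000000000000000000000000000000000) (Net.cons (nat_lit 128) (nat_lit 0x80000005d0d7cbaa09111c000000804) (Net.cons (nat_lit 256) (nat_lit 0x5d0d7cbaa09111c000000804) (Net.cons (nat_lit 128) (nat_lit 0x5d0d7cbaa09111c000000804) (Net.cons (nat_lit 64) (nat_lit 0xc20008c0000000000000000a09955c00040810000000000000000000410963214b22608) (Net.cons (nat_lit 32) (nat_lit 0x6f18208e000000004805023200000000241d04bc00000000d1a0082200000000f10f1842) (Net.cons (nat_lit 16) (nat_lit 0x688400007bcc000015c000000084000041400000b4c400000000000037170000a60d0000255d00001402) (Net.cons (nat_lit 8) (nat_lit 0x7b00a600c9000500ed00180029001b0028008800c2000e0034000000c300260008000000d40018004e000a) (Net.cons (nat_lit 4) (nat_lit 0x50d010a090e0902070001040800020200010c06000c07010600000b02070001010c030106010b02000000) (Net.cons (nat_lit 2) (nat_lit 0x1212030102122110030002000100312000203302311202000200000000000201021102021011203001000002) (Net.cons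 (nat_lit 1) (nat_lit 0x51104000411005441000010000504000441001500050000000000015511100150100040040014114000400) Net.nil)))))))))))))))))

theorem o_g457_ok : Net.ok 351 o_g457 = true := by decide +kernel

noncomputable def o_V458 : List Net := [o_g454, o_g455, o_g456, o_g457]

theorem o_V458_ok : okE 351 o_V458 = true := (okE_cons.2 ⟨o_g454_ok, (okE_cons.2 ⟨o_g455_ok, (okE_cons.2 ⟨o_g456_ok, (okE_cons.2 ⟨o_g457_ok, (okE_nil 351)⟩)⟩)⟩)⟩)

noncomputable def o_V460 : List Net := [o_g455, o_g456, o_g457]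

theorem o_V460_ok : okE 351 o_V460 = true := (okE_cons.2 ⟨o_g455_ok, (okE_cons.2 ⟨o_g456_ok, (okE_cons.2 ⟨o_g457_ok, (okE_nil 351)⟩)⟩)⟩)

noncomputable def o_V461 : List Net := [o_g456, o_g457]

theorem o_V461_ok : okE 351 o_V461 = true := (okE_cons.2 ⟨o_g456_ok, (okE_cons.2 ⟨o_g457_ok, (okE_nil 351)⟩)⟩)

noncomputable def o_V462 : List Net := [o_g457]

theorem o_V462_ok : okE 351 o_V462 = true := (okE_cons.2 ⟨o_g457_ok, (okE_nil 351)⟩)

noncomputable def o_V463 : List Net := []

theorem o_V463_ok : okE 351 o_V463 = true := (okE_nil 351)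

noncomputable def ot_c28_cnt_EG : List Net := [o_b, o_c, o_d, o_e, o_f, o_g, o_h, o_i, o_g1, o_g2, o_g3, o_g4, o_g5, o_g8, o_g9, o_g12, o_g13, o_g14, o_g17, o_g18, o_g19, o_g20, o_g23, o_g24, o_g25, o_g26, o_g27, o_g30, o_g31, o_g32, o_g35, o_g88, o_g89, o_g90, o_g91, o_g92, o_g93, o_g94, o_g455, o_g456, o_g457, o_g454]

theorem ot_c28_cnt_EG_ok : okE 351 ot_c28_cnt_EG = true := (okE_cons.2 ⟨o_b_ok, (okE_cons.2 ⟨o_c_ok, (okE_cons.2 ⟨o_d_ok, (okE_cons.2 ⟨o_e_ok, (okE_cons.2 ⟨o_f_ok, (okE_cons.2 ⟨o_g_ok, (okE_cons.2 ⟨o_h_ok, (okE_cons.2 ⟨o_i_ok, (okE_cons.2 ⟨o_g1_ok, (okE_cons.2 ⟨o_g2_ok, (okE_cons.2 ⟨o_g3_ok, (okE_cons.2 ⟨o_g4_ok, (okE_cons.2 ⟨o_g5_ok, (okE_cons.2 ⟨o_g8_ok, (okE_cons.2 ⟨o_g9_ok, (okE_cons.2 ⟨o_g12_ok, (okE_cons.2 ⟨o_g13_ok, (okE_cons.2 ⟨o_g14_ok, (okE_cons.2 ⟨o_g17_ok, (okE_cons.2 ⟨o_g18_ok, (okE_cons.2 ⟨o_g19_ok, (okE_cons.2 ⟨o_g20_ok, (okE_cons.2 ⟨o_g23_ok, (okE_cons.2 ⟨o_g24_ok, (okE_cons.2 ⟨o_g25_ok, (okE_cons.2 ⟨o_g26_ok, (okE_cons.2 ⟨o_g27_ok,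 (okE_cons.2 ⟨o_g30_ok, (okE_cons.2 ⟨o_g31_ok, (okE_cons.2 ⟨o_g32_ok, (okE_cons.2 ⟨o_g35_ok, (okE_cons.2 ⟨o_g88_ok, (okE_cons.2 ⟨o_g89_ok, (okE_cons.2 ⟨o_g90_ok, (okE_cons.2 ⟨o_g91_ok, (okE_cons.2 ⟨o_g92_ok, (okE_cons.2 ⟨o_g93_ok, (okE_cons.2 ⟨o_g94_ok, (okE_cons.2 ⟨o_g455_ok, (okE_cons.2 ⟨o_g456_ok, (okE_cons.2 ⟨o_g457_ok, (okE_cons.2 ⟨o_g454_ok, (okE_nil 351)⟩)⟩)⟩)⟩)⟩)⟩)⟩)⟩)⟩)⟩)⟩)⟩)⟩)⟩)⟩)⟩)⟩)⟩)⟩)⟩)⟩)⟩)⟩)⟩)⟩)⟩)⟩)⟩)⟩)⟩)⟩)⟩)⟩)⟩)⟩)⟩)⟩)⟩)⟩)⟩)⟩)⟩)

noncomputable def o_g464 : Net := (Net.cons (nat_lit 1) (nat_lit 0x1040405511110450140014510111051511400105040005051450110541440045541104510050111004105) (Net.cons (nat_lit 2) (nat_lit 0x20111130111222131002311312003311010223003101231202103321302002200302030232310022220202) (Net.cons (nat_lit 4) (nat_lit 0x30d010f00000403080c0306060c030e0f050d0f0e080700020d010d0a09030c040305050200020d0e020400) (Net.cons (nat_lit 8) (nat_lit 0x6100650029005d003000bb0026003900590029003d002500d8009c00ac00ec00c30005005c00e100540080) (Net.cons (nat_lit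 16) (nat_lit 0x14a00000600600005684000056490000eafa0000cef000008de800004ba2000066280000c50f00008000) (Net.cons (nat_lit 32) (nat_lit 0xbf72b1a600000000412308d80000000029bd268900000000d0884b28000000001b364e32) (Net.cons (nat_lit 64) (nat_lit 0x7553228c00000000000000002412d06d3d2841110000000000000000295c043000000000) (Net.cons (nat_lit 128) (nat_lit 0x2d22267487c0495330b05d051080b824) (Net.cons (nat_lit 256) (nat_lit 0x77e65d73fbff5db51ad5ffae) (Net.cons (nat_lit 128) (nat_lit 0x4cdf55d4786ca70e34a74636) (Net.cons (nat_lit 64) (nat_lit 0xac8d7580000000000000000ec25e36fb0a4dced0000000000000000fc33ad236ae7728b) (Net.cons (nat_lit 32) (nat_lit 0xf9be23b1000000008d2bd069000000000b347371000000008421d62400000000af0a4db7) (Net.cons (nat_lit 16) (nat_lit 0x1a2b000044720000e09d0000ccff0000db6f00009743000033aa0000bdb8000008cb00008988000098cf) (Net.cons (nat_lit 8) (nat_lit 0x5700bb002900d2008f006400a300330071007a00c100a30026008400cf0070003200360078002f00b70001) (Net.cons (nat_lit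 4) (nat_lit 0xb0305050e020d0d080c000a0b0f0a0e06090e050801000409050501080a0a0807090a000f0e040d080b06) (Net.cons (nat_lit 2) (nat_lit 0x1333323130211331001123222133202301301032131231301321233311333330332231201003331100231010) (Net.cons (nat_lit 1) (nat_lit 0x450151100044501400410440401555115550455505001044401415440554550001450440515104540501550) Net.nil)))))))))))))))))

theorem o_g464_ok : Net.ok 351 o_g464 = true := by decide +kernel

noncomputable def o_g465 : Net := (Net.cons (nat_lit 1) (nat_lit 0x15510415450001101504541550510011455450100155541500400140550514154445045144101550101540) (Net.cons (nat_lit 2) (nat_lit 0x11130032322122211131030233013112212113001201321210203020233232102010033333320321301010) (Net.cons (nat_lit 4) (nat_lit 0x401030d0b0e050307030009040308050f060d06000e0c030009020a0802040803070f0f0c0a050a0d000700) (Net.cons (nat_lit 8) (nat_lit 0x2c004a00f70041006a00e600620025008100d0000100cd002e004f00b800640010007f008b008000000000) (Net.cons (nat_lit 16)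 (nat_lit 0x2c120000a0570000f4110000e19a00009295000094e1000016b200008b2a0000e9010000414000000000) (Net.cons (nat_lit 32) (nat_lit 0xf132db6a00000000b21d94ca000000004725c522000000004177d6aa0000000068094504) (Net.cons (nat_lit 64) (nat_lit 0x6a33934b0000000000000000904914e02901190800000000000000002210191d00000000) (Net.cons (nat_lit 128) (nat_lit 0xb6d327a0830c08208b6791c518110148) (Net.cons (nat_lit 256) (nat_lit 0x472dcfe8bbf7dbff3c1b395f) (Net.cons (nat_lit 128) (nat_lit 0x6434707422ce8182968f6b88) (Net.cons (nat_lit 64) (nat_lit 0x2c2be4140000000000000000671d86560bbf04090000000000000000a43add7fe2cc4178) (Net.cons (nat_lit 32) (nat_lit 0xb96ee49600000000f5e69db300000000de521e4700000000a63faa550000000097ca9223) (Net.cons (nat_lit 16) (nat_lit 0x77060000d76000002c2e0000789a000026420000875f00001b8c0000e4610000001e0000262e00009a59) (Net.cons (nat_lit 8) (nat_lit 0x200900020006a00dd00d500d5001900c5007400ed00c400e200b800b200d800f20048006300a4000d0058) (Net.cons (nat_lit 4)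 (nat_lit 0x10c00030c0f0709010907080c020d0300000e0d040d020808070f0b05030105040d080e0a0f07020a04010c) (Net.cons (nat_lit 2) (nat_lit 0x1202121220100220112322021112120031202321000233012121221210002120001130120301103031302210) (Net.cons (nat_lit 1) (nat_lit 0x1115010410401145515101145501554004015111154500000144440400404444504510501155040455504005) Net.nil)))))))))))))))))

theorem o_g465_ok : Net.ok 351 o_g465 = true := by decide +kernel

noncomputable def o_g466 : Net := (Net.cons (nat_lit 1) (nat_lit 0x50141004041154051050444001144555444114155405540011504100410044051454044001511541044101) (Net.cons (nat_lit 2) (nat_lit 0x1333330221000302100023203111233120300303311101021123111111011311323200213200202203222120) (Net.cons (nat_lit 4) (nat_lit 0x101080b0203020b0e05070302070b0c080a0600060a0e0d080308060401020605030203060404000f080000) (Net.cons (nat_lit 8) (nat_lit 0x1300df009f009200010085005300500066007300b3007d004e00dc00500094002a000000e6001400c00000) (Net.cons (nat_lit 16)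 (nat_lit 0x161b000001b700007ee700001d0f0000eea0000004960000d854000045da0000e8010000115600000000) (Net.cons (nat_lit 32) (nat_lit 0xaa04910000000088cb7cc200000000410d147400000000e020e6460000000044deb64b) (Net.cons (nat_lit 64) (nat_lit 0x72799503000000000000000011600180322222080000000000000000691a2c0580000000) (Net.cons (nat_lit 128) (nat_lit 0x99e6d549602e335bcf136e1583dc5863) (Net.cons (nat_lit 256) (nat_lit 0x7eeef7ffefbbffffafdd5e7f) (Net.cons (nat_lit 128) (nat_lit 0x422cbb880d8a869b7c71e7ff) (Net.cons (nat_lit 64) (nat_lit 0x346221080000000000000000b8fb21feee783ba20000000000000000e5613595c32c9eea) (Net.cons (nat_lit 32) (nat_lit 0x408062ed00000000944fbfbc00000000c3c7b9f000000000be3a7bd600000000a1e4b14f) (Net.cons (nat_lit 16) (nat_lit 0xdca0000038200006e6a0000cfdd00005ce500001be90000622f0000192200008db80000bcc900000fed) (Net.cons (nat_lit 8) (nat_lit 0x41000f00ac007200d900b6003000d20034007f003000a500fe000a003800fd006b008f00c500b2004800bc) (Net.cons (nat_lit 4)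 (nat_lit 0x301090702080d020701090909030b020c020e0b04090204040c090b0c06000103020403030705080c010901) (Net.cons (nat_lit 2) (nat_lit 0x1331322020231100212312322333212132330222002222110121130210210232201231110232230212030120) (Net.cons (nat_lit 1) (nat_lit 0x514111040101401114144405015504555051050555010515105451114051450551154040444151440415005) Net.nil)))))))))))))))))

theorem o_g466_ok : Net.ok 351 o_g466 = true := by decide +kernel

noncomputable def o_g467 : Net := (Net.cons (nat_lit 1) (nat_lit 0x11540045450515410555445045551110515011515445445541400401015454040044114000445550055554) (Net.cons (nat_lit 2) (nat_lit 0x312103033113310311331203333112033300031201201013200230202233223112000131100313113210000) (Net.cons (nat_lit 4) (nat_lit 0x9030706090e0a020c090b0609060600010a0805000105030403090900050206070f020b0b09060b070408) (Net.cons (nat_lit 8) (nat_lit 0x66004100c500fe000e00990063002800c7000a00de0099009900b000210040000a004500b500b000c30000) (Net.cons (nat_lit 16) (nat_lit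 0x13e1000050e800001e300000620800002fc700000ffe0000deb20000638100008d7b00004a1400008000) (Net.cons (nat_lit 32) (nat_lit 0x559ffb5a00000000039b8c0e0000000030a2530000000000a290ca9a000000005a0810b4) (Net.cons (nat_lit 64) (nat_lit 0x69ead89200000000000000005acb45ab24aca03300000000000000007328092400000000) (Net.cons (nat_lit 128) (nat_lit 0xa4ea57bf6d8048c05d8302d2884e3019) (Net.cons (nat_lit 256) (nat_lit 0x7d9648fd7fbb5ff7db6eb3db) (Net.cons (nat_lit 128) (nat_lit 0x655d63be0a333a923c7fb00c) (Net.cons (nat_lit 64) (nat_lit 0x57075d9500000000000000004e63608e6bd40b8c00000000000000001160acd1ca6a6915) (Net.cons (nat_lit 32) (nat_lit 0xdef7beb1000000004bbfc8ac00000000bf03d3b00000000054d2714e000000004f59a285) (Net.cons (nat_lit 16) (nat_lit 0x3ac0000e8da000020ef000082130000ff800000e4760000162b0000210a000016fb00007cc500007b1a) (Net.cons (nat_lit 8) (nat_lit 0x26004500f8008c009a00d50072001100c1003d00fe0037001000760011006c00f8005700ae001900db0009) (Net.cons (nat_lit 4) (nat_lit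 0x5000f06030a020a060e050a0d04000604010f060d0a0108000f090d050a00040e0c080f060c050f0805040a) (Net.cons (nat_lit 2) (nat_lit 0x103232320103310201102310330212022210122003002310233132331012011310133122220220202030012) (Net.cons (nat_lit 1) (nat_lit 0x1414550544444511545511145404145150114015011541150400005151550541404151144000500544005440) Net.nil)))))))))))))))))

theorem o_g467_ok : Net.ok 351 o_g467 = true := by decide +kernel

noncomputable def ot_c29_K : List Net := [o_g464, o_g465, o_g466, o_g467]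

theorem ot_c29_K_ok : okE 351 ot_c29_K = true := (okE_cons.2 ⟨o_g464_ok, (okE_cons.2 ⟨o_g465_ok, (okE_cons.2 ⟨o_g466_ok, (okE_cons.2 ⟨o_g467_ok, (okE_nil 351)⟩)⟩)⟩)⟩)

noncomputable def o_g469 : Net := (Net.cons (nat_lit 1) (nat_lit 0x1001010415411450540001400140101411401045004440540454100010010000405145454445500105504444) (Net.cons (nat_lit 2) (nat_lit 0x221130132313202032113321102002121201220032323001320012122203302111201310003010312221030) (Net.cons (nat_lit 4) (nat_lit 0x5090d00040a060006040c02000b040405030e020106040f0e030a0b05090f02060205020c0e0b050b0d0800) (Net.cons (nat_lit 8) (nat_lit 0x60052008800b10041008c00140095007c000100a200f30025009c008500e400f4008b00620006000f0000) (Net.cons (nat_lit 16) (nat_lit 0x9e5000004e20000b28d0000829e000045b00000023c000066c1000032310000c1070000023800000000) (Net.cons (nat_lit 32) (nat_lit 0xb54119e60000000019e48d03000000007c332dcb00000000009e444400000000050f9422) (Net.cons (nat_lit 64) (nat_lit 0x202f4f0d0000000000000000f0b96315151ed8c800000000000000002014768a00000000)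 (Net.cons (nat_lit 128) (nat_lit 0x4c9ca23916110bc2fae2b617a8e81408) (Net.cons (nat_lit 256) (nat_lit 0x1653dff7fafef6bfaded3cba) (Net.cons (nat_lit 128) (nat_lit 0x787c24304ac3eb849b9bc930) (Net.cons (nat_lit 64) (nat_lit 0x6910ad6b0000000000000000ee53a0123d0ff6b300000000000000007c2d5ca322f808f4) (Net.cons (nat_lit 32) (nat_lit 0xbdf95794000000004d0c6e7800000000f4330b7a00000000009b9c5400000000827b6e2e) (Net.cons (nat_lit 16) (nat_lit 0x1dc30000a41c000030480000abce000030f0000096cc00007459000036bb0000ab360000d7b800008088) (Net.cons (nat_lit 8) (nat_lit 0xa001b004b000e0083009600fb00d4004700030042004200a1001d00a100ee00ff00bb00fc008500be0088) (Net.cons (nat_lit 4) (nat_lit 0x5090a0c020006060504080a0b03040a030208010901010c0d0803040d0b01050e0604000a0f010d0a0a0908) (Net.cons (nat_lit 2) (nat_lit 0x303232111002223020111320013232313010232022202203122011120210011113021312112101310320220) (Net.cons (nat_lit 1) (nat_lit 0x1101541515454011441000150014151514551554411505514455544454001005445105444054144501155454)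 Net.nil)))))))))))))))))

theorem o_g469_ok : Net.ok 351 o_g469 = true := by decide +kernel

noncomputable def o_V470 : List Net := [o_g469]

theorem o_V470_ok : okE 351 o_V470 = true := (okE_cons.2 ⟨o_g469_ok, (okE_nil 351)⟩)

noncomputable def o_V472 : List Net := []

theorem o_V472_ok : okE 351 o_V472 = true := (okE_nil 351)

noncomputable def ot_c29_cnt_EG : List Net := [o_g1, o_g, o_g2, o_g3, o_g4, o_g5, o_g8, o_g9, o_g12, o_g13, o_g14, o_g17, o_g18, o_g19, o_g20, o_g23, o_g24, o_g25, o_g26, o_c, o_g27, o_g30, o_g31, o_g32, o_g35, o_b, o_d, o_e, o_f, o_h, o_i, o_g88, o_g89, o_g90, o_g91, o_g92, o_g93, o_g94, o_g454, o_g455, o_g456, o_g457, o_g469]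

theorem ot_c29_cnt_EG_ok : okE 351 ot_c29_cnt_EG = true := (okE_cons.2 ⟨o_g1_ok, (okE_cons.2 ⟨o_g_ok, (okE_cons.2 ⟨o_g2_ok, (okE_cons.2 ⟨o_g3_ok, (okE_cons.2 ⟨o_g4_ok, (okE_cons.2 ⟨o_g5_ok, (okE_cons.2 ⟨o_g8_ok, (okE_cons.2 ⟨o_g9_ok, (okE_cons.2 ⟨o_g12_ok, (okE_cons.2 ⟨o_g13_ok, (okE_cons.2 ⟨o_g14_ok, (okE_cons.2 ⟨o_g17_ok, (okE_cons.2 ⟨o_g18_ok, (okE_cons.2 ⟨o_g19_ok, (okE_cons.2 ⟨o_g20_ok, (okE_cons.2 ⟨o_g23_ok, (okE_cons.2 ⟨o_g24_ok, (okE_cons.2 ⟨o_g25_ok, (okE_cons.2 ⟨o_g26_ok, (okE_cons.2 ⟨o_c_ok, (okE_cons.2 ⟨o_g27_ok, (okE_cons.2 ⟨o_g30_ok, (okE_cons.2 ⟨o_g31_ok, (okE_cons.2 ⟨o_g32_ok, (okE_cons.2 ⟨o_g35_ok, (okE_cons.2 ⟨o_b_ok, (okE_cons.2 ⟨o_d_ok, (okE_cons.2 ⟨o_e_ok, (okE_cons.2 ⟨o_f_ok, (okE_cons.2 ⟨o_h_ok, (okE_cons.2 ⟨o_i_ok, (okE_cons.2 ⟨o_g88_ok, (okE_cons.2 ⟨o_g89_ok, (okE_cons.2 ⟨o_g90_ok, (okE_cons.2 ⟨o_g91_ok, (okE_cons.2 ⟨o_g92_ok, (okE_cons.2 ⟨o_g93_ok, (okE_cons.2 ⟨o_g94_ok, (okE_cons.2 ⟨o_g454_ok, (okE_cons.2 ⟨o_g455_ok, (okE_cons.2 ⟨o_g456_ok,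 (okE_cons.2 ⟨o_g457_ok, (okE_cons.2 ⟨o_g469_ok, (okE_nil 351)⟩)⟩)⟩)⟩)⟩)⟩)⟩)⟩)⟩)⟩)⟩)⟩)⟩)⟩)⟩)⟩)⟩)⟩)⟩)⟩)⟩)⟩)⟩)⟩)⟩)⟩)⟩)⟩)⟩)⟩)⟩)⟩)⟩)⟩)⟩)⟩)⟩)⟩)⟩)⟩)⟩)⟩)⟩)

noncomputable def o_g473 : Net := (Net.cons (nat_lit 1) (nat_lit 0x114005014114045504401110155500041041514045415005555454011110511444414004544401510510550) (Net.cons (nat_lit 2) (nat_lit 0x1201022302203301010320122120030313223012203332022213312102113022123231101001320203320200) (Net.cons (nat_lit 4) (nat_lit 0x302030a00010e07030c05020001010c0d0f0a0f000d080f0a00060b09030d020d0f0f0c0309090607070400) (Net.cons (nat_lit 8) (nat_lit 0x1600b1000400cd005200b900e4000800e5004a000b0013004e00eb00af009200ca00560016001e00500000) (Net.cons (nat_lit 16) (nat_lit 0x1ada0000465300006420000013530000cc090000627700008f64000074c90000aede0000056000008000) (Net.cons (nat_lit 32) (nat_lit 0x6286dd51000000006c0a978200000000225336450000000072c06499000000006c001904) (Net.cons (nat_lit 64) (nat_lit 0x9637c00000000000000002cdc67ac0408980400000000000000009c50139080000000)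 (Net.cons (nat_lit 128) (nat_lit 0xd43357de3c1a00180a50438170134022) (Net.cons (nat_lit 256) (nat_lit 0x3eba61dabe7073b7fcfbdf76) (Net.cons (nat_lit 128) (nat_lit 0x66b84c3960bcabf07e27b56c) (Net.cons (nat_lit 64) (nat_lit 0x551cbbc50000000000000000d6b0498ab82304ad0000000000000000c49448f7aef7213c) (Net.cons (nat_lit 32) (nat_lit 0x5e774f180000000038b9b2b50000000030251f0600000000249a1c0d000000002b055e89) (Net.cons (nat_lit 16) (nat_lit 0x504b0000b29f00006eaa0000b3da00002b950000d3d000002c2400003cda0000f3fb000014110000e38a) (Net.cons (nat_lit 8) (nat_lit 0x7a009b00c800c1003200fa00e8009300b8001f00cf000b00c200a60004005700e40006002100dd0090007c) (Net.cons (nat_lit 4) (nat_lit 0x200040308010106050b05090c0f06000e090a000e050106090705070401060f0c0d060c03040b0e08020909) (Net.cons (nat_lit 2) (nat_lit 0x113001112002311221311331021003301331311323100012122310300332333120323123213233310110332) (Net.cons (nat_lit 1) (nat_lit 0x10154104004150541501015450515411140411051011014505050101154511114041441150014110404505)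 Net.nil)))))))))))))))))

theorem o_g473_ok : Net.ok 351 o_g473 = true := by decide +kernel

noncomputable def o_g474 : Net := (Net.cons (nat_lit 1) (nat_lit 0x41400154104015450440404005101400015511005145100140415414055410045504041500511044154540) (Net.cons (nat_lit 2) (nat_lit 0x220231221122310023021001202111101203001311333223013121032003022003111012311330110322102) (Net.cons (nat_lit 4) (nat_lit 0x30308050e0c090e0e010d0c060005050908010309070209070d00070904000e0400080300000301030f0000) (Net.cons (nat_lit 8) (nat_lit 0x8007f0024001500740028006a00910018008a0048004a004800720040000c0008000a00e2000800010000) (Net.cons (nat_lit 16) (nat_lit 0x5b110000c0dd00009c540000c48800005cc700001a840000d4c30000458800002c010000118200000000) (Net.cons (nat_lit 32) (nat_lit 0x34603e8600000000d914b81d00000000c4a485d100000000a3a0254300000000050e3012) (Net.cons (nat_lit 64) (nat_lit 0x112002420000000000000000439d716c31a2504100000000000000006ed0053180000000) (Net.cons (nat_lit 128) (nat_lit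 0x7f424a1f7ca8abf4802dd5e200048008) (Net.cons (nat_lit 256) (nat_lit 0x7ce9ebfceeffd7f7d92fb62a) (Net.cons (nat_lit 128) (nat_lit 0x7cc4830434fcaa0361aa593f) (Net.cons (nat_lit 64) (nat_lit 0x4d7dd410000000000000000e372a3af006f0f0c00000000000000007a68f6da6e24a1e0) (Net.cons (nat_lit 32) (nat_lit 0x13b8d94800000000487e58d80000000046a9df59000000003f89775400000000136ae51b) (Net.cons (nat_lit 16) (nat_lit 0x35f20000ec0c0000c06600006dca00009c4700009cfd00004b950000f5760000c50800005e7200005bfe) (Net.cons (nat_lit 8) (nat_lit 0x2a003600b8009b009c007b00850058009100ea005e008000e9003900a1004500f6005d002500df000000ae) (Net.cons (nat_lit 4) (nat_lit 0x3010108020c05010001040a0c0901000206060401020102010b0b020e02040d0106090709010d0d01060d02) (Net.cons (nat_lit 2) (nat_lit 0x1013021333103232313322230110032220233321302022232303302003201031001102101333320003202302) (Net.cons (nat_lit 1) (nat_lit 0x1005451551110100455450045554404114550054510144540455405111104150451514014455404410110415)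 Net.nil)))))))))))))))))

theorem o_g474_ok : Net.ok 351 o_g474 = true := by decide +kernel

noncomputable def o_g475 : Net := (Net.cons (nat_lit 1) (nat_lit 0x1511055501451541400104014505045145041544050404551051541005144540400541411055011044414014) (Net.cons (nat_lit 2) (nat_lit 0x110211313330232103221230011002303232213001120120222001210221321032332022330212302311320) (Net.cons (nat_lit 4) (nat_lit 0x3020d08090f0104080b0502090c08090e0d0f0e01030901070006040b000b0f070206030306070804030c00) (Net.cons (nat_lit 8) (nat_lit 0x470008009d00e4004f00d9002a0087005a0018002800a2004900c300c000d50016002d0014000800690000) (Net.cons (nat_lit 16) (nat_lit 0x7b6f00003e7a0000fcea0000184c00003f8900008b5b000080ac0000a2ce0000815000006a0000000000) (Net.cons (nat_lit 32) (nat_lit 0xa42679170000000027c490680000000022c063590000000085f842680000000073220983) (Net.cons (nat_lit 64) (nat_lit 0x2198803000000000000000013017046904849610000000000000000ae1d5b8000000000) (Net.cons (nat_lit 128) (nat_lit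 0xcbc9041fe000e90110340484d1ea2438) (Net.cons (nat_lit 256) (nat_lit 0x7563fb69febf5ffcdffaaebf) (Net.cons (nat_lit 128) (nat_lit 0x5d7afbc27c027b718cec572d) (Net.cons (nat_lit 64) (nat_lit 0x4b9478f800000000000000002c987e4919572c560000000000000000c2935adfcbbf59c7) (Net.cons (nat_lit 32) (nat_lit 0xb30efc0d0000000030e9c33d00000000266df725000000000cbcf9a800000000931f7647) (Net.cons (nat_lit 16) (nat_lit 0x410e00006a33000035a5000067430000993900005566000087ac000080ce00009713000048bf0000ae1f) (Net.cons (nat_lit 8) (nat_lit 0x6f00f800fb00880007001700f2004e0055007b00f200fb0017007b009700e50002002b00e600cb00cb00f3) (Net.cons (nat_lit 4) (nat_lit 0x30f020808020e04030202010c070305060c0f020107070e060801060a0c0c0f090b0e07010f0d020e0a0f05) (Net.cons (nat_lit 2) (nat_lit 0x112020311000121023033330330033232000313002130011220202212322013320310113222212233123121) (Net.cons (nat_lit 1) (nat_lit 0x150501140014104544155501451105150550004110104454410010045151405141450545051450054115040)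 Net.nil)))))))))))))))))

theorem o_g475_ok : Net.ok 351 o_g475 = true := by decide +kernel

noncomputable def o_g476 : Net := (Net.cons (nat_lit 1) (nat_lit 0x545514151101141510114155144450055404551151051114504101401545415455004054001100050054440) (Net.cons (nat_lit 2) (nat_lit 0x1110030203210333330031233210331021021022203311322330323031220011201233210300201112002300) (Net.cons (nat_lit 4) (nat_lit 0x30c050e050e0f08080a04040602050d0e0609070208030e00060c070803050c030b0c000f09080b000000) (Net.cons (nat_lit 8) (nat_lit 0x52006400d00092008f001300bb00a0008f00af007700d100b0004400dc00b60057009d003c009d00000000) (Net.cons (nat_lit 16) (nat_lit 0x64400007cc90000761c0000434c00000ba00000a9510000048f0000e38e00001729000081a100000000) (Net.cons (nat_lit 32) (nat_lit 0x2510501a00000000a0daef0f000000007787b48100000000004053540000000001002a04) (Net.cons (nat_lit 64) (nat_lit 0x38c4a0800000000000000003cb40c24888c0f0200000000000000000240011000000000) (Net.cons (nat_lit 128) (nat_lit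 0x462db5ed5c34f9960421281020902204) (Net.cons (nat_lit 256) (nat_lit 0x5cf5f99e06613f91339f6a26) (Net.cons (nat_lit 128) (nat_lit 0x4b18724c3af2680bcdf71ec1) (Net.cons (nat_lit 64) (nat_lit 0x218200c000000000000000069f8af82cc273fcf000000000000000009c564ea499e1883) (Net.cons (nat_lit 32) (nat_lit 0xfd49f10a000000007da3f6a10000000071e17dc5000000000e6531c00000000097685ff4) (Net.cons (nat_lit 16) (nat_lit 0x1d5500005cfb0000b8dc000055a30000155f00003fe900006cc60000f4a3000075e60000965a0000c4b6) (Net.cons (nat_lit 8) (nat_lit 0x42004700d9004500450036002e000e002a0076001200c50043002e00b20069004d00b000b600d9008300c0) (Net.cons (nat_lit 4) (nat_lit 0x70d01000c0f06080508060208020b0d0e050905030e0c0d04010e070f090c0e0b04040c0501050a0b010a) (Net.cons (nat_lit 2) (nat_lit 0x1333002203032130001022301200210013032011212102130102301030302022211213210110201131221000) (Net.cons (nat_lit 1) (nat_lit 0x541455555150504554505100401145410550144540455100104415454511051450005514410441115041000) Net.nil)))))))))))))))))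

theorem o_g476_ok : Net.ok 351 o_g476 = true := by decide +kernel

noncomputable def ot_c30_K : List Net := [o_g473, o_g474, o_g475, o_g476]

theorem ot_c30_K_ok : okE 351 ot_c30_K = true := (okE_cons.2 ⟨o_g473_ok, (okE_cons.2 ⟨o_g474_ok, (okE_cons.2 ⟨o_g475_ok, (okE_cons.2 ⟨o_g476_ok, (okE_nil 351)⟩)⟩)⟩)⟩)

noncomputable def ot_c30_cnt_EG : List Net := [o_g1, o_g, o_g2, o_g3, o_g4, o_g5, o_g8, o_g9, o_g12, o_g13, o_g14, o_g17, o_g18, o_g19, o_g20, o_g23, o_g24, o_g25, o_g26, o_c, o_g27, o_g30, o_g31, o_g32, o_g35, o_b, o_d, o_e, o_f, o_h, o_i, o_g88, o_g89, o_g90, o_g91, o_g92, o_g93, o_g94, o_g454, o_g455, o_g456, o_g457, o_g469]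

theorem ot_c30_cnt_EG_ok : okE 351 ot_c30_cnt_EG = true := (okE_cons.2 ⟨o_g1_ok, (okE_cons.2 ⟨o_g_ok, (okE_cons.2 ⟨o_g2_ok, (okE_cons.2 ⟨o_g3_ok, (okE_cons.2 ⟨o_g4_ok, (okE_cons.2 ⟨o_g5_ok, (okE_cons.2 ⟨o_g8_ok, (okE_cons.2 ⟨o_g9_ok, (okE_cons.2 ⟨o_g12_ok, (okE_cons.2 ⟨o_g13_ok, (okE_cons.2 ⟨o_g14_ok, (okE_cons.2 ⟨o_g17_ok, (okE_cons.2 ⟨o_g18_ok, (okE_cons.2 ⟨o_g19_ok, (okE_cons.2 ⟨o_g20_ok, (okE_cons.2 ⟨o_g23_ok, (okE_cons.2 ⟨o_g24_ok, (okE_cons.2 ⟨o_g25_ok, (okE_cons.2 ⟨o_g26_ok, (okE_cons.2 ⟨o_c_ok, (okE_cons.2 ⟨o_g27_ok, (okE_cons.2 ⟨o_g30_ok, (okE_cons.2 ⟨o_g31_ok, (okE_cons.2 ⟨o_g32_ok, (okE_cons.2 ⟨o_g35_ok, (okE_cons.2 ⟨o_b_ok, (okE_cons.2 ⟨o_d_ok, (okE_cons.2 ⟨o_e_ok, (okE_cons.2 ⟨o_f_ok, (okE_cons.2 ⟨o_h_ok, (okE_cons.2 ⟨o_i_ok, (okE_cons.2 ⟨o_g88_ok, (okE_cons.2 ⟨o_g89_ok, (okE_cons.2 ⟨o_g90_ok, (okE_cons.2 ⟨o_g91_ok, (okE_cons.2 ⟨o_g92_ok, (okE_cons.2 ⟨o_g93_ok, (okE_cons.2 ⟨o_g94_ok, (okE_cons.2 ⟨o_g454_ok, (okE_cons.2 ⟨o_g455_ok, (okE_cons.2 ⟨o_g456_ok,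 (okE_cons.2 ⟨o_g457_ok, (okE_cons.2 ⟨o_g469_ok, (okE_nil 351)⟩)⟩)⟩)⟩)⟩)⟩)⟩)⟩)⟩)⟩)⟩)⟩)⟩)⟩)⟩)⟩)⟩)⟩)⟩)⟩)⟩)⟩)⟩)⟩)⟩)⟩)⟩)⟩)⟩)⟩)⟩)⟩)⟩)⟩)⟩)⟩)⟩)⟩)⟩)⟩)⟩)⟩)⟩)

noncomputable def o_g478 : Net := (Net.cons (nat_lit 1) (nat_lit 0x5540550410010010155154515115155501444145514015005005015554005411010514100011151001054) (Net.cons (nat_lit 2) (nat_lit 0x21323020032013223311030120233210233033010132230323010302120332023203013032012113020030) (Net.cons (nat_lit 4) (nat_lit 0x70a0e0e070a05080b0f0d0d0f0a0d020c060d06030e0003090c0a040c030a03080900050f030f0d0b000700) (Net.cons (nat_lit 8) (nat_lit 0x900b80099002b007500a900e100dc00f1004500b5003d004600a60001004c00770085006d005000f60080) (Net.cons (nat_lit 16) (nat_lit 0x13710000cc6a000075490000319c000006410000258300003401000014c4000082b20000946000008000) (Net.cons (nat_lit 32) (nat_lit 0xf7c4a8b1000000008609d6e2000000005436413200000000ef1490170000000016802291) (Net.cons (nat_lit 64) (nat_lit 0x5355c2f0000000000000000543cd840011c5e8d0000000000000000800a2c6000000000)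 (Net.cons (nat_lit 128) (nat_lit 0xa3d318c6960204a1185a1468c1247366) (Net.cons (nat_lit 256) (nat_lit 0x5ed6ccfddf7a7ee9e1ed7376) (Net.cons (nat_lit 128) (nat_lit 0x4e24597874e6f3dfbcda3104) (Net.cons (nat_lit 64) (nat_lit 0x7108fbe40000000000000000fbafd316936da2230000000000000000589d7657ffa7739c) (Net.cons (nat_lit 32) (nat_lit 0xf4d51c39000000007659dde20000000022bd7ffd00000000d632bf1a00000000554e0487) (Net.cons (nat_lit 16) (nat_lit 0x34b60000dae70000bfca0000fb8f000066350000bbf10000ed4d0000d08800000da1000020b700007f83) (Net.cons (nat_lit 8) (nat_lit 0x3200510024000e004b00fc008e00ed004100a80027001f001f00bc00ea00bc001000d20072002f00a70083) (Net.cons (nat_lit 4) (nat_lit 0x20a04050a000e0703080c0809080b050301060d070f0d0e0502010402040d0f080d040606020405000c0c03) (Net.cons (nat_lit 2) (nat_lit 0x1131030211230123201211111122120021011101300102031113030232310000102203302200132032311130) (Net.cons (nat_lit 1) (nat_lit 0x41114145011101155141404541541445501010151411011545145540000440400444445155100010040545)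 Net.nil)))))))))))))))))

theorem o_g478_ok : Net.ok 351 o_g478 = true := by decide +kernel

noncomputable def o_g479 : Net := (Net.cons (nat_lit 1) (nat_lit 0x545050110405410004144504400015451450555150005101404110401011114050540104544541004440054) (Net.cons (nat_lit 2) (nat_lit 0x1132230011210010213101321021130120321023122010011113033221010012031120131300131200001000) (Net.cons (nat_lit 4) (nat_lit 0x7090c0706050e03020e0205090a060b080305050f090b030a070406060d0502070c0506030700040a080000) (Net.cons (nat_lit 8) (nat_lit 0x2900c000700032000f00cb00530089007d00ff003600ef008f003200f100f1004e00bd006100b200690000) (Net.cons (nat_lit 16) (nat_lit 0x5a820000a8c6000042c0000079a800004cc4000058880000956e000075650000525a0000b04100000000) (Net.cons (nat_lit 32) (nat_lit 0xd8bfc71d000000009916826700000000323e299a000000003aa9402800000000654fb4f4) (Net.cons (nat_lit 64) (nat_lit 0x22c0a4e50000000000000000e2246b381220216800000000000000000f63822380000000) (Net.cons (nat_lit 128) (nat_lit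 0xf7fb2eace7435160a8cfaa418080879) (Net.cons (nat_lit 256) (nat_lit 0x6efdfd1e0ffffae7dd6dbffd) (Net.cons (nat_lit 128) (nat_lit 0x5411ac1def9bbf33b16c0981) (Net.cons (nat_lit 64) (nat_lit 0x156ad66e00000000000000008019c9616744b2760000000000000000ecd30108844b9193) (Net.cons (nat_lit 32) (nat_lit 0xc738d184000000000fb7c05400000000c0a26cc80000000099ceb0ac0000000049ba80c7) (Net.cons (nat_lit 16) (nat_lit 0x7ec80000bbd5000074ac0000596a0000eb3c0000c7590000ed940000c8c10000847a0000838e0000fcd0) (Net.cons (nat_lit 8) (nat_lit 0x4c006800b200e90001004800c500a9004600c1006700e30009004800d10012001200220055003000af0076) (Net.cons (nat_lit 4) (nat_lit 0x60807030a0301010e030b0f050b0601060e0a0d040e0a0001060f0e0d0901010f0e0d0707050d0e06050d00) (Net.cons (nat_lit 2) (nat_lit 0x1000221301322021313332320111200313233312130001120232230203120322300212312230022230132331) (Net.cons (nat_lit 1) (nat_lit 0x405455444555010550405440550454444040451144405040551055554041555054445115511051411105550)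 Net.nil)))))))))))))))))

theorem o_g479_ok : Net.ok 351 o_g479 = true := by decide +kernel

noncomputable def o_g480 : Net := (Net.cons (nat_lit 1) (nat_lit 0x141014501551541451100500454044445550045151405510111415440400111410105545041405410541401) (Net.cons (nat_lit 2) (nat_lit 0x300123302333003310133302103011000022120210333023232310122300203202120020203002023122222) (Net.cons (nat_lit 4) (nat_lit 0x60e090704090c06090c060808000a0801010c0b0a00070c08060808020b020f08040d0d030e0d0f090c0a00) (Net.cons (nat_lit 8) (nat_lit 0x4f000f00c300d60057009900c0004000f000030093005100a600ea007500b9007900b3007700a700520000) (Net.cons (nat_lit 16) (nat_lit 0x3ccd00004c550000eb2900009eb100009f210000420000008b730000a1720000d0e80000831200000000) (Net.cons (nat_lit 32) (nat_lit 0x3440189a00000000df3c4e4b00000000c90c8d8100000000a801acdf0000000051057400) (Net.cons (nat_lit 64) (nat_lit 0x18a01c8800000000000000005584735c001118840000000000000000c185a77080000000) (Net.cons (nat_lit 128) (nat_lit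 0x689efd238001460453a4990ef87c997a) (Net.cons (nat_lit 256) (nat_lit 0x2215c6e7f3ffbf7ffdffbb7a) (Net.cons (nat_lit 128) (nat_lit 0x5b01b60ecaf8bfec4343f90) (Net.cons (nat_lit 64) (nat_lit 0x7964f1020000000000000000fa896197c40a9ba00000000000000000127cc0b6808abd1b) (Net.cons (nat_lit 32) (nat_lit 0xa4418fd000000000ed3044e2000000006117475b00000000cb7e95cb00000000dd36c818) (Net.cons (nat_lit 16) (nat_lit 0x3ff200005283000049540000e4ca00000930000000ba0000b2d40000f7e000006d480000a6230000d6a9) (Net.cons (nat_lit 8) (nat_lit 0x5b0095005e0031003e00cf00b1001300e10083003300a300d200a20094009a0081003900510056008700a1) (Net.cons (nat_lit 4) (nat_lit 0x5060a0f050e0b020307040c040d0e060d0c030c050a070f0404080d03080a0e000e0d0c0d0a05090f04040b) (Net.cons (nat_lit 2) (nat_lit 0x20231231023131322321332200302020110003020112202200131132131332100102001310010302310102) (Net.cons (nat_lit 1) (nat_lit 0x401450050054405141540454100041140554514541500105540511054451505440555540114441515410450) Net.nil)))))))))))))))))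

theorem o_g480_ok : Net.ok 351 o_g480 = true := by decide +kernel

noncomputable def ot_c31_K : List Net := [o_g478, o_g479, o_g480]

theorem ot_c31_K_ok : okE 351 ot_c31_K = true := (okE_cons.2 ⟨o_g478_ok, (okE_cons.2 ⟨o_g479_ok, (okE_cons.2 ⟨o_g480_ok, (okE_nil 351)⟩)⟩)⟩)

noncomputable def ot_c31_cnt_EG : List Net := [o_b, o_c, o_d, o_e, o_f, o_g, o_h, o_i, o_g1, o_g2, o_g3, o_g4, o_g5, o_g8, o_g9, o_g12, o_g13, o_g14, o_g17, o_g18, o_g19, o_g20, o_g23, o_g24, o_g25, o_g26, o_g27, o_g30, o_g31, o_g32, o_g35, o_g88, o_g89, o_g90, o_g91, o_g92, o_g93, o_g94, o_g454, o_g455, o_g456, o_g457, o_g469]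

theorem ot_c31_cnt_EG_ok : okE 351 ot_c31_cnt_EG = true := (okE_cons.2 ⟨o_b_ok, (okE_cons.2 ⟨o_c_ok, (okE_cons.2 ⟨o_d_ok, (okE_cons.2 ⟨o_e_ok, (okE_cons.2 ⟨o_f_ok, (okE_cons.2 ⟨o_g_ok, (okE_cons.2 ⟨o_h_ok, (okE_cons.2 ⟨o_i_ok, (okE_cons.2 ⟨o_g1_ok, (okE_cons.2 ⟨o_g2_ok, (okE_cons.2 ⟨o_g3_ok, (okE_cons.2 ⟨o_g4_ok, (okE_cons.2 ⟨o_g5_ok, (okE_cons.2 ⟨o_g8_ok, (okE_cons.2 ⟨o_g9_ok, (okE_cons.2 ⟨o_g12_ok, (okE_cons.2 ⟨o_g13_ok, (okE_cons.2 ⟨o_g14_ok, (okE_cons.2 ⟨o_g17_ok, (okE_cons.2 ⟨o_g18_ok, (okE_cons.2 ⟨o_g19_ok, (okE_cons.2 ⟨o_g20_ok, (okE_cons.2 ⟨o_g23_ok, (okE_cons.2 ⟨o_g24_ok, (okE_cons.2 ⟨o_g25_ok, (okE_cons.2 ⟨o_g26_ok, (okE_cons.2 ⟨o_g27_ok, (okE_cons.2 ⟨o_g30_ok, (okE_cons.2 ⟨o_g31_ok, (okE_cons.2 ⟨o_g32_ok, (okE_cons.2 ⟨o_g35_ok, (okE_cons.2 ⟨o_g88_ok, (okE_cons.2 ⟨o_g89_ok, (okE_cons.2 ⟨o_g90_ok, (okE_cons.2 ⟨o_g91_ok, (okE_cons.2 ⟨o_g92_ok, (okE_cons.2 ⟨o_g93_ok, (okE_cons.2 ⟨o_g94_ok, (okE_cons.2 ⟨o_g454_ok, (okE_cons.2 ⟨o_g455_ok, (okE_cons.2 ⟨o_g456_ok,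 (okE_cons.2 ⟨o_g457_ok, (okE_cons.2 ⟨o_g469_ok, (okE_nil 351)⟩)⟩)⟩)⟩)⟩)⟩)⟩)⟩)⟩)⟩)⟩)⟩)⟩)⟩)⟩)⟩)⟩)⟩)⟩)⟩)⟩)⟩)⟩)⟩)⟩)⟩)⟩)⟩)⟩)⟩)⟩)⟩)⟩)⟩)⟩)⟩)⟩)⟩)⟩)⟩)⟩)⟩)⟩)

noncomputable def o_g482 : Net := (Net.cons (nat_lit 1) (nat_lit 0x1154101050054410451105100051544414455540141515541515044444440144140111505105440544051404) (Net.cons (nat_lit 2) (nat_lit 0x1131211100312010330033202311132100003230232000211311122000033020100100131200210102310210) (Net.cons (nat_lit 4) (nat_lit 0x30103060b020e0d0c030b050b020d010f080a020f08020204060309040c00040d000605010a070a01010600) (Net.cons (nat_lit 8) (nat_lit 0x3e002700c900ce005b00ca0056005000c00090009e002c008700920051005a003400ce0081001400080000) (Net.cons (nat_lit 16) (nat_lit 0x2818000002390000461b0000e0b70000189a0000cc0c00008c870000c54f000081c80000590800000000) (Net.cons (nat_lit 32) (nat_lit 0xd1e8c44000000008df2992e0000000062ce4914000000003817c1000000000000071020) (Net.cons (nat_lit 64) (nat_lit 0x495c844d000000000000000018011505509002e90000000000000000b3c8366500000000)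 (Net.cons (nat_lit 128) (nat_lit 0x5b42035866c182a00848001b90154500) (Net.cons (nat_lit 256) (nat_lit 0x77e7fbf2ffcf77ff9b3d5dbf) (Net.cons (nat_lit 128) (nat_lit 0x10f13a5a4575d6be99f78b35) (Net.cons (nat_lit 64) (nat_lit 0x6803d610000000000000000927627572dfa1bf90000000000000000c754d12950a3564b) (Net.cons (nat_lit 32) (nat_lit 0x636c9f2100000000401c9f3f00000000aafbe89b00000000d3ab35c100000000a07c371f) (Net.cons (nat_lit 16) (nat_lit 0xfe50000532800004f0c0000cbef00002f3500001a5000001e4e0000ae6a0000edf900005bd6000042a6) (Net.cons (nat_lit 8) (nat_lit 0x50003000c900fa002e00d500dc005300be00f4005f00d5009500cd003b0012001a003700e20027004800d0) (Net.cons (nat_lit 4) (nat_lit 0x300020e0b000e0c0b020f08040906020e040a0a01050108020d0e0c050a0e0b0600070f0f0b06060e04040e) (Net.cons (nat_lit 2) (nat_lit 0x1331100200131023032223132121201120002201101011320320102213220221113321233132003102102020) (Net.cons (nat_lit 1) (nat_lit 0x51500004401145115441015515414444105011000045410540445055054141404450410010114014444500)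 Net.nil)))))))))))))))))

theorem o_g482_ok : Net.ok 351 o_g482 = true := by decide +kernel

noncomputable def o_g483 : Net := (Net.cons (nat_lit 1) (nat_lit 0x1511444511505004540054110441015004415154454415140500044400041040001010000000100140000000) (Net.cons (nat_lit 2) (nat_lit 0x1000220002020030220101012220301113103331233113111130000001200301200001000000000000000200) (Net.cons (nat_lit 4) (nat_lit 0x50309020b00010804060e0006070e0406040e060b0e060a00060b0108000200080000020002000004000000) (Net.cons (nat_lit 8) (nat_lit 0x34000d008b00e200c60017006e00a700f50036000600310082004900100020000500090000000000440000) (Net.cons (nat_lit 16) (nat_lit 0x646a00000ee3000003990000306600002014000013d00000128a0000c62800003a000000000000000000) (Net.cons (nat_lit 32) (nat_lit 0x4edf762500000000474430c700000000d110382a00000000003886010000000030040000) (Net.cons (nat_lit 64) (nat_lit 0x90750000000000000000000005a02a240301c440000000000000000030549c900000000) (Net.cons (nat_lit 128) (nat_lit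 0x15b42781000540000048202000009804) (Net.cons (nat_lit 256) (nat_lit 0x557fe84f4b7d7fe92e449804) (Net.cons (nat_lit 128) (nat_lit 0x2055ba4104a2032d138d7ea) (Net.cons (nat_lit 64) (nat_lit 0x2de758a40000000000000000505a02a2403034500000000000000000132549c904600804) (Net.cons (nat_lit 32) (nat_lit 0x5eff762700000000c76430c700000000d31238eb00000000001886010000000030240080) (Net.cons (nat_lit 16) (nat_lit 0x646a00000fe3000003990000307600002014000017d00000128a0000c72800003a000000000000000000) (Net.cons (nat_lit 8) (nat_lit 0x34002d008b00e200e60017006e00a700f5003600060031008e004900100020000500090020000000440000) (Net.cons (nat_lit 4) (nat_lit 0x50309020b00050804060e0006070e0406040e0e0b0e060a00060b0108000200080400020002000004000000) (Net.cons (nat_lit 2) (nat_lit 0x1000220002020030220103012220301113103331233113311130020001200301200001000000000000000202) (Net.cons (nat_lit 1) (nat_lit 0x1511544511505004540054110441015004415554454415140500044400041044001010010000100140000000)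 Net.nil)))))))))))))))))

theorem o_g483_ok : Net.ok 351 o_g483 = true := by decide +kernel

noncomputable def ot_c32_K : List Net := [o_g482, o_g483]

theorem ot_c32_K_ok : okE 351 ot_c32_K = true := (okE_cons.2 ⟨o_g482_ok, (okE_cons.2 ⟨o_g483_ok, (okE_nil 351)⟩)⟩)

noncomputable def o_V485 : List Net := [o_g25, o_g111, o_c]

theorem o_V485_ok : okE 351 o_V485 = true := (okE_cons.2 ⟨o_g25_ok, (okE_cons.2 ⟨o_g111_ok, (okE_cons.2 ⟨o_c_ok, (okE_nil 351)⟩)⟩)⟩)

noncomputable def o_V487 : List Net := [o_g111, o_c]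

theorem o_V487_ok : okE 351 o_V487 = true := (okE_cons.2 ⟨o_g111_ok, (okE_cons.2 ⟨o_c_ok, (okE_nil 351)⟩)⟩)

noncomputable def o_V488 : List Net := [o_c]

theorem o_V488_ok : okE 351 o_V488 = true := (okE_cons.2 ⟨o_c_ok, (okE_nil 351)⟩)

noncomputable def o_V489 : List Net := []

theorem o_V489_ok : okE 351 o_V489 = true := (okE_nil 351)

noncomputable def ot_c32_cnt_EG : List Net := [o_b, o_c, o_d, o_e, o_f, o_g, o_h, o_i, o_g1, o_g2, o_g3, o_g4, o_g5, o_g8, o_g9, o_g12, o_g13, o_g14, o_g17, o_g18, o_g19, o_g20, o_g23, o_g24, o_g25, o_g26, o_g27, o_g30, o_g31, o_g32, o_g35, o_g111]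

theorem ot_c32_cnt_EG_ok : okE 351 ot_c32_cnt_EG = true := (okE_cons.2 ⟨o_b_ok, (okE_cons.2 ⟨o_c_ok, (okE_cons.2 ⟨o_d_ok, (okE_cons.2 ⟨o_e_ok, (okE_cons.2 ⟨o_f_ok, (okE_cons.2 ⟨o_g_ok, (okE_cons.2 ⟨o_h_ok, (okE_cons.2 ⟨o_i_ok, (okE_cons.2 ⟨o_g1_ok, (okE_cons.2 ⟨o_g2_ok, (okE_cons.2 ⟨o_g3_ok, (okE_cons.2 ⟨o_g4_ok, (okE_cons.2 ⟨o_g5_ok, (okE_cons.2 ⟨o_g8_ok, (okE_cons.2 ⟨o_g9_ok, (okE_cons.2 ⟨o_g12_ok, (okE_cons.2 ⟨o_g13_ok, (okE_cons.2 ⟨o_g14_ok, (okE_cons.2 ⟨o_g17_ok, (okE_cons.2 ⟨o_g18_ok, (okE_cons.2 ⟨o_g19_ok, (okE_cons.2 ⟨o_g20_ok, (okE_cons.2 ⟨o_g23_ok, (okE_cons.2 ⟨o_g24_ok, (okE_cons.2 ⟨o_g25_ok, (okE_cons.2 ⟨o_g26_ok, (okE_cons.2 ⟨o_g27_ok, (okE_cons.2 ⟨o_g30_ok, (okE_cons.2 ⟨o_g31_ok, (okE_cons.2 ⟨o_g32_ok, (okE_cons.2 ⟨o_g35_ok, (okE_cons.2 ⟨o_g111_ok, (okE_nil 351)⟩)⟩)⟩)⟩)⟩)⟩)⟩)⟩)⟩)⟩)⟩)⟩)⟩)⟩)⟩)⟩)⟩)⟩)⟩)⟩)⟩)⟩)⟩)⟩)⟩)⟩)⟩)⟩)⟩)⟩)⟩)⟩)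

noncomputable def o_g490 : Net := (Net.cons (nat_lit 1) (nat_lit 0x511104400401511001141511000014441141401011140044450400015450105414455500551041015140410) (Net.cons (nat_lit 2) (nat_lit 0x1101003130102002222000032320312003213302201033210303120320121100120022212331002232132000) (Net.cons (nat_lit 4) (nat_lit 0xe01010c020d0f0b0401020d040c0c0a070008090a000d01050a080f0501070c0002080f090a040c010a00) (Net.cons (nat_lit 8) (nat_lit 0x1600f200dc0033000f0086004700be00f40093003000e70003006200a600230013009400e4005000280000) (Net.cons (nat_lit 16) (nat_lit 0xcbb00004a990000badc0000a98b000065df0000cb430000b3740000aec70000208400002b2000000000) (Net.cons (nat_lit 32) (nat_lit 0xa539a63000000000d02d6c1600000000754bc0cd0000000005cce09d000000000116c548) (Net.cons (nat_lit 64) (nat_lit 0x3cc2062c0000000000000000be6ab02e164b4221000000000000000000466c0800000000) (Net.cons (nat_lit 128) (nat_lit 0x8243d8cb0bb8e584aa58e82651810bbb) (Net.cons (nat_lit 256) (nat_lit 0x6ff9edcdbadeee7f5bbfffbb)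 (Net.cons (nat_lit 128) (nat_lit 0x20c410933ff14810ad0f2d0b) (Net.cons (nat_lit 64) (nat_lit 0x33f40e410000000000000000e344ed613caa20b00000000000000000220c723c60ec9b1b) (Net.cons (nat_lit 32) (nat_lit 0xe6a82180000000003aa82c9e00000000943acba60000000064827f300000000081883ab1) (Net.cons (nat_lit 16) (nat_lit 0x5edc00003ba2000091250000d1430000a11300004e84000026d300003d6300001666000000ee000041d4) (Net.cons (nat_lit 8) (nat_lit 0x7500eb00f1006c00810051007d0011004700340011009600b800b300b1007c00e9003800cb00a600fd00d8) (Net.cons (nat_lit 4) (nat_lit 0x202080f0504020406030c0a02070e05030c0d0d09030b0c050604090e08050a0706060f02020c02010d0a0b) (Net.cons (nat_lit 2) (nat_lit 0x1022232223202112321231202200010123120230022033022000201002332003200233113323121023011312) (Net.cons (nat_lit 1) (nat_lit 0x1415504151405411115545111455111005144155005501155400111514511405505545455144050050405105) Net.nil)))))))))))))))))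

theorem o_g490_ok : Net.ok 351 o_g490 = true := by decide +kernel

noncomputable def o_g491 : Net := (Net.cons (nat_lit 1) (nat_lit 0x1105444041011101115144110504015414011504105100514550504055105414501000555505101101450550) (Net.cons (nat_lit 2) (nat_lit 0x220233121322303320112211203232000020313302300102323010012003300203113210332222000113200) (Net.cons (nat_lit 4) (nat_lit 0x30702060f0006050608090a0a0308050f090f050309010c080a010c08020508030300010c0507000e010000) (Net.cons (nat_lit 8) (nat_lit 0x6f009600cf00c1001c00a700a600de00da005b00b300f7004700be00120013006000f8008000de00440000) (Net.cons (nat_lit 16) (nat_lit 0x70a00000b0b00000fd4c000083160000a3910000842e000057700000200a000011980000ee2400008000) (Net.cons (nat_lit 32) (nat_lit 0x1440886800000000ae5418680000000024849ae20000000013002bbc0000000019933420) (Net.cons (nat_lit 64) (nat_lit 0x83034450000000000000000118dc210063258260000000000000000400e240800000000) (Net.cons (nat_lit 128) (nat_lit 0x8b3274cf689533c73f186030d703acb8)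 (Net.cons (nat_lit 256) (nat_lit 0x6fb773ffff1ef4fdd7dbbcba) (Net.cons (nat_lit 128) (nat_lit 0x5f8bd4e13197eb9b04ff2203) (Net.cons (nat_lit 64) (nat_lit 0x16ba9c5500000000000000007c770ca8c18807450000000000000000b4e6a1503e4f0c37) (Net.cons (nat_lit 32) (nat_lit 0xb46614ac000000006f0c0fee000000006d0fbb1300000000769668230000000094c57855) (Net.cons (nat_lit 16) (nat_lit 0x140800003fc30000516900002c8d0000eec10000717b00005ccc000077470000658d00006b1300005c0c) (Net.cons (nat_lit 8) (nat_lit 0x53006100bf0063005a009200af00000053004e00e200f6004100ba000800980010004c003a00ce00480058) (Net.cons (nat_lit 4) (nat_lit 0x3060d010a0805010e0600070701000a070f050b0b07000105000f0404090d090402020c0103000705090f0b) (Net.cons (nat_lit 2) (nat_lit 0x100331132202210003110010020012132112123222102313122311031311302303310111221100112233222) (Net.cons (nat_lit 1) (nat_lit 0x101111140054005540505011010515000504411055105015405500040000554154000500105111040500445) Net.nil)))))))))))))))))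

theorem o_g491_ok : Net.ok 351 o_g491 = true := by decide +kernel

noncomputable def o_g492 : Net := (Net.cons (nat_lit 1) (nat_lit 0x1000044445000000005110004445141440005000011110400410100100004440004010400010040000010000) (Net.cons (nat_lit 2) (nat_lit 0x202112032313132302300210022110323032001010100130213103010020112111021000000020000020000) (Net.cons (nat_lit 4) (nat_lit 0x30901090f050109020f0d0d050700010202020e02050d0300040a0000090a04080004000000010004000000) (Net.cons (nat_lit 8) (nat_lit 0x190001005900ed008f00220020009a00e5002600330004004900400072000100a400400020002400000000) (Net.cons (nat_lit 16) (nat_lit 0x299000039110000f7000000300e0000ac0c0000062200004666000042f0000073210000020000000000) (Net.cons (nat_lit 32) (nat_lit 0x20e3824d00000000c49c8e08000000003002ceb80000000000c010200000000000000000) (Net.cons (nat_lit 64) (nat_lit 0x74b48860000000000000000842806a411296f260000000000000000105a892880000000) (Net.cons (nat_lit 128) (nat_lit 0x2a85bff8948d8b6a48c010800258100)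 (Net.cons (nat_lit 256) (nat_lit 0xfc9dbfef5deab3cb1a7c1f9) (Net.cons (nat_lit 128) (nat_lit 0x797cd487878e5d4b666da216) (Net.cons (nat_lit 64) (nat_lit 0x74b48fe0000000000000000866827e651296f360000000000000000925a896ac0000078) (Net.cons (nat_lit 32) (nat_lit 0x1e38b4d00000000c49c8f08000000001122c6ba0000000000e018200000000020000100) (Net.cons (nat_lit 16) (nat_lit 0x299000039110000f60a0000300e0000ac0c000007220000466c000042f2000073210000030000000000) (Net.cons (nat_lit 8) (nat_lit 0x190009005900ed008f00220032009a00ef002600330004004900400072000100b400400020002e00000000) (Net.cons (nat_lit 4) (nat_lit 0x30901090f050109020f0f0d050700010202020e00050d0300040a0202090a06080004000000010004000000) (Net.cons (nat_lit 2) (nat_lit 0x202112032313132302300210022110323032001010100130213103010020112111021000000020000020000) (Net.cons (nat_lit 1) (nat_lit 0x1000044445000000005110004445141440005000011110400410100100004440004010400010040000010000) Net.nil)))))))))))))))))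

theorem o_g492_ok : Net.ok 351 o_g492 = true := by decide +kernel

noncomputable def ot_c33_K : List Net := [o_g490, o_g491, o_g258, o_g492]

theorem ot_c33_K_ok : okE 351 ot_c33_K = true := (okE_cons.2 ⟨o_g490_ok, (okE_cons.2 ⟨o_g491_ok, (okE_cons.2 ⟨o_g258_ok, (okE_cons.2 ⟨o_g492_ok, (okE_nil 351)⟩)⟩)⟩)⟩)

noncomputable def ot_c33_cnt_EG : List Net := [o_g1, o_g, o_g2, o_g3, o_g4, o_g5, o_g8, o_g9, o_g12, o_g13, o_g14, o_g17, o_g18, o_g19, o_g20, o_g23, o_g24, o_g25, o_g26, o_c, o_g27, o_g30, o_g31, o_g32, o_g35, o_b, o_d, o_e, o_f, o_h, o_i, o_g111]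

theorem ot_c33_cnt_EG_ok : okE 351 ot_c33_cnt_EG = true := (okE_cons.2 ⟨o_g1_ok, (okE_cons.2 ⟨o_g_ok, (okE_cons.2 ⟨o_g2_ok, (okE_cons.2 ⟨o_g3_ok, (okE_cons.2 ⟨o_g4_ok, (okE_cons.2 ⟨o_g5_ok, (okE_cons.2 ⟨o_g8_ok, (okE_cons.2 ⟨o_g9_ok, (okE_cons.2 ⟨o_g12_ok, (okE_cons.2 ⟨o_g13_ok, (okE_cons.2 ⟨o_g14_ok, (okE_cons.2 ⟨o_g17_ok, (okE_cons.2 ⟨o_g18_ok, (okE_cons.2 ⟨o_g19_ok, (okE_cons.2 ⟨o_g20_ok, (okE_cons.2 ⟨o_g23_ok, (okE_cons.2 ⟨o_g24_ok, (okE_cons.2 ⟨o_g25_ok, (okE_cons.2 ⟨o_g26_ok, (okE_cons.2 ⟨o_c_ok, (okE_cons.2 ⟨o_g27_ok, (okE_cons.2 ⟨o_g30_ok, (okE_cons.2 ⟨o_g31_ok, (okE_cons.2 ⟨o_g32_ok, (okE_cons.2 ⟨o_g35_ok, (okE_cons.2 ⟨o_b_ok, (okE_cons.2 ⟨o_d_ok, (okE_cons.2 ⟨o_e_ok, (okE_cons.2 ⟨o_f_ok, (okE_cons.2 ⟨o_h_ok, (okE_cons.2 ⟨o_i_ok, (okE_cons.2 ⟨o_g111_ok, (okE_nil 351)⟩)⟩)⟩)⟩)⟩)⟩)⟩)⟩)⟩)⟩)⟩)⟩)⟩)⟩)⟩)⟩)⟩)⟩)⟩)⟩)⟩)⟩)⟩)⟩)⟩)⟩)⟩)⟩)⟩)⟩)⟩)⟩)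

noncomputable def o_g494 : Net := (Net.cons (nat_lit 1) (nat_lit 0x1511445451041155114454411155544055011100410555055000054411100014440440504000500111504504) (Net.cons (nat_lit 2) (nat_lit 0x1221012332120002202220200132230113303200231330121200202212220302321312102023102310121102) (Net.cons (nat_lit 4) (nat_lit 0x3040b020d01090900030b060f00090e09060c0c0c090d0d03020a010e000a0b06000309020509080a060300) (Net.cons (nat_lit 8) (nat_lit 0x40005000940027008800d700ab00b100d5000a001100d5001100840055002e008400ea006400c800320080) (Net.cons (nat_lit 16) (nat_lit 0x64e500009430000090160000c49200006d020000a7a20000546d000037160000be820000dc1600000000) (Net.cons (nat_lit 32) (nat_lit 0xdde1d3430000000094cc0b3700000000194c72c80000000097b644110000000012105039) (Net.cons (nat_lit 64) (nat_lit 0x69c3f0cf000000000000000065eae3d018892b2000000000000000000de4b09280000000) (Net.cons (nat_lit 128) (nat_lit 0xa6ae32482850364585e6391611184842) (Net.cons (nat_lit 256) (nat_lit 0x7d5937fdbdf7f9b7b7dece5e)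 (Net.cons (nat_lit 128) (nat_lit 0x4ea80acac4b5f0842b478fb5) (Net.cons (nat_lit 64) (nat_lit 0x1b28294600000000000000004f96ab7b05ab1501000000000000000071ab127d2723598b) (Net.cons (nat_lit 32) (nat_lit 0x33ae64df00000000e5291ac5000000004522b963000000007ac7516600000000fb726d96) (Net.cons (nat_lit 16) (nat_lit 0x5d6c000038820000d10a0000454e0000b8060000fd9a0000c70200000fd5000079df000028ff00006f85) (Net.cons (nat_lit 8) (nat_lit 0x58002f00d9009e00bc00f300be0093005600e6003b00390086000900e100e700f100000058001e00d200b5) (Net.cons (nat_lit 4) (nat_lit 0x406020e010a0b0a0605010d0d0a0b0b0706050009020f0f05060a02040e0f080302080402070d080f070f01) (Net.cons (nat_lit 2) (nat_lit 0x1001122203000310023210113021033013221010010113232303103031313301111221202230002012003103) (Net.cons (nat_lit 1) (nat_lit 0x54114451104541550044115441404154510440140144501504151114145055500445511445145004414010) Net.nil)))))))))))))))))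

theorem o_g494_ok : Net.ok 351 o_g494 = true := by decide +kernel

noncomputable def o_g495 : Net := (Net.cons (nat_lit 1) (nat_lit 0x110440115041114000555405000145054150541045541550011550514055545104040410011115001045550) (Net.cons (nat_lit 2) (nat_lit 0x133122013211120031113002312321331201223021112013301322310230132231121012231102202102200) (Net.cons (nat_lit 4) (nat_lit 0x5080901070a060507000709050b0f06010900000d0c090b030d080a0a0f07030e04060501000c00080b0400) (Net.cons (nat_lit 8) (nat_lit 0x270023004100db00c40070004300f900a300bc00cc00700002000600ca006b009e0011006b00a700c70000) (Net.cons (nat_lit 16) (nat_lit 0x11e5000005630000b4b40000ebd8000086c300007a310000286800001345000088490000008000008000) (Net.cons (nat_lit 32) (nat_lit 0xd247acae00000000306b6b5c00000000372993080000000028957c0b0000000004e90895) (Net.cons (nat_lit 64) (nat_lit 0x48076c420000000000000000486e047e1121c0290000000000000000c009028000000000) (Net.cons (nat_lit 128) (nat_lit 0x98e743ad880086c01fc2203961750f2a)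 (Net.cons (nat_lit 256) (nat_lit 0x7ae69fe8ffcf6bf961ff6fef) (Net.cons (nat_lit 128) (nat_lit 0x841ea24d8d95ef2f89fa5df) (Net.cons (nat_lit 64) (nat_lit 0x6c2a8fbd00000000000000005689e60033cab5a0000000000000000078a4983fb77ce1c8) (Net.cons (nat_lit 32) (nat_lit 0x303d711d00000000d174ed9e00000000fe1392c300000000d53ab28b00000000b21d8927) (Net.cons (nat_lit 16) (nat_lit 0x517900004c340000e3300000c4d60000b4200000d85d00000c4200001150000057c0000010a0000024f3) (Net.cons (nat_lit 8) (nat_lit 0x700db005700db000e00bf004200e0009600c500c0002d008900ac0035000c0020004e00340067008100e3) (Net.cons (nat_lit 4) (nat_lit 0x50e0c00030e040501020d0102020e0504070403020f0f0703070f020f05020808050205040e040a0a0e0605) (Net.cons (nat_lit 2) (nat_lit 0x132202122230032232033332113102331021233323320200023323110030001301201113321120332031210) (Net.cons (nat_lit 1) (nat_lit 0x150415110054045414450544141541100401005515044505515055514101014510544154401404100415511) Net.nil)))))))))))))))))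

theorem o_g495_ok : Net.ok 351 o_g495 = true := by decide +kernel

noncomputable def o_g496 : Net := (Net.cons (nat_lit 1) (nat_lit 0x511514504501441445040514401140414401414510514401005504415545154400114004110405040000000) (Net.cons (nat_lit 2) (nat_lit 0x1012212020233221203022132232203102222020000211110220322132212130020312200120010220000000) (Net.cons (nat_lit 4) (nat_lit 0x1040d0602010a0a0a020e0a0d00000a050a0a040c00000a04010a01070606080a000a050e040405050000) (Net.cons (nat_lit 8) (nat_lit 0x1000d4002800ba0077008b00d40069008a00960012009f007a0078003d004100cd0010001a000500040000) (Net.cons (nat_lit 16) (nat_lit 0x1740000048c2000034c4000019c10000a1520000123c0000151400005dbd000010440000082400008000) (Net.cons (nat_lit 32) (nat_lit 0x5341197000000004a42214400000000b4500b23000000000847605200000000003c111c) (Net.cons (nat_lit 64) (nat_lit 0xa8874920000000000000000f1039b0c51000f2200000000000000001f04383100000000) (Net.cons (nat_lit 128) (nat_lit 0x3b359c7ecd848c656322d1610212121d)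 (Net.cons (nat_lit 256) (nat_lit 0x4deeeeed7f66fdf7de3e3b3f) (Net.cons (nat_lit 128) (nat_lit 0xf55e895e36c12b2f7891156) (Net.cons (nat_lit 64) (nat_lit 0x62f84d9b0000000000000000a986124ba8d3052100000000000000009d103933c2b020e8) (Net.cons (nat_lit 32) (nat_lit 0x5524d50100000000f941088600000000e8322f33000000000a43f0d600000000d67c5518) (Net.cons (nat_lit 16) (nat_lit 0x1f180000d8180000fd580000b1c60000e8d800005e4e0000195d0000cdac000011580000442a0000e9c3) (Net.cons (nat_lit 8) (nat_lit 0x4000d400a8003f0053000900d50069008a00950034001f006f007900a9005300cd0094005a00c100450087) (Net.cons (nat_lit 4) (nat_lit 0x101000f0204010b080a030d0f0d04000a040c0e020e00000804010b040207060d0a000a010a000404000602) (Net.cons (nat_lit 2) (nat_lit 0x12202030033221203223002132213000232020000311310230222122203021130312320120010320000000) (Net.cons (nat_lit 1) (nat_lit 0x511514504501441445140514401140415401414510514401005504415545154400114004110405040000000) Net.nil)))))))))))))))))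

theorem o_g496_ok : Net.ok 351 o_g496 = true := by decide +kernel

noncomputable def o_g497 : Net := (Net.cons (nat_lit 1) (nat_lit 0x100100101414455111551550004154010400050401404040400154005004000100040400000000000000400) (Net.cons (nat_lit 2) (nat_lit 0x211120131003231213200112122200223201032210000221300010030103000200020000002020200000000) (Net.cons (nat_lit 4) (nat_lit 0x40c0904090206010e05040a0b0b06020102020208080600000002040306050100020700080a030000080800) (Net.cons (nat_lit 8) (nat_lit 0x2800090031003e005a00c900af0000001000c400e40062008c000200600065003000000022008800000000) (Net.cons (nat_lit 16) (nat_lit 0x36800000a9940000d1e8000027100000884100000ad00000010a00004100000041a00000080200000000) (Net.cons (nat_lit 32) (nat_lit 0x51015048000000007dd40021000000004080ac820000000081043aac00000000408c0021) (Net.cons (nat_lit 64) (nat_lit 0x50282a4f0000000000000000529294c005031d00000000000000000050a2817200000000) (Net.cons (nat_lit 128) (nat_lit 0xe7cac3fd080000021080004001021840)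 (Net.cons (nat_lit 256) (nat_lit 0x38f41e4e73a7db7a6dca3841) (Net.cons (nat_lit 128) (nat_lit 0x5d02293288903440010304ca) (Net.cons (nat_lit 64) (nat_lit 0x52aca27b0000000000000000d296b0c0850315000000000000000000d0a2817200800800) (Net.cons (nat_lit 32) (nat_lit 0x610140c8000000006ff410210000000040d0aca20000000091043aac00000000608c1021) (Net.cons (nat_lit 16) (nat_lit 0x37840000ab970000d1ec000027100000884100002ad80000010a00004106000041a000000a0200000000) (Net.cons (nat_lit 8) (nat_lit 0x2800090031003e005a00c900af0000001000c400e400e2008c000200600065003000000022008800000000) (Net.cons (nat_lit 4) (nat_lit 0x40c0904090206010e05040a0b0b06020102020208080600000002040306050100020700080a030000080800) (Net.cons (nat_lit 2) (nat_lit 0x211120131003231213200112122200223201032210000221300010030103000200020000002020200000000) (Net.cons (nat_lit 1) (nat_lit 0x100100101414455111551550000154010400050401404040400144005004000100040400000040000000400) Net.nil)))))))))))))))))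

theorem o_g497_ok : Net.ok 351 o_g497 = true := by decide +kernel

noncomputable def ot_c34_K : List Net := [o_g494, o_g495, o_g496, o_g497]

theorem ot_c34_K_ok : okE 351 ot_c34_K = true := (okE_cons.2 ⟨o_g494_ok, (okE_cons.2 ⟨o_g495_ok, (okE_cons.2 ⟨o_g496_ok, (okE_cons.2 ⟨o_g497_ok, (okE_nil 351)⟩)⟩)⟩)⟩)

noncomputable def ot_c34_cnt_EG : List Net := [o_b, o_c, o_d, o_e, o_f, o_g, o_h, o_i, o_g1, o_g2, o_g3, o_g4, o_g5, o_g8, o_g9, o_g12, o_g13, o_g14, o_g17, o_g18, o_g19, o_g20, o_g23, o_g24, o_g25, o_g26, o_g27, o_g30, o_g31, o_g32, o_g35, o_g117]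

theorem ot_c34_cnt_EG_ok : okE 351 ot_c34_cnt_EG = true := (okE_cons.2 ⟨o_b_ok, (okE_cons.2 ⟨o_c_ok, (okE_cons.2 ⟨o_d_ok, (okE_cons.2 ⟨o_e_ok, (okE_cons.2 ⟨o_f_ok, (okE_cons.2 ⟨o_g_ok, (okE_cons.2 ⟨o_h_ok, (okE_cons.2 ⟨o_i_ok, (okE_cons.2 ⟨o_g1_ok, (okE_cons.2 ⟨o_g2_ok, (okE_cons.2 ⟨o_g3_ok, (okE_cons.2 ⟨o_g4_ok, (okE_cons.2 ⟨o_g5_ok, (okE_cons.2 ⟨o_g8_ok, (okE_cons.2 ⟨o_g9_ok, (okE_cons.2 ⟨o_g12_ok, (okE_cons.2 ⟨o_g13_ok, (okE_cons.2 ⟨o_g14_ok, (okE_cons.2 ⟨o_g17_ok, (okE_cons.2 ⟨o_g18_ok, (okE_cons.2 ⟨o_g19_ok, (okE_cons.2 ⟨o_g20_ok, (okE_cons.2 ⟨o_g23_ok, (okE_cons.2 ⟨o_g24_ok, (okE_cons.2 ⟨o_g25_ok, (okE_cons.2 ⟨o_g26_ok, (okE_cons.2 ⟨o_g27_ok, (okE_cons.2 ⟨o_g30_ok, (okE_cons.2 ⟨o_g31_ok, (okE_cons.2 ⟨o_g32_ok, (okE_cons.2 ⟨o_g35_ok, (okE_cons.2 ⟨o_g117_ok, (okE_nil 351)⟩)⟩)⟩)⟩)⟩)⟩)⟩)⟩)⟩)⟩)⟩)⟩)⟩)⟩)⟩)⟩)⟩)⟩)⟩)⟩)⟩)⟩)⟩)⟩)⟩)⟩)⟩)⟩)⟩)⟩)⟩)⟩)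

noncomputable def o_g499 : Net := (Net.cons (nat_lit 1) (nat_lit 0x1505044555540015410404541445050014541040150040140544511540541010540000451115441445015144) (Net.cons (nat_lit 2) (nat_lit 0x210133312101312223323033100102030013133103101012321210200010221322132131333020210100100) (Net.cons (nat_lit 4) (nat_lit 0x3000809010d0707030a0206000f020d020004040f0509010f0808000907040f040d000200040206080800) (Net.cons (nat_lit 8) (nat_lit 0x200a7006c00c20051000700c90071008d00db00fc00ec004e001200a400b6003000db00de005200280000) (Net.cons (nat_lit 16) (nat_lit 0x556a0000feb900002ecd000057300000f58e000099a10000067200006b3d000050030000020200008000) (Net.cons (nat_lit 32) (nat_lit 0x2271ec390000000035c0a17f00000000511359ef00000000d1700f2b0000000023e39a1d) (Net.cons (nat_lit 64) (nat_lit 0x2cdc49090000000000000000a62693760101b9bb0000000000000000ceee282280000000) (Net.cons (nat_lit 128) (nat_lit 0x43a7e4bf1cf0a050736208494429032) (Net.cons (nat_lit 256) (nat_lit 0x7fff0f77dfff6defb55fda7e)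 (Net.cons (nat_lit 128) (nat_lit 0x45c7c75cedb2e9b1aabaaa82) (Net.cons (nat_lit 64) (nat_lit 0x677d85800000000000000007b1bf0b77dc294ce0000000000000000e69db5a3ffe46d88) (Net.cons (nat_lit 32) (nat_lit 0x96f01ab00000000096fb86ad00000000101db5ca00000000f01f9c360000000066ab05b3) (Net.cons (nat_lit 16) (nat_lit 0x52000000fe33000020ea000028110000cd0e0000c418000089f60000ccae000000cb0000ebd70000ebec) (Net.cons (nat_lit 8) (nat_lit 0x6c00a7007700e20026006600b400f0007b006200a400f800e700d70098003200c8000700ae006d00550026) (Net.cons (nat_lit 4) (nat_lit 0x704030c07030a0c030e090d050d0f010c070302000302010507040e0d0d06060a0e010305080e0403050a0e) (Net.cons (nat_lit 2) (nat_lit 0x1012003000221101230121010101102121220101123003200210030101302020023102011210021121010213) (Net.cons (nat_lit 1) (nat_lit 0x5115000405111505101401440400105144115545004545114111441054445004510545104450411004510) Net.nil)))))))))))))))))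

theorem o_g499_ok : Net.ok 351 o_g499 = true := by decide +kernel

noncomputable def o_g500 : Net := (Net.cons (nat_lit 1) (nat_lit 0x14041150401540444045000100101100100045400115004145400144155455445150510000441155455550) (Net.cons (nat_lit 2) (nat_lit 0x1023022031322212123030233001310113321020000132030213120011022201302011021110000310323230) (Net.cons (nat_lit 4) (nat_lit 0x102060d090a0604050b03080e0f0a070b0d030f060a03050e0d0b0f0d0807050b030f030f0d050b09050008) (Net.cons (nat_lit 8) (nat_lit 0x7c00ae00f9009d00900014003000b200d800c8007800e3003a00f7008c001a00c200970085000b00900000) (Net.cons (nat_lit 16) (nat_lit 0x69fd000028dc0000ec32000032240000110300008b750000aa6000001813000030150000001900000000) (Net.cons (nat_lit 32) (nat_lit 0x57443b98000000004c84c8740000000031b95d5700000000111c001700000000025a2831) (Net.cons (nat_lit 64) (nat_lit 0x68c11032000000000000000048291e4008c5205d00000000000000009070047280000000) (Net.cons (nat_lit 128) (nat_lit 0x895b1375a8c1418246340280230ca611)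 (Net.cons (nat_lit 256) (nat_lit 0x6acff18bd7f746faa37cef33) (Net.cons (nat_lit 128) (nat_lit 0x5c710c1187942f90f93f005e) (Net.cons (nat_lit 64) (nat_lit 0x5ed5f9290000000000000000492a3b463874ccde000000000000000019125d0e127eec2c) (Net.cons (nat_lit 32) (nat_lit 0x57d47d9a000000003c85ab3400000000f14671df000000008577084500000000cf31035c) (Net.cons (nat_lit 16) (nat_lit 0x61c5000039920000e2b000007c80000058b3000089590000202200000c71000095fc000002340000136b) (Net.cons (nat_lit 8) (nat_lit 0x78008600a200dd001f003700c100b400e500c200500029009a006100910040008600b7006a000200cb00b7) (Net.cons (nat_lit 4) (nat_lit 0x606040d0d040a000502090a0c0a03060f0d0d0c060709010d010d0d0c0a07050c0b0d0b0b05010c0908000c) (Net.cons (nat_lit 2) (nat_lit 0x303002112303012011110033300121111113101122312010003331001003310323231023112011200110003) (Net.cons (nat_lit 1) (nat_lit 0x145041544045154005004044400540044551555501441514414451104541455040511145154540514550000) Net.nil)))))))))))))))))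

theorem o_g500_ok : Net.ok 351 o_g500 = true := by decide +kernel

noncomputable def o_g501 : Net := (Net.cons (nat_lit 1) (nat_lit 0x1055115105111401140141445401451140544510044500045501001455101115110104104100105551415040) (Net.cons (nat_lit 2) (nat_lit 0x1230010120332112132310211233320220221002320212313101230031100112110010230301012302212100) (Net.cons (nat_lit 4) (nat_lit 0x2090800080a0e060e01040e00070b0d04090d05060a07090e04030f060705060a01010c0800050b07000400) (Net.cons (nat_lit 8) (nat_lit 0x35005d004a0085005e00f0007600020033006000e1009b00d800f200e1008f000900ce00ca000c00400080) (Net.cons (nat_lit 16) (nat_lit 0x26c2000088d00000d003000001b70000d9f200004a610000eae4000031510000a1ab000082b800008000) (Net.cons (nat_lit 32) (nat_lit 0x9cbf3b440000000028f567a500000000d9a3871300000000a79046bb000000000bc03a62) (Net.cons (nat_lit 64) (nat_lit 0x3d0885d60000000000000000f79b82b29a602c5700000000000000008007a38200000000) (Net.cons (nat_lit 128) (nat_lit 0x550ccd32900052b08010e6a04040aea7)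 (Net.cons (nat_lit 256) (nat_lit 0x779ef7b5ecd7e7b3ed64feef) (Net.cons (nat_lit 128) (nat_lit 0x5fb89cf72a97dd2830983833) (Net.cons (nat_lit 64) (nat_lit 0x4ae5d81700000000000000004746c302125eb77500000000000000003f76a179cd3ba712) (Net.cons (nat_lit 32) (nat_lit 0xe7cf3480000000057cfd5500000000091921d04000000000af8ef65000000004d82b956) (Net.cons (nat_lit 16) (nat_lit 0x249100003662000075a60000fca500007d1000008d58000005e300004762000052f6000017560000d9f1) (Net.cons (nat_lit 8) (nat_lit 0x700ca00c9006100e9008f00960016000200be00f70047007500f5005a0077007e00fd005b001200e000a1) (Net.cons (nat_lit 4) (nat_lit 0x505080a0e01050407040a0603050d090b0f04030b000d0e0206080a0a080a0c08070a030e0d04070c0c0d00) (Net.cons (nat_lit 2) (nat_lit 0x210012023012032032323132202233011302301123012323213120023112102211221303101011003321222) (Net.cons (nat_lit 1) (nat_lit 0x1000105405500410511440444540410111554441111411110111510455511140101005140054055110500054) Net.nil)))))))))))))))))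

theorem o_g501_ok : Net.ok 351 o_g501 = true := by decide +kernel

noncomputable def o_g502 : Net := (Net.cons (nat_lit 1) (nat_lit 0x1415504551500551455451554110041001004041110414104151554415014441055010050015515504544510) (Net.cons (nat_lit 2) (nat_lit 0x103302311110323123103332030020223112131200200222332322011300323221000332032330123110020) (Net.cons (nat_lit 4) (nat_lit 0x306060a0d0d050e05070b000801060b0b040e0202040d0b090f02060d060a030e07090107000b06000e00) (Net.cons (nat_lit 8) (nat_lit 0x64006200c100b7001a00600064007f00a00036001a00dd006c00580086001e00900074004200ad000b0000) (Net.cons (nat_lit 16) (nat_lit 0x6e150000dd51000085e6000057d10000acca0000ff63000006850000c6160000052a0000021200000000) (Net.cons (nat_lit 32) (nat_lit 0x49c1b51100000000b05cf0ad000000009a69b2270000000026044a260000000017e20e50) (Net.cons (nat_lit 64) (nat_lit 0x28a4c875000000000000000042f6bd4c21004544000000000000000088801a4000000000) (Net.cons (nat_lit 128) (nat_lit 0x1e2864f3930828455222b70d44815123)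 (Net.cons (nat_lit 256) (nat_lit 0x57dbe845dfb6bf7defe75fb3) (Net.cons (nat_lit 128) (nat_lit 0x36081074dff488c298defac) (Net.cons (nat_lit 64) (nat_lit 0x5fcc6170000000000000000ec617d6c7d446acb0000000000000000d103599de83ccdf2) (Net.cons (nat_lit 32) (nat_lit 0xdbc7537d0000000096092c8200000000f371812e0000000043c540f600000000a63f2680) (Net.cons (nat_lit 16) (nat_lit 0x600002a840000482b0000f3c70000856f0000ef530000b11500009a16000080810000e82a0000d516) (Net.cons (nat_lit 8) (nat_lit 0x41002a0026003200bd001800ad006300b10078001c008400c900d20096001b00c1001d003d00c200ca00b3) (Net.cons (nat_lit 4) (nat_lit 0x50004040f08050b0907070d0c0c080c0e0806020303000b0b0501090c0d0003050c04090c0e030a0d05050a) (Net.cons (nat_lit 2) (nat_lit 0x1022303310212112111102020200122231300313223301222312020330212031103110210211303020001311) (Net.cons (nat_lit 1) (nat_lit 0x514504554440144014411544050045044004045050040445010444110000044014450540511441001151514) Net.nil)))))))))))))))))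

theorem o_g502_ok : Net.ok 351 o_g502 = true := by decide +kernel

noncomputable def o_g503 : Net := (Net.cons (nat_lit 1) (nat_lit 0x405405415144004045510551501140050044554150051154554140114505401155001154015010401405004) (Net.cons (nat_lit 2) (nat_lit 0x1212012011221300100100211101310011000130113131131201021112222333303113210231220020300200) (Net.cons (nat_lit 4) (nat_lit 0x70f0802060e070c0d020f0d0d06060f05040e0407050c0d01000e050c00090502020c000905080802050500) (Net.cons (nat_lit 8) (nat_lit 0x4e002a00e7001600a1002700fb007a00ce00fc00a200a40006008b0030008c007900c10020004300bb0000) (Net.cons (nat_lit 16) (nat_lit 0x2d4d000040170000f88f00006bb30000cd60000070cd000006500000d9ab00003ccc0000e00a00000000) (Net.cons (nat_lit 32) (nat_lit 0x807a11560000000081e0624200000000408184440000000051c6003800000000186a220d) (Net.cons (nat_lit 64) (nat_lit 0x7ccc56b00000000000000000b103d3bcd501060400000000000000001906606d00000000) (Net.cons (nat_lit 128) (nat_lit 0xe8d03cb800c494c0010081a890000a00)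 (Net.cons (nat_lit 256) (nat_lit 0x47def6f41b57f1edb8632a08) (Net.cons (nat_lit 128) (nat_lit 0x4e3c84a5003eb2c4b88f3f6) (Net.cons (nat_lit 64) (nat_lit 0x6c60fbbb00000000000000001903fb0cd9c1360100000000000000009b4447ad92f96a01) (Net.cons (nat_lit 32) (nat_lit 0x81b626d9000000008a46624b00000000e803f3e200000000714074100000000010e2608c) (Net.cons (nat_lit 16) (nat_lit 0x5cd0000a27f0000e2c200008cf70000cde2000050d1000064d200008a6f00005a760000f2400000e201) (Net.cons (nat_lit 8) (nat_lit 0x4400e900e400d0002700fa00100076006c005a00b6009e005c00eb0049004a00580065008a00cc00b100c1) (Net.cons (nat_lit 4) (nat_lit 0x40c00020606070e010900050406010d030c0e01030105040b000f070e0d080d03060d0c03050e040b0f070a) (Net.cons (nat_lit 2) (nat_lit 0x112030332323212123010221021322231020010331133313203001111222131130101010230300000302022) (Net.cons (nat_lit 1) (nat_lit 0x15041454101444044455500545100041040404150045014514140115001010101115450011410141005005) Net.nil)))))))))))))))))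

theorem o_g503_ok : Net.ok 351 o_g503 = true := by decide +kernel

noncomputable def ot_c35_K : List Net := [o_g500, o_g499, o_g501, o_g502, o_g503]

theorem ot_c35_K_ok : okE 351 ot_c35_K = true := (okE_cons.2 ⟨o_g500_ok, (okE_cons.2 ⟨o_g499_ok, (okE_cons.2 ⟨o_g501_ok, (okE_cons.2 ⟨o_g502_ok, (okE_cons.2 ⟨o_g503_ok, (okE_nil 351)⟩)⟩)⟩)⟩)⟩)

noncomputable def o_g505 : Net := (Net.cons (nat_lit 1) (nat_lit 0x1155450155414105500411151405441411005150014444004410541101500505105440001010400000155450) (Net.cons (nat_lit 2) (nat_lit 0x1312301110321223221002200321122100123223001231022222110301320023212333032231120020031000) (Net.cons (nat_lit 4) (nat_lit 0x70e020105060b06050e070e060a03040e08040c01040d0607040b08030c0a06000902020c01040e0b010208) (Net.cons (nat_lit 8) (nat_lit 0x520069006a006d001b002c0022000a004700df005400fa005000c8007d005d005a001200580019000a0000) (Net.cons (nat_lit 16) (nat_lit 0x1dcf00003a8400006dde0000110c000091060000a2cd00000b7900008887000080b1000018be00000000)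 (Net.cons (nat_lit 32) (nat_lit 0xb1f2e3a80000000044483427000000001da4021c0000000090a844140000000009ef8700) (Net.cons (nat_lit 64) (nat_lit 0x82858670000000000000000372084a897664c210000000000000000d367c0a000000000) (Net.cons (nat_lit 128) (nat_lit 0x6bac9ab0a0dc45086950904030082005) (Net.cons (nat_lit 256) (nat_lit 0x39dddfe9fb7fd0e0fcaea7df) (Net.cons (nat_lit 128) (nat_lit 0x3e98e14c550d965a512659bf) (Net.cons (nat_lit 64) (nat_lit 0x49c758f2000000000000000059a017b883067c270000000000000000f84d9a900549a640) (Net.cons (nat_lit 32) (nat_lit 0xdb3f636900000000004ce551000000002ecb320a000000009200a617000000004cc95f2a) (Net.cons (nat_lit 16) (nat_lit 0x17aa0000bacd00006dfb00004060000049200000b12900002df9000026a0000081c1000019450000593a) (Net.cons (nat_lit 8) (nat_lit 0x170072003a00400099001d0026005700d300cb00e0008a00d000ea00f500ff00cb00610051001a00090070) (Net.cons (nat_lit 4) (nat_lit 0x70a08090d05050e04000603070c0b0b060c0800010c070304040606070f080c0509060300080d0f0e020e0c)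 (Net.cons (nat_lit 2) (nat_lit 0x210031112321121330210301101211303132302101210023222330123220011202212233233132312021010) (Net.cons (nat_lit 1) (nat_lit 0x1145514151450105500411101405441414505140115044040414555041501444144515500054441505055500) Net.nil)))))))))))))))))

theorem o_g505_ok : Net.ok 351 o_g505 = true := by decide +kernel

noncomputable def o_g506 : Net := (Net.cons (nat_lit 1) (nat_lit 0x104000500040410105415510100411105410411114440001500514400140400100400000040010500000100) (Net.cons (nat_lit 2) (nat_lit 0x210122133000212333000000330020103102000021011113220100210020000000010000020100100000000) (Net.cons (nat_lit 4) (nat_lit 0x70501050a0809020e000e00010606000e0e0005090a0508050202010a0400050001060e00080e04000000) (Net.cons (nat_lit 8) (nat_lit 0x4300b600b40050003e0054008500000012004a007200600088003e00a60045003800020024001800000000) (Net.cons (nat_lit 16) (nat_lit 0x7b780000b8480000d6c400000e100000060c00001218000009120000c802000040080000120400000000) (Net.cons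 (nat_lit 32) (nat_lit 0xe71062f1000000008301040400000000635a930100000000060800000000000010200d46) (Net.cons (nat_lit 64) (nat_lit 0x1000eaea00000000000000001933d3ac182c2de000000000000000001a20047380000000) (Net.cons (nat_lit 128) (nat_lit 0x1f33dc329012288442000218a0e00701) (Net.cons (nat_lit 256) (nat_lit 0x343aff84fe66c67bfde41fef) (Net.cons (nat_lit 128) (nat_lit 0x5a076fcc02880b9ce0d96021) (Net.cons (nat_lit 64) (nat_lit 0x1630bdea00000000000000001933dbac592d6ae0000000000000000012200c738c215700) (Net.cons (nat_lit 32) (nat_lit 0xaf3066f10000000083010444000000002b5a9309000000000e2804000000000058000d66) (Net.cons (nat_lit 16) (nat_lit 0x3b480000f8480000d6c400000e100000062d00001238000049120000c802000000080000122400000020) (Net.cons (nat_lit 8) (nat_lit 0x4300b600b40050003e005400850020001200ca007200600088003e00a60045003800020024001800000000) (Net.cons (nat_lit 4) (nat_lit 0x70501050a0a09020e000e00010606000e0e00050b0a0508050202010a0400050001060e00080e04000000) (Net.cons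 (nat_lit 2) (nat_lit 0x211132132000212333010000330020113102000031011113230100210020000010110000020100100000000) (Net.cons (nat_lit 1) (nat_lit 0x104000500040410105415510100411105410411114440001500514400140400100400000040010500000100) Net.nil)))))))))))))))))

theorem o_g506_ok : Net.ok 351 o_g506 = true := by decide +kernel

noncomputable def o_V507 : List Net := [o_g505, o_g506]

theorem o_V507_ok : okE 351 o_V507 = true := (okE_cons.2 ⟨o_g505_ok, (okE_cons.2 ⟨o_g506_ok, (okE_nil 351)⟩)⟩)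

noncomputable def o_V509 : List Net := [o_g506]

theorem o_V509_ok : okE 351 o_V509 = true := (okE_cons.2 ⟨o_g506_ok, (okE_nil 351)⟩)

noncomputable def o_V510 : List Net := []

theorem o_V510_ok : okE 351 o_V510 = true := (okE_nil 351)

noncomputable def ot_c35_cnt_EG : List Net := [o_b, o_c, o_d, o_e, o_f, o_g, o_h, o_i, o_g1, o_g2, o_g3, o_g4, o_g5, o_g8, o_g9, o_g12, o_g13, o_g14, o_g17, o_g18, o_g19, o_g20, o_g23, o_g24, o_g25, o_g26, o_g27, o_g30, o_g31, o_g32, o_g35, o_g88, o_g89, o_g90, o_g91, o_g92, o_g93, o_g94, o_g152, o_g153, o_g154, o_g506, o_g505]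

theorem ot_c35_cnt_EG_ok : okE 351 ot_c35_cnt_EG = true := (okE_cons.2 ⟨o_b_ok, (okE_cons.2 ⟨o_c_ok, (okE_cons.2 ⟨o_d_ok, (okE_cons.2 ⟨o_e_ok, (okE_cons.2 ⟨o_f_ok, (okE_cons.2 ⟨o_g_ok, (okE_cons.2 ⟨o_h_ok, (okE_cons.2 ⟨o_i_ok, (okE_cons.2 ⟨o_g1_ok, (okE_cons.2 ⟨o_g2_ok, (okE_cons.2 ⟨o_g3_ok, (okE_cons.2 ⟨o_g4_ok, (okE_cons.2 ⟨o_g5_ok, (okE_cons.2 ⟨o_g8_ok, (okE_cons.2 ⟨o_g9_ok, (okE_cons.2 ⟨o_g12_ok, (okE_cons.2 ⟨o_g13_ok, (okE_cons.2 ⟨o_g14_ok, (okE_cons.2 ⟨o_g17_ok, (okE_cons.2 ⟨o_g18_ok, (okE_cons.2 ⟨o_g19_ok, (okE_cons.2 ⟨o_g20_ok, (okE_cons.2 ⟨o_g23_ok, (okE_cons.2 ⟨o_g24_ok, (okE_cons.2 ⟨o_g25_ok, (okE_cons.2 ⟨o_g26_ok, (okE_cons.2 ⟨o_g27_ok, (okE_cons.2 ⟨o_g30_ok, (okE_cons.2 ⟨o_g31_ok, (okE_cons.2 ⟨o_g32_ok, (okE_cons.2 ⟨o_g35_ok, (okE_cons.2 ⟨o_g88_ok, (okE_cons.2 ⟨o_g89_ok, (okE_cons.2 ⟨o_g90_ok, (okE_cons.2 ⟨o_g91_ok, (okE_cons.2 ⟨o_g92_ok, (okE_cons.2 ⟨o_g93_ok, (okE_cons.2 ⟨o_g94_ok, (okE_cons.2 ⟨o_g152_ok, (okE_cons.2 ⟨o_g153_ok, (okE_cons.2 ⟨o_g154_ok,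 (okE_cons.2 ⟨o_g506_ok, (okE_cons.2 ⟨o_g505_ok, (okE_nil 351)⟩)⟩)⟩)⟩)⟩)⟩)⟩)⟩)⟩)⟩)⟩)⟩)⟩)⟩)⟩)⟩)⟩)⟩)⟩)⟩)⟩)⟩)⟩)⟩)⟩)⟩)⟩)⟩)⟩)⟩)⟩)⟩)⟩)⟩)⟩)⟩)⟩)⟩)⟩)⟩)⟩)⟩)⟩)

noncomputable def o_g511 : Net := (Net.cons (nat_lit 1) (nat_lit 0x451101440110154550540010004410011014454154441055110155055405541115500141141450111010140) (Net.cons (nat_lit 2) (nat_lit 0x1111101301212323300230000003303320203112331112321000203131311101223113101202100112222210) (Net.cons (nat_lit 4) (nat_lit 0x701000507000702050f010f070c0f0a090600090502060004070e0a05080e0c010d000d00030802010f0208) (Net.cons (nat_lit 8) (nat_lit 0x6a0094003f007200c900b500a600c2008d0091008d00a300da00e4009a004c0042008200a9001400040000) (Net.cons (nat_lit 16) (nat_lit 0x65dc0000ba80000002150000b0dd000025fb0000ea00000013ce000060400000120900008c0800000000) (Net.cons (nat_lit 32) (nat_lit 0xe28126730000000058eb018800000000cb57bc880000000071c40cbf000000003615c439) (Net.cons (nat_lit 64) (nat_lit 0x490912440000000000000000b893cb833104a2400000000000000000ea80122480000000)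 (Net.cons (nat_lit 128) (nat_lit 0xb77b4ac48e888c48a64b00ab71191490) (Net.cons (nat_lit 256) (nat_lit 0x3fec8e6dffcf1baff59bf5b9) (Net.cons (nat_lit 128) (nat_lit 0x326e0e17abaca5453d53a401) (Net.cons (nat_lit 64) (nat_lit 0x27d3d0db0000000000000000d02506f42c7b318500000000000000003190c3ad65600c82) (Net.cons (nat_lit 32) (nat_lit 0x9e7005e700000000474922bd00000000f2e5117800000000cf43140e00000000f0099d87) (Net.cons (nat_lit 16) (nat_lit 0x16fa0000a67d000004e600007f8b000054a10000a126000099670000141b0000110b0000b30b0000e62b) (Net.cons (nat_lit 8) (nat_lit 0x1e001a007f007d007c00a400da00f9000900180035004e00f50007008b003b0087001c00df002500680052) (Net.cons (nat_lit 4) (nat_lit 0xe0f0b0e0c08080f0501060307010c0c0e090c0b040a01080a08060a0700040e060f060f0109040c0d0e0f) (Net.cons (nat_lit 2) (nat_lit 0x331120122212223203120231302222122200123021333031212003032230121300231203123322123101331) (Net.cons (nat_lit 1) (nat_lit 0x440155010401144011150551101514011004014115041101150144101155511004514501554004404401440)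 Net.nil)))))))))))))))))

theorem o_g511_ok : Net.ok 351 o_g511 = true := by decide +kernel

noncomputable def o_g512 : Net := (Net.cons (nat_lit 1) (nat_lit 0x4155411104510505155051414141115500441505155051111401511544104451455154155104401554040) (Net.cons (nat_lit 2) (nat_lit 0x1103310213311210101130032223132020230210323200303303300230211202210332203101312131103002) (Net.cons (nat_lit 4) (nat_lit 0x1090b070e0308070c0d0f010f050f0c0f090c0508060c020e01050e060e0e0f080b0a0001030d0108000000) (Net.cons (nat_lit 8) (nat_lit 0x270053006200440011004300c1002c00e10035003d00a500ec00a500a700f60076002a0086004500c20000) (Net.cons (nat_lit 16) (nat_lit 0x35e50000210800005720000007320000d7ae000089eb000081540000b41a00001c430000d9d700000000) (Net.cons (nat_lit 32) (nat_lit 0xab0d213c00000000b03a22e40000000084f9bad60000000068335f3a0000000004000091) (Net.cons (nat_lit 64) (nat_lit 0x224b0674000000000000000088cc36805c87904e00000000000000000890061900000000) (Net.cons (nat_lit 128) (nat_lit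 0xdc57f6ff00b738069025f10a07400f68) (Net.cons (nat_lit 256) (nat_lit 0x35bf788f9ab7ff3bafc67f7e) (Net.cons (nat_lit 128) (nat_lit 0x24d73307b08f703d5b09cba3) (Net.cons (nat_lit 64) (nat_lit 0x4f40405d00000000000000008d9d27f53f2740d100000000000000007fd66a2d5cf54568) (Net.cons (nat_lit 32) (nat_lit 0xb077b0b00000000038389caa0000000092d343730000000011e3460c000000002e869fb3) (Net.cons (nat_lit 16) (nat_lit 0x352900006b2700009f1300006d940000533d0000b30100009b040000747200005ad100000c690000e23a) (Net.cons (nat_lit 8) (nat_lit 0x430020006a00d7004e00ca005e00bf00b500a000d70065002300e8007900cf008f00d900f200dc006b001a) (Net.cons (nat_lit 4) (nat_lit 0x409080d000f030200040f0007070d010b080801060d0906010e080c0d0308000904010700090e0a050c0408) (Net.cons (nat_lit 2) (nat_lit 0x122301321230201203120121303121313222131121321133221313003031220220313102020202132333321) (Net.cons (nat_lit 1) (nat_lit 0x540540405400001455441500150504040451510144414014511451444410555411451010544411505444045)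 Net.nil)))))))))))))))))

theorem o_g512_ok : Net.ok 351 o_g512 = true := by decide +kernel

noncomputable def o_g513 : Net := (Net.cons (nat_lit 1) (nat_lit 0x100044014010105005101000440010000405115440405041100445415150001040110000110000000000000) (Net.cons (nat_lit 2) (nat_lit 0x300021011032000030300022001120020300331110300013033210200010000230002320002000200000200) (Net.cons (nat_lit 4) (nat_lit 0x6010a050b01050a04000001000401030a00000f03080003050c08000200080008040c000100000100000000) (Net.cons (nat_lit 8) (nat_lit 0x100af0092000c00890001000400a50022001f009500010023002200ac0000000c00140000000000000000) (Net.cons (nat_lit 16) (nat_lit 0x68c00005dd800002d810000aa95000075850000b80000001fc400000a2000004d080000000000000000) (Net.cons (nat_lit 32) (nat_lit 0x344509000000000101fca4300000000f9198262000000000e8d00c10000000054880040) (Net.cons (nat_lit 64) (nat_lit 0x40012bd0000000000000000046c940f00005ae0600000000000000000204001080000000) (Net.cons (nat_lit 128) (nat_lit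 0xfa0d8eb9000d28020480001000404100) (Net.cons (nat_lit 256) (nat_lit 0x378d29b3068600fcd1497f48) (Net.cons (nat_lit 128) (nat_lit 0x4410964ebde0795006b1690a) (Net.cons (nat_lit 64) (nat_lit 0x500803d00000000000000000fed74ab00d48849e0000000000000000ba04081090812800) (Net.cons (nat_lit 32) (nat_lit 0xb445098000000001013c84b00000000fb158062000000000e8d02c90000000056880048) (Net.cons (nat_lit 16) (nat_lit 0x68c00005d9800002d890000aa9d000075c50000b80000001f8e00000a2000004d000000000800000040) (Net.cons (nat_lit 8) (nat_lit 0x100ab0092000c00980003002400a50022001b009500010023002600a80000000c00140004000000000000) (Net.cons (nat_lit 4) (nat_lit 0x60102050b01070a0d010005000401030a00000f03080003050c08080a00080009040c000108000900000000) (Net.cons (nat_lit 2) (nat_lit 0x300021011032000030300022001120020300331110300013033210200010000230002320002000200000200) (Net.cons (nat_lit 1) (nat_lit 0x100044014010105005101000440010000505115440405041101445415150001040110000110000000000000) Net.nil)))))))))))))))))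

theorem o_g513_ok : Net.ok 351 o_g513 = true := by decide +kernel

noncomputable def o_g514 : Net := (Net.cons (nat_lit 1) (nat_lit 0x1545450440155054550441450401404440504110154554004004540055051011541040515000140515400404) (Net.cons (nat_lit 2) (nat_lit 0x121303032033012022032333101122133101011012310110222301111121130120201123302103212102202) (Net.cons (nat_lit 4) (nat_lit 0x40f0305020e0b040b0b0a040b0701010f040b0801050c02090e0c07090e0e0908030d010b06010001000c08) (Net.cons (nat_lit 8) (nat_lit 0x7800c2003d000400cf0004001f0092001300e5005f00c000b00024008e00b000410006000a0095004c0080) (Net.cons (nat_lit 16) (nat_lit 0x688e00003c80000098e3000004ec0000985d0000351000001869000020b400009c900000647900000000) (Net.cons (nat_lit 32) (nat_lit 0x27147f4100000000996886c70000000022a02e6e000000007000e5dd0000000003140251) (Net.cons (nat_lit 64) (nat_lit 0xf10cf300000000000000000a9d567d191014cc800000000000000009cc4004280000000) (Net.cons (nat_lit 128) (nat_lit 0xf56a06cc021080072984420191012d4a)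 (Net.cons (nat_lit 256) (nat_lit 0x5abaede7bdd44ac395e12f5b) (Net.cons (nat_lit 128) (nat_lit 0x431b272511b11b028bf4e4) (Net.cons (nat_lit 64) (nat_lit 0x9a6358a000000000000000029d560c293612448000000000000000089c082f0330181c9) (Net.cons (nat_lit 32) (nat_lit 0x2ddd794b000000002e5aaf14000000002612b36b000000006d98e75500000000e2740091) (Net.cons (nat_lit 16) (nat_lit 0x68b40000148300008bf90000182d00004a27000039c000008de8000005d700009c4800004719000081db) (Net.cons (nat_lit 8) (nat_lit 0x6a0044002900070013008d000700cc00470005004400e6005000ed00ba009400090092006a00b500dd0083) (Net.cons (nat_lit 4) (nat_lit 0x60d02010e00080c040f0b060e060a0c04000c020b0e0803010e0e0303070c0d080b0d0f0b060d0609020404) (Net.cons (nat_lit 2) (nat_lit 0x101213122113211233322121120120033003023002302312212300122330332020201112101101313302200) (Net.cons (nat_lit 1) (nat_lit 0x1505050040145051151541454551140051400545045150401550055005551401151000545410540115410540) Net.nil)))))))))))))))))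

theorem o_g514_ok : Net.ok 351 o_g514 = true := by decide +kernel

noncomputable def ot_c36_K : List Net := [o_g512, o_g511, o_g513, o_g514, o_g181]

theorem ot_c36_K_ok : okE 351 ot_c36_K = true := (okE_cons.2 ⟨o_g512_ok, (okE_cons.2 ⟨o_g511_ok, (okE_cons.2 ⟨o_g513_ok, (okE_cons.2 ⟨o_g514_ok, (okE_cons.2 ⟨o_g181_ok, (okE_nil 351)⟩)⟩)⟩)⟩)⟩)

noncomputable def o_V516 : List Net := [o_g153]

theorem o_V516_ok : okE 351 o_V516 = true := (okE_cons.2 ⟨o_g153_ok, (okE_nil 351)⟩)

noncomputable def o_V518 : List Net := []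

theorem o_V518_ok : okE 351 o_V518 = true := (okE_nil 351)

noncomputable def ot_c36_cnt_EG : List Net := [o_b, o_c, o_d, o_e, o_f, o_g, o_h, o_i, o_g1, o_g2, o_g3, o_g4, o_g5, o_g8, o_g9, o_g12, o_g13, o_g14, o_g17, o_g18, o_g19, o_g20, o_g23, o_g24, o_g25, o_g26, o_g27, o_g30, o_g31, o_g32, o_g35, o_g88, o_g89, o_g90, o_g91, o_g92, o_g93, o_g94, o_g152, o_g153, o_g154]

theorem ot_c36_cnt_EG_ok : okE 351 ot_c36_cnt_EG = true := (okE_cons.2 ⟨o_b_ok, (okE_cons.2 ⟨o_c_ok, (okE_cons.2 ⟨o_d_ok, (okE_cons.2 ⟨o_e_ok, (okE_cons.2 ⟨o_f_ok, (okE_cons.2 ⟨o_g_ok, (okE_cons.2 ⟨o_h_ok, (okE_cons.2 ⟨o_i_ok, (okE_cons.2 ⟨o_g1_ok, (okE_cons.2 ⟨o_g2_ok, (okE_cons.2 ⟨o_g3_ok, (okE_cons.2 ⟨o_g4_ok, (okE_cons.2 ⟨o_g5_ok, (okE_cons.2 ⟨o_g8_ok, (okE_cons.2 ⟨o_g9_ok, (okE_cons.2 ⟨o_g12_ok, (okE_cons.2 ⟨o_g13_ok, (okE_cons.2 ⟨o_g14_ok, (okE_cons.2 ⟨o_g17_ok, (okE_cons.2 ⟨o_g18_ok, (okE_cons.2 ⟨o_g19_ok, (okE_cons.2 ⟨o_g20_ok, (okE_cons.2 ⟨o_g23_ok, (okE_cons.2 ⟨o_g24_ok, (okE_cons.2 ⟨o_g25_ok,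 (okE_cons.2 ⟨o_g26_ok, (okE_cons.2 ⟨o_g27_ok, (okE_cons.2 ⟨o_g30_ok, (okE_cons.2 ⟨o_g31_ok, (okE_cons.2 ⟨o_g32_ok, (okE_cons.2 ⟨o_g35_ok, (okE_cons.2 ⟨o_g88_ok, (okE_cons.2 ⟨o_g89_ok, (okE_cons.2 ⟨o_g90_ok, (okE_cons.2 ⟨o_g91_ok, (okE_cons.2 ⟨o_g92_ok, (okE_cons.2 ⟨o_g93_ok, (okE_cons.2 ⟨o_g94_ok, (okE_cons.2 ⟨o_g152_ok, (okE_cons.2 ⟨o_g153_ok, (okE_cons.2 ⟨o_g154_ok, (okE_nil 351)⟩)⟩)⟩)⟩)⟩)⟩)⟩)⟩)⟩)⟩)⟩)⟩)⟩)⟩)⟩)⟩)⟩)⟩)⟩)⟩)⟩)⟩)⟩)⟩)⟩)⟩)⟩)⟩)⟩)⟩)⟩)⟩)⟩)⟩)⟩)⟩)⟩)⟩)⟩)⟩)⟩)

noncomputable def o_g519 : Net := (Net.cons (nat_lit 1) (nat_lit 0x54450045544150154110114551411105440510105440041004504145500510410044040145151141011141) (Net.cons (nat_lit 2) (nat_lit 0x21023220030220011001010010211031112110321111332122212322130223110321120111200300330020) (Net.cons (nat_lit 4) (nat_lit 0x80808090f0308000900020c08000e0d030805020405020e0003060204040a0304030a0f02010a010d0900) (Net.cons (nat_lit 8) (nat_lit 0x76004000010089003d00a80022009c000f001c009e00f000f4009900ff007800a300000015006f00020000)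 (Net.cons (nat_lit 16) (nat_lit 0x697b00002c460000034b000057b600009cc0000035300000a0710000f1b10000a3d70000ca9300000000) (Net.cons (nat_lit 32) (nat_lit 0x2c2ea0b600000000e87594c0000000007e2403a30000000058220202000000004c08933e) (Net.cons (nat_lit 64) (nat_lit 0x112068a00000000000000000d1c1f5952a66ec150000000000000000138a852000000000) (Net.cons (nat_lit 128) (nat_lit 0xbae02229b433c1a114fae107520015bc) (Net.cons (nat_lit 256) (nat_lit 0x3effe7f717fff73773b39dfc) (Net.cons (nat_lit 128) (nat_lit 0x72aaad455c556fadcdd807e) (Net.cons (nat_lit 64) (nat_lit 0x5dd2750f0000000000000000793a8d2849597bd6000000000000000056efcdde14c8f22f) (Net.cons (nat_lit 32) (nat_lit 0xc8c569190000000061129d3f000000005d8966a900000000ad0b31a700000000db8513c0) (Net.cons (nat_lit 16) (nat_lit 0x720b000014780000205000007f2d0000ca75000041e300009c8e0000ac670000325d00005c7700008ef8) (Net.cons (nat_lit 8) (nat_lit 0x7a009b00c70096006b002d005c005700cd00c2005400fb002800c200d200fa009e00d800ea000d006500cd)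 (Net.cons (nat_lit 4) (nat_lit 0x70a060306050e080c08000100020a030f07070a020a000102010b0f0a0304060d0b0c0e040508060405090c) (Net.cons (nat_lit 2) (nat_lit 0x1202110032013222032012233201301003313333122012022010323100233032322212210301203102001303) (Net.cons (nat_lit 1) (nat_lit 0x504044014010401115141545400440050041505550511105554144451540515141501011540000105051014) Net.nil)))))))))))))))))

theorem o_g519_ok : Net.ok 351 o_g519 = true := by decide +kernel

noncomputable def o_g520 : Net := (Net.cons (nat_lit 1) (nat_lit 0x1141500141054044155540411451455415405440145550054554555500140440450110005410044140044144) (Net.cons (nat_lit 2) (nat_lit 0x1011323200202310021202120012110101312331210302201130011321322132132313233220331011112222) (Net.cons (nat_lit 4) (nat_lit 0x10703030f050906010808030d000b06080c0e0b0a060f0f09090001080c0e0f08090309040a080b00050808) (Net.cons (nat_lit 8) (nat_lit 0x2400ae003a001100c90069003300c1009d004e00ef004600520028004c0046000000540006009c00640080)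 (Net.cons (nat_lit 16) (nat_lit 0x1fe50000cc3b0000da11000030ce00008500000003c0000075020000ff2a000063280000b54900000000) (Net.cons (nat_lit 32) (nat_lit 0x4cf8966800000000272a16de0000000034a8063000000000e9c834200000000000a18af3) (Net.cons (nat_lit 64) (nat_lit 0x61115c0000000000000000000ccc67050208824a0000000000000000440eae4000000000) (Net.cons (nat_lit 128) (nat_lit 0xbd175ed9900988e03200809d2501610) (Net.cons (nat_lit 256) (nat_lit 0x3be8d8ef776eae79dbd11e1b) (Net.cons (nat_lit 128) (nat_lit 0x7cbf6f5be72f0293a1f6161e) (Net.cons (nat_lit 64) (nat_lit 0x11e6bb150000000000000000531628dcd21572ae00000000000000009c9df06e27c8a9dc) (Net.cons (nat_lit 32) (nat_lit 0xf4d43bed0000000011b9770c00000000dbaf328e00000000114b8ba70000000071a37491) (Net.cons (nat_lit 16) (nat_lit 0x56980000278e0000cc430000d0470000c65100002c1500009b0f00004d9f00004a220000c5150000629d) (Net.cons (nat_lit 8) (nat_lit 0x3007c00a30011007400de002a005700d000dc00d400d8008f00d4007a000e00f300b60086004000de00e9)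 (Net.cons (nat_lit 4) (nat_lit 0x50a020c0c030801090d0f080808060107060803040208030e0306020e0d08030a0b02060c090a0c07050a05) (Net.cons (nat_lit 2) (nat_lit 0x120020003012031003113202032311123122302012022201131032322111223032331010012011312332033) (Net.cons (nat_lit 1) (nat_lit 0x550145115105005500001040141544145114040545010144150111500440144111514454145544551441541) Net.nil)))))))))))))))))

theorem o_g520_ok : Net.ok 351 o_g520 = true := by decide +kernel

noncomputable def ot_c37_K : List Net := [o_g519, o_g520]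

theorem ot_c37_K_ok : okE 351 ot_c37_K = true := (okE_cons.2 ⟨o_g519_ok, (okE_cons.2 ⟨o_g520_ok, (okE_nil 351)⟩)⟩)

noncomputable def o_V522 : List Net := [o_g30, o_g31, o_g32, o_g, o_g35, o_g, o_g]

theorem o_V522_ok : okE 351 o_V522 = true := (okE_cons.2 ⟨o_g30_ok, (okE_cons.2 ⟨o_g31_ok, (okE_cons.2 ⟨o_g32_ok, (okE_cons.2 ⟨o_g_ok, (okE_cons.2 ⟨o_g35_ok, (okE_cons.2 ⟨o_g_ok, (okE_cons.2 ⟨o_g_ok, (okE_nil 351)⟩)⟩)⟩)⟩)⟩)⟩)⟩)

noncomputable def o_V523 : List Net := [o_g, o_g35, o_g, o_g]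

theorem o_V523_ok : okE 351 o_V523 = true := (okE_cons.2 ⟨o_g_ok, (okE_cons.2 ⟨o_g35_ok, (okE_cons.2 ⟨o_g_ok, (okE_cons.2 ⟨o_g_ok, (okE_nil 351)⟩)⟩)⟩)⟩)

noncomputable def o_V524 : List Net := [o_g, o_g]

theorem o_V524_ok : okE 351 o_V524 = true := (okE_cons.2 ⟨o_g_ok, (okE_cons.2 ⟨o_g_ok, (okE_nil 351)⟩)⟩)

noncomputable def o_V525 : List Net := []

theorem o_V525_ok : okE 351 o_V525 = true := (okE_nil 351)

noncomputable def ot_c37_cnt_EG : List Net := [o_b, o_c, o_d, o_e, o_f, o_g, o_h, o_i, o_g1, o_g2, o_g3, o_g4, o_g5, o_g8, o_g9, o_g12, o_g13, o_g14, o_g17, o_g18, o_g19, o_g20, o_g23, o_g24, o_g25, o_g26, o_g27, o_g30, o_g31, o_g32, o_g35]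

theorem ot_c37_cnt_EG_ok : okE 351 ot_c37_cnt_EG = true := (okE_cons.2 ⟨o_b_ok, (okE_cons.2 ⟨o_c_ok, (okE_cons.2 ⟨o_d_ok, (okE_cons.2 ⟨o_e_ok, (okE_cons.2 ⟨o_f_ok, (okE_cons.2 ⟨o_g_ok, (okE_cons.2 ⟨o_h_ok, (okE_cons.2 ⟨o_i_ok, (okE_cons.2 ⟨o_g1_ok, (okE_cons.2 ⟨o_g2_ok, (okE_cons.2 ⟨o_g3_ok, (okE_cons.2 ⟨o_g4_ok, (okE_cons.2 ⟨o_g5_ok, (okE_cons.2 ⟨o_g8_ok, (okE_cons.2 ⟨o_g9_ok, (okE_cons.2 ⟨o_g12_ok, (okE_cons.2 ⟨o_g13_ok, (okE_cons.2 ⟨o_g14_ok, (okE_cons.2 ⟨o_g17_ok, (okE_cons.2 ⟨o_g18_ok, (okE_cons.2 ⟨o_g19_ok, (okE_cons.2 ⟨o_g20_ok, (okE_cons.2 ⟨o_g23_ok, (okE_cons.2 ⟨o_g24_ok, (okE_cons.2 ⟨o_g25_ok, (okE_cons.2 ⟨o_g26_ok, (okE_cons.2 ⟨o_g27_ok, (okE_cons.2 ⟨o_g30_ok, (okE_cons.2 ⟨o_g31_ok, (okE_cons.2 ⟨o_g32_ok, (okE_cons.2 ⟨o_g35_ok, (okE_nil 351)⟩)⟩)⟩)⟩)⟩)⟩)⟩)⟩)⟩)⟩)⟩)⟩)⟩)⟩)⟩)⟩)⟩)⟩)⟩)⟩)⟩)⟩)⟩)⟩)⟩)⟩)⟩)⟩)⟩)⟩)⟩)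

noncomputable def o_g526 : Net := (Net.cons (nat_lit 1) (nat_lit 0x445451410554150100054504551414551540011401514151010505111055144004551444015450515404004) (Net.cons (nat_lit 2) (nat_lit 0x1022200233031331320001232211211102030201111022311211000113130012310303211111101023020220) (Net.cons (nat_lit 4) (nat_lit 0x60a0b0c0c05020705040202030106050a08060803060c0504020305020805090d04040704040f0305040e08) (Net.cons (nat_lit 8) (nat_lit 0x6100a900b000fd002d00ba008600150003009700c20043005200a70065004f001b005800e70021008c0000) (Net.cons (nat_lit 16) (nat_lit 0x5c8a00009168000049d4000058660000832e0000d5c80000718d00008c650000bd200000020200008000) (Net.cons (nat_lit 32) (nat_lit 0x89452014000000007222406a00000000889e4a1f00000000c899b9ce000000000a0225f2) (Net.cons (nat_lit 64) (nat_lit 0x283a800000000000000000435b760b2006f31200000000000000001d30d23000000000) (Net.cons (nat_lit 128) (nat_lit 0x5cfb2a09a800cd5d6a446400046b1200) (Net.cons (nat_lit 256) (nat_lit 0x7e83dfdf7f7ffe7dac6fb6b9)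 (Net.cons (nat_lit 128) (nat_lit 0x1015aa93b9c43cb6e63b9c01) (Net.cons (nat_lit 64) (nat_lit 0x1b900eb100000000000000009110070736d330eb000000000000000032091f1be24c64c1) (Net.cons (nat_lit 32) (nat_lit 0x4e1c6c9000000004b412d37000000008b8d160400000000e1a4614f00000000b64775d8) (Net.cons (nat_lit 16) (nat_lit 0x34d30000e6420000fc7e0000850a0000d9b800009bc9000080fd0000868500009bdb0000c3b3000061bb) (Net.cons (nat_lit 8) (nat_lit 0xc9009c0033006300870012007100170048001b0080005d00110083004000ec0032006e00f6000d00bf) (Net.cons (nat_lit 4) (nat_lit 0x403070b0501090d0903000a05070c010e0707010b080c00030d0f030c0707020c070a0306090b02030b0309) (Net.cons (nat_lit 2) (nat_lit 0x1200103331321123122113131121100012333003033020220130120211101203221310230012302111000112) (Net.cons (nat_lit 1) (nat_lit 0x150041045455005054100001510101010405441555451415050104415115044151151514151041055414510) Net.nil)))))))))))))))))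

theorem o_g526_ok : Net.ok 351 o_g526 = true := by decide +kernel

noncomputable def o_g527 : Net := (Net.cons (nat_lit 1) (nat_lit 0x1111145051101154440054445455444514040454415011414555141504150444055140401004051555414445) (Net.cons (nat_lit 2) (nat_lit 0x1223010110232220012010132110232230332013013202222021202022100023301301211113033320022) (Net.cons (nat_lit 4) (nat_lit 0x70f02040e0b0d030d080a05060b0008090301040f000806050b0d01080307060f0409020d00030a01040100) (Net.cons (nat_lit 8) (nat_lit 0x3f00fd00f10066006b0064006900b9005c001d004200be002d005b008900520075004900a0008100880080) (Net.cons (nat_lit 16) (nat_lit 0xe5f00009c0a0000b9b70000b850000084c0000088960000a0490000ca4700009b52000008c400008000) (Net.cons (nat_lit 32) (nat_lit 0x73526fa8000000002b14100e0000000011d87147000000000089ed0100000000300d79e0) (Net.cons (nat_lit 64) (nat_lit 0x251110970000000000000000e038c1f9932cc0520000000000000000498974ba00000000) (Net.cons (nat_lit 128) (nat_lit 0xa70ffd7300c6d875a82e0033f3202403)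 (Net.cons (nat_lit 256) (nat_lit 0x40eef9f7edff76fff733eccf) (Net.cons (nat_lit 128) (nat_lit 0x3282eccc55fe08bb7288f363) (Net.cons (nat_lit 64) (nat_lit 0x1bf20568000000000000000069cf98d6220f98c10000000000000000172acda5b7af43e3) (Net.cons (nat_lit 32) (nat_lit 0x2801cf54000000008056c6310000000049f44fe700000000ff9e6aef000000009691f1f7) (Net.cons (nat_lit 16) (nat_lit 0x52c7000087700000e6f400003daf0000079400001704000082a400001932000043ba00003dda0000dd58) (Net.cons (nat_lit 8) (nat_lit 0x38007200c00068006d000f00bf008e0075001c00670005002b00bb00920082002d000700ab00c6007800c6) (Net.cons (nat_lit 4) (nat_lit 0xd030607060103010b050b07060c0103030b030d0a0d0f060201010801050008090b02010f060b0409020c) (Net.cons (nat_lit 2) (nat_lit 0x1332123210311112323023321211223020310122131331030013023133113211313212002112112231032131) (Net.cons (nat_lit 1) (nat_lit 0x1455551104544144414554555411410014540100505041051014150154004501450105104005004001101551) Net.nil)))))))))))))))))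

theorem o_g527_ok : Net.ok 351 o_g527 = true := by decide +kernel

noncomputable def ot_c38_K : List Net := [o_g526, o_g527]

theorem ot_c38_K_ok : okE 351 ot_c38_K = true := (okE_cons.2 ⟨o_g526_ok, (okE_cons.2 ⟨o_g527_ok, (okE_nil 351)⟩)⟩)

noncomputable def ot_c38_cnt_EG : List Net := [o_b, o_c, o_d, o_e, o_f, o_g, o_h, o_i, o_g1, o_g2, o_g3, o_g4, o_g5, o_g8, o_g9, o_g12, o_g13, o_g14, o_g17, o_g18, o_g19, o_g20, o_g23, o_g24, o_g25, o_g26, o_g27, o_g30, o_g31, o_g32, o_g35]

theorem ot_c38_cnt_EG_ok : okE 351 ot_c38_cnt_EG = true := (okE_cons.2 ⟨o_b_ok, (okE_cons.2 ⟨o_c_ok, (okE_cons.2 ⟨o_d_ok, (okE_cons.2 ⟨o_e_ok, (okE_cons.2 ⟨o_f_ok, (okE_cons.2 ⟨o_g_ok, (okE_cons.2 ⟨o_h_ok, (okE_cons.2 ⟨o_i_ok, (okE_cons.2 ⟨o_g1_ok, (okE_cons.2 ⟨o_g2_ok, (okE_cons.2 ⟨o_g3_ok, (okE_cons.2 ⟨o_g4_ok, (okE_cons.2 ⟨o_g5_ok, (okE_cons.2 ⟨o_g8_ok, (okE_cons.2 ⟨o_g9_ok, (okE_cons.2 ⟨o_g12_ok, (okE_cons.2 ⟨o_g13_ok, (okE_cons.2 ⟨o_g14_ok, (okE_cons.2 ⟨o_g17_ok, (okE_cons.2 ⟨o_g18_ok,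 (okE_cons.2 ⟨o_g19_ok, (okE_cons.2 ⟨o_g20_ok, (okE_cons.2 ⟨o_g23_ok, (okE_cons.2 ⟨o_g24_ok, (okE_cons.2 ⟨o_g25_ok, (okE_cons.2 ⟨o_g26_ok, (okE_cons.2 ⟨o_g27_ok, (okE_cons.2 ⟨o_g30_ok, (okE_cons.2 ⟨o_g31_ok, (okE_cons.2 ⟨o_g32_ok, (okE_cons.2 ⟨o_g35_ok, (okE_nil 351)⟩)⟩)⟩)⟩)⟩)⟩)⟩)⟩)⟩)⟩)⟩)⟩)⟩)⟩)⟩)⟩)⟩)⟩)⟩)⟩)⟩)⟩)⟩)⟩)⟩)⟩)⟩)⟩)⟩)⟩)⟩)

noncomputable def o_g529 : Net := (Net.cons (nat_lit 1) (nat_lit 0x544510540501055115110055554040041514114405101104411511414044111555555001400555050111000) (Net.cons (nat_lit 2) (nat_lit 0x1121322013023001122112233003230230032101200203122031303123121230320002330311311133031200) (Net.cons (nat_lit 4) (nat_lit 0x70808080c0a010d09090604000d0e070d010f0b070602010007010d080e07050a02010c0e0b050404040908) (Net.cons (nat_lit 8) (nat_lit 0x600c3006300290056008b00ea002c0030007e005e0054002f00010022008100b800440012004000c40000) (Net.cons (nat_lit 16) (nat_lit 0x79bc000019ad000042660000ecb20000cefc0000e9e40000643300000619000012bd0000104500000000) (Net.cons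 (nat_lit 32) (nat_lit 0x2bfe88b20000000089b2b9a300000000f35453260000000013691602000000001210225b) (Net.cons (nat_lit 64) (nat_lit 0x2a4b4c080000000000000000f2358111914200e20000000000000000d54458c680000000) (Net.cons (nat_lit 128) (nat_lit 0xa5cbc3c4000498d2610d17b6b7421128) (Net.cons (nat_lit 256) (nat_lit 0x3c7c9ed2f74fdffebf77f1eb) (Net.cons (nat_lit 128) (nat_lit 0x134df7fe33b04dcd6f3c0927) (Net.cons (nat_lit 64) (nat_lit 0x2a913181000000000000000099abefbc541668e1000000000000000079613546d4fd9723) (Net.cons (nat_lit 32) (nat_lit 0x1c81c5e00000000099570be5000000005c4fb2ac00000000fada132d0000000041faf970) (Net.cons (nat_lit 16) (nat_lit 0x5b490000310f000077860000ffde0000c5d9000050cb0000cc320000a8fa00000a29000072b90000eb2a) (Net.cons (nat_lit 8) (nat_lit 0x1600ae0085006f00c1005b004f00c3005d003a0054001600e700cd001e00d900ca00f9005d001c00940058) (Net.cons (nat_lit 4) (nat_lit 0x607090c050804050b0a0207030e0b000b040800060b060e0b0e000a0d0308080f01050206080c0a010b0302) (Net.cons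 (nat_lit 2) (nat_lit 0x20200323003112201113233003232303011012332103020301313310001301121310100332303122332203) (Net.cons (nat_lit 1) (nat_lit 0x50445404510401001110411111411014014155541504004551444041441155515150510004040545154040) Net.nil)))))))))))))))))

theorem o_g529_ok : Net.ok 351 o_g529 = true := by decide +kernel

noncomputable def o_g530 : Net := (Net.cons (nat_lit 1) (nat_lit 0x504445550410501055455450401541541014101010041104405515540514114054555111054510114541010) (Net.cons (nat_lit 2) (nat_lit 0x101223223213120101032030130203112100201301321311310201221102113211033301122121102002122) (Net.cons (nat_lit 4) (nat_lit 0xa0f0c030c04060502030509050d0e0e0f010308030007010e080301050c060600080b020a050401010000) (Net.cons (nat_lit 8) (nat_lit 0x3800dc002b00ae00ef003d005d00200088009900b200b2005900a300550080008b007900b6009200000080) (Net.cons (nat_lit 16) (nat_lit 0x538d000091c90000a9030000679c0000aa5c0000928c0000a2460000a81a000020be0000316f00000000) (Net.cons (nat_lit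 32) (nat_lit 0xa44816580000000018b42664000000001442ea82000000007157c22a00000000443cc58b) (Net.cons (nat_lit 64) (nat_lit 0x5bf2a45b0000000000000000f8e2565c226c849800000000000000000c00006500000000) (Net.cons (nat_lit 128) (nat_lit 0x477200cd0248439032a77dd0b5278100) (Net.cons (nat_lit 256) (nat_lit 0x26ddcbdebffffdf5ff2fe587) (Net.cons (nat_lit 128) (nat_lit 0x4a563ff5abbc0a51495fda9a) (Net.cons (nat_lit 64) (nat_lit 0x3caa16360000000000000000d76e1d80adf112290000000000000000925e260e27e210b9) (Net.cons (nat_lit 32) (nat_lit 0x26af1f06000000000a68b53c000000007b35684a00000000c510466500000000fbadeb9a) (Net.cons (nat_lit 16) (nat_lit 0x524e00007d37000096ca000086de000084c700000eb50000bfc80000ab05000058720000f8790000fda9) (Net.cons (nat_lit 8) (nat_lit 0x5100f2007300e300df00100007008700fa0032009f008400b0004f00d7000f00a5000e00af00b100f90044) (Net.cons (nat_lit 4) (nat_lit 0x3000d03070a0502050307080d000f0301070a000e0b0b0a050f020e0a030301070c0807030809000b0f06) (Net.cons (nat_lit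 2) (nat_lit 0x102220310030103112320111023232332231333002212032123303011233201222223123201113023332211) (Net.cons (nat_lit 1) (nat_lit 0x1540454015511455545040155144540144454450114455504050515454445450054540015544115454440104) Net.nil)))))))))))))))))

theorem o_g530_ok : Net.ok 351 o_g530 = true := by decide +kernel

noncomputable def o_g531 : Net := (Net.cons (nat_lit 1) (nat_lit 0x1505404045014514014051500151050104001000505155144554555015004010544105551445454105004400) (Net.cons (nat_lit 2) (nat_lit 0x3023002331232010120023010103003031113032200000130121201332303022211333120310302012002) (Net.cons (nat_lit 4) (nat_lit 0x50d0e020b000b0004000205010007060907040101060b0f060c0d0b0b05080e050906040d08040002090808) (Net.cons (nat_lit 8) (nat_lit 0x1e00010052007c006a0080008900bf005a009c0079004900610077000000ad003100cd00c600a200c60000) (Net.cons (nat_lit 16) (nat_lit 0x6fb0000074d100005f8e0000366d000077830000dea200007688000017050000778a0000864500000000) (Net.cons (nat_lit 32)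 (nat_lit 0xa9d61cf7000000004702ef100000000040102005000000006031c50800000000119b141a) (Net.cons (nat_lit 64) (nat_lit 0xc9a076e00000000000000002202aa8881a1390600000000000000001695852f80000000) (Net.cons (nat_lit 128) (nat_lit 0x796c3d50d5606ad12a6155814c1bc306) (Net.cons (nat_lit 256) (nat_lit 0x5d797bf57ef7f7afdfbfe7bf) (Net.cons (nat_lit 128) (nat_lit 0x45efcaf4e0dad71a79147959) (Net.cons (nat_lit 64) (nat_lit 0x54a70957000000000000000069191e9005c2c46900000000000000007f1b0662ab1374c9) (Net.cons (nat_lit 32) (nat_lit 0xed73812000000006e92c78f00000000d8b8837f0000000030943b1900000000fa3c2840) (Net.cons (nat_lit 16) (nat_lit 0x11330000d1bf0000458a0000b40f0000fb1b000039c40000311c0000bf0300005efa000067df0000ad12) (Net.cons (nat_lit 8) (nat_lit 0x7900040069005f008d005d00f6008900a700c000ea00fc00de0090001f001c00b00042002d00bc006300cb) (Net.cons (nat_lit 4) (nat_lit 0x1000805000e0d0301060b070c08050d05090c07000d02040b07010802000603060f090d090c03060b0002) (Net.cons (nat_lit 2)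 (nat_lit 0x303001020030332210012120030232132222333013020000333003030013131020102321231203033110021) (Net.cons (nat_lit 1) (nat_lit 0x550505044400404141405144015110504115100111504050551401411511010455550044544540404500) Net.nil)))))))))))))))))

theorem o_g531_ok : Net.ok 351 o_g531 = true := by decide +kernel

noncomputable def o_g532 : Net := (Net.cons (nat_lit 1) (nat_lit 0x1454440455444411151544010411541501040144141501114501144154451550555541404000505054514000) (Net.cons (nat_lit 2) (nat_lit 0x1202203021221010220131320110033113311121111001331212320230100122320201301223103322201020) (Net.cons (nat_lit 4) (nat_lit 0x1030b090d0a06020000010c0f0404070a0307080a060d01070b0606080109070f0b090008080b0904030808) (Net.cons (nat_lit 8) (nat_lit 0x47002b00a40065006600790032003e00a80033004000cf006500bc0083006200c000ce00380039008e0000) (Net.cons (nat_lit 16) (nat_lit 0x23cb000038ab00004d1e0000d5f00000bad800004e8800006167000003540000218c00002ba400000000) (Net.cons (nat_lit 32) (nat_lit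 0xb4974a98000000002eefd31000000000207cceba000000000504e3c4000000003695832c) (Net.cons (nat_lit 64) (nat_lit 0x4b128c600000000000000007c34582cc66985010000000000000000e064367500000000) (Net.cons (nat_lit 128) (nat_lit 0x1f87c86f993ae22663a5172afc924521) (Net.cons (nat_lit 256) (nat_lit 0x5d3affbfebef377ffcbb45f1) (Net.cons (nat_lit 128) (nat_lit 0x23442051009420b08d3945e5) (Net.cons (nat_lit 64) (nat_lit 0x6b960d5a0000000000000000ca85752eca81b887000000000000000065c6b2e1507c7e56) (Net.cons (nat_lit 32) (nat_lit 0x9b0528d8000000004c87cc33000000005b6c3712000000003e2e3d0600000000d48424ec) (Net.cons (nat_lit 16) (nat_lit 0x357c00009be40000838700000f200000994c000059980000cc9000005a390000762e000025e20000cc0b) (Net.cons (nat_lit 8) (nat_lit 0x7f00ac00970004005200520084000500940000008400a700d300f400a40068002a00ae00a3004a009600cd) (Net.cons (nat_lit 4) (nat_lit 0x30802000b02060b0706080c00010a080706000d050101010206060b0f0c0e02090d0405000a0904050e04) (Net.cons (nat_lit 2) (nat_lit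 0x203301013321003030223103220133003301130233023202221313321031011133100001012113101020033) (Net.cons (nat_lit 1) (nat_lit 0x1144014404150045011005404105040450501115450445001055514554005151044141101141510051504151) Net.nil)))))))))))))))))

theorem o_g532_ok : Net.ok 351 o_g532 = true := by decide +kernel

noncomputable def ot_c39_K : List Net := [o_g529, o_g530, o_g531, o_g532]

theorem ot_c39_K_ok : okE 351 ot_c39_K = true := (okE_cons.2 ⟨o_g529_ok, (okE_cons.2 ⟨o_g530_ok, (okE_cons.2 ⟨o_g531_ok, (okE_cons.2 ⟨o_g532_ok, (okE_nil 351)⟩)⟩)⟩)⟩)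

noncomputable def ot_c39_cnt_EG : List Net := [o_b, o_c, o_d, o_e, o_f, o_g, o_h, o_i, o_g1, o_g2, o_g3, o_g4, o_g5, o_g8, o_g9, o_g12, o_g13, o_g14, o_g17, o_g18, o_g19, o_g20, o_g23, o_g24, o_g25, o_g26, o_g27, o_g30, o_g31, o_g32, o_g35, o_g295, o_g296, o_g297, o_g298]

theorem ot_c39_cnt_EG_ok : okE 351 ot_c39_cnt_EG = true := (okE_cons.2 ⟨o_b_ok, (okE_cons.2 ⟨o_c_ok, (okE_cons.2 ⟨o_d_ok, (okE_cons.2 ⟨o_e_ok, (okE_cons.2 ⟨o_f_ok, (okE_cons.2 ⟨o_g_ok, (okE_cons.2 ⟨o_h_ok, (okE_cons.2 ⟨o_i_ok, (okE_cons.2 ⟨o_g1_ok, (okE_cons.2 ⟨o_g2_ok, (okE_cons.2 ⟨o_g3_ok, (okE_cons.2 ⟨o_g4_ok, (okE_cons.2 ⟨o_g5_ok, (okE_cons.2 ⟨o_g8_ok, (okE_cons.2 ⟨o_g9_ok, (okE_cons.2 ⟨o_g12_ok, (okE_cons.2 ⟨o_g13_ok, (okE_cons.2 ⟨o_g14_ok, (okE_cons.2 ⟨o_g17_ok, (okE_cons.2 ⟨o_g18_ok, (okE_cons.2 ⟨o_g19_ok, (okE_cons.2 ⟨o_g20_ok, (okE_cons.2 ⟨o_g23_ok, (okE_cons.2 ⟨o_g24_ok, (okE_cons.2 ⟨o_g25_ok, (okE_cons.2 ⟨o_g26_ok, (okE_cons.2 ⟨o_g27_ok, (okE_cons.2 ⟨o_g30_ok, (okE_cons.2 ⟨o_g31_ok, (okE_cons.2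 ⟨o_g32_ok, (okE_cons.2 ⟨o_g35_ok, (okE_cons.2 ⟨o_g295_ok, (okE_cons.2 ⟨o_g296_ok, (okE_cons.2 ⟨o_g297_ok, (okE_cons.2 ⟨o_g298_ok, (okE_nil 351)⟩)⟩)⟩)⟩)⟩)⟩)⟩)⟩)⟩)⟩)⟩)⟩)⟩)⟩)⟩)⟩)⟩)⟩)⟩)⟩)⟩)⟩)⟩)⟩)⟩)⟩)⟩)⟩)⟩)⟩)⟩)⟩)⟩)⟩)⟩)

noncomputable def o_g534 : Net := (Net.cons (nat_lit 1) (nat_lit 0x1010000544511455004001414041015444411010110000541151115515510400445051505114001101501440) (Net.cons (nat_lit 2) (nat_lit 0x121220303031331131021302023330313013203222010021231232310030230230230301121000223121022) (Net.cons (nat_lit 4) (nat_lit 0x40e0904000d0902040b01040e0d0f05060e01070b090a030f0a010e0f01030a08040604010b080108010008) (Net.cons (nat_lit 8) (nat_lit 0x2e003d00a300e500f3004e00fd0017003c005c002800480083002c008d001500d900800079004f008e0000) (Net.cons (nat_lit 16) (nat_lit 0x13dd00008d230000d05000009a690000d6b50000343100009635000010c80000c8530000cb5400008000) (Net.cons (nat_lit 32) (nat_lit 0x40400fed00000000c06361e5000000004c823db200000000716c28350000000042e10016) (Net.cons (nat_lit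 64) (nat_lit 0x67a363630000000000000000850070a894a6108200000000000000008400200180000000) (Net.cons (nat_lit 128) (nat_lit 0x821ecef9e00025080410503c7ca1abc6) (Net.cons (nat_lit 256) (nat_lit 0x7bf92d2cfc3b723ffcf3efdf) (Net.cons (nat_lit 128) (nat_lit 0x3c727b4d73597d3d4495c808) (Net.cons (nat_lit 64) (nat_lit 0xc2dc49300000000000000001c5208a4a0457bf800000000000000008d692390f29b6c61) (Net.cons (nat_lit 32) (nat_lit 0x4ba6614c00000000a9c596710000000070c37794000000008a038814000000003ebadd11) (Net.cons (nat_lit 16) (nat_lit 0x5fb2000027090000179a0000d67e00003e6f0000d70800004a44000007310000a7c8000062860000f459) (Net.cons (nat_lit 8) (nat_lit 0x5800300086002c00e200f500d3002f00bd00e5006a00f200d5002000d20040008600f200f400320049007e) (Net.cons (nat_lit 4) (nat_lit 0xb090f070a000e0003080b0c0c050706070d0005040b0e02030e0c05010c0007010106000c0c020d00050e) (Net.cons (nat_lit 2) (nat_lit 0x1233113300301001202230122230001030231231210012030213033333020330113013010333112030320232) (Net.cons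 (nat_lit 1) (nat_lit 0x44001554415410115011501454041541004104014040550150154050440151011400051440015504045154) Net.nil)))))))))))))))))

theorem o_g534_ok : Net.ok 351 o_g534 = true := by decide +kernel

noncomputable def o_g535 : Net := (Net.cons (nat_lit 1) (nat_lit 0x14100054440404111010115511010011005514101044544501000444040001011010000000000004004000) (Net.cons (nat_lit 2) (nat_lit 0x1212202121200202313003123011130120212111310202002000022200000032000011300000011000000000) (Net.cons (nat_lit 4) (nat_lit 0x20208090c010202030b0a03080b04050207060008020c0805000a0106040800040204050d08000005080000) (Net.cons (nat_lit 8) (nat_lit 0x220071002a00b700f8007800b60016008e009c00b800820061000500600030002600060000000800800000) (Net.cons (nat_lit 16) (nat_lit 0x45640000a7d200003286000022300000851400008b530000009200002008000024020000000000000000) (Net.cons (nat_lit 32) (nat_lit 0x40f8b19700000000d898e15000000000900046830000000004c10a0c0000000000000c42) (Net.cons (nat_lit 64) (nat_lit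 0x28e56f43000000000000000010924152a31ca80e0000000000000000e020809080000000) (Net.cons (nat_lit 128) (nat_lit 0xc40d1c34d00144000082000300188008) (Net.cons (nat_lit 256) (nat_lit 0x72cf7fcde4f7b293c8b8844a) (Net.cons (nat_lit 128) (nat_lit 0x5d81845210124d433e05ea9d) (Net.cons (nat_lit 64) (nat_lit 0x21e96767000000000000000010924152af1ca80e0000000000000000e02480908c8c0000) (Net.cons (nat_lit 32) (nat_lit 0xc06cb19700000000d848e35400000000d0c247930000000084c10a080000000000940c52) (Net.cons (nat_lit 16) (nat_lit 0x4d600000a7f600003a86000022340000851000008b73000002b20000a08c000024060000000000000004) (Net.cons (nat_lit 8) (nat_lit 0x2a0071002a00b7007800b800be0056008e009c00b8008a0061000500e000b0002600460000000800880000) (Net.cons (nat_lit 4) (nat_lit 0x20a08090c010202030b0a0b080b04050207060008020c0805000a0106040000040204050d0800000d080000) (Net.cons (nat_lit 2) (nat_lit 0x1212202121200202313003123011130120212111310202002000022200000032000011300000011000000000) (Net.cons (nat_lit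 1) (nat_lit 0x14100054440404111110115511010011005514101044544501000444040001011010000000100004004000) Net.nil)))))))))))))))))

theorem o_g535_ok : Net.ok 351 o_g535 = true := by decide +kernel

noncomputable def o_g536 : Net := (Net.cons (nat_lit 1) (nat_lit 0x5515111510011041040100454140145044050551105455151155410411041544511500100445455040114) (Net.cons (nat_lit 2) (nat_lit 0x211322320113320210123302022330201011120322221011213300331102332003111300120132011123202) (Net.cons (nat_lit 4) (nat_lit 0x1090f000f040b0903050407020a0303070a01050f07070f07090601040c0c080d030d0b0006070008050900) (Net.cons (nat_lit 8) (nat_lit 0x79007500c800e1008e008e00a5007900b20025009b00f000850014006700e80080008c00f4008700730000) (Net.cons (nat_lit 16) (nat_lit 0x13d00004fac0000a62400005597000019dd000030c700000d2b000040800000ba060000110a00000000) (Net.cons (nat_lit 32) (nat_lit 0xa618c62f00000000172a0034000000003085ba6400000000a24045b5000000000319c612) (Net.cons (nat_lit 64) (nat_lit 0x1290121000000000000000000d22272ae107411c000000000000000099f8668280000000)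 (Net.cons (nat_lit 128) (nat_lit 0xbe94d25e5110480df051276b96a49833) (Net.cons (nat_lit 256) (nat_lit 0x7b7cca3df9fff7fb96e6be3f) (Net.cons (nat_lit 128) (nat_lit 0x27d2201cd3ba8bbb110daf48) (Net.cons (nat_lit 64) (nat_lit 0x1103a66f00000000000000006e4369421088940b0000000000000000dae479f90d794cd3) (Net.cons (nat_lit 32) (nat_lit 0xae8e487b0000000044e63d4a00000000efa63c04000000005fdd3d3f000000003bfe7555) (Net.cons (nat_lit 16) (nat_lit 0x1c52000082b50000b63400009c2f0000ad39000086b80000ba0c0000e77b00009c800000ad4c000081ba) (Net.cons (nat_lit 8) (nat_lit 0x22002c0099003f009e0097006e00e5005000d500fb00240003003a004e00cd0032008e00ac00d400c200c0) (Net.cons (nat_lit 4) (nat_lit 0x30403020b0b0208030e0d0e010e01000f0904060b05050b0b080a0e0d01050c030d030e0003040f0302060a) (Net.cons (nat_lit 2) (nat_lit 0x220102203200313221033022022133332120122103101300301212212201303223220201333131312302321) (Net.cons (nat_lit 1) (nat_lit 0x1045115015145101054541051401411455440010541104504151440444054504140411151145544414515004)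 Net.nil)))))))))))))))))

theorem o_g536_ok : Net.ok 351 o_g536 = true := by decide +kernel

noncomputable def ot_c40_K : List Net := [o_g534, o_g535, o_g536]

theorem ot_c40_K_ok : okE 351 ot_c40_K = true := (okE_cons.2 ⟨o_g534_ok, (okE_cons.2 ⟨o_g535_ok, (okE_cons.2 ⟨o_g536_ok, (okE_nil 351)⟩)⟩)⟩)

noncomputable def ot_c40_cnt_EG : List Net := [o_b, o_c, o_d, o_e, o_f, o_g, o_h, o_i, o_g1, o_g2, o_g3, o_g4, o_g5, o_g8, o_g9, o_g12, o_g13, o_g14, o_g17, o_g18, o_g19, o_g20, o_g23, o_g24, o_g25, o_g26, o_g27, o_g30, o_g31, o_g32, o_g35, o_g295, o_g296, o_g297, o_g298]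

theorem ot_c40_cnt_EG_ok : okE 351 ot_c40_cnt_EG = true := (okE_cons.2 ⟨o_b_ok, (okE_cons.2 ⟨o_c_ok, (okE_cons.2 ⟨o_d_ok, (okE_cons.2 ⟨o_e_ok, (okE_cons.2 ⟨o_f_ok, (okE_cons.2 ⟨o_g_ok, (okE_cons.2 ⟨o_h_ok, (okE_cons.2 ⟨o_i_ok, (okE_cons.2 ⟨o_g1_ok, (okE_cons.2 ⟨o_g2_ok, (okE_cons.2 ⟨o_g3_ok, (okE_cons.2 ⟨o_g4_ok, (okE_cons.2 ⟨o_g5_ok, (okE_cons.2 ⟨o_g8_ok, (okE_cons.2 ⟨o_g9_ok, (okE_cons.2 ⟨o_g12_ok, (okE_cons.2 ⟨o_g13_ok, (okE_cons.2 ⟨o_g14_ok, (okE_cons.2 ⟨o_g17_ok, (okE_cons.2 ⟨o_g18_ok, (okE_cons.2 ⟨o_g19_ok, (okE_cons.2 ⟨o_g20_ok, (okE_cons.2 ⟨o_g23_ok, (okE_cons.2 ⟨o_g24_ok, (okE_cons.2 ⟨o_g25_ok, (okE_cons.2 ⟨o_g26_ok, (okE_cons.2 ⟨o_g27_ok, (okE_cons.2 ⟨o_g30_ok, (okE_cons.2 ⟨o_g31_ok, (okE_cons.2 ⟨o_g32_ok, (okE_cons.2 ⟨o_g35_ok, (okE_cons.2 ⟨o_g295_ok, (okE_cons.2 ⟨o_g296_ok, (okE_cons.2 ⟨o_g297_ok, (okE_cons.2 ⟨o_g298_ok, (okE_nil 351)⟩)⟩)⟩)⟩)⟩)⟩)⟩)⟩)⟩)⟩)⟩)⟩)⟩)⟩)⟩)⟩)⟩)⟩)⟩)⟩)⟩)⟩)⟩)⟩)⟩)⟩)⟩)⟩)⟩)⟩)⟩)⟩)⟩)⟩)⟩)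

noncomputable def o_g538 : Net := (Net.cons (nat_lit 1) (nat_lit 0x1104150450115551500014150045141415154100100550451044554515511504450400415055455050550004) (Net.cons (nat_lit 2) (nat_lit 0x1112023013012130113210222110200011322331231230022300211202130103003303032130130012103000) (Net.cons (nat_lit 4) (nat_lit 0x1020d0700050c090c06030207080802040e010c070f0f060a050c00000500050c030e09080f08020b0a0f00) (Net.cons (nat_lit 8) (nat_lit 0x5c00030035000700b000ac003e006f002400d000c600ad00ee008000a100ae00cc00720011000000000080) (Net.cons (nat_lit 16) (nat_lit 0x71510000c81a0000029a0000152a0000869c000081220000c19000009394000034650000da7100008000) (Net.cons (nat_lit 32) (nat_lit 0x7d329ad7000000003c2e2268000000007d110b9100000000390051690000000063235282) (Net.cons (nat_lit 64) (nat_lit 0x3309b131000000000000000069183841ae0345400000000000000000021a821a00000000) (Net.cons (nat_lit 128) (nat_lit 0x58bb3e72103909845d1544a3c600f2d0) (Net.cons (nat_lit 256) (nat_lit 0x3c7f0bec5fdffeffc769fbd7)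 (Net.cons (nat_lit 128) (nat_lit 0x721fdbdb71f5028b9f50cc20) (Net.cons (nat_lit 64) (nat_lit 0x40f648f20000000000000000101afb90151a6a240000000000000000d811c7c631913418) (Net.cons (nat_lit 32) (nat_lit 0x34e4421e00000000e5bc267100000000f156c74b000000009581f00500000000d4770766) (Net.cons (nat_lit 16) (nat_lit 0x6f810000f6c20000e2d400003979000012e20000f5c20000ad4c0000f0060000c7a400005c2b0000f261) (Net.cons (nat_lit 8) (nat_lit 0x20007002600f800c700cc007f00d700a800c5008d009c001e006d00bd0021006c00df006a005f00160079) (Net.cons (nat_lit 4) (nat_lit 0x30d000f0c03000e0707040a0f0b09090d0d0105030707080f020f07050f0408050e010e03080e020c020503) (Net.cons (nat_lit 2) (nat_lit 0x1332322310021333021031120312213010312230122313210002221013211303003222133221030103202121) (Net.cons (nat_lit 1) (nat_lit 0x1401015450504500404144401544415451545451110005541151144104015454505110410450450544514551) Net.nil)))))))))))))))))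

theorem o_g538_ok : Net.ok 351 o_g538 = true := by decide +kernel

noncomputable def o_g539 : Net := (Net.cons (nat_lit 1) (nat_lit 0x1500414544050004555544401401004001540105011510445010505015040051514150151115011411410110) (Net.cons (nat_lit 2) (nat_lit 0x1023131320132001220022012113300002023102112211211300201123223321020200013202023300111100) (Net.cons (nat_lit 4) (nat_lit 0x10d0d03090c0b050a0803080402040b0e07010a0d01010907080c0c000e050a000e030a06060b0204020100) (Net.cons (nat_lit 8) (nat_lit 0x2e009f0050008300ca0004000600df00d20059008c00ca006b00010008005100e20047000d00ad00240000) (Net.cons (nat_lit 16) (nat_lit 0x7300000015800000204300008f690000b3890000832a0000811c0000f1500000213d0000069e00008000) (Net.cons (nat_lit 32) (nat_lit 0x6911eec90000000049b8e7b900000000158090b200000000d5fc40190000000026181189) (Net.cons (nat_lit 64) (nat_lit 0x6b226d0000000000000000025caa27581620c8000000000000000003430081e00000000) (Net.cons (nat_lit 128) (nat_lit 0xa346ec22091075084f2c829480840a8a)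 (Net.cons (nat_lit 256) (nat_lit 0x2911fdd9ffbdbf9ff6be1a9f) (Net.cons (nat_lit 128) (nat_lit 0x5685ec53d88888c35476758f) (Net.cons (nat_lit 64) (nat_lit 0x76cedcd700000000000000002a25cc77d9483572000000000000000096d023296dbfd3ed) (Net.cons (nat_lit 32) (nat_lit 0x4e1d6e0800000000b57f9f30000000009e235b0b0000000041c829ef000000003f762658) (Net.cons (nat_lit 16) (nat_lit 0x30cb0000e1040000adf70000663400007da9000004860000ab010000de35000088970000cd080000c8f2) (Net.cons (nat_lit 8) (nat_lit 0x3f00c600a500fc006d002d00150092007600a900bd00c800c9004c00e100d3006500c500e000dc000b0087) (Net.cons (nat_lit 4) (nat_lit 0x50202030c080600070f0a000e010e0e000502000307060e0b090a0800080308000f01020a00050608010104) (Net.cons (nat_lit 2) (nat_lit 0x312221333102313123023003201200222311132323133330030002020101033312223110113013202312332) (Net.cons (nat_lit 1) (nat_lit 0x14151500051004100455504151441545514405145441441014545015414141044100150405050551514505) Net.nil)))))))))))))))))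

theorem o_g539_ok : Net.ok 351 o_g539 = true := by decide +kernel

noncomputable def o_g540 : Net := (Net.cons (nat_lit 1) (nat_lit 0x141015414504454015004404155010045114140511500415404555401011405054015000010400514054000) (Net.cons (nat_lit 2) (nat_lit 0x1223223100020211332213303222200210100322111121003001133220100002100031110110010111002000) (Net.cons (nat_lit 4) (nat_lit 0x6030b0a04050e080e0e09080201080c02000a0f0f0b0005050b0a02040a010f0401040a0405000009000900) (Net.cons (nat_lit 8) (nat_lit 0x2f00f80056008c00c20038008700a000ad008200440089001f00aa006e00c4005c00d0001b002800200000) (Net.cons (nat_lit 16) (nat_lit 0x480e00001b0a00002b340000812a0000b2610000966e0000c52200002429000055120000100000000000) (Net.cons (nat_lit 32) (nat_lit 0xab4942b100000000aa45691e0000000011c05477000000000880213c0000000009804008) (Net.cons (nat_lit 64) (nat_lit 0x2a8802440000000000000000950844b20a0078d00000000000000000c244c03000000000) (Net.cons (nat_lit 128) (nat_lit 0xa5eb67f808485e5c902b4028218c0401)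 (Net.cons (nat_lit 256) (nat_lit 0x1bef5f7df3efd03eb1ad5d75) (Net.cons (nat_lit 128) (nat_lit 0xf96740ad028616b2c5b8cd7) (Net.cons (nat_lit 64) (nat_lit 0x77374bb000000000000000009f1d45b69bde71e400000000000000009a15c97011f5493c) (Net.cons (nat_lit 32) (nat_lit 0xa34a4ab100000000aa45f95e0000000011c15e35000000004881617c0000000009c0404a) (Net.cons (nat_lit 16) (nat_lit 0x4a6e00007749000023740000c56a0000b2230000d66d0000dda00000646900009512000052420000206a) (Net.cons (nat_lit 8) (nat_lit 0x6f00f80054008c00c200b8008700a000af008200040089001500aa006e00c4005c00d2001f00e800200000) (Net.cons (nat_lit 4) (nat_lit 0x6030b0a04050e080e0e09080201080c02020a0f0f0b0005050b0a02040a010f0401060a0405000009000900) (Net.cons (nat_lit 2) (nat_lit 0x1223221100022211132213303222200210100322111121023221133220100002120031110110010111002000) (Net.cons (nat_lit 1) (nat_lit 0x141015414504454015004404155010045114140511500415404555401011405054015000010400514054000) Net.nil)))))))))))))))))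

theorem o_g540_ok : Net.ok 351 o_g540 = true := by decide +kernel

noncomputable def o_g541 : Net := (Net.cons (nat_lit 1) (nat_lit 0x455015154505511041110040154040440541440111100010000001000005004004001404044004000540500) (Net.cons (nat_lit 2) (nat_lit 0x1330021011001320232030223001220100310300110003020001000000103201102011212310200012001000) (Net.cons (nat_lit 4) (nat_lit 0x4000609080f05060a0206020a000b00070308040405080800000001020000030c0b090004010004020400) (Net.cons (nat_lit 8) (nat_lit 0x4f006c00fd00c000540001003200b2005900380080002000100000001200cd005800a10006000000940000) (Net.cons (nat_lit 16) (nat_lit 0x32500000afb30000e40b0000a300000091bc000010800000000000002000000035000000000000000000) (Net.cons (nat_lit 32) (nat_lit 0x38e7003100000000204e99cd000000008312009000000000005c25210000000000000000) (Net.cons (nat_lit 64) (nat_lit 0x118020910000000000000000002600408000000000000000000000008000000000000000) (Net.cons (nat_lit 128) (nat_lit 0x7044300977f76470e58090f8)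 (Net.cons (nat_lit 256) (nat_lit 0x70443009f7f76470e58090f8) (Net.cons (nat_lit 128) (nat_lit 0x7044300977f76470e58090f8) (Net.cons (nat_lit 64) (nat_lit 0x7b923c9b0000000000000000910699eef03a10090000000000000000994c2daf00900000) (Net.cons (nat_lit 32) (nat_lit 0x24e708b100000000304f9bcd000000009792801000000000255c34610000000000000000) (Net.cons (nat_lit 16) (nat_lit 0x3ad00000a7a20000ec2b0000e322000091bc000010220000018100002b000000bc1000000b100000d24e) (Net.cons (nat_lit 8) (nat_lit 0x4f006e00fd00c100d60001003200b300d90038008000a000110081001200cd005800a10026004000960002) (Net.cons (nat_lit 4) (nat_lit 0x4000608080f04060a0206020a000b00070308040405080900000001020004030c0b090004010004020400) (Net.cons (nat_lit 2) (nat_lit 0x1330021011001320232030223001220100310300110003020001000000103201102011212310200012001000) (Net.cons (nat_lit 1) (nat_lit 0x455015154505511041110040154040440541440111100010000001000005004004001404044004000540500) Net.nil)))))))))))))))))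

theorem o_g541_ok : Net.ok 351 o_g541 = true := by decide +kernel

noncomputable def ot_c41_K : List Net := [o_g538, o_g539, o_g540, o_g541]

theorem ot_c41_K_ok : okE 351 ot_c41_K = true := (okE_cons.2 ⟨o_g538_ok, (okE_cons.2 ⟨o_g539_ok, (okE_cons.2 ⟨o_g540_ok, (okE_cons.2 ⟨o_g541_ok, (okE_nil 351)⟩)⟩)⟩)⟩)

noncomputable def o_g543 : Net := (Net.cons (nat_lit 1) (nat_lit 0x1141150010114041415100451551405554055451054014404400111454514050015511154101555500014050) (Net.cons (nat_lit 2) (nat_lit 0x121210113233121111022333203030210211311220310122200010020103033211333001233020230101000) (Net.cons (nat_lit 4) (nat_lit 0x501020e010208000006030b04010d010d0c0b07060803070c0b0a000909090a0206090a0f09020e0a050900) (Net.cons (nat_lit 8) (nat_lit 0x78001500e800c4006f009e0006000e0070007d0086002e0052000d00a400d10066007c00c0008d00a80000) (Net.cons (nat_lit 16) (nat_lit 0x4bb2000041a4000083bc000085280000b303000072eb0000de050000815f000015880000b70500000000) (Net.cons (nat_lit 32) (nat_lit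 0x3cd1b61800000000d07885f000000000c704cb5800000000a54e1300000000004a068b44) (Net.cons (nat_lit 64) (nat_lit 0x622454ce0000000000000000cc89f44825ceaf6600000000000000008010110500000000) (Net.cons (nat_lit 128) (nat_lit 0x5af1780b043100b009a6f36c01c8241d) (Net.cons (nat_lit 256) (nat_lit 0x3e79f5f5abbffffdd7dc243f) (Net.cons (nat_lit 128) (nat_lit 0xb2ebe95974c547af95021fb) (Net.cons (nat_lit 64) (nat_lit 0x63fcf3e000000000000000008ea80b927d24ae90000000000000000956a5cdf0ac60862) (Net.cons (nat_lit 32) (nat_lit 0x862d855600000000508528e90000000073478c3b000000002bdf3edb0000000017690bb4) (Net.cons (nat_lit 16) (nat_lit 0x3b3c0000c9e800007fb0000016d70000731b000002ce00003d130000de350000c73f000001d3000086f0) (Net.cons (nat_lit 8) (nat_lit 0x6f004a001300f700930051008c0092005000bd00a6007b001a0068005300520090005700320076009d0002) (Net.cons (nat_lit 4) (nat_lit 0x30604060908060f0301050a0f0604010208050a010c0703060f0c060c0206050d0d070b08090e0703000102) (Net.cons (nat_lit 2) (nat_lit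 0x213231022131311331312233023201301012201120031212220001100032101220102232003122331231010) (Net.cons (nat_lit 1) (nat_lit 0x1511154404555451150144500005454501400110504501140440100001045155541404451005044100450040) Net.nil)))))))))))))))))

theorem o_g543_ok : Net.ok 351 o_g543 = true := by decide +kernel

noncomputable def o_g544 : Net := (Net.cons (nat_lit 1) (nat_lit 0x1005140005010051010040140540100105015544100440000500404110410044041040100000100000000400) (Net.cons (nat_lit 2) (nat_lit 0x131112002203120110100202131103313213121221132030311321113120210200000000000000010100) (Net.cons (nat_lit 4) (nat_lit 0x10a060e02040a0302030800000b0c050606090209060c0d0d04050f0508010e020103000908000800000000) (Net.cons (nat_lit 8) (nat_lit 0x5500cd000a0090006a0051000000c100c2000200a100c0006400ae0041001c00cc00020010000000000000) (Net.cons (nat_lit 16) (nat_lit 0x4c5d0000711f00006265000002d10000c3830000a2910000068700004c88000001000000800100000000) (Net.cons (nat_lit 32) (nat_lit 0x50a422000000000894809030000000070846130000000004c5118080000000000608608)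 (Net.cons (nat_lit 64) (nat_lit 0x82aa61400000000000000004c2d1d7881088c1000000000000000000001010000000000) (Net.cons (nat_lit 128) (nat_lit 0xcdfd6dfe80020011000020060c006004) (Net.cons (nat_lit 256) (nat_lit 0x444b591b010123764c26e756) (Net.cons (nat_lit 128) (nat_lit 0xb10e4a5a0d030871e1b281c) (Net.cons (nat_lit 64) (nat_lit 0x828e60400000000000000004c3d1ff8e14acf0000000000000000000011018000024010) (Net.cons (nat_lit 32) (nat_lit 0x3d0aca710000000089490f030000000070856730000000004c511c080000000000618658) (Net.cons (nat_lit 16) (nat_lit 0x4c5d0000791f00006a65000002f10000c3830000a6910000968700004c88000085000000800100000000) (Net.cons (nat_lit 8) (nat_lit 0x5500cd000a0090006e0051000000c100c2000200a100c8006400af0041001c00cc000a0010000100000000) (Net.cons (nat_lit 4) (nat_lit 0x10a060e02040a0302030800000b0c050606090a09060c0d0d04050f0508010e020103000908000800000000) (Net.cons (nat_lit 2) (nat_lit 0x131112002203120110100202131103313213121221132030311321113120210200000000000000010100)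 (Net.cons (nat_lit 1) (nat_lit 0x1005140005010051010041140540100105015544100440000500404110410044041040100000100000000400) Net.nil)))))))))))))))))

theorem o_g544_ok : Net.ok 351 o_g544 = true := by decide +kernel

noncomputable def o_V545 : List Net := [o_g543, o_g30, o_g544]

theorem o_V545_ok : okE 351 o_V545 = true := (okE_cons.2 ⟨o_g543_ok, (okE_cons.2 ⟨o_g30_ok, (okE_cons.2 ⟨o_g544_ok, (okE_nil 351)⟩)⟩)⟩)

noncomputable def o_V547 : List Net := [o_g30, o_g544]

theorem o_V547_ok : okE 351 o_V547 = true := (okE_cons.2 ⟨o_g30_ok, (okE_cons.2 ⟨o_g544_ok, (okE_nil 351)⟩)⟩)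

noncomputable def o_V548 : List Net := [o_g544]

theorem o_V548_ok : okE 351 o_V548 = true := (okE_cons.2 ⟨o_g544_ok, (okE_nil 351)⟩)

noncomputable def o_V549 : List Net := []

theorem o_V549_ok : okE 351 o_V549 = true := (okE_nil 351)

noncomputable def ot_c41_cnt_EG : List Net := [o_g8, o_g9, o_g12, o_g13, o_g14, o_g17, o_g18, o_g19, o_g20, o_g23, o_g24, o_g25, o_g26, o_c, o_g27, o_g30, o_g31, o_g32, o_g, o_g35, o_g1, o_g2, o_g3, o_g4, o_g5, o_b, o_d, o_e, o_f, o_h, o_i, o_g295, o_g296, o_g297, o_g298, o_g543, o_g544]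

theorem ot_c41_cnt_EG_ok : okE 351 ot_c41_cnt_EG = true := (okE_cons.2 ⟨o_g8_ok, (okE_cons.2 ⟨o_g9_ok, (okE_cons.2 ⟨o_g12_ok, (okE_cons.2 ⟨o_g13_ok, (okE_cons.2 ⟨o_g14_ok, (okE_cons.2 ⟨o_g17_ok, (okE_cons.2 ⟨o_g18_ok, (okE_cons.2 ⟨o_g19_ok, (okE_cons.2 ⟨o_g20_ok, (okE_cons.2 ⟨o_g23_ok, (okE_cons.2 ⟨o_g24_ok, (okE_cons.2 ⟨o_g25_ok, (okE_cons.2 ⟨o_g26_ok, (okE_cons.2 ⟨o_c_ok, (okE_cons.2 ⟨o_g27_ok, (okE_cons.2 ⟨o_g30_ok, (okE_cons.2 ⟨o_g31_ok, (okE_cons.2 ⟨o_g32_ok, (okE_cons.2 ⟨o_g_ok, (okE_cons.2 ⟨o_g35_ok, (okE_cons.2 ⟨o_g1_ok, (okE_cons.2 ⟨o_g2_ok, (okE_cons.2 ⟨o_g3_ok, (okE_cons.2 ⟨o_g4_ok, (okE_cons.2 ⟨o_g5_ok, (okE_cons.2 ⟨o_b_ok, (okE_cons.2 ⟨o_d_ok, (okE_cons.2 ⟨o_e_ok, (okE_cons.2 ⟨o_f_ok, (okE_cons.2 ⟨o_h_ok, (okE_cons.2 ⟨o_i_ok, (okE_cons.2 ⟨o_g295_ok, (okE_cons.2 ⟨o_g296_ok, (okE_cons.2 ⟨o_g297_ok, (okE_cons.2 ⟨o_g298_ok, (okE_cons.2 ⟨o_g543_ok, (okE_cons.2 ⟨o_g544_ok, (okE_nil 351)⟩)⟩)⟩)⟩)⟩)⟩)⟩)⟩)⟩)⟩)⟩)⟩)⟩)⟩)⟩)⟩)⟩)⟩)⟩)⟩)⟩)⟩)⟩)⟩)⟩)⟩)⟩)⟩)⟩)⟩)⟩)⟩)⟩)⟩)⟩)⟩)⟩)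

noncomputable def o_g550 : Net := (Net.cons (nat_lit 1) (nat_lit 0x1515155051150540140504140515405501551155040411051000415554454455511504111414545101400445) (Net.cons (nat_lit 2) (nat_lit 0x202033000110330201021112330121312013120003131232133003323223323203220222013033220302010) (Net.cons (nat_lit 4) (nat_lit 0x50e06030b0e010b010d030b080f0d01030c0c0a08060b0a000f0d02080d0a0b01050e0f020a070805080100) (Net.cons (nat_lit 8) (nat_lit 0x160006002900ca003e001200d800cd003400c800b2005e00cb00e1000100fe006600f50018008500740080) (Net.cons (nat_lit 16) (nat_lit 0x4cef00009401000097d40000b326000010ae0000e8d60000f0c50000e42b0000524e0000023000008000) (Net.cons (nat_lit 32) (nat_lit 0x217e87d2000000003c40c2000000000027a1c1d50000000037454102000000002109216d) (Net.cons (nat_lit 64) (nat_lit 0x302848000000000000000091d4248e73c0d1100000000000000000c540002480000000) (Net.cons (nat_lit 128) (nat_lit 0x8842a23510608c31b189749b42b263c4) (Net.cons (nat_lit 256) (nat_lit 0x52e9edb5fdc9fcbfd6bffffd)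 (Net.cons (nat_lit 128) (nat_lit 0x62f92bed2b703e0f701ec64) (Net.cons (nat_lit 64) (nat_lit 0x21a4760f000000000000000004834d32e56bfcdb0000000000000000d7cc0340faf530fb) (Net.cons (nat_lit 32) (nat_lit 0x14c7bde8000000001eaca97000000000976110b800000000518c4d3c00000000f78127a9) (Net.cons (nat_lit 16) (nat_lit 0x4c8f0000f80e0000237b000098dd0000c0c40000a62100002dcc00007b480000b24c00004ca50000e4c3) (Net.cons (nat_lit 8) (nat_lit 0x4e009f002b00a9002a00ec00b300ea002c00b90070002100df00c6004800f700e30053002f009c00480002) (Net.cons (nat_lit 4) (nat_lit 0x10a0d0e040209090601060808030b070b000c0f0b0a0805080c03050c0d020006050a050a090f01010c0708) (Net.cons (nat_lit 2) (nat_lit 0x30212113011031320231002123331330210103230113123211212200030220200103332013313132033301) (Net.cons (nat_lit 1) (nat_lit 0x1505141550411544114445555045555050554454455101404014140451155005415155401501040114005515) Net.nil)))))))))))))))))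

theorem o_g550_ok : Net.ok 351 o_g550 = true := by decide +kernel

noncomputable def o_g551 : Net := (Net.cons (nat_lit 1) (nat_lit 0x1514441141151514141554445041101040041140411404550115140105514551044450150505404440515001) (Net.cons (nat_lit 2) (nat_lit 0x1221201222210103201212123312212113210002223031110113310023131011332012000010201222001322) (Net.cons (nat_lit 4) (nat_lit 0x10d00040001080e040008090d0a090304090a04010d0e0503060b040001090b00090d090a04070506060800) (Net.cons (nat_lit 8) (nat_lit 0x36002400a9003000fb000b00a3008b00090071004d00e0000000e90014004f001000c100c4001a00000000) (Net.cons (nat_lit 16) (nat_lit 0x79e90000408200000b5d00007d29000073d5000041f50000c2090000c5e100008104000091a200000000) (Net.cons (nat_lit 32) (nat_lit 0x3578a85100000000390527e10000000035c8705700000000d16843d50000000004026009) (Net.cons (nat_lit 64) (nat_lit 0x4a0d4e350000000000000000fb04214a894305f400000000000000003108804900000000) (Net.cons (nat_lit 128) (nat_lit 0xbb3a158e61089804b6844062080368b1)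 (Net.cons (nat_lit 256) (nat_lit 0x77799cfebfcec46f29b76ab1) (Net.cons (nat_lit 128) (nat_lit 0x1f1ce5df487e895c408612e) (Net.cons (nat_lit 64) (nat_lit 0x4462e1f20000000000000000375de0f2d4303f060000000000000000ae1c9a1cb79b41dc) (Net.cons (nat_lit 32) (nat_lit 0xc8b06867000000001c808557000000002e62ce5900000000fe8e8471000000003550fc8e) (Net.cons (nat_lit 16) (nat_lit 0x34fb0000d1550000eb800000a56d0000965a00009f4d0000aca70000b2c800008e0a000056240000fe45) (Net.cons (nat_lit 8) (nat_lit 0x49003d008a002100d8009900f4005c00a400b7004b00ec007c005800b000a80006007a00a1000200d300d4) (Net.cons (nat_lit 4) (nat_lit 0x5060e0a0e040403050509020e050a040b05020c02010d0d00000b08060b030c07050905000100010309070d) (Net.cons (nat_lit 2) (nat_lit 0x1203121023000020333210233133213313121020231213310020002322212200032200223021121012301033) (Net.cons (nat_lit 1) (nat_lit 0x1554044151515504150100005115500114445041451115410001540414445550001010510055015444541515) Net.nil)))))))))))))))))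

theorem o_g551_ok : Net.ok 351 o_g551 = true := by decide +kernel

noncomputable def o_g552 : Net := (Net.cons (nat_lit 1) (nat_lit 0x1000550445014505040504500011454441540544444541101401045114500055105041104114045401511010) (Net.cons (nat_lit 2) (nat_lit 0x1302003320300220032110032331131003333201033121221213210032021000020100222201132331010200) (Net.cons (nat_lit 4) (nat_lit 0x50102060b0d0b0102070502030502000b040c05000709050d0b0804050502030207020c0f020802050d00) (Net.cons (nat_lit 8) (nat_lit 0x5400a800dd003e00fd00f5005500f7000300c4000f008600d1001a00ae006a001c00700012001200680000) (Net.cons (nat_lit 16) (nat_lit 0x11f20000140200002bd50000d7530000757a0000c5be000018d20000201c0000ae600000e43000000000) (Net.cons (nat_lit 32) (nat_lit 0x5e7a27ae00000000240d30f5000000005a0c25590000000050d2993a000000001080c1d8) (Net.cons (nat_lit 64) (nat_lit 0x28391a9d0000000000000000fa23a3c380d3c80a0000000000000000b1b40d0e00000000) (Net.cons (nat_lit 128) (nat_lit 0x869e1aa8902c90e109734134cc1f4018)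 (Net.cons (nat_lit 256) (nat_lit 0x732eb6e1fdf75f3efd3fdafe) (Net.cons (nat_lit 128) (nat_lit 0x38700bed70dbf04b499e353b) (Net.cons (nat_lit 64) (nat_lit 0x2ab3e51f0000000000000000b760dd0b5362ad1c0000000000000000c9d09a4bdf01c65f) (Net.cons (nat_lit 32) (nat_lit 0xd18b6ec200000000047f506f00000000093ff040000000005adbfb3400000000cecdffd1) (Net.cons (nat_lit 16) (nat_lit 0x2f840000575a0000719e00008b290000b28600007ca40000749d0000cb1b0000646f000013e40000fc79) (Net.cons (nat_lit 8) (nat_lit 0x2600180025001d00ea00230080002800da00e400ea0022002700f500590089009400a30085004d0064000b) (Net.cons (nat_lit 4) (nat_lit 0x100060c0f060c010f0304050e050b0b0502070905040e0e070c0d0e04070c07030e000c0d070e0e0f030000) (Net.cons (nat_lit 2) (nat_lit 0x1023330201120302220033102131213111310302102202300223003323332203132233231021202002320003) (Net.cons (nat_lit 1) (nat_lit 0x1141154454415514540144544451000151554005114411440151445154444050100015005055110104455400) Net.nil)))))))))))))))))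

theorem o_g552_ok : Net.ok 351 o_g552 = true := by decide +kernel

noncomputable def o_g553 : Net := (Net.cons (nat_lit 1) (nat_lit 0x410415010045504540454041540010551515411541050541145151141151551010014040141501110040005) (Net.cons (nat_lit 2) (nat_lit 0x1211032000230021110303201021113310220212223132023233302130032233111023332003112120020022) (Net.cons (nat_lit 4) (nat_lit 0x10c0802080905070102020108040b0d060a0c0906000404090e0c0c040806070c0302000b020a090e0b0100) (Net.cons (nat_lit 8) (nat_lit 0x4300b8002500f800f800db00e3008700bd0030001600dc00c4005e006b009f00ad008e00a0000200460000) (Net.cons (nat_lit 16) (nat_lit 0x72940000371b00001f170000e81200009efc000008c200002f140000614e0000501e0000900000000000) (Net.cons (nat_lit 32) (nat_lit 0x45def3030000000013a4a21f000000009a8961b10000000018e60618000000000d8440d4) (Net.cons (nat_lit 64) (nat_lit 0x124090dc0000000000000000468d201002c804db00000000000000006410a06700000000) (Net.cons (nat_lit 128) (nat_lit 0x54abddf4864489a83c10c048348a0522)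 (Net.cons (nat_lit 256) (nat_lit 0x2ef5fbaafc95fb7f35bb77fe) (Net.cons (nat_lit 128) (nat_lit 0x46313be00e26a9c9fa93c33f) (Net.cons (nat_lit 64) (nat_lit 0x13dcbade00000000000000004a0379985154a4d90000000000000000c09dd6f7cbf15082) (Net.cons (nat_lit 32) (nat_lit 0xe11a6a8300000000d8986e7000000000ab6ba5c900000000a0a864580000000001420edc) (Net.cons (nat_lit 16) (nat_lit 0x56140000be130000c3250000bd0a000097e600008008000065b3000087ff000037de0000460a00008a10) (Net.cons (nat_lit 8) (nat_lit 0x59001e00b7005d006a003d00e100620004003a00eb006d0095009c00b2007b00af00780049009a00cc009a) (Net.cons (nat_lit 4) (nat_lit 0x901050a0b000a03080c0f000d0b0a0a000c010c030c0a0009010e0d0a09030b03070608040a0b060c0705) (Net.cons (nat_lit 2) (nat_lit 0x1333033302110022310331013230233202221211321033312312020033201122113211333020132100322033) (Net.cons (nat_lit 1) (nat_lit 0x141404010504544041044045144110551501414414110040101551111451105140000144140510450140105) Net.nil)))))))))))))))))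

theorem o_g553_ok : Net.ok 351 o_g553 = true := by decide +kernel

noncomputable def ot_c42_K : List Net := [o_g550, o_g551, o_g552, o_g553]

theorem ot_c42_K_ok : okE 351 ot_c42_K = true := (okE_cons.2 ⟨o_g550_ok, (okE_cons.2 ⟨o_g551_ok, (okE_cons.2 ⟨o_g552_ok, (okE_cons.2 ⟨o_g553_ok, (okE_nil 351)⟩)⟩)⟩)⟩)

noncomputable def ot_c42_cnt_EG : List Net := [o_b, o_c, o_d, o_e, o_f, o_g, o_h, o_i, o_g1, o_g2, o_g3, o_g4, o_g5, o_g8, o_g9, o_g12, o_g13, o_g14, o_g17, o_g18, o_g19, o_g20, o_g23, o_g24, o_g25, o_g26, o_g27, o_g30, o_g31, o_g32, o_g35, o_g111, o_g382, o_g383, o_g170, o_g171, o_g172, o_g173]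

theorem ot_c42_cnt_EG_ok : okE 351 ot_c42_cnt_EG = true := (okE_cons.2 ⟨o_b_ok, (okE_cons.2 ⟨o_c_ok, (okE_cons.2 ⟨o_d_ok, (okE_cons.2 ⟨o_e_ok, (okE_cons.2 ⟨o_f_ok, (okE_cons.2 ⟨o_g_ok, (okE_cons.2 ⟨o_h_ok, (okE_cons.2 ⟨o_i_ok, (okE_cons.2 ⟨o_g1_ok, (okE_cons.2 ⟨o_g2_ok, (okE_cons.2 ⟨o_g3_ok, (okE_cons.2 ⟨o_g4_ok, (okE_cons.2 ⟨o_g5_ok, (okE_cons.2 ⟨o_g8_ok, (okE_cons.2 ⟨o_g9_ok, (okE_cons.2 ⟨o_g12_ok, (okE_cons.2 ⟨o_g13_ok, (okE_cons.2 ⟨o_g14_ok, (okE_cons.2 ⟨o_g17_ok, (okE_cons.2 ⟨o_g18_ok, (okE_cons.2 ⟨o_g19_ok, (okE_cons.2 ⟨o_g20_ok, (okE_cons.2 ⟨o_g23_ok, (okE_cons.2 ⟨o_g24_ok, (okE_cons.2 ⟨o_g25_ok, (okE_cons.2 ⟨o_g26_ok, (okE_cons.2 ⟨o_g27_ok, (okE_cons.2 ⟨o_g30_ok, (okE_cons.2 ⟨o_g31_ok, (okE_cons.2 ⟨o_g32_ok, (okE_cons.2 ⟨o_g35_ok, (okE_cons.2 ⟨o_g111_ok, (okE_cons.2 ⟨o_g382_ok, (okE_cons.2 ⟨o_g383_ok, (okE_cons.2 ⟨o_g170_ok, (okE_cons.2 ⟨o_g171_ok, (okE_cons.2 ⟨o_g172_ok, (okE_cons.2 ⟨o_g173_ok, (okE_nil 351)⟩)⟩)⟩)⟩)⟩)⟩)⟩)⟩)⟩)⟩)⟩)⟩)⟩)⟩)⟩)⟩)⟩)⟩)⟩)⟩)⟩)⟩)⟩)⟩)⟩)⟩)⟩)⟩)⟩)⟩)⟩)⟩)⟩)⟩)⟩)⟩)⟩)⟩)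

noncomputable def o_g555 : Net := (Net.cons (nat_lit 1) (nat_lit 0x414051041514114551155050440440404500105501115100504015155014444050555511041404004415540) (Net.cons (nat_lit 2) (nat_lit 0x301002100110312301200320022031031221103032331030322133331233032110203112330131202011012) (Net.cons (nat_lit 4) (nat_lit 0xd000f0a0b000d0a0605010d0000020e0d00030a010c030001010a070a0f0b0d0d0e080e03050b01010900) (Net.cons (nat_lit 8) (nat_lit 0x1700e2009d002900ab00880004005100d1002500d80017002f001600b600c8001a00d000ee003800830080) (Net.cons (nat_lit 16) (nat_lit 0x19610000d4400000aad90000952700000e9f0000504c00008e290000245e000099080000e33600008000) (Net.cons (nat_lit 32) (nat_lit 0x19232c66000000002080ebcc0000000044f48a4800000000c9d4c4b500000000160b6164) (Net.cons (nat_lit 64) (nat_lit 0xe5004a900000000000000001006a4152149681300000000000000009088502000000000) (Net.cons (nat_lit 128) (nat_lit 0xd1bc6f9ba090ca8a30b97c04043d8451) (Net.cons (nat_lit 256) (nat_lit 0x69fadeabb5fbfd3df63dc671)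 (Net.cons (nat_lit 128) (nat_lit 0x4035a5d2f0bac840836b037f) (Net.cons (nat_lit 64) (nat_lit 0x57bb674e00000000000000005debbfead3c63c1e0000000000000000c7066b964c4ed082) (Net.cons (nat_lit 32) (nat_lit 0xa77b258400000000552f9e5b000000009d4823c3000000007c3dc8160000000080334cb5) (Net.cons (nat_lit 16) (nat_lit 0x65390000c39a000020290000eb76000067b5000053f700006d330000262e0000702000003c3600001af4) (Net.cons (nat_lit 8) (nat_lit 0x3d003a00d100ed0055005200f600e4003f005900a600f1000900f20068002000e7008000da00ce00af003f) (Net.cons (nat_lit 4) (nat_lit 0x50c0009010d00070c010a08010302000b0f0d0f0e0e0d030d0f02010b0b0b07000c0206030d0d080f0d050a) (Net.cons (nat_lit 2) (nat_lit 0x1332332110311223220302003123203310123001111122022330133233223322130320131020032100231133) (Net.cons (nat_lit 1) (nat_lit 0x1540054415001545544440100404141115110410144551000105404015051011454001450414015514415100) Net.nil)))))))))))))))))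

theorem o_g555_ok : Net.ok 351 o_g555 = true := by decide +kernel

noncomputable def o_g556 : Net := (Net.cons (nat_lit 1) (nat_lit 0x154001004154544114451005044415010555405455455051400050410551015010440444105101500151150) (Net.cons (nat_lit 2) (nat_lit 0x1303331031312120220311330320121323222223000011110301320330100331302203223203121121210300) (Net.cons (nat_lit 4) (nat_lit 0xb01020407050a000e010b020c0d08040804050d0501030f09070f0d070a03000200070a05020e0e010c00) (Net.cons (nat_lit 8) (nat_lit 0x7400b4000100b00025003400fc0024009b0020008700dc003900250042009b007a004d00c40042009c0000) (Net.cons (nat_lit 16) (nat_lit 0x28040000b812000005740000038a0000496900006157000004ab00009a0600007af00000e04600000000) (Net.cons (nat_lit 32) (nat_lit 0x89ebbe900000000b490f540000000001ed0a1000000000009801a830000000063028f04) (Net.cons (nat_lit 64) (nat_lit 0x3a079a650000000000000000580012729a10d80100000000000000000a86040200000000) (Net.cons (nat_lit 128) (nat_lit 0x1469fc0c112a54059684457888148036)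 (Net.cons (nat_lit 256) (nat_lit 0x5dbb75f59ffeedfaeeb7afb6) (Net.cons (nat_lit 128) (nat_lit 0x70ba1f2ecc02a72f3b4d3190) (Net.cons (nat_lit 64) (nat_lit 0x643ac94800000000000000003cc6c57e66c77c21000000000000000076d8baf65d20d15f) (Net.cons (nat_lit 32) (nat_lit 0x272c694c000000002a32681a000000008bfb162f0000000008d0e60c0000000087aebd8a) (Net.cons (nat_lit 16) (nat_lit 0x12bb000081730000a1440000157b000073b3000035e60000e8fd0000d51e0000df3d000035b000002fe7) (Net.cons (nat_lit 8) (nat_lit 0x46007b002900640033009100c4004900fc00e90066009900f000a200070012007a0024001000ec001d00c2) (Net.cons (nat_lit 4) (nat_lit 0x3010f050a0200020d06070a0c080b0b0e0505030a01070f050b080406060f00000305060d03060e0c050804) (Net.cons (nat_lit 2) (nat_lit 0x1203232110002211132032310022003323322131023322331303210322303302311002233313132002131232) (Net.cons (nat_lit 1) (nat_lit 0x1501101440545550050145114551111045554011055141505055154541140105505445045100044451151145) Net.nil)))))))))))))))))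

theorem o_g556_ok : Net.ok 351 o_g556 = true := by decide +kernel

noncomputable def o_g557 : Net := (Net.cons (nat_lit 1) (nat_lit 0x550005010504410001004154415400041005505455010555414044010441514005541155155015551451014) (Net.cons (nat_lit 2) (nat_lit 0x312122023220203002030032310023003020310000302213012201011032202300303221012112200011220) (Net.cons (nat_lit 4) (nat_lit 0x50a0009070f010d0c000c060f0b0700030402060003040e0e0a03040400090903060300040100050c070800) (Net.cons (nat_lit 8) (nat_lit 0xd00c700d6003e002900d200d6006200f5003600b100c900f300b400740001004e0041000400c800390000) (Net.cons (nat_lit 16) (nat_lit 0x3ce0000005ae0000c6d100003cc300001a3800004c2c00003c760000ca6b000011280000036500000000) (Net.cons (nat_lit 32) (nat_lit 0xbdf5849600000000050af21c00000000e89681270000000050836a82000000003030882e) (Net.cons (nat_lit 64) (nat_lit 0x78c12982000000000000000001071244c162902000000000000000006cb6012100000000) (Net.cons (nat_lit 128) (nat_lit 0x4f3857855430944ca3eb3d43a4870811)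 (Net.cons (nat_lit 256) (nat_lit 0x5fbef7eeffff7d6be6d71a5b) (Net.cons (nat_lit 128) (nat_lit 0x4f4bbfa483551115731f991) (Net.cons (nat_lit 64) (nat_lit 0x638f98af0000000000000000d91910d277c338220000000000000000c87aa5b623cd52ba) (Net.cons (nat_lit 32) (nat_lit 0xe80994d30000000091b6f6f700000000398ed83800000000862d9c3600000000a6d104e9) (Net.cons (nat_lit 16) (nat_lit 0x3f0e00005a460000a08a0000bc3d0000dffa000035ad00005c33000011c400009b2100002288000014c0) (Net.cons (nat_lit 8) (nat_lit 0x7b00b000dc006c007500c0001200c900d700eb002d002b002900f900c300fa007300fa007100a100cb0082) (Net.cons (nat_lit 4) (nat_lit 0x2080f000200060408020b060f0e0b090c070f0f04070705030302050e040205050302010c05040906050d01) (Net.cons (nat_lit 2) (nat_lit 0x13323123123323000132033131001223010302100022122111311113003000000012030132321201303031) (Net.cons (nat_lit 1) (nat_lit 0x1401411040140514400514000145054000041140441404004004004014455551141155010145014041050005) Net.nil)))))))))))))))))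

theorem o_g557_ok : Net.ok 351 o_g557 = true := by decide +kernel

noncomputable def ot_c43_K : List Net := [o_g555, o_g556, o_g557]

theorem ot_c43_K_ok : okE 351 ot_c43_K = true := (okE_cons.2 ⟨o_g555_ok, (okE_cons.2 ⟨o_g556_ok, (okE_cons.2 ⟨o_g557_ok, (okE_nil 351)⟩)⟩)⟩)

noncomputable def ot_c43_cnt_EG : List Net := [o_b, o_c, o_d, o_e, o_f, o_g, o_h, o_i, o_g1, o_g2, o_g3, o_g4, o_g5, o_g8, o_g9, o_g12, o_g13, o_g14, o_g17, o_g18, o_g19, o_g20, o_g23, o_g24, o_g25, o_g26, o_g27, o_g30, o_g31, o_g32, o_g35, o_g281, o_g282, o_g283, o_g284]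

theorem ot_c43_cnt_EG_ok : okE 351 ot_c43_cnt_EG = true := (okE_cons.2 ⟨o_b_ok, (okE_cons.2 ⟨o_c_ok, (okE_cons.2 ⟨o_d_ok, (okE_cons.2 ⟨o_e_ok, (okE_cons.2 ⟨o_f_ok, (okE_cons.2 ⟨o_g_ok, (okE_cons.2 ⟨o_h_ok, (okE_cons.2 ⟨o_i_ok, (okE_cons.2 ⟨o_g1_ok, (okE_cons.2 ⟨o_g2_ok, (okE_cons.2 ⟨o_g3_ok, (okE_cons.2 ⟨o_g4_ok, (okE_cons.2 ⟨o_g5_ok, (okE_cons.2 ⟨o_g8_ok, (okE_cons.2 ⟨o_g9_ok, (okE_cons.2 ⟨o_g12_ok, (okE_cons.2 ⟨o_g13_ok, (okE_cons.2 ⟨o_g14_ok, (okE_cons.2 ⟨o_g17_ok, (okE_cons.2 ⟨o_g18_ok, (okE_cons.2 ⟨o_g19_ok, (okE_cons.2 ⟨o_g20_ok, (okE_cons.2 ⟨o_g23_ok, (okE_cons.2 ⟨o_g24_ok, (okE_cons.2 ⟨o_g25_ok, (okE_cons.2 ⟨o_g26_ok, (okE_cons.2 ⟨o_g27_ok, (okE_cons.2 ⟨o_g30_ok, (okE_cons.2 ⟨o_g31_ok, (okE_cons.2 ⟨o_g32_ok, (okE_cons.2 ⟨o_g35_ok, (okE_cons.2 ⟨o_g281_ok, (okE_cons.2 ⟨o_g282_ok, (okE_cons.2 ⟨o_g283_ok, (okE_cons.2 ⟨o_g284_ok, (okE_nil 351)⟩)⟩)⟩)⟩)⟩)⟩)⟩)⟩)⟩)⟩)⟩)⟩)⟩)⟩)⟩)⟩)⟩)⟩)⟩)⟩)⟩)⟩)⟩)⟩)⟩)⟩)⟩)⟩)⟩)⟩)⟩)⟩)⟩)⟩)⟩)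

noncomputable def o_g559 : Net := (Net.cons (nat_lit 1) (nat_lit 0x1114150004105455040401515005450005544104451415515115554014514444540045140115410150015404) (Net.cons (nat_lit 2) (nat_lit 0x33010310133303232000302310302020312010201023323311221311111211323232312313320011300332) (Net.cons (nat_lit 4) (nat_lit 0x40c07040708080c090002030802010c0e0e0a070a0b07060a0d000d09080d0b040d0d010d070f0c00070500) (Net.cons (nat_lit 8) (nat_lit 0x1a00f5007e00cc00a6009f00040019002b00d800f800cc00f100a800fc00c800ff00180071005100700000) (Net.cons (nat_lit 16) (nat_lit 0x434300007e7e00006ca50000053700005a36000033e2000018a0000090010000f2b4000010da00008000) (Net.cons (nat_lit 32) (nat_lit 0x2c5a433100000000850ac23d0000000008c4443b00000000176413bb000000001443f924) (Net.cons (nat_lit 64) (nat_lit 0x304cb8a50000000000000000481f82299403648300000000000000001003581c80000000) (Net.cons (nat_lit 128) (nat_lit 0x9975c15b525f523ba1abdc40c43484a4) (Net.cons (nat_lit 256) (nat_lit 0x57dffbbbb5effe7fe6f6d7ac)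 (Net.cons (nat_lit 128) (nat_lit 0x218b52d9e6a142f60d4fa929) (Net.cons (nat_lit 64) (nat_lit 0x4d4690ed0000000000000000f48a9d4010ee4b9e00000000000000008e655826bd7e9b10) (Net.cons (nat_lit 32) (nat_lit 0xddbf22a800000000cb04666900000000d92757b700000000926d7951000000005fe666a1) (Net.cons (nat_lit 16) (nat_lit 0xe9e0000cc200000a45400002d330000e147000073c1000027f50000b5ff000003f20000746d0000497e) (Net.cons (nat_lit 8) (nat_lit 0x22002b008d00f900740064003d00ae009300e4009e0032009e008d005a00a2008000f900ab0066008c0013) (Net.cons (nat_lit 4) (nat_lit 0x70308070f0f040100090a000c020f0a0a00040e0b010101010e0a0c0c09040e0b0f050b090e0107040e0205) (Net.cons (nat_lit 2) (nat_lit 0x1223303131123001133320111300113031321211220133122211012133110333223310200223301100202333) (Net.cons (nat_lit 1) (nat_lit 0x151544000545115101540411000541500450540011014051554510144051555001515114441100455154540) Net.nil)))))))))))))))))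

theorem o_g559_ok : Net.ok 351 o_g559 = true := by decide +kernel

noncomputable def o_g560 : Net := (Net.cons (nat_lit 1) (nat_lit 0x551141541000415004141440054015110445041450440411015400414145555104551101105514410511041) (Net.cons (nat_lit 2) (nat_lit 0x1012000233001033120210111100301320010211012012130132002112002121112301233231221212002110) (Net.cons (nat_lit 4) (nat_lit 0x505030f090907040e0d01090c0d07020b0b020e04000e080c0707090f0c040706060c0a020d0c0d07030000) (Net.cons (nat_lit 8) (nat_lit 0x2c00e2006a00ba006b000100ce00c20081002700c30081008d002b00e7003300ff001d0044003100020000) (Net.cons (nat_lit 16) (nat_lit 0x41120000d8620000a9e100008451000067470000092b0000074f0000e4b10000762b0000174e00000000) (Net.cons (nat_lit 32) (nat_lit 0x8023ecf200000000143f932f000000000c7007ec000000003d871363000000000e6cc946) (Net.cons (nat_lit 64) (nat_lit 0x4b056718000000000000000000812bcdca1aa0210000000000000000cc5b942580000000) (Net.cons (nat_lit 128) (nat_lit 0xf10c628992401485a00b09782c7e2124)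 (Net.cons (nat_lit 256) (nat_lit 0x77c2fefdfe7b9dfdac7f732f) (Net.cons (nat_lit 128) (nat_lit 0x725e09eb9a8ccd1e123fee33) (Net.cons (nat_lit 64) (nat_lit 0x28af4a2a0000000000000000c872c1c8bc1dc567000000000000000042975af4bf3b9f6c) (Net.cons (nat_lit 32) (nat_lit 0x6c4ebdc500000000d18a4d7a000000006c0b98c400000000558c7766000000008ee5f802) (Net.cons (nat_lit 16) (nat_lit 0x340b0000c3d9000005920000a95c000082030000aac3000007a80000fdbb0000c3cc00001e9f00007479) (Net.cons (nat_lit 8) (nat_lit 0x7f003e000b009d008900cc00c500d2006500a6000500f60074009a002a00da000b0006001d007600a400bc) (Net.cons (nat_lit 4) (nat_lit 0x10e0b0a0c0f070f0a090a0c090203000d0e0c060608030a02020f05030b040b0f00070507020c0d05050200) (Net.cons (nat_lit 2) (nat_lit 0x1301113122200030313031003033333031120321123123301213201301001032012001213111003232302101) (Net.cons (nat_lit 1) (nat_lit 0x1141150041511110151014014154004144040150401145014051454045454015411540445105500144044055) Net.nil)))))))))))))))))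

theorem o_g560_ok : Net.ok 351 o_g560 = true := by decide +kernel

noncomputable def o_g561 : Net := (Net.cons (nat_lit 1) (nat_lit 0x441011154405144415155501140155415041505001115040040414440050054044151515154111141100101) (Net.cons (nat_lit 2) (nat_lit 0x1023110310101130310320232130102201310010220113203113003121112311011021113121133110220) (Net.cons (nat_lit 4) (nat_lit 0x3010300070907030a0b0a0e0a0b0901060f060c04020c070a000c000e09030c0e0e0d0c0e02000e09010608) (Net.cons (nat_lit 8) (nat_lit 0x700f8001200e800bb004e00710022000a00c4007100fb00ef007b0043004100c500b1008200c900c10000) (Net.cons (nat_lit 16) (nat_lit 0x730a0000853000002dcd000081bc0000048100004c610000a29a000044830000e00b0000153400000000) (Net.cons (nat_lit 32) (nat_lit 0x3f20f0e000000000238c9b7300000000df163482000000008f4182e10000000001424560) (Net.cons (nat_lit 64) (nat_lit 0xcf7b123000000000000000006c189acae1645890000000000000000a81a149000000000) (Net.cons (nat_lit 128) (nat_lit 0x6cc30651a8aa3d84c752814894290003)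 (Net.cons (nat_lit 256) (nat_lit 0x69ae3d9dff5fdffad57b81e7) (Net.cons (nat_lit 128) (nat_lit 0x1613a73e422a9abe05edf645) (Net.cons (nat_lit 64) (nat_lit 0x54e4d375000000000000000065fbace06a32175a00000000000000002458800c33bf5b51) (Net.cons (nat_lit 32) (nat_lit 0x4f1362de0000000000b3b1b300000000ef143c5600000000cbdcd4cf00000000612f0dd7) (Net.cons (nat_lit 16) (nat_lit 0x15d20000ad280000572000001dc4000071b3000078e100009ee4000017ac0000bc5d0000ce980000c580) (Net.cons (nat_lit 8) (nat_lit 0x4d00c2006f00a100540005008d00b700ad00e7007d0084009b007200cc00270065003b007000a1006300f3) (Net.cons (nat_lit 4) (nat_lit 0x109030104090f0a08070e0a000f080d000d010b04090501040608060606040c020f0c0e0e020a0208030b0b) (Net.cons (nat_lit 2) (nat_lit 0x1312312222100110133222221031323202201210110323022001121003032001203322322303213131302233) (Net.cons (nat_lit 1) (nat_lit 0x1115150541105150054404555544514500050115010455044155515544055140004411554044540141405141) Net.nil)))))))))))))))))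

theorem o_g561_ok : Net.ok 351 o_g561 = true := by decide +kernel

noncomputable def o_g562 : Net := (Net.cons (nat_lit 1) (nat_lit 0x150505514541045151040011100501045515001054141451414111515041040511000544550015100011001) (Net.cons (nat_lit 2) (nat_lit 0x1223232031130132221123011111212112203302111320220031232022301010211100022003212110133002) (Net.cons (nat_lit 4) (nat_lit 0x201030c0b0f0906010f0e0c05050101020a06010e03080603090f080f0c07020207080c0f0d000b0e0d0600) (Net.cons (nat_lit 8) (nat_lit 0xc009f0068000d00d90003007200f8001a005e006400a3005c00cb004700d8003500300050007700450000) (Net.cons (nat_lit 16) (nat_lit 0x4d80000f91f0000597000004d050000287200006dab0000360600005b150000b4960000031000008000) (Net.cons (nat_lit 32) (nat_lit 0x1c1d52c200000000292f48e800000000f0ca080400000000570417210000000011280aa6) (Net.cons (nat_lit 64) (nat_lit 0x22c81065000000000000000053f8fc10290068a100000000000000000840022400000000) (Net.cons (nat_lit 128) (nat_lit 0x14dd4d1181001ab4da0c940000c61210)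 (Net.cons (nat_lit 256) (nat_lit 0xff7bafddf5cbfa760cf12fe) (Net.cons (nat_lit 128) (nat_lit 0x4602a70f2329a64f68ebd5f8) (Net.cons (nat_lit 64) (nat_lit 0x18bb5b96000000000000000040d0330e6d64fe710000000000000000393707e19181e68a) (Net.cons (nat_lit 32) (nat_lit 0x9e4d4b4b000000008b0c86ec00000000d967d9170000000059f11c800000000069759120) (Net.cons (nat_lit 16) (nat_lit 0x3763000020190000bafa000063170000c97c00004de10000916a000050b00000bd550000b65b0000b808) (Net.cons (nat_lit 8) (nat_lit 0x6d005f0022000800d700c1002400f20014003c005c00cb00fa00ae002d009d009600cd007b00a3001d0008) (Net.cons (nat_lit 4) (nat_lit 0x50b0b0d030b080d0304060401000b01060a0e070e060a050d0a0205080502060905090603090b0b0b040a00) (Net.cons (nat_lit 2) (nat_lit 0x1223212321231313223003323100013030211302311120000231301322310012210133333203102010333000) (Net.cons (nat_lit 1) (nat_lit 0x510010404041540104545440401150110515115054100514015155015441044511040551150514105010045) Net.nil)))))))))))))))))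

theorem o_g562_ok : Net.ok 351 o_g562 = true := by decide +kernel

noncomputable def o_g563 : Net := (Net.cons (nat_lit 1) (nat_lit 0x500500004551040001011100505104144150144100411115415050050000000004150000040000000001000) (Net.cons (nat_lit 2) (nat_lit 0x120310310220203010322103110300103112222302212212200002011211002000000000010022200000000) (Net.cons (nat_lit 4) (nat_lit 0x40302010f080c0808090905040d0d03070002000d08010803020c06080100000008000800000800000800) (Net.cons (nat_lit 8) (nat_lit 0x2200fb00cc0006000100590000001a0068008600fa001100c60064000600d3000000000000008000000000) (Net.cons (nat_lit 16) (nat_lit 0x36a50000000100001b080000b1c50000129a0000b1000000862000001118000024820000810000000000) (Net.cons (nat_lit 32) (nat_lit 0x14c00445000000009618251000000000475dea00000000000212801400000000200000a0) (Net.cons (nat_lit 64) (nat_lit 0x218d04b80000000000000000f02180d1b89373880000000000000000010c800000000000) (Net.cons (nat_lit 128) (nat_lit 0xb5be87d818890208002a800100000410)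 (Net.cons (nat_lit 256) (nat_lit 0x1b89864e912e808b24c7cefd) (Net.cons (nat_lit 128) (nat_lit 0x781a5a904cfbab01daa12518) (Net.cons (nat_lit 64) (nat_lit 0x210c04b00000000000000000f2e5c2d7f95273860000000000000000018c920040810008) (Net.cons (nat_lit 32) (nat_lit 0x14c00445000000009618351400000000475dea04000000000212801400000000200000a0) (Net.cons (nat_lit 16) (nat_lit 0x36a5000000010000999c0000b1c5000012ba0000f1800000862000001198000064820000810000000000) (Net.cons (nat_lit 8) (nat_lit 0x2200fb00cc0016000900590000001a0068008600fa001100c60064000600d3000000000000008000000008) (Net.cons (nat_lit 4) (nat_lit 0x40302010f080c0808090905040d0903070002000d08010c03020c06080100000008000804000800000800) (Net.cons (nat_lit 2) (nat_lit 0x120310310220203030320103110300103112222302212212200002011211002000000000010022200000200) (Net.cons (nat_lit 1) (nat_lit 0x500540004551040001111140505104144150144100411115415051050000000004150000040000000001000) Net.nil)))))))))))))))))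

theorem o_g563_ok : Net.ok 351 o_g563 = true := by decide +kernel

noncomputable def ot_c44_K : List Net := [o_g559, o_g560, o_g561, o_g562, o_g563]

theorem ot_c44_K_ok : okE 351 ot_c44_K = true := (okE_cons.2 ⟨o_g559_ok, (okE_cons.2 ⟨o_g560_ok, (okE_cons.2 ⟨o_g561_ok, (okE_cons.2 ⟨o_g562_ok, (okE_cons.2 ⟨o_g563_ok, (okE_nil 351)⟩)⟩)⟩)⟩)⟩)

noncomputable def o_g565 : Net := (Net.cons (nat_lit 1) (nat_lit 0x1000154400410151444445050450401141045051015045140100415404555555540400104015155011010411) (Net.cons (nat_lit 2) (nat_lit 0x1303123031322002211131233001200203312012200202103130130213301220320320112121313001100200) (Net.cons (nat_lit 4) (nat_lit 0x2080900000a05080902020b0c050a0b010c000f0c0908070a080c0908040c050d010803080800030c0c0800) (Net.cons (nat_lit 8) (nat_lit 0x6f00c6008700db00590002001e008c002d002d008d0034001500f10024001000bd0084009b0081000c0080) (Net.cons (nat_lit 16) (nat_lit 0x502600009af60000410f000072260000c51800004f280000b1be000039930000f46700008b4400008000)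 (Net.cons (nat_lit 32) (nat_lit 0x39a9c8620000000094084f49000000000bd08bc00000000039a3d6a20000000051d49c04) (Net.cons (nat_lit 64) (nat_lit 0x785a6d6400000000000000002b9d77521c0020050000000000000000c581db9480000000) (Net.cons (nat_lit 128) (nat_lit 0xa7bde0a84188423404d0109cb4802148) (Net.cons (nat_lit 256) (nat_lit 0x69eb77b6fdf7df9cb5dabbcd) (Net.cons (nat_lit 128) (nat_lit 0x4649ca90dcf20fc36c23f7ad) (Net.cons (nat_lit 64) (nat_lit 0x32bcf8230000000000000000af8687d654a324f90000000000000000e9b60398bc09bb45) (Net.cons (nat_lit 32) (nat_lit 0x912f69af0000000093b0d9c80000000007d1eb480000000091a95786000000006bc11da5) (Net.cons (nat_lit 16) (nat_lit 0x48f400003d5200006daa00007a0e0000c1a000002b2a000011be0000a4a70000750f000084a30000bc21) (Net.cons (nat_lit 8) (nat_lit 0x6000d7007100d400b400230037003e0025004d000800d2006100b500a4009500fd00ae00ae000d009900c5) (Net.cons (nat_lit 4) (nat_lit 0x509000106050b080907020b0d090007050c0a0e0101060c0008080d0e0e040e0f0b08070a0809090d050b00)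 (Net.cons (nat_lit 2) (nat_lit 0x1002102131001323231013332020220013330103220002223120030023001003223100132111200021023201) (Net.cons (nat_lit 1) (nat_lit 0x111001440411550544155440115405141040051455045444054004050151115544101010445110011100011) Net.nil)))))))))))))))))

theorem o_g565_ok : Net.ok 351 o_g565 = true := by decide +kernel

noncomputable def o_g566 : Net := (Net.cons (nat_lit 1) (nat_lit 0x505150400055545100041001541005454000005410004500004100050415100104001000000010400000000) (Net.cons (nat_lit 2) (nat_lit 0x1003112230131001130212010212002101001100012121213022010210100110100002000011001001001000) (Net.cons (nat_lit 4) (nat_lit 0x7060f0d0e050507070602020004020e0900020005090c0c020e0100010400020c0000010002000000010000) (Net.cons (nat_lit 8) (nat_lit 0x5c00d8009900a5000a0075008400c8000c007d0018003700b8009000630008000400400022000000800000) (Net.cons (nat_lit 16) (nat_lit 0x1123000064fe0000007b0000824e00006b36000074090000ac300000d360000000a00000008400000000)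 (Net.cons (nat_lit 32) (nat_lit 0x1401426600000000902ce84300000000594b089c00000000707484470000000000494108) (Net.cons (nat_lit 64) (nat_lit 0x11d9452800000000000000006551f81418c9b04a0000000000000000e540000080000000) (Net.cons (nat_lit 128) (nat_lit 0x7776da19000034084411040811000062) (Net.cons (nat_lit 256) (nat_lit 0x7034bcefe7d5456ad5d9776e) (Net.cons (nat_lit 128) (nat_lit 0x1cdb70004403268c2120846a) (Net.cons (nat_lit 64) (nat_lit 0x1c9412000000000000000006559ba548ac9fd460000000000000000e541020090100408) (Net.cons (nat_lit 32) (nat_lit 0x1431426700000000993ea84300000000794b489c000000007076c4470000000020594108) (Net.cons (nat_lit 16) (nat_lit 0x1123000064fe0000017b0000824e00006b36000074090000ac300000d360000000a00000008400000000) (Net.cons (nat_lit 8) (nat_lit 0x5c00d8009900a5000a0075008400c8000c007d0018003700b8009600630008000400400022000000800000) (Net.cons (nat_lit 4) (nat_lit 0x7060f0d0e050507070603060005020e0900020005090c0c020e0100010400020c0000010002000000010400)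 (Net.cons (nat_lit 2) (nat_lit 0x1003112230131001130212010212002101001100012121213022010210100110100002000011001001001000) (Net.cons (nat_lit 1) (nat_lit 0x505150400055545100441011541005454000005410004500004110450415100104001000000011400001000) Net.nil)))))))))))))))))

theorem o_g566_ok : Net.ok 351 o_g566 = true := by decide +kernel

noncomputable def o_g567 : Net := (Net.cons (nat_lit 1) (nat_lit 0x411055114145040050001050055544414001004500111455454041010114050400444105004140411401000) (Net.cons (nat_lit 2) (nat_lit 0x1201200003022011301003212013032110112303300031220031302301230020031332232300303133231120) (Net.cons (nat_lit 4) (nat_lit 0x6050b010e08030a0208090b0903040a010f080104040e060108020c03060d09060504020801030b06020900) (Net.cons (nat_lit 8) (nat_lit 0x7f001c00e30068008500c2000800180006001c00740000003400c300630088000900a80018000000030000) (Net.cons (nat_lit 16) (nat_lit 0x72050000d3360000fd97000076ef0000a348000032bf00002180000010ad000027650000043500000000)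 (Net.cons (nat_lit 32) (nat_lit 0xe00aa8f80000000091894c4a000000007dd830810000000086fd51190000000010f6eaac) (Net.cons (nat_lit 64) (nat_lit 0x3057404300000000000000006d223109012170890000000000000000482a0eb600000000) (Net.cons (nat_lit 128) (nat_lit 0xd9fe364b0011a010646880421d1c5088) (Net.cons (nat_lit 256) (nat_lit 0x279b3bfff6b8ef73ddff9e8) (Net.cons (nat_lit 128) (nat_lit 0x5348b23d2ad07b2394520f2) (Net.cons (nat_lit 64) (nat_lit 0x50da7a220000000000000000bd18c93a317d109b000000000000000008e0ea17471b356c) (Net.cons (nat_lit 32) (nat_lit 0x6ba3a58a000000009140345c0000000037bc19320000000086f76f690000000016fcea18) (Net.cons (nat_lit 16) (nat_lit 0x5a640000f05f000077d70000278d000093da00007fde00005241000009b1000067040000ac3700003286) (Net.cons (nat_lit 8) (nat_lit 0x4d00e60062000100bd00c1001900100083007c0098003e009400ba002700bc00ed00f800b300c900060046) (Net.cons (nat_lit 4) (nat_lit 0x2070b030a080a0a0a0b010f09050c08040b0c0b090801060b080909020b0e01060401060903030b06060b02)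 (Net.cons (nat_lit 2) (nat_lit 0x1203000002033211120002320012132110011303330012320231302301030033002312223010321123001200) (Net.cons (nat_lit 1) (nat_lit 0x401015110105544050144054145044554141001440411451554100410001151404114511004001015441150) Net.nil)))))))))))))))))

theorem o_g567_ok : Net.ok 351 o_g567 = true := by decide +kernel

noncomputable def o_g568 : Net := (Net.cons (nat_lit 1) (nat_lit 0x510551555404500454411005054015050001140501555441400410014015044004050004000000010000000) (Net.cons (nat_lit 2) (nat_lit 0x103212111131300030320030001003000001001302033222122321100103220000021200200001002002000) (Net.cons (nat_lit 4) (nat_lit 0x30901000607090b04040808050b00050108000e0c0a00060c02020102010002000a08020c00000000020000) (Net.cons (nat_lit 8) (nat_lit 0x10002e00c3003000b800c100c6002600800048009a0094009b000500100030006800040004000400000000) (Net.cons (nat_lit 16) (nat_lit 0x219c00008e4f0000da8000007cb000008ac40000124a00008b8400004820000002040000000000000000) (Net.cons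 (nat_lit 32) (nat_lit 0x41c4532800000000d90001f60000000010001b300000000042908022000000002c2a0606) (Net.cons (nat_lit 64) (nat_lit 0x1c0f8e000000000000000000302623800944a682000000000000000038617a9780000000) (Net.cons (nat_lit 128) (nat_lit 0x5d20c2c6900000100000238009048082) (Net.cons (nat_lit 256) (nat_lit 0x7ab59896fe717b97bfae8686) (Net.cons (nat_lit 128) (nat_lit 0x1904e6b0200607c801411932) (Net.cons (nat_lit 64) (nat_lit 0x142b2fad0000000000000000302623a001402602000000000000000038617a9788248084) (Net.cons (nat_lit 32) (nat_lit 0x43c55b6c00000000db0001f60000000092121bb00000000042918826000000002e2a0686) (Net.cons (nat_lit 16) (nat_lit 0x219c0000ae4f0000da8000005cb10000cac40000126a00008b8c00007821000042040000000000000020) (Net.cons (nat_lit 8) (nat_lit 0x10002e00c3003000b800c100c6002600800048009e009400bf004500100030006800040004000400000000) (Net.cons (nat_lit 4) (nat_lit 0x30b01000707090b04050808050b00050108000e0c0a00060c02020102000003000a08020c02000000020000) (Net.cons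 (nat_lit 2) (nat_lit 0x103212111131300030320030001003000001001302033222122321100103220000021200200001002002000) (Net.cons (nat_lit 1) (nat_lit 0x510551555404500454411005054015050001140501555441400410014015044004050004000000010000000) Net.nil)))))))))))))))))

theorem o_g568_ok : Net.ok 351 o_g568 = true := by decide +kernel

noncomputable def o_V569 : List Net := [o_g565, o_g566, o_g567, o_g568]

theorem o_V569_ok : okE 351 o_V569 = true := (okE_cons.2 ⟨o_g565_ok, (okE_cons.2 ⟨o_g566_ok, (okE_cons.2 ⟨o_g567_ok, (okE_cons.2 ⟨o_g568_ok, (okE_nil 351)⟩)⟩)⟩)⟩)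

noncomputable def o_V571 : List Net := [o_g567, o_g568]

theorem o_V571_ok : okE 351 o_V571 = true := (okE_cons.2 ⟨o_g567_ok, (okE_cons.2 ⟨o_g568_ok, (okE_nil 351)⟩)⟩)

noncomputable def o_V572 : List Net := [o_g568]

theorem o_V572_ok : okE 351 o_V572 = true := (okE_cons.2 ⟨o_g568_ok, (okE_nil 351)⟩)

noncomputable def o_V573 : List Net := []

theorem o_V573_ok : okE 351 o_V573 = true := (okE_nil 351)

noncomputable def ot_c44_cnt_EG : List Net := [o_b, o_c, o_d, o_e, o_f, o_g, o_h, o_i, o_g1, o_g2, o_g3, o_g4, o_g5, o_g8, o_g9, o_g12, o_g13, o_g14, o_g17, o_g18, o_g19, o_g20, o_g23, o_g24, o_g25, o_g26, o_g27, o_g30, o_g31, o_g32, o_g35, o_g295, o_g296, o_g297, o_g298, o_g565, o_g566, o_g567, o_g568]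

theorem ot_c44_cnt_EG_ok : okE 351 ot_c44_cnt_EG = true := (okE_cons.2 ⟨o_b_ok, (okE_cons.2 ⟨o_c_ok, (okE_cons.2 ⟨o_d_ok, (okE_cons.2 ⟨o_e_ok, (okE_cons.2 ⟨o_f_ok, (okE_cons.2 ⟨o_g_ok, (okE_cons.2 ⟨o_h_ok, (okE_cons.2 ⟨o_i_ok, (okE_cons.2 ⟨o_g1_ok, (okE_cons.2 ⟨o_g2_ok, (okE_cons.2 ⟨o_g3_ok, (okE_cons.2 ⟨o_g4_ok, (okE_cons.2 ⟨o_g5_ok, (okE_cons.2 ⟨o_g8_ok, (okE_cons.2 ⟨o_g9_ok, (okE_cons.2 ⟨o_g12_ok, (okE_cons.2 ⟨o_g13_ok, (okE_cons.2 ⟨o_g14_ok, (okE_cons.2 ⟨o_g17_ok, (okE_cons.2 ⟨o_g18_ok, (okE_cons.2 ⟨o_g19_ok, (okE_cons.2 ⟨o_g20_ok, (okE_cons.2 ⟨o_g23_ok, (okE_cons.2 ⟨o_g24_ok, (okE_cons.2 ⟨o_g25_ok, (okE_cons.2 ⟨o_g26_ok, (okE_cons.2 ⟨o_g27_ok, (okE_cons.2 ⟨o_g30_ok, (okE_cons.2 ⟨o_g31_ok, (okE_cons.2 ⟨o_g32_ok, (okE_cons.2 ⟨o_g35_ok, (okE_cons.2 ⟨o_g295_ok, (okE_cons.2 ⟨o_g296_ok, (okE_cons.2 ⟨o_g297_ok, (okE_cons.2 ⟨o_g298_ok, (okE_cons.2 ⟨o_g565_ok, (okE_cons.2 ⟨o_g566_ok, (okE_cons.2 ⟨o_g567_ok, (okE_cons.2 ⟨o_g568_ok, (okE_nil 351)⟩)⟩)⟩)⟩)⟩)⟩)⟩)⟩)⟩)⟩)⟩)⟩)⟩)⟩)⟩)⟩)⟩)⟩)⟩)⟩)⟩)⟩)⟩)⟩)⟩)⟩)⟩)⟩)⟩)⟩)⟩)⟩)⟩)⟩)⟩)⟩)⟩)⟩)⟩)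

noncomputable def o_g574 : Net := (Net.cons (nat_lit 1) (nat_lit 0x454141155454101155550041044400401144005415405400111144001410400544154001550140005445540) (Net.cons (nat_lit 2) (nat_lit 0x23300120212221201211000213323131221033320113020012013003200020213333012001112212221130) (Net.cons (nat_lit 4) (nat_lit 0x7010a080f03000a030d0c00090c01040d040d0c040e080809020d0a06050603070c060805020c0702000a00) (Net.cons (nat_lit 8) (nat_lit 0x2f00cb00140028009f00dc0066002500fa0021002b003e000e00ac004b000d009a00c700ad008b00900000) (Net.cons (nat_lit 16) (nat_lit 0x799b0000a2290000b312000032a60000561000001df20000d0c40000468400003df00000991600000000) (Net.cons (nat_lit 32) (nat_lit 0x78500ef90000000053ab867300000000003d84cb00000000354073b400000000001c2581) (Net.cons (nat_lit 64) (nat_lit 0x64f0801e0000000000000000e163c0478069f00600000000000000001418252400000000) (Net.cons (nat_lit 128) (nat_lit 0x16c938f748c16084168c5321c1388ccb) (Net.cons (nat_lit 256) (nat_lit 0x6df974bfdeddffb7d13eadff)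 (Net.cons (nat_lit 128) (nat_lit 0x545b968cfdbea0b98b63a812) (Net.cons (nat_lit 64) (nat_lit 0x4dde55a000000000000000029fc604e891a936800000000000000003b2cb5ea2ffd2931) (Net.cons (nat_lit 32) (nat_lit 0x3e20e73c000000003707674e00000000cefc30e400000000750ec1780000000004da2b4a) (Net.cons (nat_lit 16) (nat_lit 0x69d00000724d0000edb70000d2a20000a7240000ca670000185900008f8f00009b3a0000a45700004c4e) (Net.cons (nat_lit 8) (nat_lit 0x2e00350042001300770053006200d9003000080032006b00a7009300fa008100e900d1004b00ba009a0096) (Net.cons (nat_lit 4) (nat_lit 0x5080601000f0206090c010b000b060a050103030c0f0b0c030a0a0f0b0601010f090a09080c02020a060a09) (Net.cons (nat_lit 2) (nat_lit 0x321030303311132013311201322130202121021212320123023003031113011101332302011222003101112) (Net.cons (nat_lit 1) (nat_lit 0x104010051150044150140445445054540045014441054010514551115405045141155041011151045400) Net.nil)))))))))))))))))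

theorem o_g574_ok : Net.ok 351 o_g574 = true := by decide +kernel

noncomputable def o_g575 : Net := (Net.cons (nat_lit 1) (nat_lit 0x1444440155155451500111414511515514054101505501444145441141144450450454454500404140045000) (Net.cons (nat_lit 2) (nat_lit 0x12133123312131301023210023221220230012102020022102110323003033113132020100020300011000) (Net.cons (nat_lit 4) (nat_lit 0x4090105010c0c0400020d0300000203090101040f0904080a0400050a090e080c01080003010204070a0000) (Net.cons (nat_lit 8) (nat_lit 0x3d001d005a0039002f0070007200d900a2008e00ba002a00c700dc00040025006500c800c0003800b00080) (Net.cons (nat_lit 16) (nat_lit 0x27010000da49000092300000f7670000c619000081300000c30a0000b8d200007b0e0000876200000000) (Net.cons (nat_lit 32) (nat_lit 0x868149400000000e400092f00000000dad005000000000005345b59000000006a0f7022) (Net.cons (nat_lit 64) (nat_lit 0x22022b2100000000000000004a020266d021618e000000000000000038d0146200000000) (Net.cons (nat_lit 128) (nat_lit 0xb8620b04c92a2221000406682f040f07)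 (Net.cons (nat_lit 256) (nat_lit 0x4dae677539ddf6ff7faf3f3f) (Net.cons (nat_lit 128) (nat_lit 0x2e72446a463c29823ad52f87) (Net.cons (nat_lit 64) (nat_lit 0x255bfdd30000000000000000ff606c7c5fa9efec00000000000000001f162e8175aa3511) (Net.cons (nat_lit 32) (nat_lit 0x80ad029c000000004213257e000000001295241b00000000f72db812000000006fec306b) (Net.cons (nat_lit 16) (nat_lit 0xf600000dd1b0000e7510000f5740000ce420000b1b100008a930000de6800002c440000b78300009502) (Net.cons (nat_lit 8) (nat_lit 0x1d007e0028000600050053005400f900a200a50051008a00f500aa0077009e001400c800e40051009b00e0) (Net.cons (nat_lit 4) (nat_lit 0x4090104000c0c00000e0d0a0c080a05080101000a0b0c080a0505000b090e010d0308000201020d070a0000) (Net.cons (nat_lit 2) (nat_lit 0x110033022302130303123110023321223230103133222223102101233103022300132021110220010011000) (Net.cons (nat_lit 1) (nat_lit 0x1444444155155451511111414515515454055101405501445145451541144550450450554501405040445000) Net.nil)))))))))))))))))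

theorem o_g575_ok : Net.ok 351 o_g575 = true := by decide +kernel

noncomputable def o_g576 : Net := (Net.cons (nat_lit 1) (nat_lit 0x1004000140110044045400000140450410104055051500011100101510000000050400000014000004010000) (Net.cons (nat_lit 2) (nat_lit 0x332200300102221220200303131022102233031030003101302301220000020020200220010003000000100) (Net.cons (nat_lit 4) (nat_lit 0x60f030b070c090a070e0a0108000e050d00080f0c0500060800020b08080806000100060000000800000400) (Net.cons (nat_lit 8) (nat_lit 0x8009b00f00016009a0001006200160080008b006b008a006d004800c00083001400000000000a00000000) (Net.cons (nat_lit 16) (nat_lit 0x25b2000014b70000f0f0000031c20000cacb000060200000c25600008004000099200000002000000000) (Net.cons (nat_lit 32) (nat_lit 0x63b074b0000000000c921883000000004c14806000000000010880440000000002000bc2) (Net.cons (nat_lit 64) (nat_lit 0x8294b8b0000000000000000c13080200d9b210a0000000000000000f1820ba080000000) (Net.cons (nat_lit 128) (nat_lit 0xd9f0a1e3c0022100160161060c480006)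 (Net.cons (nat_lit 256) (nat_lit 0x4c36a164f7d3fbe68ccfcfff) (Net.cons (nat_lit 128) (nat_lit 0x46c9380a1e0f654c0b3a2106) (Net.cons (nat_lit 64) (nat_lit 0xf2bcacb0000000000000000c1b080220919200a0000000000000000f1020ba284828140) (Net.cons (nat_lit 32) (nat_lit 0x637074b4000000000c12d887000000004c9480e400000000018880440000000002c00bc2) (Net.cons (nat_lit 16) (nat_lit 0x25b2000014f50000f0f0000031c20000cacb000060220000c21600008006000099200000002000000040) (Net.cons (nat_lit 8) (nat_lit 0x8009b00f00016009a0001006200360080008b006b008a006d004800c00083001400000000000a00000000) (Net.cons (nat_lit 4) (nat_lit 0x60f030b070c090a070e0a0108040f050d00080f0c0500060800020b08080806000100060000000800000400) (Net.cons (nat_lit 2) (nat_lit 0x332200300102221220200303131022102233031030003101302301220000020020200220010003000000100) (Net.cons (nat_lit 1) (nat_lit 0x1004000140110044045400000140450410104055051501011100101510000000050400000014040004010000) Net.nil)))))))))))))))))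

theorem o_g576_ok : Net.ok 351 o_g576 = true := by decide +kernel

noncomputable def ot_c45_K : List Net := [o_g574, o_g575, o_d, o_g576]

theorem ot_c45_K_ok : okE 351 ot_c45_K = true := (okE_cons.2 ⟨o_g574_ok, (okE_cons.2 ⟨o_g575_ok, (okE_cons.2 ⟨o_d_ok, (okE_cons.2 ⟨o_g576_ok, (okE_nil 351)⟩)⟩)⟩)⟩)

noncomputable def ot_c45_cnt_EG : List Net := [o_g8, o_g9, o_g12, o_g13, o_g14, o_g17, o_g18, o_g19, o_g20, o_g23, o_g24, o_g25, o_g26, o_c, o_g27, o_g30, o_g31, o_g32, o_g, o_g35, o_g1, o_g2, o_g3, o_g4, o_g5, o_b, o_d, o_e, o_f, o_h, o_i, o_g295, o_g296, o_g297, o_g298, o_g543, o_g544]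

theorem ot_c45_cnt_EG_ok : okE 351 ot_c45_cnt_EG = true := (okE_cons.2 ⟨o_g8_ok, (okE_cons.2 ⟨o_g9_ok, (okE_cons.2 ⟨o_g12_ok, (okE_cons.2 ⟨o_g13_ok, (okE_cons.2 ⟨o_g14_ok, (okE_cons.2 ⟨o_g17_ok, (okE_cons.2 ⟨o_g18_ok, (okE_cons.2 ⟨o_g19_ok, (okE_cons.2 ⟨o_g20_ok, (okE_cons.2 ⟨o_g23_ok, (okE_cons.2 ⟨o_g24_ok, (okE_cons.2 ⟨o_g25_ok, (okE_cons.2 ⟨o_g26_ok, (okE_cons.2 ⟨o_c_ok, (okE_cons.2 ⟨o_g27_ok, (okE_cons.2 ⟨o_g30_ok, (okE_cons.2 ⟨o_g31_ok, (okE_cons.2 ⟨o_g32_ok, (okE_cons.2 ⟨o_g_ok, (okE_cons.2 ⟨o_g35_ok, (okE_cons.2 ⟨o_g1_ok, (okE_cons.2 ⟨o_g2_ok, (okE_cons.2 ⟨o_g3_ok, (okE_cons.2 ⟨o_g4_ok, (okE_cons.2 ⟨o_g5_ok, (okE_cons.2 ⟨o_b_ok, (okE_cons.2 ⟨o_d_ok, (okE_cons.2 ⟨o_e_ok, (okE_cons.2 ⟨o_f_ok, (okE_cons.2 ⟨o_h_ok, (okE_cons.2 ⟨o_i_ok, (okE_cons.2 ⟨o_g295_ok, (okE_cons.2 ⟨o_g296_ok, (okE_cons.2 ⟨o_g297_ok, (okE_cons.2 ⟨o_g298_ok, (okE_cons.2 ⟨o_g543_ok, (okE_cons.2 ⟨o_g544_ok, (okE_nil 351)⟩)⟩)⟩)⟩)⟩)⟩)⟩)⟩)⟩)⟩)⟩)⟩)⟩)⟩)⟩)⟩)⟩)⟩)⟩)⟩)⟩)⟩)⟩)⟩)⟩)⟩)⟩)⟩)⟩)⟩)⟩)⟩)⟩)⟩)⟩)⟩)⟩)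

noncomputable def o_g578 : Net := (Net.cons (nat_lit 1) (nat_lit 0x1014551540155500001015451000415054541105055044405110450144155511141050155000514055144000) (Net.cons (nat_lit 2) (nat_lit 0x1102212331002130030321323131111212013011201102210223101302120032133131012133303230031112) (Net.cons (nat_lit 4) (nat_lit 0x60905020705030d06060c0a0f09030c000d010d00070f08030f0d0106030806020f0600000506010b020000) (Net.cons (nat_lit 8) (nat_lit 0x200de00cc00900079008a00210022001b007f002f00e700e700be002d00e9002800d1004e00e800da0080) (Net.cons (nat_lit 16) (nat_lit 0x2eb4000081930000ceeb0000ca840000e9710000061b00002601000022650000f3ba000000c500008000) (Net.cons (nat_lit 32) (nat_lit 0xc2cf25b000000007850141100000000301282ed0000000002e199f5000000001b00000a) (Net.cons (nat_lit 64) (nat_lit 0x3ade881000000000000000009e3314d515c0e2080000000000000000c3819fc300000000) (Net.cons (nat_lit 128) (nat_lit 0xd0e15ca452c55455c902984e660001b8) (Net.cons (nat_lit 256) (nat_lit 0x72ffded7ef939fdfffa76db8)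 (Net.cons (nat_lit 128) (nat_lit 0x8ad8f01ce9a5839bb3a2457) (Net.cons (nat_lit 64) (nat_lit 0x2f3263080000000000000000fc38089601eee039000000000000000091da08405c5c3c30) (Net.cons (nat_lit 32) (nat_lit 0xcc14ecf700000000029b957c00000000ba45bd5200000000c205f090000000004b83bc07) (Net.cons (nat_lit 16) (nat_lit 0x75bb00000ad400009ddb0000e0c400004d630000bc060000fbdc0000a81c00003c2a0000e1ab0000330e) (Net.cons (nat_lit 8) (nat_lit 0x5b00e7001c00bf00ca0055008800c400da00a00033005a001d0016005e00f700dd00e000ed006d00ac001d) (Net.cons (nat_lit 4) (nat_lit 0x30406030104020d090a000304020b030a050b00020d07070c0a0f00020900070b0a0d0b060f0502080e0c07) (Net.cons (nat_lit 2) (nat_lit 0x312213103203212111133103011013001132310023022100012112133320111120102211331023221122303) (Net.cons (nat_lit 1) (nat_lit 0x1040104155110045104055405501454401441015044044005151544444010511151500505000500144510514) Net.nil)))))))))))))))))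

theorem o_g578_ok : Net.ok 351 o_g578 = true := by decide +kernel

noncomputable def o_g579 : Net := (Net.cons (nat_lit 1) (nat_lit 0x554011041151055400454100441545145145551011415555055101445404450414115004150045105404140) (Net.cons (nat_lit 2) (nat_lit 0x1311302300200012320313110031231023123201122133113301333333321101212320302322232323321100) (Net.cons (nat_lit 4) (nat_lit 0x50d000e0e040a0705010e0d0405030c0b000307050606020606080a0106000a08080e08060f010d03010408) (Net.cons (nat_lit 8) (nat_lit 0x2b007000e2006e00da009f004000d50082008800380096003e00030036000a0018001600e7009000a30080) (Net.cons (nat_lit 16) (nat_lit 0x663500001d850000474f000080540000b954000063cb00000b7f000050bd0000e200000010a000000000) (Net.cons (nat_lit 32) (nat_lit 0x8aee0b0900000000484220450000000033409d9b00000000210cb7da000000000280e003) (Net.cons (nat_lit 64) (nat_lit 0x71f48a5600000000000000002a2c504300081cf00000000000000000c034338c00000000) (Net.cons (nat_lit 128) (nat_lit 0xb72f7f12a0517180ad5ca01a5002475e)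 (Net.cons (nat_lit 256) (nat_lit 0x25fdfbcffd7cfbbfd2b3f75e) (Net.cons (nat_lit 128) (nat_lit 0x7859a38eed84adf378e348e9) (Net.cons (nat_lit 64) (nat_lit 0x3a41492d00000000000000007eab780920ab7e610000000000000000d40a65648acd2257) (Net.cons (nat_lit 32) (nat_lit 0x7496abe30000000033d82468000000001c6cf138000000006b781548000000005d6d79c6) (Net.cons (nat_lit 16) (nat_lit 0x33850000e0e800005f250000065500006e2c0000271900004de20000c4f80000780b0000d8a300008ffa) (Net.cons (nat_lit 8) (nat_lit 0x200be00b7009200e200c1004c005b00b300be002400ed00b000670023002d00c300dd00490093005c0018) (Net.cons (nat_lit 4) (nat_lit 0x7090b070a030d0a010a0b090e0106070b030b070709000f0e0e0d030502040c060e000f0d0401080e070b0b) (Net.cons (nat_lit 2) (nat_lit 0x301302011102203202332332000223010012213021232113323013023233302123130220221033011200011) (Net.cons (nat_lit 1) (nat_lit 0x554555450010150454545515550440055504441151005541154005105544155514005441015450140415500) Net.nil)))))))))))))))))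

theorem o_g579_ok : Net.ok 351 o_g579 = true := by decide +kernel

noncomputable def o_g580 : Net := (Net.cons (nat_lit 1) (nat_lit 0x510045411155500450051055550015541555104000151554504055055501454054544055444400110005440) (Net.cons (nat_lit 2) (nat_lit 0x1003020320233011201020000220201330111033113332131131103020002021333332322023300133322012) (Net.cons (nat_lit 4) (nat_lit 0x40d090e0204090a050906040205040701060e020e0e03010f0b0c040d040c010207000d000c0807040100) (Net.cons (nat_lit 8) (nat_lit 0x20094009d002100010072002a00c70087004500c1006100dd0023005b00d2006400fe0088000900180000) (Net.cons (nat_lit 16) (nat_lit 0x10040000820b0000d313000046260000c687000059c80000a5bd000029dc0000910400008b0600008000) (Net.cons (nat_lit 32) (nat_lit 0x960ae428000000001be7a02a000000004dd6e464000000004728a2710000000005112ac8) (Net.cons (nat_lit 64) (nat_lit 0x196be40200000000000000006856d20b9020c0580000000000000000c930280400000000) (Net.cons (nat_lit 128) (nat_lit 0x6ccd8b770404623a282d58a827c5a401)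 (Net.cons (nat_lit 256) (nat_lit 0x26bcf33afffd7fbfbfc7ae51) (Net.cons (nat_lit 128) (nat_lit 0x2924f5a8ac9a5dc0938354de) (Net.cons (nat_lit 64) (nat_lit 0x6ad04ed90000000000000000524bc96794cef63f00000000000000008f049c6c734611b0) (Net.cons (nat_lit 32) (nat_lit 0x141568dc00000000fa2ea12900000000421b78dd0000000002948f55000000002ec37ca4) (Net.cons (nat_lit 16) (nat_lit 0x5f8200002d5b0000f3280000466f00002968000021510000afa0000018ed0000c8b10000803200008b8b) (Net.cons (nat_lit 8) (nat_lit 0x47005f0095000d00a300f600830086006a0034005b0065007c00030082001f006300fc00080079008f0003) (Net.cons (nat_lit 4) (nat_lit 0x30809020a0a050e0a02060c0e0c030d02090a0c0b000d0e0f0c08050d040c05030d04030d0008080908040e) (Net.cons (nat_lit 2) (nat_lit 0x102101320301112232101032222322303330232202023030132101001223023221222203033003222230012) (Net.cons (nat_lit 1) (nat_lit 0x400145015115050450000054540445544551144411050545540051041045055140544051054105550101540) Net.nil)))))))))))))))))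

theorem o_g580_ok : Net.ok 351 o_g580 = true := by decide +kernel

noncomputable def ot_c46_K : List Net := [o_g578, o_g579, o_g580]

theorem ot_c46_K_ok : okE 351 ot_c46_K = true := (okE_cons.2 ⟨o_g578_ok, (okE_cons.2 ⟨o_g579_ok, (okE_cons.2 ⟨o_g580_ok, (okE_nil 351)⟩)⟩)⟩)

noncomputable def ot_c46_cnt_EG : List Net := [o_b, o_c, o_d, o_e, o_f, o_g, o_h, o_i, o_g1, o_g2, o_g3, o_g4, o_g5, o_g8, o_g9, o_g12, o_g13, o_g14, o_g17, o_g18, o_g19, o_g20, o_g23, o_g24, o_g25, o_g26, o_g27, o_g30, o_g31, o_g32, o_g35, o_g111]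

theorem ot_c46_cnt_EG_ok : okE 351 ot_c46_cnt_EG = true := (okE_cons.2 ⟨o_b_ok, (okE_cons.2 ⟨o_c_ok, (okE_cons.2 ⟨o_d_ok, (okE_cons.2 ⟨o_e_ok, (okE_cons.2 ⟨o_f_ok, (okE_cons.2 ⟨o_g_ok, (okE_cons.2 ⟨o_h_ok, (okE_cons.2 ⟨o_i_ok, (okE_cons.2 ⟨o_g1_ok, (okE_cons.2 ⟨o_g2_ok, (okE_cons.2 ⟨o_g3_ok, (okE_cons.2 ⟨o_g4_ok, (okE_cons.2 ⟨o_g5_ok, (okE_cons.2 ⟨o_g8_ok, (okE_cons.2 ⟨o_g9_ok, (okE_cons.2 ⟨o_g12_ok, (okE_cons.2 ⟨o_g13_ok, (okE_cons.2 ⟨o_g14_ok, (okE_cons.2 ⟨o_g17_ok, (okE_cons.2 ⟨o_g18_ok, (okE_cons.2 ⟨o_g19_ok, (okE_cons.2 ⟨o_g20_ok, (okE_cons.2 ⟨o_g23_ok, (okE_cons.2 ⟨o_g24_ok, (okE_cons.2 ⟨o_g25_ok, (okE_cons.2 ⟨o_g26_ok, (okE_cons.2 ⟨o_g27_ok, (okE_cons.2 ⟨o_g30_ok, (okE_cons.2 ⟨o_g31_ok, (okE_cons.2 ⟨o_g32_ok, (okE_cons.2 ⟨o_g35_ok, (okE_cons.2 ⟨o_g111_ok, (okE_nil 351)⟩)⟩)⟩)⟩)⟩)⟩)⟩)⟩)⟩)⟩)⟩)⟩)⟩)⟩)⟩)⟩)⟩)⟩)⟩)⟩)⟩)⟩)⟩)⟩)⟩)⟩)⟩)⟩)⟩)⟩)⟩)⟩)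

noncomputable def o_g582 : Net := (Net.cons (nat_lit 1) (nat_lit 0x410415510010410015401445050154154004554514000410055455444044555114055454540151544415114) (Net.cons (nat_lit 2) (nat_lit 0x231330321230312023002102132313322303113130020203121131310110110323112232032330002011220) (Net.cons (nat_lit 4) (nat_lit 0x10b0a0803000a05080b0a0a0a050904000e08060405000c0604000c0f010c01060604040402020907020708) (Net.cons (nat_lit 8) (nat_lit 0x4002700cf0057003a00340064002c007a00fc002500f800c30011004f007e00d900b300c500a000200000) (Net.cons (nat_lit 16) (nat_lit 0x51ab0000846c00007b6f0000467d0000116000003a2100008af10000b6d70000f2f40000d75000000000) (Net.cons (nat_lit 32) (nat_lit 0xcea108b10000000015870c350000000071c67e2100000000b4718e750000000048540c09) (Net.cons (nat_lit 64) (nat_lit 0x18220c8800000000000000009b412a2d104cc206000000000000000004895b0780000000) (Net.cons (nat_lit 128) (nat_lit 0xb7aa163dec15ae305a00a32da04258a7) (Net.cons (nat_lit 256) (nat_lit 0x7f55fe3e5fedfbffade2ffb7)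 (Net.cons (nat_lit 128) (nat_lit 0x612d9ef758c3cae5d935c052) (Net.cons (nat_lit 64) (nat_lit 0x4035f050000000000000000a394cbf5f66ccc3d0000000000000000e918f93357743dd4) (Net.cons (nat_lit 32) (nat_lit 0x503ae76e00000000aebbf8cd00000000da0ea42b00000000c8b57bc10000000010458cdf) (Net.cons (nat_lit 16) (nat_lit 0x298400002ff70000c2d00000f4980000394e0000efa9000006a500000d2b0000efbd0000528a0000f592) (Net.cons (nat_lit 8) (nat_lit 0x7400f40088002f007100a30063005300ce006e00f4007100a3009a000000f3003c00eb0013007f00a6007c) (Net.cons (nat_lit 4) (nat_lit 0x30e080d0208090f070b0d080e0d0604070202010003060a05020203030d00070f0f070d050701000f0f0b07) (Net.cons (nat_lit 2) (nat_lit 0x302133310201110123303022222122312211020313213103110031312032303131201310001002133222232) (Net.cons (nat_lit 1) (nat_lit 0x540041411440545411144400501511551511405514110000540440445151555440404151504554454411511) Net.nil)))))))))))))))))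

theorem o_g582_ok : Net.ok 351 o_g582 = true := by decide +kernel

noncomputable def o_g583 : Net := (Net.cons (nat_lit 1) (nat_lit 0x115555415451051505100515511505405445004000555441041101510044554411401450111140440155440) (Net.cons (nat_lit 2) (nat_lit 0x101202101213220120010212332022122110122122313103321000100003113332122223321101010100100) (Net.cons (nat_lit 4) (nat_lit 0xf020e0c0c000e070f05050203030409010006040c050a000e0c0a09040e00090b02000e00060400050708) (Net.cons (nat_lit 8) (nat_lit 0x2000b3009c00ab00dd000c007800da00b8004a00f700dd005500f0002b008900140073008c008e00b00000) (Net.cons (nat_lit 16) (nat_lit 0x43370000c88300006c9d0000365800002d500000365200000dbd00001d93000036930000628800000000) (Net.cons (nat_lit 32) (nat_lit 0xaa2f32500000000d9114f2000000000a8f2e052000000000ad4c1030000000064e3a208) (Net.cons (nat_lit 64) (nat_lit 0x2848111000000000000000006b0c490801015a100000000000000000b026b0000000000) (Net.cons (nat_lit 128) (nat_lit 0xe5b0893f90143004b2b4c01ce4088423)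 (Net.cons (nat_lit 256) (nat_lit 0x347f3a1fbbb7eb1ef7baf563) (Net.cons (nat_lit 128) (nat_lit 0x781b3731602a9fd7ce5ceea2) (Net.cons (nat_lit 64) (nat_lit 0x790a20830000000000000000bda145b258c3bd91000000000000000005a41223ea4dc089) (Net.cons (nat_lit 32) (nat_lit 0x2c97f0d0000000097c623aa0000000020d6a7ed000000007926ea5400000000aed5e802) (Net.cons (nat_lit 16) (nat_lit 0x4840000b803000044d50000d40e00006b7a0000b48a0000da52000093440000d0720000627e0000e32e) (Net.cons (nat_lit 8) (nat_lit 0x5200c60062009f0074004f00c40017008600860009009d002600a100a2007b002a005600c60066003300b4) (Net.cons (nat_lit 4) (nat_lit 0x6000c080a0d0808030c080102050d060f02090e0c0c0b0c08040f0a0e020a0e09080c060a070a0e0703020d) (Net.cons (nat_lit 2) (nat_lit 0x1101233221023020230202110302120131322132122301323101222011003202103211013312110022300330) (Net.cons (nat_lit 1) (nat_lit 0x515115010550450141041414504415040405101140114104441151104040150414510510401115054111404) Net.nil)))))))))))))))))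

theorem o_g583_ok : Net.ok 351 o_g583 = true := by decide +kernel

noncomputable def o_g584 : Net := (Net.cons (nat_lit 1) (nat_lit 0x555441401501045401415504154054411150414001000510140015045000415000550451100410150501050) (Net.cons (nat_lit 2) (nat_lit 0x330302200310031031333221122022132133332132001030320202011230102220130020220210231132000) (Net.cons (nat_lit 4) (nat_lit 0xb0808070907050507040e040003090c040e050a080a04000505010808000d030e080e030f0d0b06080800) (Net.cons (nat_lit 8) (nat_lit 0x900710033009600f3003f002e0039002a00c2001c006a003300f0006e0011000a00b300a0006600030000) (Net.cons (nat_lit 16) (nat_lit 0x9c30000d23d00009fa400004825000063240000f932000067ab0000a1330000c863000004a200000000) (Net.cons (nat_lit 32) (nat_lit 0x29c8637900000000b23d9815000000009dfc940300000000de315260000000001c4060d6) (Net.cons (nat_lit 64) (nat_lit 0x4cc2414400000000000000000d0071810118e8000000000000000000a014021380000000) (Net.cons (nat_lit 128) (nat_lit 0xee9fcd2500a4f01a0c9291308a400b05)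 (Net.cons (nat_lit 256) (nat_lit 0x20a6f87baef793b7ffe4ab5f) (Net.cons (nat_lit 128) (nat_lit 0x1b58d873c31330c468e4d82e) (Net.cons (nat_lit 64) (nat_lit 0x3c1f2dcd00000000000000000001920fde0f6ed900000000000000001d9010ad03e5229e) (Net.cons (nat_lit 32) (nat_lit 0x8b48c04e000000005a9c1ab0000000003ec43fc0000000007bcd31b3000000000d43ff44) (Net.cons (nat_lit 16) (nat_lit 0x1f20000fae9000085cc0000c7d50000e301000081660000671300005047000090ab000095a200006291) (Net.cons (nat_lit 8) (nat_lit 0x3800b100d600c70093009d008b003a00a200a300e7000b0094009900910040002e004a008800e700f200f1) (Net.cons (nat_lit 4) (nat_lit 0xa0908070907050405040b0500070b0d050e0508080a0400050501080c050d070a080e000e0d0b060a0800) (Net.cons (nat_lit 2) (nat_lit 0x1330202201311130030233330022032132023322033011121320202001331003321130031231210231033001) (Net.cons (nat_lit 1) (nat_lit 0x555441401501045401415504154054411150414001000510140015045000415000550451100410150501050) Net.nil)))))))))))))))))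

theorem o_g584_ok : Net.ok 351 o_g584 = true := by decide +kernel

noncomputable def ot_c47_K : List Net := [o_g582, o_g583, o_g584]

theorem ot_c47_K_ok : okE 351 ot_c47_K = true := (okE_cons.2 ⟨o_g582_ok, (okE_cons.2 ⟨o_g583_ok, (okE_cons.2 ⟨o_g584_ok, (okE_nil 351)⟩)⟩)⟩)

noncomputable def ot_c47_cnt_EG : List Net := [o_b, o_c, o_d, o_e, o_f, o_g, o_h, o_i, o_g1, o_g2, o_g3, o_g4, o_g5, o_g8, o_g9, o_g12, o_g13, o_g14, o_g17, o_g18, o_g19, o_g20, o_g23, o_g24, o_g25, o_g26, o_g27, o_g30, o_g31, o_g32, o_g35, o_g111]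

theorem ot_c47_cnt_EG_ok : okE 351 ot_c47_cnt_EG = true := (okE_cons.2 ⟨o_b_ok, (okE_cons.2 ⟨o_c_ok, (okE_cons.2 ⟨o_d_ok, (okE_cons.2 ⟨o_e_ok, (okE_cons.2 ⟨o_f_ok, (okE_cons.2 ⟨o_g_ok, (okE_cons.2 ⟨o_h_ok, (okE_cons.2 ⟨o_i_ok, (okE_cons.2 ⟨o_g1_ok, (okE_cons.2 ⟨o_g2_ok, (okE_cons.2 ⟨o_g3_ok, (okE_cons.2 ⟨o_g4_ok, (okE_cons.2 ⟨o_g5_ok, (okE_cons.2 ⟨o_g8_ok, (okE_cons.2 ⟨o_g9_ok, (okE_cons.2 ⟨o_g12_ok, (okE_cons.2 ⟨o_g13_ok, (okE_cons.2 ⟨o_g14_ok, (okE_cons.2 ⟨o_g17_ok, (okE_cons.2 ⟨o_g18_ok, (okE_cons.2 ⟨o_g19_ok, (okE_cons.2 ⟨o_g20_ok, (okE_cons.2 ⟨o_g23_ok, (okE_cons.2 ⟨o_g24_ok, (okE_cons.2 ⟨o_g25_ok, (okE_cons.2 ⟨o_g26_ok, (okE_cons.2 ⟨o_g27_ok, (okE_cons.2 ⟨o_g30_ok, (okE_cons.2 ⟨o_g31_ok, (okE_cons.2 ⟨o_g32_ok, (okE_cons.2 ⟨o_g35_ok, (okE_cons.2 ⟨o_g111_ok, (okE_nil 351)⟩)⟩)⟩)⟩)⟩)⟩)⟩)⟩)⟩)⟩)⟩)⟩)⟩)⟩)⟩)⟩)⟩)⟩)⟩)⟩)⟩)⟩)⟩)⟩)⟩)⟩)⟩)⟩)⟩)⟩)⟩)⟩)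

noncomputable def o_g586 : Net := (Net.cons (nat_lit 1) (nat_lit 0x1414001511144440510455445101405500555154151110504155454005504011150050011145011504441511) (Net.cons (nat_lit 2) (nat_lit 0x1032203002320003011211121121323223123120213223013002101232011322211111220023231113210022) (Net.cons (nat_lit 4) (nat_lit 0x10c0a0e0b0502060a00030b040d010d0203000908060b0605000c0e010a0d0f010a0a060d060f070a080008) (Net.cons (nat_lit 8) (nat_lit 0x3c0052004200e900cf0097001100c4004300e700890027003900660067008e009f007c0016004c00f10000) (Net.cons (nat_lit 16) (nat_lit 0x5ee9000036eb0000a01b000008500000ad3900003a6e000076ea0000000700009ff80000092200000000) (Net.cons (nat_lit 32) (nat_lit 0x26a3021000000003acbcf2c000000003d96c69e0000000088b147200000000005808a82) (Net.cons (nat_lit 64) (nat_lit 0x136c19000000000000000013a06ca280a1b00900000000000000002003831000000000) (Net.cons (nat_lit 128) (nat_lit 0xbc0175b24e07938293d47ee018282030) (Net.cons (nat_lit 256) (nat_lit 0x7fbfbbf3b3fffff03f78e7b8)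 (Net.cons (nat_lit 128) (nat_lit 0x79bf83eec020d1d5e7072ef1) (Net.cons (nat_lit 64) (nat_lit 0x7117925a0000000000000000ef48eaf496aee3140000000000000000e5e12d6ed8bb6500) (Net.cons (nat_lit 32) (nat_lit 0x81042bd000000000c6a7046600000000fee6c06f00000000cf415cd900000000ca82c816) (Net.cons (nat_lit 16) (nat_lit 0x6bca0000f12800005fed000039ab000010e20000d1c90000e40c00007d3d0000d4e6000074920000478c) (Net.cons (nat_lit 8) (nat_lit 0x37007900bb00f0008e000c00b6001a007b000500fd00d5003d008d0096000c001e00fe000c008000260061) (Net.cons (nat_lit 4) (nat_lit 0x10f03080c070802010d0a0a0004080603070b0f07030c0c030e020c0b0700000800090d0809020a0b060701) (Net.cons (nat_lit 2) (nat_lit 0x1231221331210022003212113311001003130130222210133003300320101330300010102232133130200220) (Net.cons (nat_lit 1) (nat_lit 0x540110555144154440511150105400411040401050054050450404045415551440101444151051455145104) Net.nil)))))))))))))))))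

theorem o_g586_ok : Net.ok 351 o_g586 = true := by decide +kernel

noncomputable def o_g587 : Net := (Net.cons (nat_lit 1) (nat_lit 0x111044041455140400044150454101110115550145050505555055540555151044555444040450155044404) (Net.cons (nat_lit 2) (nat_lit 0x31301110210110133333221031033113030010102323030002013001022002121000220121301103321200) (Net.cons (nat_lit 4) (nat_lit 0x10d0a050a0e03000a0e0d02070b0e0e0d070801060003050e0c010f0a080b0a060f050b0c09020306080908) (Net.cons (nat_lit 8) (nat_lit 0x2c0006000c002700d20095001e0031000b00bd009200cb006c000d00ab002d00aa0042000f00f200000000) (Net.cons (nat_lit 16) (nat_lit 0x22cc0000987f000072c20000c515000091880000b0130000fddb000059770000100a0000307900000000) (Net.cons (nat_lit 32) (nat_lit 0x830232480000000024c462460000000012533a54000000002ea32dc000000000070c0c33) (Net.cons (nat_lit 64) (nat_lit 0x1a4a2800000000000000000aa94352a8146333800000000000000003d20878900000000) (Net.cons (nat_lit 128) (nat_lit 0xe34a0ef444286b1d286250a3bb4e4402)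 (Net.cons (nat_lit 256) (nat_lit 0x762eef9d3f72d7fbbfce7c2b) (Net.cons (nat_lit 128) (nat_lit 0xb353d3534d5b1dc17b305d3) (Net.cons (nat_lit 64) (nat_lit 0x3aed00bf0000000000000000afeef0d3fc51bfb90000000000000000b6339c13d9b4f1fe) (Net.cons (nat_lit 32) (nat_lit 0x8f272dc10000000068b94067000000009dc9ea5300000000c9b23d3c00000000b47d4d90) (Net.cons (nat_lit 16) (nat_lit 0x2d550000fec400001f0b0000b65e000055770000efef0000a235000054aa0000999f0000301b0000412d) (Net.cons (nat_lit 8) (nat_lit 0x79006f0050007700940037005100f6009d00470076001f00320081001d00c300c300f20072004a00ce0017) (Net.cons (nat_lit 4) (nat_lit 0x4090a030a040f090e0a06070a000a0e01040e0d0e010f07050604060a0704020f0b060f0804090c0c07090a) (Net.cons (nat_lit 2) (nat_lit 0x1331131332310101211122132212313023112213203201001212000101203203121021313002012321301322) (Net.cons (nat_lit 1) (nat_lit 0x111050145504105111400051511005005105504151500401451541145054510100450551514144400141514) Net.nil)))))))))))))))))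

theorem o_g587_ok : Net.ok 351 o_g587 = true := by decide +kernel

noncomputable def o_g588 : Net := (Net.cons (nat_lit 1) (nat_lit 0x55554540111004500011500545554104014004115101144050451404004500155115100400400100010040) (Net.cons (nat_lit 2) (nat_lit 0x1332302220012100223012112103311303002111033001212100031112312203233001102300000220210000) (Net.cons (nat_lit 4) (nat_lit 0x2030109020305020e04030b010d030a00070b0d0c05040804090c0d0d070604070609040c0f090102080000) (Net.cons (nat_lit 8) (nat_lit 0x61004c00c4008f001400f3009800fa0092008c000e00020073003700ad00420009000100d2000600290000) (Net.cons (nat_lit 16) (nat_lit 0x55e0000e7980000c4bd00002b4500006705000064150000b064000030980000f1b20000248300008000) (Net.cons (nat_lit 32) (nat_lit 0x2469f3310000000025a044880000000069e412d200000000c0f144400000000004604038) (Net.cons (nat_lit 64) (nat_lit 0x8212000000000000000000a2a652de56f51200000000000000000081710c600000000) (Net.cons (nat_lit 128) (nat_lit 0x253262269104018a06695e2050a044b8)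 (Net.cons (nat_lit 256) (nat_lit 0x55acf18e5ffffee771b7c5ba) (Net.cons (nat_lit 128) (nat_lit 0x49f248e8af784719268d177f) (Net.cons (nat_lit 64) (nat_lit 0x59ecf9b30000000000000000002a6b7ca7da34f3000000000000000083de1a46d0a4d7cb) (Net.cons (nat_lit 32) (nat_lit 0x1678e51100000000a7f2c08d00000000e3f51cf600000000406156e0000000008571423d) (Net.cons (nat_lit 16) (nat_lit 0xccf0000ec0c0000de3d000021d500006f9c00006c950000fa710000381c0000e93300002c420000abb8) (Net.cons (nat_lit 8) (nat_lit 0x70005c00d400bf003500e7009800db0082008c000f000600f3002700bc004a0009001100cb001600190020) (Net.cons (nat_lit 4) (nat_lit 0x3020008030304030e06030b010d030a00070a0c0c040408040c080c0c060604070609040d0f0d01020b0100) (Net.cons (nat_lit 2) (nat_lit 0x1332302220012100223012112103311303002111033021212100031112312203233001102300000220210000) (Net.cons (nat_lit 1) (nat_lit 0x55554540111004500011500545554104014004115101144050451404004500155115100400400100010040) Net.nil)))))))))))))))))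

theorem o_g588_ok : Net.ok 351 o_g588 = true := by decide +kernel

noncomputable def ot_c48_K : List Net := [o_g586, o_g587, o_g588]

theorem ot_c48_K_ok : okE 351 ot_c48_K = true := (okE_cons.2 ⟨o_g586_ok, (okE_cons.2 ⟨o_g587_ok, (okE_cons.2 ⟨o_g588_ok, (okE_nil 351)⟩)⟩)⟩)

noncomputable def ot_c48_cnt_EG : List Net := [o_b, o_c, o_d, o_e, o_f, o_g, o_h, o_i, o_g1, o_g2, o_g3, o_g4, o_g5, o_g8, o_g9, o_g12, o_g13, o_g14, o_g17, o_g18, o_g19, o_g20, o_g23, o_g24, o_g25, o_g26, o_g27, o_g30, o_g31, o_g32, o_g35, o_g88, o_g89, o_g90, o_g91, o_g92, o_g93, o_g94, o_g454, o_g455, o_g456, o_g457]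

theorem ot_c48_cnt_EG_ok : okE 351 ot_c48_cnt_EG = true := (okE_cons.2 ⟨o_b_ok, (okE_cons.2 ⟨o_c_ok, (okE_cons.2 ⟨o_d_ok, (okE_cons.2 ⟨o_e_ok, (okE_cons.2 ⟨o_f_ok, (okE_cons.2 ⟨o_g_ok, (okE_cons.2 ⟨o_h_ok, (okE_cons.2 ⟨o_i_ok, (okE_cons.2 ⟨o_g1_ok, (okE_cons.2 ⟨o_g2_ok, (okE_cons.2 ⟨o_g3_ok, (okE_cons.2 ⟨o_g4_ok, (okE_cons.2 ⟨o_g5_ok, (okE_cons.2 ⟨o_g8_ok, (okE_cons.2 ⟨o_g9_ok, (okE_cons.2 ⟨o_g12_ok, (okE_cons.2 ⟨o_g13_ok, (okE_cons.2 ⟨o_g14_ok, (okE_cons.2 ⟨o_g17_ok, (okE_cons.2 ⟨o_g18_ok, (okE_cons.2 ⟨o_g19_ok, (okE_cons.2 ⟨o_g20_ok, (okE_cons.2 ⟨o_g23_ok, (okE_cons.2 ⟨o_g24_ok, (okE_cons.2 ⟨o_g25_ok, (okE_cons.2 ⟨o_g26_ok, (okE_cons.2 ⟨o_g27_ok, (okE_cons.2 ⟨o_g30_ok, (okE_cons.2 ⟨o_g31_ok, (okE_cons.2 ⟨o_g32_ok, (okE_cons.2 ⟨o_g35_ok, (okE_cons.2 ⟨o_g88_ok, (okE_cons.2 ⟨o_g89_ok, (okE_cons.2 ⟨o_g90_ok, (okE_cons.2 ⟨o_g91_ok, (okE_cons.2 ⟨o_g92_ok, (okE_cons.2 ⟨o_g93_ok, (okE_cons.2 ⟨o_g94_ok, (okE_cons.2 ⟨o_g454_ok, (okE_cons.2 ⟨o_g455_ok, (okE_cons.2 ⟨o_g456_ok,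 (okE_cons.2 ⟨o_g457_ok, (okE_nil 351)⟩)⟩)⟩)⟩)⟩)⟩)⟩)⟩)⟩)⟩)⟩)⟩)⟩)⟩)⟩)⟩)⟩)⟩)⟩)⟩)⟩)⟩)⟩)⟩)⟩)⟩)⟩)⟩)⟩)⟩)⟩)⟩)⟩)⟩)⟩)⟩)⟩)⟩)⟩)⟩)⟩)⟩)

noncomputable def o_g590 : Net := (Net.cons (nat_lit 1) (nat_lit 0x1055444414011401545044440015114010055411105014454511454104111555501045504545550150145400) (Net.cons (nat_lit 2) (nat_lit 0x20121032300011200101023223300232232231023300101301213202123111122023000312112310002112) (Net.cons (nat_lit 4) (nat_lit 0x7090908020e0e0f060f0804070404040a070f04060102030304090201090c0805080501080c0305080d0100) (Net.cons (nat_lit 8) (nat_lit 0x460089001b004700440097005c004c00190040006a00ad007000ea00760059008f00ca00b8001000080000) (Net.cons (nat_lit 16) (nat_lit 0x5caf00009e1f00000c3200007bed0000dfa20000ad3900005f5e0000469400005a7800001e9300008000) (Net.cons (nat_lit 32) (nat_lit 0x80fe0161000000009a90207800000000226b74b800000000520be6810000000015396855) (Net.cons (nat_lit 64) (nat_lit 0x448d1264000000000000000078cdc8152ab2110f000000000000000013d4c44800000000)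 (Net.cons (nat_lit 128) (nat_lit 0x2db748c8808000500040e21d6b2212fb) (Net.cons (nat_lit 256) (nat_lit 0x71af585b7bdde7fffffb5aff) (Net.cons (nat_lit 128) (nat_lit 0x79a75821d1084468bc5a8d7f) (Net.cons (nat_lit 64) (nat_lit 0x44fdbf010000000000000000cc50e48ba4bf076500000000000000004a73722aa7190ddf) (Net.cons (nat_lit 32) (nat_lit 0xfe10f5c600000000da1e818f0000000068b2f70d00000000d8d907c30000000057365700) (Net.cons (nat_lit 16) (nat_lit 0x6ece00000d4e0000555c0000bc060000c11700000f900000851e0000cf8100004a590000c1c50000609c) (Net.cons (nat_lit 8) (nat_lit 0x26008300e7008200ef002c0076001a00fc001700b400cb000d0023003b007100c1005700b2007800b400e9) (Net.cons (nat_lit 4) (nat_lit 0x2010c030b0f00070f0d0c0302050601060a070f0a0a040b0804020c040409040b090e03090a020700030300) (Net.cons (nat_lit 2) (nat_lit 0x100203133020311323130203030000123233113012001021021132131330330111012321032021113030120) (Net.cons (nat_lit 1) (nat_lit 0x401510100500501455140545155454545510411555510445451455505550154401115055404441455111454)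 Net.nil)))))))))))))))))

theorem o_g590_ok : Net.ok 351 o_g590 = true := by decide +kernel

noncomputable def ot_c49_K : List Net := [o_g590]

theorem ot_c49_K_ok : okE 351 ot_c49_K = true := (okE_cons.2 ⟨o_g590_ok, (okE_nil 351)⟩)

noncomputable def ot_c49_cnt_EG : List Net := [o_b, o_c, o_d, o_e, o_f, o_g, o_h, o_i, o_g1, o_g2, o_g3, o_g4, o_g5, o_g8, o_g9, o_g12, o_g13, o_g14, o_g17, o_g18, o_g19, o_g20, o_g23, o_g24, o_g25, o_g26, o_g27, o_g30, o_g31, o_g32, o_g35]

theorem ot_c49_cnt_EG_ok : okE 351 ot_c49_cnt_EG = true := (okE_cons.2 ⟨o_b_ok, (okE_cons.2 ⟨o_c_ok, (okE_cons.2 ⟨o_d_ok, (okE_cons.2 ⟨o_e_ok, (okE_cons.2 ⟨o_f_ok, (okE_cons.2 ⟨o_g_ok, (okE_cons.2 ⟨o_h_ok, (okE_cons.2 ⟨o_i_ok, (okE_cons.2 ⟨o_g1_ok, (okE_cons.2 ⟨o_g2_ok, (okE_cons.2 ⟨o_g3_ok, (okE_cons.2 ⟨o_g4_ok, (okE_cons.2 ⟨o_g5_ok, (okE_cons.2 ⟨o_g8_ok, (okE_cons.2 ⟨o_g9_ok, (okE_cons.2 ⟨o_g12_ok, (okE_cons.2 ⟨o_g13_ok, (okE_cons.2 ⟨o_g14_ok, (okE_cons.2 ⟨o_g17_ok, (okE_cons.2 ⟨o_g18_ok, (okE_cons.2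 ⟨o_g19_ok, (okE_cons.2 ⟨o_g20_ok, (okE_cons.2 ⟨o_g23_ok, (okE_cons.2 ⟨o_g24_ok, (okE_cons.2 ⟨o_g25_ok, (okE_cons.2 ⟨o_g26_ok, (okE_cons.2 ⟨o_g27_ok, (okE_cons.2 ⟨o_g30_ok, (okE_cons.2 ⟨o_g31_ok, (okE_cons.2 ⟨o_g32_ok, (okE_cons.2 ⟨o_g35_ok, (okE_nil 351)⟩)⟩)⟩)⟩)⟩)⟩)⟩)⟩)⟩)⟩)⟩)⟩)⟩)⟩)⟩)⟩)⟩)⟩)⟩)⟩)⟩)⟩)⟩)⟩)⟩)⟩)⟩)⟩)⟩)⟩)⟩)

noncomputable def o_g592 : Net := (Net.cons (nat_lit 1) (nat_lit 0x1414110014100545150515551501004404554144001451141550401140055140415514404405405414505140) (Net.cons (nat_lit 2) (nat_lit 0x1013021131313101220112131033300002233212100212221112011203222233110321031011201031120300) (Net.cons (nat_lit 4) (nat_lit 0x70d03010e0e0105060f060406080e09060505020d000602060502070f0902020005090f090a020001080d00) (Net.cons (nat_lit 8) (nat_lit 0x51004c0031002c005100c400ff001d004c009b00fd006200a3001500ba004f00de005b0095000200e40080) (Net.cons (nat_lit 16) (nat_lit 0x41d60000301600006495000072b50000f861000086090000e0b4000001fc0000f4060000808600000000) (Net.cons (nat_lit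 32) (nat_lit 0x477448c40000000043caeac1000000001bac234200000000b740242f000000002b4ced14) (Net.cons (nat_lit 64) (nat_lit 0x3190c6150000000000000000091f5390030a0d8000000000000000000a01c88c80000000) (Net.cons (nat_lit 128) (nat_lit 0xb1f0d61601909bde4f18315136572241) (Net.cons (nat_lit 256) (nat_lit 0x63f2fffe5f1dffddbfd7fb5d) (Net.cons (nat_lit 128) (nat_lit 0x2cbff87ed5c791c309052f2a) (Net.cons (nat_lit 64) (nat_lit 0x5cbce1f000000000000000007d9b5840167fd97900000000000000002e10034d31e6afbe) (Net.cons (nat_lit 32) (nat_lit 0xbe5c7e2a00000000e2349fc100000000b3c2c89c000000006124b47600000000c28213f5) (Net.cons (nat_lit 16) (nat_lit 0x4c000000fcb40000f071000062a00000b91b0000ceb60000ce3d0000461c0000cc140000e0f8000072bd) (Net.cons (nat_lit 8) (nat_lit 0x7600ef004800d700cd00fb0036000e009500c50039007f0045008a003600c700af008b00b000ae0016003c) (Net.cons (nat_lit 4) (nat_lit 0x30d07070f0704090d010200010e07050b0301010d0f0200070a04010309000c0a0f040902000a000b0b0105) (Net.cons (nat_lit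 2) (nat_lit 0x1010212213030330311301111030102301313111030202103013020230000210203331112311101001103100) (Net.cons (nat_lit 1) (nat_lit 0x1400504010451450144054410511055554051450155050504144040050041014540144501054051050010145) Net.nil)))))))))))))))))

theorem o_g592_ok : Net.ok 351 o_g592 = true := by decide +kernel

noncomputable def ot_c50_K : List Net := [o_g592]

theorem ot_c50_K_ok : okE 351 ot_c50_K = true := (okE_cons.2 ⟨o_g592_ok, (okE_nil 351)⟩)

noncomputable def ot_c50_cnt_EG : List Net := [o_b, o_c, o_d, o_e, o_f, o_g, o_h, o_i, o_g1, o_g2, o_g3, o_g4, o_g5, o_g8, o_g9, o_g12, o_g13, o_g14, o_g17, o_g18, o_g19, o_g20, o_g23, o_g24, o_g25, o_g26, o_g27, o_g30, o_g31, o_g32, o_g35]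

theorem ot_c50_cnt_EG_ok : okE 351 ot_c50_cnt_EG = true := (okE_cons.2 ⟨o_b_ok, (okE_cons.2 ⟨o_c_ok, (okE_cons.2 ⟨o_d_ok, (okE_cons.2 ⟨o_e_ok, (okE_cons.2 ⟨o_f_ok, (okE_cons.2 ⟨o_g_ok, (okE_cons.2 ⟨o_h_ok, (okE_cons.2 ⟨o_i_ok, (okE_cons.2 ⟨o_g1_ok, (okE_cons.2 ⟨o_g2_ok, (okE_cons.2 ⟨o_g3_ok, (okE_cons.2 ⟨o_g4_ok, (okE_cons.2 ⟨o_g5_ok, (okE_cons.2 ⟨o_g8_ok, (okE_cons.2 ⟨o_g9_ok, (okE_cons.2 ⟨o_g12_ok, (okE_cons.2 ⟨o_g13_ok, (okE_cons.2 ⟨o_g14_ok, (okE_cons.2 ⟨o_g17_ok, (okE_cons.2 ⟨o_g18_ok, (okE_cons.2 ⟨o_g19_ok, (okE_cons.2 ⟨o_g20_ok, (okE_cons.2 ⟨o_g23_ok, (okE_cons.2 ⟨o_g24_ok, (okE_cons.2 ⟨o_g25_ok, (okE_cons.2 ⟨o_g26_ok, (okE_cons.2 ⟨o_g27_ok, (okE_cons.2 ⟨o_g30_ok, (okE_cons.2 ⟨o_g31_ok, (okE_cons.2 ⟨o_g32_ok, (okE_cons.2 ⟨o_g35_ok, (okE_nil 351)⟩)⟩)⟩)⟩)⟩)⟩)⟩)⟩)⟩)⟩)⟩)⟩)⟩)⟩)⟩)⟩)⟩)⟩)⟩)⟩)⟩)⟩)⟩)⟩)⟩)⟩)⟩)⟩)⟩)⟩)⟩)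

noncomputable def o_g594 : Net := (Net.cons (nat_lit 1) (nat_lit 0x1541504145140004015445014441140501505411050150014050015545445055111045444150004105141404) (Net.cons (nat_lit 2) (nat_lit 0x13300311032031330123023202011110000201331332300132312132012213322030130201012031330200) (Net.cons (nat_lit 4) (nat_lit 0x50f0e03070b070f060402020c0c09010a0509010500000c0b0f0b040509090f080b0108050d0a03040e0000) (Net.cons (nat_lit 8) (nat_lit 0x2d00d100e0004e008600210000003500b4004c0012001600cd0089007000ab009a00280048000c00820080) (Net.cons (nat_lit 16) (nat_lit 0x47d90000a3e800002bd00000559b00000f1b0000f7ea0000d8ea000042280000684200002ecd00000000) (Net.cons (nat_lit 32) (nat_lit 0xd8050c1a0000000041d7a035000000005a7a4c22000000000495a50d00000000140b4805) (Net.cons (nat_lit 64) (nat_lit 0x53916b5c0000000000000000f2024c8004203b810000000000000000461c042080000000) (Net.cons (nat_lit 128) (nat_lit 0x8d57bcca440c094a612948b2723c5440) (Net.cons (nat_lit 256) (nat_lit 0x672cf94bf7bf5ef7fefd56d6)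 (Net.cons (nat_lit 128) (nat_lit 0x6fe331ab167432c39c24c74e) (Net.cons (nat_lit 64) (nat_lit 0x39ff942600000000000000002c2597b2e900656c00000000000000005f9e22d70a61a3cb) (Net.cons (nat_lit 32) (nat_lit 0x266f4d8a0000000095d1c9cc00000000bd1a188700000000b033ac8f0000000020ed0514) (Net.cons (nat_lit 16) (nat_lit 0x16520000ce6b000024b9000098470000be45000078c5000055e4000080420000a5f80000b2360000cbe1) (Net.cons (nat_lit 8) (nat_lit 0x66008a00df00f50074004900e20030001d00a8001200fc007900f2006b00f9000900e600be005400730007) (Net.cons (nat_lit 4) (nat_lit 0x1050e00090d030a0f0a05040a070006040307070005010c010c0a0e07040609090208000b0000010705050a) (Net.cons (nat_lit 2) (nat_lit 0x1003311022001233331002102031100210303032103133121003132011302103113230013200312012303211) (Net.cons (nat_lit 1) (nat_lit 0x500404511004505110405055041054551151405410501014155010014404011500111011154055150401510) Net.nil)))))))))))))))))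

theorem o_g594_ok : Net.ok 351 o_g594 = true := by decide +kernel

noncomputable def ot_c51_K : List Net := [o_g594]

theorem ot_c51_K_ok : okE 351 ot_c51_K = true := (okE_cons.2 ⟨o_g594_ok, (okE_nil 351)⟩)

noncomputable def ot_c51_cnt_EG : List Net := [o_g1, o_g, o_g2, o_g3, o_g4, o_g5, o_g8, o_g9, o_g12, o_g13, o_g14, o_g17, o_g18, o_g19, o_g20, o_g23, o_g24, o_g25, o_g26, o_c, o_g27, o_g30, o_g31, o_g32, o_g35, o_b, o_d, o_e, o_f, o_h, o_i, o_g88, o_g89, o_g90, o_g91, o_g92, o_g93, o_g94, o_g454, o_g455, o_g456, o_g457, o_g469]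

theorem ot_c51_cnt_EG_ok : okE 351 ot_c51_cnt_EG = true := (okE_cons.2 ⟨o_g1_ok, (okE_cons.2 ⟨o_g_ok, (okE_cons.2 ⟨o_g2_ok, (okE_cons.2 ⟨o_g3_ok, (okE_cons.2 ⟨o_g4_ok, (okE_cons.2 ⟨o_g5_ok, (okE_cons.2 ⟨o_g8_ok, (okE_cons.2 ⟨o_g9_ok, (okE_cons.2 ⟨o_g12_ok, (okE_cons.2 ⟨o_g13_ok, (okE_cons.2 ⟨o_g14_ok, (okE_cons.2 ⟨o_g17_ok, (okE_cons.2 ⟨o_g18_ok, (okE_cons.2 ⟨o_g19_ok, (okE_cons.2 ⟨o_g20_ok, (okE_cons.2 ⟨o_g23_ok, (okE_cons.2 ⟨o_g24_ok, (okE_cons.2 ⟨o_g25_ok, (okE_cons.2 ⟨o_g26_ok, (okE_cons.2 ⟨o_c_ok, (okE_cons.2 ⟨o_g27_ok, (okE_cons.2 ⟨o_g30_ok, (okE_cons.2 ⟨o_g31_ok, (okE_cons.2 ⟨o_g32_ok, (okE_cons.2 ⟨o_g35_ok, (okE_cons.2 ⟨o_b_ok, (okE_cons.2 ⟨o_d_ok, (okE_cons.2 ⟨o_e_ok, (okE_cons.2 ⟨o_f_ok, (okE_cons.2 ⟨o_h_ok, (okE_cons.2 ⟨o_i_ok, (okE_cons.2 ⟨o_g88_ok, (okE_cons.2 ⟨o_g89_ok, (okE_cons.2 ⟨o_g90_ok, (okE_cons.2 ⟨o_g91_ok, (okE_cons.2 ⟨o_g92_ok, (okE_cons.2 ⟨o_g93_ok, (okE_cons.2 ⟨o_g94_ok, (okE_cons.2 ⟨o_g454_ok, (okE_cons.2 ⟨o_g455_ok, (okE_cons.2 ⟨o_g456_ok,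 (okE_cons.2 ⟨o_g457_ok, (okE_cons.2 ⟨o_g469_ok, (okE_nil 351)⟩)⟩)⟩)⟩)⟩)⟩)⟩)⟩)⟩)⟩)⟩)⟩)⟩)⟩)⟩)⟩)⟩)⟩)⟩)⟩)⟩)⟩)⟩)⟩)⟩)⟩)⟩)⟩)⟩)⟩)⟩)⟩)⟩)⟩)⟩)⟩)⟩)⟩)⟩)⟩)⟩)⟩)⟩)

noncomputable def o_g596 : Net := (Net.cons (nat_lit 1) (nat_lit 0x1414000411141155001100151140100515144414041405045100110545144541000544451411011004144151) (Net.cons (nat_lit 2) (nat_lit 0x331213100322030301011213222100220013300323033300231332032112320303023233123132210110112) (Net.cons (nat_lit 4) (nat_lit 0x3020309000b090905070d080c0800040b030b02020e07000b0a010e0c0d060b0f0900040d0601090b030900) (Net.cons (nat_lit 8) (nat_lit 0x75007900af0034005000ad006900b200e90048000c00d3006c00b8003a007700e30057006a004d00200000) (Net.cons (nat_lit 16) (nat_lit 0x3e240000b263000061230000cb0000004f9b0000f0440000290f0000abe6000050210000005800008000) (Net.cons (nat_lit 32) (nat_lit 0xde6a1010000000008f4a4d8100000000513950d8000000003093589e00000000441be219) (Net.cons (nat_lit 64) (nat_lit 0xe081600000000000000000c8610391bf0d708400000000000000009996206080000000)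 (Net.cons (nat_lit 128) (nat_lit 0x9f7da978f4402852a23b811140c8c206) (Net.cons (nat_lit 256) (nat_lit 0x755c7f7fbfbfff7fe4ebe25f) (Net.cons (nat_lit 128) (nat_lit 0x4f741ef2c69dc6ff40032405) (Net.cons (nat_lit 64) (nat_lit 0x4e3bab1f0000000000000000e7cf569d29c0e9a20000000000000000bc350608f96c5392) (Net.cons (nat_lit 32) (nat_lit 0x7e57082d0000000016a2b8fd00000000583250bb00000000e65c6aeb0000000049f89150) (Net.cons (nat_lit 16) (nat_lit 0x58090000ec140000a9320000ade40000d2fa0000550900002bbf00002d87000036c40000f98a000021aa) (Net.cons (nat_lit 8) (nat_lit 0x500c000db00da00af0036008600cd0051006c002a00a000f60079006400aa002a001a001700ed00d4006b) (Net.cons (nat_lit 4) (nat_lit 0x203020b09020b0c0e070e0207040108010502090e030203030e050a03090c0900090c0a07010505000b090d) (Net.cons (nat_lit 2) (nat_lit 0x322313103132023200101322112023011301231112301112020221112010123220132033230333331023030) (Net.cons (nat_lit 1) (nat_lit 0x405451045055510110444000001054454050101444511400045044515041011511500515550044011114405)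 Net.nil)))))))))))))))))

theorem o_g596_ok : Net.ok 351 o_g596 = true := by decide +kernel

noncomputable def o_g597 : Net := (Net.cons (nat_lit 1) (nat_lit 0x454444554044011510111514145045415144511514011450111104441101451105541155455044041410501) (Net.cons (nat_lit 2) (nat_lit 0x1120311001123121112020130102233022212212010023100312121121121302123030101321201210333232) (Net.cons (nat_lit 4) (nat_lit 0x70f0f0a030c0b05020f04060a0905040a090d0801040302030b040b0e000c0702020001050400000c0e0c08) (Net.cons (nat_lit 8) (nat_lit 0x79009800f1005a0060001900aa005c0055009c001d002d00110096008000420048009500f000d800ab0080) (Net.cons (nat_lit 16) (nat_lit 0x651f000077c30000b6130000eea50000ccdc0000b1e20000302e0000413100006522000056b300000000) (Net.cons (nat_lit 32) (nat_lit 0x941e78740000000040fe8dcc00000000e2cb8d2800000000860685ba00000000002409d4) (Net.cons (nat_lit 64) (nat_lit 0xad6290f00000000000000001e1c144d66410c1d00000000000000005802404000000000) (Net.cons (nat_lit 128) (nat_lit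 0x7f8887598ea3092e237862ef60a80623) (Net.cons (nat_lit 256) (nat_lit 0x6fff9fbfff7a77ef75bd7e6f) (Net.cons (nat_lit 128) (nat_lit 0x1e0797a5e1e6b0fdc6fb6d1a) (Net.cons (nat_lit 64) (nat_lit 0x6effecff000000000000000088e1b6911af806ea0000000000000000e08b2cda1860c07f) (Net.cons (nat_lit 32) (nat_lit 0x7c7d2007000000001a25983900000000b2c3ab0800000000291435ba00000000c150d64d) (Net.cons (nat_lit 16) (nat_lit 0x1b2e0000767e00000ed2000067ee00004ff800001f510000c6b50000820a00009f5200006f3c0000c72c) (Net.cons (nat_lit 8) (nat_lit 0x6b0097007b0052003a005b003a004a006e001500b3002f0072002600d3000c00680052005a00de0082002d) (Net.cons (nat_lit 4) (nat_lit 0x60903010c060b010a07060a0401080c030e0b0b04060902000f050b0107000e07000e020d000b040e080400) (Net.cons (nat_lit 2) (nat_lit 0x1333220310313301132333021223312011130001132322202310103000010020300002311001111331003211) (Net.cons (nat_lit 1) (nat_lit 0x400155015401051150501054500554144454444504401111055404010514551440505415544444540045545)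 Net.nil)))))))))))))))))

theorem o_g597_ok : Net.ok 351 o_g597 = true := by decide +kernel

noncomputable def ot_c52_K : List Net := [o_g596, o_g597]

theorem ot_c52_K_ok : okE 351 ot_c52_K = true := (okE_cons.2 ⟨o_g596_ok, (okE_cons.2 ⟨o_g597_ok, (okE_nil 351)⟩)⟩)

noncomputable def ot_c52_cnt_EG : List Net := [o_b, o_c, o_d, o_e, o_f, o_g, o_h, o_i, o_g1, o_g2, o_g3, o_g4, o_g5, o_g8, o_g9, o_g12, o_g13, o_g14, o_g17, o_g18, o_g19, o_g20, o_g23, o_g24, o_g25, o_g26, o_g27, o_g30, o_g31, o_g32, o_g35, o_g295, o_g296, o_g297, o_g298]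

theorem ot_c52_cnt_EG_ok : okE 351 ot_c52_cnt_EG = true := (okE_cons.2 ⟨o_b_ok, (okE_cons.2 ⟨o_c_ok, (okE_cons.2 ⟨o_d_ok, (okE_cons.2 ⟨o_e_ok, (okE_cons.2 ⟨o_f_ok, (okE_cons.2 ⟨o_g_ok, (okE_cons.2 ⟨o_h_ok, (okE_cons.2 ⟨o_i_ok, (okE_cons.2 ⟨o_g1_ok, (okE_cons.2 ⟨o_g2_ok, (okE_cons.2 ⟨o_g3_ok, (okE_cons.2 ⟨o_g4_ok, (okE_cons.2 ⟨o_g5_ok, (okE_cons.2 ⟨o_g8_ok, (okE_cons.2 ⟨o_g9_ok, (okE_cons.2 ⟨o_g12_ok, (okE_cons.2 ⟨o_g13_ok, (okE_cons.2 ⟨o_g14_ok, (okE_cons.2 ⟨o_g17_ok, (okE_cons.2 ⟨o_g18_ok, (okE_cons.2 ⟨o_g19_ok, (okE_cons.2 ⟨o_g20_ok, (okE_cons.2 ⟨o_g23_ok, (okE_cons.2 ⟨o_g24_ok, (okE_cons.2 ⟨o_g25_ok, (okE_cons.2 ⟨o_g26_ok, (okE_cons.2 ⟨o_g27_ok, (okE_cons.2 ⟨o_g30_ok, (okE_cons.2 ⟨o_g31_ok, (okE_cons.2 ⟨o_g32_ok, (okE_cons.2 ⟨o_g35_ok, (okE_cons.2 ⟨o_g295_ok, (okE_cons.2 ⟨o_g296_ok, (okE_cons.2 ⟨o_g297_ok, (okE_cons.2 ⟨o_g298_ok, (okE_nil 351)⟩)⟩)⟩)⟩)⟩)⟩)⟩)⟩)⟩)⟩)⟩)⟩)⟩)⟩)⟩)⟩)⟩)⟩)⟩)⟩)⟩)⟩)⟩)⟩)⟩)⟩)⟩)⟩)⟩)⟩)⟩)⟩)⟩)⟩)⟩)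

noncomputable def o_g599 : Net := (Net.cons (nat_lit 1) (nat_lit 0x1515450055114410000410401555115040444041545504400040540104050145054005105144550144544014) (Net.cons (nat_lit 2) (nat_lit 0x1203000002023013101003311100201313102331331220111002001131022112202320212132130221221320) (Net.cons (nat_lit 4) (nat_lit 0x202000d0c06090c06010e09080c0d0c040c0203010e0e0e010d060a0709090d050b01010e080609000d0100) (Net.cons (nat_lit 8) (nat_lit 0x50009c00ba00890063004100090043005a0031007c003c00030092005a009100020020009c008200010080) (Net.cons (nat_lit 16) (nat_lit 0x2b6000003a65000099460000a711000084cc000019820000ed8100009fdd00009a190000c80000000000) (Net.cons (nat_lit 32) (nat_lit 0x3d889b8a00000000d0fe80c4000000009b102b020000000000ebe18b000000004b8182d1) (Net.cons (nat_lit 64) (nat_lit 0x4b120a300000000000000001fb90861680432d000000000000000000e94928200000000) (Net.cons (nat_lit 128) (nat_lit 0x675ec23f66621b7018389ce08c442883) (Net.cons (nat_lit 256) (nat_lit 0x6f7f9b771fffdfe3ace63adb)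 (Net.cons (nat_lit 128) (nat_lit 0xa57431950f1c25c2c7a8852) (Net.cons (nat_lit 64) (nat_lit 0x54422a510000000000000000c3c3a1ea03cfe8b40000000000000000086a8dddbba3ba35) (Net.cons (nat_lit 32) (nat_lit 0x495272680000000020227d66000000005dfa38e6000000003db9b5800000000072835d0e) (Net.cons (nat_lit 16) (nat_lit 0x126900003e23000000d600000e0b00000bcc0000382b000085130000e30300006d44000005d3000071d4) (Net.cons (nat_lit 8) (nat_lit 0x67000500e7001200250022004e00c700fa003e00ae00be00ac009300620089000e004400ce00e4007800bc) (Net.cons (nat_lit 4) (nat_lit 0x308090c010b070f050e05000d0d090500050b0d090a0e0a070d0b08040f060d040f02050c090a0f080d0904) (Net.cons (nat_lit 2) (nat_lit 0x1302232223120210200312300102123333123233223031302021020132100331122201311333132010303333) (Net.cons (nat_lit 1) (nat_lit 0x1114450105151000145505054150151115055445400044110045010005151055140514541141540011051111) Net.nil)))))))))))))))))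

theorem o_g599_ok : Net.ok 351 o_g599 = true := by decide +kernel

noncomputable def o_g600 : Net := (Net.cons (nat_lit 1) (nat_lit 0x11050004510454410541015000455544451451455155141105450044044450400040014500451054440001) (Net.cons (nat_lit 2) (nat_lit 0x1103220212332110313313121230200210003011033331331013303120320113121211012231121112321320) (Net.cons (nat_lit 4) (nat_lit 0x705040f060c02040c040d03080c060104060b070c0801070d020d0a02000103050801030900000d02030400) (Net.cons (nat_lit 8) (nat_lit 0x29002f001600b900d700da003500280012006000b90039001700a000b800d30019000b0012004100480000) (Net.cons (nat_lit 16) (nat_lit 0x32c60000413d0000a042000089f900001418000051af0000a6430000d86b000030380000e1b600000000) (Net.cons (nat_lit 32) (nat_lit 0x8ea04a10000000009be24b6d000000000723a33900000000164328e4000000006c212314) (Net.cons (nat_lit 64) (nat_lit 0x34c0faed0000000000000000470084b8a05c640200000000000000004063232800000000) (Net.cons (nat_lit 128) (nat_lit 0x3c3ac1a48532011e04200272e084b220)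 (Net.cons (nat_lit 256) (nat_lit 0x5d364bffee7723fee4fcb762) (Net.cons (nat_lit 128) (nat_lit 0x56ae021077f50528035154ed) (Net.cons (nat_lit 64) (nat_lit 0x7c1d632b00000000000000007b6106cb0132892e000000000000000078635679ede6d929) (Net.cons (nat_lit 32) (nat_lit 0x3bb2d3ca000000000c732ee000000000537eb0900000000021312d1600000000733c61e9) (Net.cons (nat_lit 16) (nat_lit 0x3b110000cb0600000ccc000099d200009039000001f5000032fa0000a6530000b5b50000e2a60000877d) (Net.cons (nat_lit 8) (nat_lit 0x5300cf00b0003100be009700c90098005000f2002000890061003c00e3008f001e007800c700d3005a0005) (Net.cons (nat_lit 4) (nat_lit 0x106060605000a0e0e0a0d04000f0f0202080a03070903010800030306000d030107010504050f050b020f0e) (Net.cons (nat_lit 2) (nat_lit 0x212020301201221320030310320222220202222322133331221303132000113310300201310102123332231) (Net.cons (nat_lit 1) (nat_lit 0x1050410014150050044454545411110114015011415155500114551044154545104454004540004504451445) Net.nil)))))))))))))))))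

theorem o_g600_ok : Net.ok 351 o_g600 = true := by decide +kernel

noncomputable def o_g601 : Net := (Net.cons (nat_lit 1) (nat_lit 0x414504100501154144004401044104045150410044410414441400100004400000000400404100400004000) (Net.cons (nat_lit 2) (nat_lit 0x1002020100220312020000320320013002100021110100102220220001122000100000100001022000000000) (Net.cons (nat_lit 4) (nat_lit 0x304090d09020707010a0b030900080105000205020004050308000004000208000a08020100000104000000) (Net.cons (nat_lit 8) (nat_lit 0x54001100e00098003e004300e100410088008a000f0022002000c700000009004d00890080000100000000) (Net.cons (nat_lit 16) (nat_lit 0x60cc00001ae10000506800000da80000844f000000eb0000441100008481000084040000020000000000) (Net.cons (nat_lit 32) (nat_lit 0x89cefad0000000004d4c853a00000000594856230000000052484004000000000900c108) (Net.cons (nat_lit 64) (nat_lit 0x270b6c02000000000000000018050021441b221600000000000000000195da1200000000) (Net.cons (nat_lit 128) (nat_lit 0xd94dd49f8140e1060850110404380000)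 (Net.cons (nat_lit 256) (nat_lit 0x2b5ae10fbbf5db160db97f09) (Net.cons (nat_lit 128) (nat_lit 0x455a2d4486815ae555e41c4) (Net.cons (nat_lit 64) (nat_lit 0x261b2dcb0000000000000000188500a94d0f63f700000000000000000195da9a010441c9) (Net.cons (nat_lit 32) (nat_lit 0x89fefad200000000594cc5fa00000000597856210000000052584006000000000920c188) (Net.cons (nat_lit 16) (nat_lit 0x70cc00001ae10000526800000da80000c40f000000eb0000461100008681000084040000020000000000) (Net.cons (nat_lit 8) (nat_lit 0x54001100e00098003e004300e1002100c800ca000f0022002000c700000009000d00890080000100000040) (Net.cons (nat_lit 4) (nat_lit 0x300090d09020707010a0b0309000c0105000605020004050308000004000208000a08020100000104000000) (Net.cons (nat_lit 2) (nat_lit 0x1002020100220312020000320320013002100021110100102220220001122000100000100001022000000000) (Net.cons (nat_lit 1) (nat_lit 0x414504100501154144004401044104045150410044410414441400100004400000000400404100400004000) Net.nil)))))))))))))))))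

theorem o_g601_ok : Net.ok 351 o_g601 = true := by decide +kernel

noncomputable def ot_c53_K : List Net := [o_g599, o_g600, o_g601]

theorem ot_c53_K_ok : okE 351 ot_c53_K = true := (okE_cons.2 ⟨o_g599_ok, (okE_cons.2 ⟨o_g600_ok, (okE_cons.2 ⟨o_g601_ok, (okE_nil 351)⟩)⟩)⟩)

noncomputable def ot_c53_cnt_EG : List Net := [o_b, o_c, o_d, o_e, o_f, o_g, o_h, o_i, o_g1, o_g2, o_g3, o_g4, o_g5, o_g8, o_g9, o_g12, o_g13, o_g14, o_g17, o_g18, o_g19, o_g20, o_g23, o_g24, o_g25, o_g26, o_g27, o_g30, o_g31, o_g32, o_g35, o_g88, o_g89, o_g90, o_g91, o_g92, o_g93, o_g94, o_g152, o_g153, o_g154]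

theorem ot_c53_cnt_EG_ok : okE 351 ot_c53_cnt_EG = true := (okE_cons.2 ⟨o_b_ok, (okE_cons.2 ⟨o_c_ok, (okE_cons.2 ⟨o_d_ok, (okE_cons.2 ⟨o_e_ok, (okE_cons.2 ⟨o_f_ok, (okE_cons.2 ⟨o_g_ok, (okE_cons.2 ⟨o_h_ok, (okE_cons.2 ⟨o_i_ok, (okE_cons.2 ⟨o_g1_ok, (okE_cons.2 ⟨o_g2_ok, (okE_cons.2 ⟨o_g3_ok, (okE_cons.2 ⟨o_g4_ok, (okE_cons.2 ⟨o_g5_ok, (okE_cons.2 ⟨o_g8_ok, (okE_cons.2 ⟨o_g9_ok, (okE_cons.2 ⟨o_g12_ok, (okE_cons.2 ⟨o_g13_ok, (okE_cons.2 ⟨o_g14_ok, (okE_cons.2 ⟨o_g17_ok, (okE_cons.2 ⟨o_g18_ok, (okE_cons.2 ⟨o_g19_ok, (okE_cons.2 ⟨o_g20_ok, (okE_cons.2 ⟨o_g23_ok, (okE_cons.2 ⟨o_g24_ok, (okE_cons.2 ⟨o_g25_ok, (okE_cons.2 ⟨o_g26_ok, (okE_cons.2 ⟨o_g27_ok, (okE_cons.2 ⟨o_g30_ok, (okE_cons.2 ⟨o_g31_ok, (okE_cons.2 ⟨o_g32_ok, (okE_cons.2 ⟨o_g35_ok, (okE_cons.2 ⟨o_g88_ok, (okE_cons.2 ⟨o_g89_ok, (okE_cons.2 ⟨o_g90_ok, (okE_cons.2 ⟨o_g91_ok, (okE_cons.2 ⟨o_g92_ok, (okE_cons.2 ⟨o_g93_ok, (okE_cons.2 ⟨o_g94_ok, (okE_cons.2 ⟨o_g152_ok, (okE_cons.2 ⟨o_g153_ok, (okE_cons.2 ⟨o_g154_ok,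 (okE_nil 351)⟩)⟩)⟩)⟩)⟩)⟩)⟩)⟩)⟩)⟩)⟩)⟩)⟩)⟩)⟩)⟩)⟩)⟩)⟩)⟩)⟩)⟩)⟩)⟩)⟩)⟩)⟩)⟩)⟩)⟩)⟩)⟩)⟩)⟩)⟩)⟩)⟩)⟩)⟩)⟩)⟩)

noncomputable def o_g603 : Net := (Net.cons (nat_lit 1) (nat_lit 0x45141155550500145501554555050451551014515155041540044154100455151004151110544144145010) (Net.cons (nat_lit 2) (nat_lit 0x1103013233100310332213222102121130022213221233122023111013331333110321102000122312313202) (Net.cons (nat_lit 4) (nat_lit 0x4080d040f0d02060e0e0804050804030c0e0907010c01050001080102030600010406000c01010009090500) (Net.cons (nat_lit 8) (nat_lit 0x76007c0052004f001f00bf003a00b4001800ad00c6004c00b400b20046001d00f80021004300c600460080) (Net.cons (nat_lit 16) (nat_lit 0x30ac000015af000078a70000b9cd000003bc000080090000d485000032170000887400000c0800000000) (Net.cons (nat_lit 32) (nat_lit 0xf174493b00000000894a00ce00000000024d2925000000004b111230000000000416313b) (Net.cons (nat_lit 64) (nat_lit 0x2e202063000000000000000020e48a03c182092000000000000000002a10164000000000) (Net.cons (nat_lit 128) (nat_lit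 0x67ffcf194646812d37665a0185a8828c) (Net.cons (nat_lit 256) (nat_lit 0x6ef7b7ad3f76df4fddeae7df) (Net.cons (nat_lit 128) (nat_lit 0x78231305f366479f44c13806) (Net.cons (nat_lit 64) (nat_lit 0x44a4add60000000000000000ed4cdaec7099b93e00000000000000005dac4023fca931c9) (Net.cons (nat_lit 32) (nat_lit 0x4e395c9b000000002d13ea0200000000e9552c63000000009da00ed100000000d77a2096) (Net.cons (nat_lit 16) (nat_lit 0x34eb0000d4f80000ac7c0000587e0000d8d70000399a00005923000073f80000a0f400009a510000e2b7) (Net.cons (nat_lit 8) (nat_lit 0x30003a00cb00e200020058008700980067001c000d00a00071004400dc00ac00e600340071002700620075) (Net.cons (nat_lit 4) (nat_lit 0x4080e06000b000c0a0f02070c0f0f0304090f0203000f0a0a090f050104010d0906090b01070a0d0d080009) (Net.cons (nat_lit 2) (nat_lit 0x310011031013223211320212102032101213021131221022022013331020020213000300211123221332202) (Net.cons (nat_lit 1) (nat_lit 0x555151014110140101551511110011550500045145014114144045054515404144404444555155450504101)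 Net.nil)))))))))))))))))

theorem o_g603_ok : Net.ok 351 o_g603 = true := by decide +kernel

noncomputable def o_g604 : Net := (Net.cons (nat_lit 1) (nat_lit 0x1050410014150050044454545411110114015011415155500114551044154545104454004540004504451445) (Net.cons (nat_lit 2) (nat_lit 0x1303130210310330231121201231333231313333233022230330212023111002201211310201012032223320) (Net.cons (nat_lit 4) (nat_lit 0x7000004060b0d08000d0202070c0c05010f0c05000f01060f070d0908030e050704030602060c070c010c00) (Net.cons (nat_lit 8) (nat_lit 0x500051005f005a00e300b900940024008c003b00ba00d1005a001a003a00310051005200c800e800200000) (Net.cons (nat_lit 16) (nat_lit 0x454b000081ee0000681b00007c2b000011000000a590000013740000861b00008705000082e000008000) (Net.cons (nat_lit 32) (nat_lit 0x7d82812000000000c6e076a000000005c2072220000000072f00342000000001226a283) (Net.cons (nat_lit 64) (nat_lit 0x5114328e000000000000000042902543123440a0000000000000000011d2902780000000) (Net.cons (nat_lit 128) (nat_lit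 0x8aa60906c80300045212715344303102) (Net.cons (nat_lit 256) (nat_lit 0x6b3390d7fbd3ff77f43e3b2b) (Net.cons (nat_lit 128) (nat_lit 0x26b67d51090ac466f1c00ee6) (Net.cons (nat_lit 64) (nat_lit 0x2d9c73070000000000000000f29f2415d9e60b0f000000000000000069bf472606aa4493) (Net.cons (nat_lit 32) (nat_lit 0xd8ecac5e00000000e49fe8ba000000005023ff76000000003913a334000000007e1c8273) (Net.cons (nat_lit 16) (nat_lit 0x4352000025200000b2f30000dc8d0000ead7000069f50000877700004578000073850000aae0000059ca) (Net.cons (nat_lit 8) (nat_lit 0x130052002900bf002800e400eb000700fc004b0057007300fd008a00da006900c10035003d0019007c00b8) (Net.cons (nat_lit 4) (nat_lit 0x6020d040e090202020e05070a040303040d040a0f0f040e050e090d030705060b03040f0f020e010d0207) (Net.cons (nat_lit 2) (nat_lit 0x12330303223001202202030321311301112100122220221102212031231002030300113320030003220231) (Net.cons (nat_lit 1) (nat_lit 0x11050004510454410541015000455544451451455155141105450044044450400040014500451054440001) Net.nil)))))))))))))))))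

theorem o_g604_ok : Net.ok 351 o_g604 = true := by decide +kernel

noncomputable def ot_c54_K : List Net := [o_g603, o_g604, o_g601]

theorem ot_c54_K_ok : okE 351 ot_c54_K = true := (okE_cons.2 ⟨o_g603_ok, (okE_cons.2 ⟨o_g604_ok, (okE_cons.2 ⟨o_g601_ok, (okE_nil 351)⟩)⟩)⟩)

noncomputable def ot_c54_cnt_EG : List Net := [o_b, o_c, o_d, o_e, o_f, o_g, o_h, o_i, o_g1, o_g2, o_g3, o_g4, o_g5, o_g8, o_g9, o_g12, o_g13, o_g14, o_g17, o_g18, o_g19, o_g20, o_g23, o_g24, o_g25, o_g26, o_g27, o_g30, o_g31, o_g32, o_g35, o_g88, o_g89, o_g90, o_g91, o_g92, o_g93, o_g94, o_g506, o_g505, o_g152, o_g153, o_g154]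

theorem ot_c54_cnt_EG_ok : okE 351 ot_c54_cnt_EG = true := (okE_cons.2 ⟨o_b_ok, (okE_cons.2 ⟨o_c_ok, (okE_cons.2 ⟨o_d_ok, (okE_cons.2 ⟨o_e_ok, (okE_cons.2 ⟨o_f_ok, (okE_cons.2 ⟨o_g_ok, (okE_cons.2 ⟨o_h_ok, (okE_cons.2 ⟨o_i_ok, (okE_cons.2 ⟨o_g1_ok, (okE_cons.2 ⟨o_g2_ok, (okE_cons.2 ⟨o_g3_ok, (okE_cons.2 ⟨o_g4_ok, (okE_cons.2 ⟨o_g5_ok, (okE_cons.2 ⟨o_g8_ok, (okE_cons.2 ⟨o_g9_ok, (okE_cons.2 ⟨o_g12_ok, (okE_cons.2 ⟨o_g13_ok, (okE_cons.2 ⟨o_g14_ok, (okE_cons.2 ⟨o_g17_ok, (okE_cons.2 ⟨o_g18_ok, (okE_cons.2 ⟨o_g19_ok, (okE_cons.2 ⟨o_g20_ok, (okE_cons.2 ⟨o_g23_ok, (okE_cons.2 ⟨o_g24_ok, (okE_cons.2 ⟨o_g25_ok, (okE_cons.2 ⟨o_g26_ok, (okE_cons.2 ⟨o_g27_ok, (okE_cons.2 ⟨o_g30_ok, (okE_cons.2 ⟨o_g31_ok, (okE_cons.2 ⟨o_g32_ok, (okE_cons.2 ⟨o_g35_ok, (okE_cons.2 ⟨o_g88_ok, (okE_cons.2 ⟨o_g89_ok, (okE_cons.2 ⟨o_g90_ok, (okE_cons.2 ⟨o_g91_ok, (okE_cons.2 ⟨o_g92_ok, (okE_cons.2 ⟨o_g93_ok, (okE_cons.2 ⟨o_g94_ok, (okE_cons.2 ⟨o_g506_ok, (okE_cons.2 ⟨o_g505_ok, (okE_cons.2 ⟨o_g152_ok,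 (okE_cons.2 ⟨o_g153_ok, (okE_cons.2 ⟨o_g154_ok, (okE_nil 351)⟩)⟩)⟩)⟩)⟩)⟩)⟩)⟩)⟩)⟩)⟩)⟩)⟩)⟩)⟩)⟩)⟩)⟩)⟩)⟩)⟩)⟩)⟩)⟩)⟩)⟩)⟩)⟩)⟩)⟩)⟩)⟩)⟩)⟩)⟩)⟩)⟩)⟩)⟩)⟩)⟩)⟩)⟩)

noncomputable def o_g606 : Net := (Net.cons (nat_lit 1) (nat_lit 0x1145040551541404115104010111051555110541550101005055450511104541150004151550514404041540) (Net.cons (nat_lit 2) (nat_lit 0x1213222033012033303323021302210320202001033002213123300300110102311100011331211021213002) (Net.cons (nat_lit 4) (nat_lit 0x609060c070d09000b09010304020301020e0b030a00040c080c09020103090d000a070e0a0f010d020008) (Net.cons (nat_lit 8) (nat_lit 0x5004000ae000200b300c9009d0055005300fd008b00e5006f007b0085002200160042000100f900040000) (Net.cons (nat_lit 16) (nat_lit 0x21620000058400004e7f0000ee0b000000860000fb8f00008d38000026ca0000461500000ce100000000) (Net.cons (nat_lit 32) (nat_lit 0x819156ed000000004e0c03d200000000341081c200000000bf000260000000006e110360) (Net.cons (nat_lit 64) (nat_lit 0x731558be00000000000000000a0992a6104c086000000000000000005392450500000000)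 (Net.cons (nat_lit 128) (nat_lit 0x4ef0d7e98c411042821cc98821060822) (Net.cons (nat_lit 256) (nat_lit 0x2cdd7fdaffbfcfbf7b77b967) (Net.cons (nat_lit 128) (nat_lit 0xa2c4ccaa237411e7f519505) (Net.cons (nat_lit 64) (nat_lit 0x2adb042e0000000000000000aac80d5bef9ba9cc000000000000000095af2a1442002067) (Net.cons (nat_lit 32) (nat_lit 0x4388b7c8000000002c6f2b0a00000000e1d2de5100000000f0078c60000000006781ef0e) (Net.cons (nat_lit 16) (nat_lit 0xd0b0000ab030000c5050000e290000059580000a0b30000a3b700005c820000f40b000013fb0000aacb) (Net.cons (nat_lit 8) (nat_lit 0x3300910062008e009200af00dc0024001f003600100036007300d9007800eb0025000d005c009e0062001c) (Net.cons (nat_lit 4) (nat_lit 0x3070e0a0b0b07030d0a0f08040e0404040c09000e03030307080f010d050a0f08090f0e010a0c070b08030e) (Net.cons (nat_lit 2) (nat_lit 0x1201113002023323310333032012001111132212221300133233031311120332030313203030213220210130) (Net.cons (nat_lit 1) (nat_lit 0x1541454140010001014505050404500000041144401051555555154445455501041150510051154004150500)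 Net.nil)))))))))))))))))

theorem o_g606_ok : Net.ok 351 o_g606 = true := by decide +kernel

noncomputable def o_g607 : Net := (Net.cons (nat_lit 1) (nat_lit 0x1515005514110510110011115000400411404145445040455504111100504101105051015441114511054504) (Net.cons (nat_lit 2) (nat_lit 0x1010021001311223023320331032233221103133201320020010331033120322321031301011311232201100) (Net.cons (nat_lit 4) (nat_lit 0x40a0a0d070b08020f0708050e0f0f040a0b03010406020d000a0d0b0a090004020b040a0d0a040c0d0a0708) (Net.cons (nat_lit 8) (nat_lit 0x130008005300f700e7001100ab002e002000e7001900d6007e001a0001000c007c001400c9004800560000) (Net.cons (nat_lit 16) (nat_lit 0x400a0000e4d20000911a00006efc0000677b00004ab70000514a00005ac100007c080000b9a800000000) (Net.cons (nat_lit 32) (nat_lit 0x4c6111fa000000005f23382a00000000c1460086000000009f2136160000000061300044) (Net.cons (nat_lit 64) (nat_lit 0x710201480000000000000000a7b000460050123a00000000000000002ac0685a00000000) (Net.cons (nat_lit 128) (nat_lit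 0x9b736143400001152020004200009008) (Net.cons (nat_lit 256) (nat_lit 0x7d5239777af168fa438c924c) (Net.cons (nat_lit 128) (nat_lit 0x63fc38900ca20057a029eef2) (Net.cons (nat_lit 64) (nat_lit 0x55fcca5e0000000000000000eda04052204c825800000000000000007bd72966485c5628) (Net.cons (nat_lit 32) (nat_lit 0x7f41b9fa00000000282b7bb900000000187325a600000000efa0521300000000f1000452) (Net.cons (nat_lit 16) (nat_lit 0x687d0000e1300000bad7000050ee000012ed000002400000ee9f00004345000034950000d63c0000052d) (Net.cons (nat_lit 8) (nat_lit 0x73001300240067001f007800db007b0022006000b100e900c800fa008b00630039003500d7008e00170041) (Net.cons (nat_lit 4) (nat_lit 0x10e08010a0808070a040807040a0a080b0d0400050f000f030b0506000204040b0f05020d0a0f000504050c) (Net.cons (nat_lit 2) (nat_lit 0x213303131233032023030120033023020101013332013310132123002200002300220300232312332130321) (Net.cons (nat_lit 1) (nat_lit 0x1115101415101510410451045004545541554001115140140010541140054540551015011510440110051454)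 Net.nil)))))))))))))))))

theorem o_g607_ok : Net.ok 351 o_g607 = true := by decide +kernel

noncomputable def ot_c55_K : List Net := [o_g606, o_g607, o_g181]

theorem ot_c55_K_ok : okE 351 ot_c55_K = true := (okE_cons.2 ⟨o_g606_ok, (okE_cons.2 ⟨o_g607_ok, (okE_cons.2 ⟨o_g181_ok, (okE_nil 351)⟩)⟩)⟩)

noncomputable def ot_c55_cnt_EG : List Net := [o_b, o_c, o_d, o_e, o_f, o_g, o_h, o_i, o_g1, o_g2, o_g3, o_g4, o_g5, o_g8, o_g9, o_g12, o_g13, o_g14, o_g17, o_g18, o_g19, o_g20, o_g23, o_g24, o_g25, o_g26, o_g27, o_g30, o_g31, o_g32, o_g35, o_g88, o_g89, o_g90, o_g91, o_g92, o_g93, o_g94, o_g152, o_g153, o_g154]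

theorem ot_c55_cnt_EG_ok : okE 351 ot_c55_cnt_EG = true := (okE_cons.2 ⟨o_b_ok, (okE_cons.2 ⟨o_c_ok, (okE_cons.2 ⟨o_d_ok, (okE_cons.2 ⟨o_e_ok, (okE_cons.2 ⟨o_f_ok, (okE_cons.2 ⟨o_g_ok, (okE_cons.2 ⟨o_h_ok, (okE_cons.2 ⟨o_i_ok, (okE_cons.2 ⟨o_g1_ok, (okE_cons.2 ⟨o_g2_ok, (okE_cons.2 ⟨o_g3_ok, (okE_cons.2 ⟨o_g4_ok, (okE_cons.2 ⟨o_g5_ok, (okE_cons.2 ⟨o_g8_ok, (okE_cons.2 ⟨o_g9_ok, (okE_cons.2 ⟨o_g12_ok, (okE_cons.2 ⟨o_g13_ok, (okE_cons.2 ⟨o_g14_ok, (okE_cons.2 ⟨o_g17_ok, (okE_cons.2 ⟨o_g18_ok, (okE_cons.2 ⟨o_g19_ok, (okE_cons.2 ⟨o_g20_ok, (okE_cons.2 ⟨o_g23_ok, (okE_cons.2 ⟨o_g24_ok, (okE_cons.2 ⟨o_g25_ok, (okE_cons.2 ⟨o_g26_ok, (okE_cons.2 ⟨o_g27_ok, (okE_cons.2 ⟨o_g30_ok, (okE_cons.2 ⟨o_g31_ok, (okE_cons.2 ⟨o_g32_ok, (okE_cons.2 ⟨o_g35_ok, (okE_cons.2 ⟨o_g88_ok, (okE_cons.2 ⟨o_g89_ok, (okE_cons.2 ⟨o_g90_ok, (okE_cons.2 ⟨o_g91_ok, (okE_cons.2 ⟨o_g92_ok, (okE_cons.2 ⟨o_g93_ok, (okE_cons.2 ⟨o_g94_ok, (okE_cons.2 ⟨o_g152_ok, (okE_cons.2 ⟨o_g153_ok, (okE_cons.2 ⟨o_g154_ok,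 (okE_nil 351)⟩)⟩)⟩)⟩)⟩)⟩)⟩)⟩)⟩)⟩)⟩)⟩)⟩)⟩)⟩)⟩)⟩)⟩)⟩)⟩)⟩)⟩)⟩)⟩)⟩)⟩)⟩)⟩)⟩)⟩)⟩)⟩)⟩)⟩)⟩)⟩)⟩)⟩)⟩)⟩)⟩)

noncomputable def o_g609 : Net := (Net.cons (nat_lit 1) (nat_lit 0x1514155104011141405454504404000155510150451400010504044051545544541144450145554114100100) (Net.cons (nat_lit 2) (nat_lit 0x32101322113320231020211223021230012320203222003332300113200302020212020230130302001200) (Net.cons (nat_lit 4) (nat_lit 0x30e0e0d040b090b01040d010f0b09020905030b0d0707060e050e060800010f00080f00030c0c0c07000500) (Net.cons (nat_lit 8) (nat_lit 0x2d0082002a00dc006d00ee00b700b90015008600eb00ce00e700b100970026001300ed005000b300840000) (Net.cons (nat_lit 16) (nat_lit 0x44800003dae0000bb6a0000536800003f310000182b0000c2220000c9470000ec8b00008d7300000000) (Net.cons (nat_lit 32) (nat_lit 0xc223bc6000000000d667a428000000003b083320000000001319fd10000000000cbdb283) (Net.cons (nat_lit 64) (nat_lit 0x5d6c00590000000000000000415842c8a8880c000000000000000000aa01d68000000000) (Net.cons (nat_lit 128) (nat_lit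 0xae763c2f584c2316736201c885057f3a) (Net.cons (nat_lit 256) (nat_lit 0x585c331fff67d7ce8dbf7f7e) (Net.cons (nat_lit 128) (nat_lit 0x5531dec1668e632fa9edfc99) (Net.cons (nat_lit 64) (nat_lit 0x3bb7c3c20000000000000000c82eb27861c858930000000000000000026de5c477c54fb8) (Net.cons (nat_lit 32) (nat_lit 0x3692d5ce0000000082398755000000007110232100000000d2412fde00000000f27a27a8) (Net.cons (nat_lit 16) (nat_lit 0x39800004aab0000d8d60000cecf00005e8d000034b00000e0f30000aff90000558e00002c2d00000c7c) (Net.cons (nat_lit 8) (nat_lit 0x800b30078002400e400af003c003400c3007800160099009800eb000c00cb00f0003d001a003c004d007f) (Net.cons (nat_lit 4) (nat_lit 0x600090d07050c0a080608060d0f0300070404080800060402030405050e0a0f09080c04010901080b050e01) (Net.cons (nat_lit 2) (nat_lit 0x1010112011023210303330233000112131023222112033230303212103221023203113201112003010012102) (Net.cons (nat_lit 1) (nat_lit 0x110054045510115041000445144441045144555151504405041144440011010401151514401510540051540)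 Net.nil)))))))))))))))))

theorem o_g609_ok : Net.ok 351 o_g609 = true := by decide +kernel

noncomputable def o_g610 : Net := (Net.cons (nat_lit 1) (nat_lit 0x1000114145144041544441541114554140100451114551105041550144105450401155505441004101150551) (Net.cons (nat_lit 2) (nat_lit 0x1230120133120230131030030323122000123201331212220333111011123033311113302011120022332012) (Net.cons (nat_lit 4) (nat_lit 0x708070f090005070e000305020b070d0d020901010d060f02070f0e0e06000e06020c000709070b0e0e0800) (Net.cons (nat_lit 8) (nat_lit 0x260045004f003100d1002700c200e8000b0058006d00e5003e00f6004b00fd001000c400bc00d200880000) (Net.cons (nat_lit 16) (nat_lit 0x1bed00007971000080560000e03200002082000082fd0000202d0000624c0000a6990000c0c000000000) (Net.cons (nat_lit 32) (nat_lit 0x4a4d6b6100000000082158b500000000c45b45b0000000008f4080ce00000000054556b0) (Net.cons (nat_lit 64) (nat_lit 0x45177ac10000000000000000120dad443cd0a60c00000000000000002940810000000000) (Net.cons (nat_lit 128) (nat_lit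 0x4d51cefb31840634028a8300401430a0) (Net.cons (nat_lit 256) (nat_lit 0x31c46f3dffcbd7bc441fbae4) (Net.cons (nat_lit 128) (nat_lit 0x4c63cc0890deb006412677a1) (Net.cons (nat_lit 64) (nat_lit 0x641330b10000000000000000317d8f163d4eb0a3000000000000000080453c9257514d59) (Net.cons (nat_lit 32) (nat_lit 0x430dccbf000000006821182300000000ef4b541500000000abc19cb200000000e6584768) (Net.cons (nat_lit 16) (nat_lit 0x1f6c00004a010000758800008737000068ba00008b39000032ec00000f0d0000b7fe0000999d000065c1) (Net.cons (nat_lit 8) (nat_lit 0xa0064008e00b4009600de007200c900d700fd00ce00b9002a0020001e00fd00ad0043005100dd005d0077) (Net.cons (nat_lit 4) (nat_lit 0x107070f07030d050b05040e000e030c000e0301010d0e0c0b0f000c0a03010a080c0d060b000d03060e0e09) (Net.cons (nat_lit 2) (nat_lit 0x303020121333321223003211010022010033121332000020023231103233133312133102101232120333120) (Net.cons (nat_lit 1) (nat_lit 0x514114105505450455411140055140104154501114105504510551040501445514501100415511555150150)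 Net.nil)))))))))))))))))

theorem o_g610_ok : Net.ok 351 o_g610 = true := by decide +kernel

noncomputable def ot_c56_K : List Net := [o_g609, o_g610, o_g601]

theorem ot_c56_K_ok : okE 351 ot_c56_K = true := (okE_cons.2 ⟨o_g609_ok, (okE_cons.2 ⟨o_g610_ok, (okE_cons.2 ⟨o_g601_ok, (okE_nil 351)⟩)⟩)⟩)

noncomputable def o_g612 : Net := (Net.cons (nat_lit 1) (nat_lit 0x1501015051044510015155041050515045040010001404555544544141440000400441110414105105500440) (Net.cons (nat_lit 2) (nat_lit 0x1112132112322110210030323323212112110332233023203100232000233333231033310222232030102120) (Net.cons (nat_lit 4) (nat_lit 0x6080f060d0b0908040f0702090803050f020b0c01000c09030a0e0d01000f060e020d0f0903010206050208) (Net.cons (nat_lit 8) (nat_lit 0x230015005d00cd0041002b0099008c00830066009e006f007500ba002a0098008500be00a4005f00d80080) (Net.cons (nat_lit 16) (nat_lit 0xfd90000c2e50000685a0000002c0000c14d00002dde0000d623000085ce00001e300000604000000000) (Net.cons (nat_lit 32) (nat_lit 0x79f8e631000000007068e7f6000000003943e75b0000000012ee54410000000046013138)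 (Net.cons (nat_lit 64) (nat_lit 0x6c90e9ae0000000000000000121e63b06833054100000000000000009422891c80000000) (Net.cons (nat_lit 128) (nat_lit 0xa931dac414101400e509402408880040) (Net.cons (nat_lit 256) (nat_lit 0x167a96b3f52ff9fdfdd97fcc) (Net.cons (nat_lit 128) (nat_lit 0x3a6a3acf9b4eed3e5d914d78) (Net.cons (nat_lit 64) (nat_lit 0x3611f30d0000000000000000541debe1c5bfec310000000000000000b722080eb0c61102) (Net.cons (nat_lit 32) (nat_lit 0xbdb46050000000008d097652000000002e49e9d2000000007a42df3900000000c7084462) (Net.cons (nat_lit 16) (nat_lit 0x7b6b00004a3000005c120000842e0000ab890000e6d800005a55000085e60000df1a0000486900000018) (Net.cons (nat_lit 8) (nat_lit 0x2a003000d500580009002d0083000d004b0087001800620017002600980089009d00080068008600db00d0) (Net.cons (nat_lit 4) (nat_lit 0x6030f0b080b0400080807040d0f0c010700030e0c0c0c09030e0709070a0f0508080709070b090a07040c08) (Net.cons (nat_lit 2) (nat_lit 0x132223212322001221122323231100011021011333223000002312303011322333230322232133331010320)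 (Net.cons (nat_lit 1) (nat_lit 0x401054114054550151150041051100441550054011400544000404441504001500454115000515445101540) Net.nil)))))))))))))))))

theorem o_g612_ok : Net.ok 351 o_g612 = true := by decide +kernel

noncomputable def o_g613 : Net := (Net.cons (nat_lit 1) (nat_lit 0x1551500011405015554414004100451045155540450041440100505414014044004050004000000010000000) (Net.cons (nat_lit 2) (nat_lit 0x130000010013020332221223211130311211113230001030003000100103020002021200200001002002000) (Net.cons (nat_lit 4) (nat_lit 0x1060908000e0c0200060c020a01000903000605010104040808050a00010200000208020400000000020000) (Net.cons (nat_lit 8) (nat_lit 0x70088004900180094009b00050011002f00c1001000b800c000c600120012006200060004000400000000) (Net.cons (nat_lit 16) (nat_lit 0x31a0000021200001d9900003c02000056f100006060000080260000089100008200000000a000000000) (Net.cons (nat_lit 32) (nat_lit 0x1ac6122200000000981dc51300000000c40de10400000000450482600000000000000200) (Net.cons (nat_lit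 64) (nat_lit 0x20068204000000000000000046689ca1d0a5a11200000000000000004200000000000000) (Net.cons (nat_lit 128) (nat_lit 0x7377fa97100c81120221080020080200) (Net.cons (nat_lit 256) (nat_lit 0x150ec35252a10a4828699fb6) (Net.cons (nat_lit 128) (nat_lit 0x722d3fb6ae3f4c24b68e8000) (Net.cons (nat_lit 64) (nat_lit 0x200e00040000000000000000c67abd2559ed439300000000000000004212000400008200) (Net.cons (nat_lit 32) (nat_lit 0x1ad6122200000000181de59b00000000462dc18400000000c524a2e00000000082000200) (Net.cons (nat_lit 16) (nat_lit 0x31a0000021200001d9b00003c02000056f500006060000080260000189000008204000000a000000000) (Net.cons (nat_lit 8) (nat_lit 0x700880049001c009400bf00450011002f00c1001000b800c000c600120012006200060004000400000000) (Net.cons (nat_lit 4) (nat_lit 0x1060908000e0c0200060c020a01000b03000705010104050808050a00000201000208020402000000020000) (Net.cons (nat_lit 2) (nat_lit 0x130000010013020332221223211130311211113230001030003000100103020002021200200001002002000) (Net.cons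 (nat_lit 1) (nat_lit 0x1551500011405015554414004100451045155540450041440100505414014044004050004000000010000000) Net.nil)))))))))))))))))

theorem o_g613_ok : Net.ok 351 o_g613 = true := by decide +kernel

noncomputable def o_g614 : Net := (Net.cons (nat_lit 1) (nat_lit 0x1150000100410051100515115455000555011451055141001001015405001110045454141001450111441000) (Net.cons (nat_lit 2) (nat_lit 0x232223133311133102200330131030310131133212311010111202113101001110010203233132313322300) (Net.cons (nat_lit 4) (nat_lit 0x70a05080e070a0f0509040b0a06040a05000f060a00090603020b0102040c080006010d040e030b040e0200) (Net.cons (nat_lit 8) (nat_lit 0x600d5006b001600700074003b000c00ae0081005c007a00b900e1002400410040006b00280032008d0000) (Net.cons (nat_lit 16) (nat_lit 0xc7900006b020000e83d00000e290000db3e0000032800006d2d000074080000222d0000538100008000) (Net.cons (nat_lit 32) (nat_lit 0x7843586000000000979b0b4600000000a91e68750000000049631d4c000000002d5a880a) (Net.cons (nat_lit 64) (nat_lit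 0x206a94f00000000000000005de48bb5ad0c71140000000000000000800104a480000000) (Net.cons (nat_lit 128) (nat_lit 0x87d45c0f0065a4a9120c0deda82ac314) (Net.cons (nat_lit 256) (nat_lit 0x7fede5fbdb8f3dffa87eeb36) (Net.cons (nat_lit 128) (nat_lit 0x229536564a25ef5c1733898c) (Net.cons (nat_lit 64) (nat_lit 0x6a182db70000000000000000515f808d69b0101300000000000000005011ed01a743bd26) (Net.cons (nat_lit 32) (nat_lit 0x71c7911d00000000d1be9fc8000000008f5b31370000000058a2392f00000000beef43ac) (Net.cons (nat_lit 16) (nat_lit 0x426a0000cb460000e94d00008e880000c57c0000946000004b620000c5290000f31500008eb000001046) (Net.cons (nat_lit 8) (nat_lit 0x1700db006700400038001c009d0093003c006600d10007009800ba006900e800f100420088002700060004) (Net.cons (nat_lit 4) (nat_lit 0x70106050e0d0c01050008040c0f0904020d060700050b0601010901040c080c00020e050f0f0900000d0a00) (Net.cons (nat_lit 2) (nat_lit 0x1000212113111333121231122003333233323322322313100001323021000121100333022112210003122020) (Net.cons (nat_lit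 1) (nat_lit 0x1451454111515401545115011011150145054504454545145410050451114150041410001051541451441000) Net.nil)))))))))))))))))

theorem o_g614_ok : Net.ok 351 o_g614 = true := by decide +kernel

noncomputable def o_V615 : List Net := [o_g612, o_g613, o_g614, o_g111]

theorem o_V615_ok : okE 351 o_V615 = true := (okE_cons.2 ⟨o_g612_ok, (okE_cons.2 ⟨o_g613_ok, (okE_cons.2 ⟨o_g614_ok, (okE_cons.2 ⟨o_g111_ok, (okE_nil 351)⟩)⟩)⟩)⟩)

noncomputable def o_V617 : List Net := [o_g613, o_g614, o_g111]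

theorem o_V617_ok : okE 351 o_V617 = true := (okE_cons.2 ⟨o_g613_ok, (okE_cons.2 ⟨o_g614_ok, (okE_cons.2 ⟨o_g111_ok, (okE_nil 351)⟩)⟩)⟩)

noncomputable def o_V618 : List Net := [o_g111]

theorem o_V618_ok : okE 351 o_V618 = true := (okE_cons.2 ⟨o_g111_ok, (okE_nil 351)⟩)

noncomputable def o_V619 : List Net := []

theorem o_V619_ok : okE 351 o_V619 = true := (okE_nil 351)

noncomputable def ot_c56_cnt_EG : List Net := [o_b, o_c, o_d, o_e, o_f, o_g, o_h, o_i, o_g1, o_g2, o_g3, o_g4, o_g5, o_g8, o_g9, o_g12, o_g13, o_g14, o_g17, o_g18, o_g19, o_g20, o_g23, o_g24, o_g25, o_g26, o_g27, o_g30, o_g31, o_g32, o_g35, o_g191, o_g192, o_g193, o_g194, o_g195, o_g612, o_g613, o_g614, o_g111]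

theorem ot_c56_cnt_EG_ok : okE 351 ot_c56_cnt_EG = true := (okE_cons.2 ⟨o_b_ok, (okE_cons.2 ⟨o_c_ok, (okE_cons.2 ⟨o_d_ok, (okE_cons.2 ⟨o_e_ok, (okE_cons.2 ⟨o_f_ok, (okE_cons.2 ⟨o_g_ok, (okE_cons.2 ⟨o_h_ok, (okE_cons.2 ⟨o_i_ok, (okE_cons.2 ⟨o_g1_ok, (okE_cons.2 ⟨o_g2_ok, (okE_cons.2 ⟨o_g3_ok, (okE_cons.2 ⟨o_g4_ok, (okE_cons.2 ⟨o_g5_ok, (okE_cons.2 ⟨o_g8_ok, (okE_cons.2 ⟨o_g9_ok, (okE_cons.2 ⟨o_g12_ok, (okE_cons.2 ⟨o_g13_ok, (okE_cons.2 ⟨o_g14_ok, (okE_cons.2 ⟨o_g17_ok, (okE_cons.2 ⟨o_g18_ok, (okE_cons.2 ⟨o_g19_ok, (okE_cons.2 ⟨o_g20_ok, (okE_cons.2 ⟨o_g23_ok, (okE_cons.2 ⟨o_g24_ok, (okE_cons.2 ⟨o_g25_ok, (okE_cons.2 ⟨o_g26_ok, (okE_cons.2 ⟨o_g27_ok, (okE_cons.2 ⟨o_g30_ok, (okE_cons.2 ⟨o_g31_ok, (okE_cons.2 ⟨o_g32_ok, (okE_cons.2 ⟨o_g35_ok, (okE_cons.2 ⟨o_g191_ok, (okE_cons.2 ⟨o_g192_ok, (okE_cons.2 ⟨o_g193_ok, (okE_cons.2 ⟨o_g194_ok, (okE_cons.2 ⟨o_g195_ok, (okE_cons.2 ⟨o_g612_ok, (okE_cons.2 ⟨o_g613_ok, (okE_cons.2 ⟨o_g614_ok, (okE_cons.2 ⟨o_g111_ok, (okE_nil 351)⟩)⟩)⟩)⟩)⟩)⟩)⟩)⟩)⟩)⟩)⟩)⟩)⟩)⟩)⟩)⟩)⟩)⟩)⟩)⟩)⟩)⟩)⟩)⟩)⟩)⟩)⟩)⟩)⟩)⟩)⟩)⟩)⟩)⟩)⟩)⟩)⟩)⟩)⟩)⟩)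

noncomputable def o_g620 : Net := (Net.cons (nat_lit 1) (nat_lit 0x1114415514440155140401445050004550401041414104500015045054510444405151010505450404411111) (Net.cons (nat_lit 2) (nat_lit 0x1021311331321032321102201000002123230300012321013210020300310320100223210022021221300210) (Net.cons (nat_lit 4) (nat_lit 0x50f0f0807030b07090c0f0803050f0f08040003040b02050e0701040a0a0d01020d0e00020c0a0f080d0300) (Net.cons (nat_lit 8) (nat_lit 0x470067004800650003003a0043009e008c00570076000500d30051006800b300010016003f008200140000) (Net.cons (nat_lit 16) (nat_lit 0xe810000c61900002ec400008a1a000078ef0000bb0e000030c00000ecc8000040c10000e05a00008000) (Net.cons (nat_lit 32) (nat_lit 0xcaba85ed000000007bddd024000000006d090e7a000000002c26135f00000000045ce5b8) (Net.cons (nat_lit 64) (nat_lit 0x28080d360000000000000000fcfe4c881c26641000000000000000000032028800000000) (Net.cons (nat_lit 128) (nat_lit 0xaace282eb3460620aa5c183028b06049) (Net.cons (nat_lit 256) (nat_lit 0x3356fff4bf7f3ef8e9bdeeef)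 (Net.cons (nat_lit 128) (nat_lit 0x768fe74857687cf3d2125a3d) (Net.cons (nat_lit 64) (nat_lit 0x1c3bae0c0000000000000000d6f655b519690cb30000000000000000e0fd695d703f9ab8) (Net.cons (nat_lit 32) (nat_lit 0x968bcade0000000046c030420000000056f25731000000003ecdc97b00000000ed771a41) (Net.cons (nat_lit 16) (nat_lit 0x1c4200000e820000985a000001ee00004e0200001cd00000e5e00000de7700002004000067030000a1ac) (Net.cons (nat_lit 8) (nat_lit 0x6c00cb0096008a004b009c006200aa00ee00ae004b0035009700dc0025000c00b400df003e0011000b0064) (Net.cons (nat_lit 4) (nat_lit 0x606040006080601070c03080b040e090c0a050e01010b0b080b060606000506070402070f010501070e04) (Net.cons (nat_lit 2) (nat_lit 0x331033123330133222020002212121011310323313321032202013101221321322121333003202302233013) (Net.cons (nat_lit 1) (nat_lit 0x1105410041554154550001055414541454505155515545415454154055555541404040140505550455100054) Net.nil)))))))))))))))))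

theorem o_g620_ok : Net.ok 351 o_g620 = true := by decide +kernel

noncomputable def o_g621 : Net := (Net.cons (nat_lit 1) (nat_lit 0x1545554140505405551101545045554414044105151001445410015140050450501414011441411554410410) (Net.cons (nat_lit 2) (nat_lit 0x1113231310133132131112011330322023210230320013220112113020012322021302010231300121302000) (Net.cons (nat_lit 4) (nat_lit 0x50d020e06020c0c0c00000209070e0f0d0c070d040800080305060206030e02010b000c050504000b060108) (Net.cons (nat_lit 8) (nat_lit 0x6300b100e200ee00470097004d00b00024005e000a007200a000a60017007c004700a8005500d200510000) (Net.cons (nat_lit 16) (nat_lit 0x3eb90000fd9c00009f890000ec55000055550000a1540000f1330000af1a00001adb0000189000000000) (Net.cons (nat_lit 32) (nat_lit 0x2ee9a951000000003e2d6fd1000000008e10e4bc000000000a9767420000000000411054) (Net.cons (nat_lit 64) (nat_lit 0x22e9176a0000000000000000d894300988e5130100000000000000003070031480000000) (Net.cons (nat_lit 128) (nat_lit 0x451ad946c55834249516c8e41801400b)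 (Net.cons (nat_lit 256) (nat_lit 0x7f7bb7b5b776ebf7fccdd84f) (Net.cons (nat_lit 128) (nat_lit 0x35e5029d8ed2a9ed4f08b1e4) (Net.cons (nat_lit 64) (nat_lit 0x5b4154ea00000000000000001d0a7cd8c217a0290000000000000000f6e02af5ec277e52) (Net.cons (nat_lit 32) (nat_lit 0xbec4008100000000514357f200000000ba71f532000000001725279700000000791fcebc) (Net.cons (nat_lit 16) (nat_lit 0x47a70000e8640000a1a500007d120000945b00006ff700006e960000738f0000e0e0000080f800001ee2) (Net.cons (nat_lit 8) (nat_lit 0x26001a0077009200410083007300e9002f0073002800a20098001d007400b0001900c9007d00d100dd00e6) (Net.cons (nat_lit 4) (nat_lit 0x10c020f0a0608000c0d0604050e09010b080a090b0f080e0e0f0b0c0c050a080804090f0a0608090d01050b) (Net.cons (nat_lit 2) (nat_lit 0x11230230130122122003002031222331211321232211333133221303310110123200201312112120032102) (Net.cons (nat_lit 1) (nat_lit 0x1001105100515415550104511450000140040115101010155101005551140015011554044451045050104550) Net.nil)))))))))))))))))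

theorem o_g621_ok : Net.ok 351 o_g621 = true := by decide +kernel

noncomputable def ot_c57_K : List Net := [o_g620, o_g621]

theorem ot_c57_K_ok : okE 351 ot_c57_K = true := (okE_cons.2 ⟨o_g620_ok, (okE_cons.2 ⟨o_g621_ok, (okE_nil 351)⟩)⟩)

noncomputable def ot_c57_cnt_EG : List Net := [o_b, o_c, o_d, o_e, o_f, o_g, o_h, o_i, o_g1, o_g2, o_g3, o_g4, o_g5, o_g8, o_g9, o_g12, o_g13, o_g14, o_g17, o_g18, o_g19, o_g20, o_g23, o_g24, o_g25, o_g26, o_g27, o_g30, o_g31, o_g32, o_g35, o_g295, o_g296, o_g297, o_g298]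

theorem ot_c57_cnt_EG_ok : okE 351 ot_c57_cnt_EG = true := (okE_cons.2 ⟨o_b_ok, (okE_cons.2 ⟨o_c_ok, (okE_cons.2 ⟨o_d_ok, (okE_cons.2 ⟨o_e_ok, (okE_cons.2 ⟨o_f_ok, (okE_cons.2 ⟨o_g_ok, (okE_cons.2 ⟨o_h_ok, (okE_cons.2 ⟨o_i_ok, (okE_cons.2 ⟨o_g1_ok, (okE_cons.2 ⟨o_g2_ok, (okE_cons.2 ⟨o_g3_ok, (okE_cons.2 ⟨o_g4_ok, (okE_cons.2 ⟨o_g5_ok, (okE_cons.2 ⟨o_g8_ok, (okE_cons.2 ⟨o_g9_ok, (okE_cons.2 ⟨o_g12_ok, (okE_cons.2 ⟨o_g13_ok, (okE_cons.2 ⟨o_g14_ok, (okE_cons.2 ⟨o_g17_ok, (okE_cons.2 ⟨o_g18_ok, (okE_cons.2 ⟨o_g19_ok, (okE_cons.2 ⟨o_g20_ok, (okE_cons.2 ⟨o_g23_ok, (okE_cons.2 ⟨o_g24_ok, (okE_cons.2 ⟨o_g25_ok, (okE_cons.2 ⟨o_g26_ok, (okE_cons.2 ⟨o_g27_ok, (okE_cons.2 ⟨o_g30_ok, (okE_cons.2 ⟨o_g31_ok, (okE_cons.2 ⟨o_g32_ok, (okE_cons.2 ⟨o_g35_ok, (okE_cons.2 ⟨o_g295_ok, (okE_cons.2 ⟨o_g296_ok, (okE_cons.2 ⟨o_g297_ok, (okE_cons.2 ⟨o_g298_ok, (okE_nil 351)⟩)⟩)⟩)⟩)⟩)⟩)⟩)⟩)⟩)⟩)⟩)⟩)⟩)⟩)⟩)⟩)⟩)⟩)⟩)⟩)⟩)⟩)⟩)⟩)⟩)⟩)⟩)⟩)⟩)⟩)⟩)⟩)⟩)⟩)⟩)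

noncomputable def ot_nc8_7_cnt_EG : List Net := [o_b, o_c, o_d, o_e, o_f, o_g, o_h, o_i, o_g1, o_g2, o_g3, o_g4, o_g5, o_g8, o_g9, o_g12, o_g13, o_g14, o_g17, o_g18, o_g19, o_g20, o_g23, o_g24, o_g25, o_g26, o_g27, o_g30, o_g31, o_g32, o_g35, o_g132, o_g133, o_g134, o_g135, o_g221]

theorem ot_nc8_7_cnt_EG_ok : okE 351 ot_nc8_7_cnt_EG = true := (okE_cons.2 ⟨o_b_ok, (okE_cons.2 ⟨o_c_ok, (okE_cons.2 ⟨o_d_ok, (okE_cons.2 ⟨o_e_ok, (okE_cons.2 ⟨o_f_ok, (okE_cons.2 ⟨o_g_ok, (okE_cons.2 ⟨o_h_ok, (okE_cons.2 ⟨o_i_ok, (okE_cons.2 ⟨o_g1_ok, (okE_cons.2 ⟨o_g2_ok, (okE_cons.2 ⟨o_g3_ok, (okE_cons.2 ⟨o_g4_ok, (okE_cons.2 ⟨o_g5_ok, (okE_cons.2 ⟨o_g8_ok, (okE_cons.2 ⟨o_g9_ok, (okE_cons.2 ⟨o_g12_ok, (okE_cons.2 ⟨o_g13_ok, (okE_cons.2 ⟨o_g14_ok, (okE_cons.2 ⟨o_g17_ok, (okE_cons.2 ⟨o_g18_ok, (okE_cons.2 ⟨o_g19_ok, (okE_cons.2 ⟨o_g20_ok, (okE_cons.2 ⟨o_g23_ok, (okE_cons.2 ⟨o_g24_ok, (okE_cons.2 ⟨o_g25_ok, (okE_cons.2 ⟨o_g26_ok, (okE_cons.2 ⟨o_g27_ok, (okE_cons.2 ⟨o_g30_ok, (okE_cons.2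 ⟨o_g31_ok, (okE_cons.2 ⟨o_g32_ok, (okE_cons.2 ⟨o_g35_ok, (okE_cons.2 ⟨o_g132_ok, (okE_cons.2 ⟨o_g133_ok, (okE_cons.2 ⟨o_g134_ok, (okE_cons.2 ⟨o_g135_ok, (okE_cons.2 ⟨o_g221_ok, (okE_nil 351)⟩)⟩)⟩)⟩)⟩)⟩)⟩)⟩)⟩)⟩)⟩)⟩)⟩)⟩)⟩)⟩)⟩)⟩)⟩)⟩)⟩)⟩)⟩)⟩)⟩)⟩)⟩)⟩)⟩)⟩)⟩)⟩)⟩)⟩)⟩)⟩)

noncomputable def ot_nc28_27_cnt_EG : List Net := [o_b, o_c, o_d, o_e, o_f, o_g, o_h, o_i, o_g1, o_g2, o_g3, o_g4, o_g5, o_g8, o_g9, o_g12, o_g13, o_g14, o_g17, o_g18, o_g19, o_g20, o_g23, o_g24, o_g25, o_g26, o_g27, o_g30, o_g31, o_g32, o_g35, o_g88, o_g89, o_g90, o_g91, o_g92, o_g93, o_g94, o_g455, o_g456, o_g457, o_g454]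

theorem ot_nc28_27_cnt_EG_ok : okE 351 ot_nc28_27_cnt_EG = true := (okE_cons.2 ⟨o_b_ok, (okE_cons.2 ⟨o_c_ok, (okE_cons.2 ⟨o_d_ok, (okE_cons.2 ⟨o_e_ok, (okE_cons.2 ⟨o_f_ok, (okE_cons.2 ⟨o_g_ok, (okE_cons.2 ⟨o_h_ok, (okE_cons.2 ⟨o_i_ok, (okE_cons.2 ⟨o_g1_ok, (okE_cons.2 ⟨o_g2_ok, (okE_cons.2 ⟨o_g3_ok, (okE_cons.2 ⟨o_g4_ok, (okE_cons.2 ⟨o_g5_ok, (okE_cons.2 ⟨o_g8_ok, (okE_cons.2 ⟨o_g9_ok, (okE_cons.2 ⟨o_g12_ok, (okE_cons.2 ⟨o_g13_ok, (okE_cons.2 ⟨o_g14_ok, (okE_cons.2 ⟨o_g17_ok, (okE_cons.2 ⟨o_g18_ok, (okE_cons.2 ⟨o_g19_ok, (okE_cons.2 ⟨o_g20_ok, (okE_cons.2 ⟨o_g23_ok, (okE_cons.2 ⟨o_g24_ok, (okE_cons.2 ⟨o_g25_ok, (okE_cons.2 ⟨o_g26_ok, (okE_cons.2 ⟨o_g27_ok, (okE_cons.2 ⟨o_g30_ok, (okE_cons.2 ⟨o_g31_ok, (okE_cons.2 ⟨o_g32_ok, (okE_cons.2 ⟨o_g35_ok, (okE_cons.2 ⟨o_g88_ok, (okE_cons.2 ⟨o_g89_ok, (okE_cons.2 ⟨o_g90_ok, (okE_cons.2 ⟨o_g91_ok, (okE_cons.2 ⟨o_g92_ok, (okE_cons.2 ⟨o_g93_ok, (okE_cons.2 ⟨o_g94_ok, (okE_cons.2 ⟨o_g455_ok, (okE_cons.2 ⟨o_g456_ok, (okE_cons.2 ⟨o_g457_ok,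 (okE_cons.2 ⟨o_g454_ok, (okE_nil 351)⟩)⟩)⟩)⟩)⟩)⟩)⟩)⟩)⟩)⟩)⟩)⟩)⟩)⟩)⟩)⟩)⟩)⟩)⟩)⟩)⟩)⟩)⟩)⟩)⟩)⟩)⟩)⟩)⟩)⟩)⟩)⟩)⟩)⟩)⟩)⟩)⟩)⟩)⟩)⟩)⟩)⟩)

noncomputable def ot_nc30_29_cnt_EG : List Net := [o_b, o_c, o_d, o_e, o_f, o_g, o_h, o_i, o_g1, o_g2, o_g3, o_g4, o_g5, o_g8, o_g9, o_g12, o_g13, o_g14, o_g17, o_g18, o_g19, o_g20, o_g23, o_g24, o_g25, o_g26, o_g27, o_g30, o_g31, o_g32, o_g35, o_g88, o_g89, o_g90, o_g91, o_g92, o_g93, o_g94, o_g454, o_g455, o_g456, o_g457]

theorem ot_nc30_29_cnt_EG_ok : okE 351 ot_nc30_29_cnt_EG = true := (okE_cons.2 ⟨o_b_ok, (okE_cons.2 ⟨o_c_ok, (okE_cons.2 ⟨o_d_ok, (okE_cons.2 ⟨o_e_ok, (okE_cons.2 ⟨o_f_ok, (okE_cons.2 ⟨o_g_ok, (okE_cons.2 ⟨o_h_ok, (okE_cons.2 ⟨o_i_ok, (okE_cons.2 ⟨o_g1_ok, (okE_cons.2 ⟨o_g2_ok, (okE_cons.2 ⟨o_g3_ok, (okE_cons.2 ⟨o_g4_ok, (okE_cons.2 ⟨o_g5_ok, (okE_cons.2 ⟨o_g8_ok, (okE_cons.2 ⟨o_g9_ok, (okE_cons.2 ⟨o_g12_ok, (okE_cons.2 ⟨o_g13_ok, (okE_cons.2 ⟨o_g14_ok, (okE_cons.2 ⟨o_g17_ok, (okE_cons.2 ⟨o_g18_ok, (okE_cons.2 ⟨o_g19_ok, (okE_cons.2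 ⟨o_g20_ok, (okE_cons.2 ⟨o_g23_ok, (okE_cons.2 ⟨o_g24_ok, (okE_cons.2 ⟨o_g25_ok, (okE_cons.2 ⟨o_g26_ok, (okE_cons.2 ⟨o_g27_ok, (okE_cons.2 ⟨o_g30_ok, (okE_cons.2 ⟨o_g31_ok, (okE_cons.2 ⟨o_g32_ok, (okE_cons.2 ⟨o_g35_ok, (okE_cons.2 ⟨o_g88_ok, (okE_cons.2 ⟨o_g89_ok, (okE_cons.2 ⟨o_g90_ok, (okE_cons.2 ⟨o_g91_ok, (okE_cons.2 ⟨o_g92_ok, (okE_cons.2 ⟨o_g93_ok, (okE_cons.2 ⟨o_g94_ok, (okE_cons.2 ⟨o_g454_ok, (okE_cons.2 ⟨o_g455_ok, (okE_cons.2 ⟨o_g456_ok, (okE_cons.2 ⟨o_g457_ok, (okE_nil 351)⟩)⟩)⟩)⟩)⟩)⟩)⟩)⟩)⟩)⟩)⟩)⟩)⟩)⟩)⟩)⟩)⟩)⟩)⟩)⟩)⟩)⟩)⟩)⟩)⟩)⟩)⟩)⟩)⟩)⟩)⟩)⟩)⟩)⟩)⟩)⟩)⟩)⟩)⟩)⟩)⟩)⟩)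

noncomputable def ot_nc34_33_cnt_EG : List Net := [o_b, o_c, o_d, o_e, o_f, o_g, o_h, o_i, o_g1, o_g2, o_g3, o_g4, o_g5, o_g8, o_g9, o_g12, o_g13, o_g14, o_g17, o_g18, o_g19, o_g20, o_g23, o_g24, o_g25, o_g26, o_g27, o_g30, o_g31, o_g32, o_g35]

theorem ot_nc34_33_cnt_EG_ok : okE 351 ot_nc34_33_cnt_EG = true := (okE_cons.2 ⟨o_b_ok, (okE_cons.2 ⟨o_c_ok, (okE_cons.2 ⟨o_d_ok, (okE_cons.2 ⟨o_e_ok, (okE_cons.2 ⟨o_f_ok, (okE_cons.2 ⟨o_g_ok, (okE_cons.2 ⟨o_h_ok, (okE_cons.2 ⟨o_i_ok, (okE_cons.2 ⟨o_g1_ok, (okE_cons.2 ⟨o_g2_ok, (okE_cons.2 ⟨o_g3_ok, (okE_cons.2 ⟨o_g4_ok, (okE_cons.2 ⟨o_g5_ok, (okE_cons.2 ⟨o_g8_ok, (okE_cons.2 ⟨o_g9_ok, (okE_cons.2 ⟨o_g12_ok, (okE_cons.2 ⟨o_g13_ok, (okE_cons.2 ⟨o_g14_ok, (okE_cons.2 ⟨o_g17_ok, (okE_cons.2 ⟨o_g18_ok, (okE_cons.2 ⟨o_g19_ok, (okE_cons.2 ⟨o_g20_ok, (okE_cons.2 ⟨o_g23_ok, (okE_cons.2 ⟨o_g24_ok, (okE_cons.2 ⟨o_g25_ok, (okE_cons.2 ⟨o_g26_ok, (okE_cons.2 ⟨o_g27_ok, (okE_cons.2 ⟨o_g30_ok, (okE_cons.2 ⟨o_g31_ok, (okE_cons.2 ⟨o_g32_ok,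 (okE_cons.2 ⟨o_g35_ok, (okE_nil 351)⟩)⟩)⟩)⟩)⟩)⟩)⟩)⟩)⟩)⟩)⟩)⟩)⟩)⟩)⟩)⟩)⟩)⟩)⟩)⟩)⟩)⟩)⟩)⟩)⟩)⟩)⟩)⟩)⟩)⟩)⟩)

noncomputable def ot_nc38_37_cnt_EG : List Net := [o_b, o_c, o_d, o_e, o_f, o_g, o_h, o_i, o_g1, o_g2, o_g3, o_g4, o_g5, o_g8, o_g9, o_g12, o_g13, o_g14, o_g17, o_g18, o_g19, o_g20, o_g23, o_g24, o_g25, o_g26, o_g27, o_g30, o_g31, o_g32, o_g35]

theorem ot_nc38_37_cnt_EG_ok : okE 351 ot_nc38_37_cnt_EG = true := (okE_cons.2 ⟨o_b_ok, (okE_cons.2 ⟨o_c_ok, (okE_cons.2 ⟨o_d_ok, (okE_cons.2 ⟨o_e_ok, (okE_cons.2 ⟨o_f_ok, (okE_cons.2 ⟨o_g_ok, (okE_cons.2 ⟨o_h_ok, (okE_cons.2 ⟨o_i_ok, (okE_cons.2 ⟨o_g1_ok, (okE_cons.2 ⟨o_g2_ok, (okE_cons.2 ⟨o_g3_ok, (okE_cons.2 ⟨o_g4_ok, (okE_cons.2 ⟨o_g5_ok, (okE_cons.2 ⟨o_g8_ok, (okE_cons.2 ⟨o_g9_ok, (okE_cons.2 ⟨o_g12_ok, (okE_cons.2 ⟨o_g13_ok, (okE_cons.2 ⟨o_g14_ok, (okE_cons.2 ⟨o_g17_ok, (okE_cons.2 ⟨o_g18_ok, (okE_cons.2 ⟨o_g19_ok, (okE_cons.2 ⟨o_g20_ok, (okE_cons.2 ⟨o_g23_ok, (okE_cons.2 ⟨o_g24_ok, (okE_cons.2 ⟨o_g25_ok, (okE_cons.2 ⟨o_g26_ok,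 (okE_cons.2 ⟨o_g27_ok, (okE_cons.2 ⟨o_g30_ok, (okE_cons.2 ⟨o_g31_ok, (okE_cons.2 ⟨o_g32_ok, (okE_cons.2 ⟨o_g35_ok, (okE_nil 351)⟩)⟩)⟩)⟩)⟩)⟩)⟩)⟩)⟩)⟩)⟩)⟩)⟩)⟩)⟩)⟩)⟩)⟩)⟩)⟩)⟩)⟩)⟩)⟩)⟩)⟩)⟩)⟩)⟩)⟩)⟩)

noncomputable def ot_nc47_46_cnt_EG : List Net := [o_b, o_c, o_d, o_e, o_f, o_g, o_h, o_i, o_g1, o_g2, o_g3, o_g4, o_g5, o_g8, o_g9, o_g12, o_g13, o_g14, o_g17, o_g18, o_g19, o_g20, o_g23, o_g24, o_g25, o_g26, o_g27, o_g30, o_g31, o_g32, o_g35]

theorem ot_nc47_46_cnt_EG_ok : okE 351 ot_nc47_46_cnt_EG = true := (okE_cons.2 ⟨o_b_ok, (okE_cons.2 ⟨o_c_ok, (okE_cons.2 ⟨o_d_ok, (okE_cons.2 ⟨o_e_ok, (okE_cons.2 ⟨o_f_ok, (okE_cons.2 ⟨o_g_ok, (okE_cons.2 ⟨o_h_ok, (okE_cons.2 ⟨o_i_ok, (okE_cons.2 ⟨o_g1_ok, (okE_cons.2 ⟨o_g2_ok, (okE_cons.2 ⟨o_g3_ok, (okE_cons.2 ⟨o_g4_ok, (okE_cons.2 ⟨o_g5_ok, (okE_cons.2 ⟨o_g8_ok, (okE_cons.2 ⟨o_g9_ok, (okE_cons.2 ⟨o_g12_ok, (okE_cons.2 ⟨o_g13_ok, (okE_cons.2 ⟨o_g14_ok, (okE_cons.2 ⟨o_g17_ok, (okE_cons.2 ⟨o_g18_ok, (okE_cons.2 ⟨o_g19_ok, (okE_cons.2 ⟨o_g20_ok,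 (okE_cons.2 ⟨o_g23_ok, (okE_cons.2 ⟨o_g24_ok, (okE_cons.2 ⟨o_g25_ok, (okE_cons.2 ⟨o_g26_ok, (okE_cons.2 ⟨o_g27_ok, (okE_cons.2 ⟨o_g30_ok, (okE_cons.2 ⟨o_g31_ok, (okE_cons.2 ⟨o_g32_ok, (okE_cons.2 ⟨o_g35_ok, (okE_nil 351)⟩)⟩)⟩)⟩)⟩)⟩)⟩)⟩)⟩)⟩)⟩)⟩)⟩)⟩)⟩)⟩)⟩)⟩)⟩)⟩)⟩)⟩)⟩)⟩)⟩)⟩)⟩)⟩)⟩)⟩)⟩)

noncomputable def ot_nc50_49_cnt_EG : List Net := [o_b, o_c, o_d, o_e, o_f, o_g, o_h, o_i, o_g1, o_g2, o_g3, o_g4, o_g5, o_g8, o_g9, o_g12, o_g13, o_g14, o_g17, o_g18, o_g19, o_g20, o_g23, o_g24, o_g25, o_g26, o_g27, o_g30, o_g31, o_g32, o_g35]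

theorem ot_nc50_49_cnt_EG_ok : okE 351 ot_nc50_49_cnt_EG = true := (okE_cons.2 ⟨o_b_ok, (okE_cons.2 ⟨o_c_ok, (okE_cons.2 ⟨o_d_ok, (okE_cons.2 ⟨o_e_ok, (okE_cons.2 ⟨o_f_ok, (okE_cons.2 ⟨o_g_ok, (okE_cons.2 ⟨o_h_ok, (okE_cons.2 ⟨o_i_ok, (okE_cons.2 ⟨o_g1_ok, (okE_cons.2 ⟨o_g2_ok, (okE_cons.2 ⟨o_g3_ok, (okE_cons.2 ⟨o_g4_ok, (okE_cons.2 ⟨o_g5_ok, (okE_cons.2 ⟨o_g8_ok, (okE_cons.2 ⟨o_g9_ok, (okE_cons.2 ⟨o_g12_ok, (okE_cons.2 ⟨o_g13_ok, (okE_cons.2 ⟨o_g14_ok, (okE_cons.2 ⟨o_g17_ok, (okE_cons.2 ⟨o_g18_ok, (okE_cons.2 ⟨o_g19_ok, (okE_cons.2 ⟨o_g20_ok, (okE_cons.2 ⟨o_g23_ok, (okE_cons.2 ⟨o_g24_ok, (okE_cons.2 ⟨o_g25_ok, (okE_cons.2 ⟨o_g26_ok, (okE_cons.2 ⟨o_g27_ok, (okE_cons.2 ⟨o_g30_ok, (okE_cons.2 ⟨o_g31_ok, (okE_cons.2 ⟨o_g32_ok, (okE_cons.2 ⟨o_g35_ok, (okE_nil 351)⟩)⟩)⟩)⟩)⟩)⟩)⟩)⟩)⟩)⟩)⟩)⟩)⟩)⟩)⟩)⟩)⟩)⟩)⟩)⟩)⟩)⟩)⟩)⟩)⟩)⟩)⟩)⟩)⟩)⟩)⟩)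

noncomputable def ot_nc54_53_cnt_EG : List Net := [o_g88, o_g89, o_g90, o_g91, o_g92, o_g93, o_g94, o_g1, o_g, o_g2, o_g3, o_g4, o_g5, o_g8, o_g9, o_g12, o_g13, o_g14, o_g17, o_g18, o_g19, o_g20, o_g23, o_g24, o_g25, o_g26, o_c, o_g27, o_g30, o_g31, o_g32, o_g35, o_b, o_d, o_e, o_f, o_h, o_i]

theorem ot_nc54_53_cnt_EG_ok : okE 351 ot_nc54_53_cnt_EG = true := (okE_cons.2 ⟨o_g88_ok, (okE_cons.2 ⟨o_g89_ok, (okE_cons.2 ⟨o_g90_ok, (okE_cons.2 ⟨o_g91_ok, (okE_cons.2 ⟨o_g92_ok, (okE_cons.2 ⟨o_g93_ok, (okE_cons.2 ⟨o_g94_ok, (okE_cons.2 ⟨o_g1_ok, (okE_cons.2 ⟨o_g_ok, (okE_cons.2 ⟨o_g2_ok, (okE_cons.2 ⟨o_g3_ok, (okE_cons.2 ⟨o_g4_ok, (okE_cons.2 ⟨o_g5_ok, (okE_cons.2 ⟨o_g8_ok, (okE_cons.2 ⟨o_g9_ok, (okE_cons.2 ⟨o_g12_ok, (okE_cons.2 ⟨o_g13_ok, (okE_cons.2 ⟨o_g14_ok, (okE_cons.2 ⟨o_g17_ok, (okE_cons.2 ⟨o_g18_ok, (okE_cons.2 ⟨o_g19_ok, (okE_cons.2 ⟨o_g20_ok, (okE_cons.2 ⟨o_g23_ok, (okE_cons.2 ⟨o_g24_ok, (okE_cons.2 ⟨o_g25_ok, (okE_cons.2 ⟨o_g26_ok, (okE_cons.2 ⟨o_c_ok, (okE_cons.2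 ⟨o_g27_ok, (okE_cons.2 ⟨o_g30_ok, (okE_cons.2 ⟨o_g31_ok, (okE_cons.2 ⟨o_g32_ok, (okE_cons.2 ⟨o_g35_ok, (okE_cons.2 ⟨o_b_ok, (okE_cons.2 ⟨o_d_ok, (okE_cons.2 ⟨o_e_ok, (okE_cons.2 ⟨o_f_ok, (okE_cons.2 ⟨o_h_ok, (okE_cons.2 ⟨o_i_ok, (okE_nil 351)⟩)⟩)⟩)⟩)⟩)⟩)⟩)⟩)⟩)⟩)⟩)⟩)⟩)⟩)⟩)⟩)⟩)⟩)⟩)⟩)⟩)⟩)⟩)⟩)⟩)⟩)⟩)⟩)⟩)⟩)⟩)⟩)⟩)⟩)⟩)⟩)⟩)⟩)

noncomputable def o_g623 : Net := (Net.cons (nat_lit 1) (nat_lit 0x1405004151155500410110000004140500415115550041011000000415544505051155511014500505000004) (Net.cons (nat_lit 2) (nat_lit 0x1321331222311203202211020300132133122231320100201120030230000102310033002323003200232000) (Net.cons (nat_lit 4) (nat_lit 0x20f08000a02010a0309080500000805000a000809000101000d02080608050800080d04030003040b0c0100) (Net.cons (nat_lit 8) (nat_lit 0x6b0077003b0054001500180082004900d500190054009f0010000200910005002600220006005100000000) (Net.cons (nat_lit 16) (nat_lit 0x68340000620b0000c62d0000e8270000b4e400001705000000000000713f000069270000040000000000) (Net.cons (nat_lit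 32) (nat_lit 0xce20722800000000c1ec5309000000000004010000000000084445210000000000000000) (Net.cons (nat_lit 64) (nat_lit 0x5c8008020000000000000000131010348000000000000000000000000000000000000000) (Net.cons (nat_lit 128) (nat_lit 0x20000004fbcf33c1310103490002c03) (Net.cons (nat_lit 256) (nat_lit 0x4fbcf33c1310103490002c03) (Net.cons (nat_lit 128) (nat_lit 0x4fbcf33c1310103490002c03) (Net.cons (nat_lit 64) (nat_lit 0x1ce84e0a000000000000000013d4115210002403000000000000000018cb6529011c0842) (Net.cons (nat_lit 32) (nat_lit 0xfc27a2a80000000048f42403000000006db111b4000000005d7af5a8000000008425700c) (Net.cons (nat_lit 16) (nat_lit 0x6c8c00001253000021ba0000a4bd000066cc00006d960000d691000059be00007d7e000080030000e0d8) (Net.cons (nat_lit 8) (nat_lit 0x540055002300d2007900e7004e00f600ff000900720071006f004e00b9006c00460037000f007100200063) (Net.cons (nat_lit 4) (nat_lit 0x20c000e02030007090903010f0008060a040809080f090b010b070e080003000808000b0a05050b090001) (Net.cons (nat_lit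 2) (nat_lit 0x1022212122331133100302032021102221212233311110012221202130012022323103110322100002301101) (Net.cons (nat_lit 1) (nat_lit 0x1154415445041150155110115445115441544504115015511011544514401505001154511110104101004101) Net.nil)))))))))))))))))

theorem o_g623_ok : Net.ok 351 o_g623 = true := by decide +kernel

noncomputable def o_g624 : Net := (Net.cons (nat_lit 1) (nat_lit 0x1544154041004401405110400000154415404100440140511040015500104144045505150500411014110) (Net.cons (nat_lit 2) (nat_lit 0x130120200000030321303021300013230202021103012121000000023301233113031222133300222002020) (Net.cons (nat_lit 4) (nat_lit 0x20f02090707080f020d010e0f0c0e01060d010a04030e09080a00000206090e0c050109020801060c0a0200) (Net.cons (nat_lit 8) (nat_lit 0x6100ab00980082006000800008002700030002008e00bc000a0000008100350049002a0080000000200000) (Net.cons (nat_lit 16) (nat_lit 0x24400000203a00000000000095070000829d000010130000000000009888000003400000042000000000) (Net.cons (nat_lit 32)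 (nat_lit 0x45fa298200000000319d1c10000000000002001900000000062815400000000000000000) (Net.cons (nat_lit 64) (nat_lit 0x4c22a040000000000000000006001860200000000000000000000000000000000000000) (Net.cons (nat_lit 128) (nat_lit 0x359be89f0060018600480200) (Net.cons (nat_lit 256) (nat_lit 0x359be89f0060018600480200) (Net.cons (nat_lit 128) (nat_lit 0x379be89f0060018600480200) (Net.cons (nat_lit 64) (nat_lit 0x43d82a00000000000000000000ee018702481e1800000000000000000209956004200000) (Net.cons (nat_lit 32) (nat_lit 0x45da618400000000041fbe0800000000904b80270000000002106cc00000000000200000) (Net.cons (nat_lit 16) (nat_lit 0x55d2000038b800004281000095150000c79f0000803b0000c04000002d80000042500000c4000000a080) (Net.cons (nat_lit 8) (nat_lit 0x7400ac001e0006006800880000007e004000c000c6003400020088003500a5000900480090000100e800a1) (Net.cons (nat_lit 4) (nat_lit 0x30e000f000f0a0b060f00060f0e0f000e01060206070203040800020a050c0f08000005020a00060c0a060c) (Net.cons (nat_lit 2) (nat_lit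 0x130211123222233320303221112213203330303323312021200021221220331032011232102021023000030) (Net.cons (nat_lit 1) (nat_lit 0x541540100450000411145111511054154010045000041114511151114001550504055005050041141014511) Net.nil)))))))))))))))))

theorem o_g624_ok : Net.ok 351 o_g624 = true := by decide +kernel

noncomputable def o_g625 : Net := (Net.cons (nat_lit 1) (nat_lit 0x554004515511150514001054411500155104004440504155050114401114404040041454510100154505104) (Net.cons (nat_lit 2) (nat_lit 0x1233220223003301121230301123120022322031021022020000212233221330120103333010230102102010) (Net.cons (nat_lit 4) (nat_lit 0x60900040c01010e0408070f0d030904010508030a060b0702040208040a0a0f0f00000307000902000400) (Net.cons (nat_lit 8) (nat_lit 0x49001a003900e200a2005000420072007400f900f000f0001800000080003300c600a300900006005d0000) (Net.cons (nat_lit 16) (nat_lit 0x34000000572500004220000010a50000538800000194000000000000e4170000d0840000f26300000000) (Net.cons (nat_lit 32) (nat_lit 0x3a6c210000000064229423000000000004700a00000000cd8606460000000000000000)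 (Net.cons (nat_lit 64) (nat_lit 0x4020418000000000000000000a1821040000000000000000000000000000000000000000) (Net.cons (nat_lit 128) (nat_lit 0x2000726664ab0a18210400001b08) (Net.cons (nat_lit 256) (nat_lit 0x726664ab0a18210400001b08) (Net.cons (nat_lit 128) (nat_lit 0x726664ab0a18210400001b08) (Net.cons (nat_lit 64) (nat_lit 0x401b17a900000000000000004e18e1860104380900000000000000002d601f46e2de1000) (Net.cons (nat_lit 32) (nat_lit 0x87d74c900000000ec76589b00000000034550b7000000006b7146260000000094254a94) (Net.cons (nat_lit 16) (nat_lit 0x343200007e8600002a82000039c900005724000024c700001c650000a45c0000358000001d6300002a09) (Net.cons (nat_lit 8) (nat_lit 0x150031002900d200ce00520052000400e80075001000540009001a0006000600e000a40097006200750032) (Net.cons (nat_lit 4) (nat_lit 0x102080004060a0800010a040d00070b0409070e0609070b060b0608000409030b03020e0c070b0e07060e01) (Net.cons (nat_lit 2) (nat_lit 0x223321233131023001300200011322002120010010013222022133033332230122303123021130031220120)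 (Net.cons (nat_lit 1) (nat_lit 0x1110504415505441054501551540444505114005011450105000401515151004040005415050411110000555) Net.nil)))))))))))))))))

theorem o_g625_ok : Net.ok 351 o_g625 = true := by decide +kernel

noncomputable def o_g626 : Net := (Net.cons (nat_lit 1) (nat_lit 0x445151504115040144141101551511145415111010054040451410144540540014551451105510140005150) (Net.cons (nat_lit 2) (nat_lit 0x10100100310133113230013033222210002102303121331202033201113323321221303031121001203310) (Net.cons (nat_lit 4) (nat_lit 0x20d07010a050709000400000501030b030f0a0d030c01010e08010c080e03050d05030602020c0f04080508) (Net.cons (nat_lit 8) (nat_lit 0xc008d00b100a600a9007200010004001a00d60000008e00300055007300e900920021008c00a200150000) (Net.cons (nat_lit 16) (nat_lit 0x142e0000512c00001f6a000091640000f0e7000061b200000594000081040000a409000000ea00008000) (Net.cons (nat_lit 32) (nat_lit 0x9ae91e46000000000490e416000000004b831ace000000008ae3bdca000000002da1254d) (Net.cons (nat_lit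 64) (nat_lit 0x6b30507900000000000000000311c4c6610aaa400000000000000000110403e180000000) (Net.cons (nat_lit 128) (nat_lit 0x497125941db081d9020ffc4b2c226016) (Net.cons (nat_lit 256) (nat_lit 0x5ffbbff99fffffffbc23619e) (Net.cons (nat_lit 128) (nat_lit 0x780097e6bc2ae728a679dd7f) (Net.cons (nat_lit 64) (nat_lit 0x78f7843e00000000000000006d5cf5dcaaf315b000000000000000008129f8a61d25450d) (Net.cons (nat_lit 32) (nat_lit 0x57f39bff000000005b53dbc900000000fb9d3f5200000000d049dff0000000007b27c4cd) (Net.cons (nat_lit 16) (nat_lit 0x714300000e5a0000607a00005361000070d70000834200001dd40000cf7c0000cb6a00003b38000002c0) (Net.cons (nat_lit 8) (nat_lit 0x130049003000bd00870030004600ab00630072007600a900a500330095002d0021008900dd004a00690045) (Net.cons (nat_lit 4) (nat_lit 0x5080a07020e0f0a0f040f060202090a0e080402050c0c0c010e0108000b050b080d050c0f090b00030c0806) (Net.cons (nat_lit 2) (nat_lit 0x1022301031321103213212121102321331201322033101031233001203310233032312133031102032302033)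 (Net.cons (nat_lit 1) (nat_lit 0x4441500400441541114155050000110411150014454451555004041155415151151144041401100540104) Net.nil)))))))))))))))))

theorem o_g626_ok : Net.ok 351 o_g626 = true := by decide +kernel

noncomputable def o_g627 : Net := (Net.cons (nat_lit 1) (nat_lit 0x1540410410104510440100151500041140041040411445115001111114501004004505414505000440111450) (Net.cons (nat_lit 2) (nat_lit 0x212022322212232320211213023010103212101311000312003302323222200321003330023333300132302) (Net.cons (nat_lit 4) (nat_lit 0x6060c0605080e040902080e0500040b0e02010e0c0508070b000105030902000d010300070a04040f030c08) (Net.cons (nat_lit 8) (nat_lit 0x3100e3008000d50032000c003b005a006a00b300620056006800600099002d000d00340084008600880000) (Net.cons (nat_lit 16) (nat_lit 0xa2e00003429000032f000003b61000079f60000ee1c000037330000e5f00000ba890000901000000000) (Net.cons (nat_lit 32) (nat_lit 0xf865693a00000000230fe41e0000000055e25f50000000006e835211000000006895a600) (Net.cons (nat_lit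 64) (nat_lit 0x2030c148000000000000000012261657048b590d0000000000000000a090018200000000) (Net.cons (nat_lit 128) (nat_lit 0x4a4aef500ac60151b368d4885421702) (Net.cons (nat_lit 256) (nat_lit 0x7caf73fdbfbfadeea5fe9f92) (Net.cons (nat_lit 128) (nat_lit 0x3f677a91a04ad46259c0559b) (Net.cons (nat_lit 64) (nat_lit 0x530a574c00000000000000007e194b7d62ada9320000000000000000b9da223fd40f4c58) (Net.cons (nat_lit 32) (nat_lit 0xa3864e4000000000462abf02000000005c6fc10200000000a2b4245000000000e0b0ac91) (Net.cons (nat_lit 16) (nat_lit 0x14da000042dd0000152500000d5f0000c24a000047850000e8ab0000f276000091f000001f57000031c3) (Net.cons (nat_lit 8) (nat_lit 0x380062004100e80070000900380062007100f200f100be00e200dd00d800eb00a400ec003b00f8003e009e) (Net.cons (nat_lit 4) (nat_lit 0xf020e0f0a040f0f07040709030a050b0b080a0e0e0a010c0a020703080d0609050e0f05060106060b0706) (Net.cons (nat_lit 2) (nat_lit 0x1221002223112102110232011312133223210010311033212103311121330232131120333002323103010312) (Net.cons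 (nat_lit 1) (nat_lit 0x551144010051001101110541441041410511440155511451555045401041441001511500150114441401105) Net.nil)))))))))))))))))

theorem o_g627_ok : Net.ok 351 o_g627 = true := by decide +kernel

noncomputable def o_g628 : Net := (Net.cons (nat_lit 1) (nat_lit 0x1111544415005101115405104051001505401110415455054410500001541104541540514515011100140140) (Net.cons (nat_lit 2) (nat_lit 0x103110020232213033302101130130102303322102330333201001000311133211230300222120213333300) (Net.cons (nat_lit 4) (nat_lit 0x40c0b0b04010a0f0a0d090407020f08080d0a030c0104010e0a0f080b060f0503060a050e0b0207030e0200) (Net.cons (nat_lit 8) (nat_lit 0x2e00d600430001007700e7005a00280015001f0033001b00e5004d00d8002d004e00a90024003400050000) (Net.cons (nat_lit 16) (nat_lit 0x647500003ff60000586d00006caa00000308000007130000d6610000b34c0000c25c0000032000000000) (Net.cons (nat_lit 32) (nat_lit 0x2e079d1000000000a9738bf000000000f1444b1e0000000021df8a760000000004104360) (Net.cons (nat_lit 64) (nat_lit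 0x9400a9100000000000000003a8e33d0063804990000000000000000c24a0fc180000000) (Net.cons (nat_lit 128) (nat_lit 0x70308587a0c4c800b8483340042c2091) (Net.cons (nat_lit 256) (nat_lit 0x69fde8e6fbcbbfc5b62e23b9) (Net.cons (nat_lit 128) (nat_lit 0x58a385df4386691412588273) (Net.cons (nat_lit 64) (nat_lit 0xcbc4b6d0000000000000000ab8eafd4143812280000000000000000a0a003ca80204440) (Net.cons (nat_lit 32) (nat_lit 0x382f55dc00000000c96f6aeb00000000fd497004000000009b5c640600000000a61242e8) (Net.cons (nat_lit 16) (nat_lit 0x6a00000027ba00007fa8000016900000695400003e550000d25a00009f740000f1df000065ca00003180) (Net.cons (nat_lit 8) (nat_lit 0x410041007d00a9006700c200910062007a0010000700a500d10001000b002000fe00810047005b003d00d4) (Net.cons (nat_lit 4) (nat_lit 0x40f0a0102060200000a090903090109020501070e050b030e0e0c070d0c010d0d050a04090f0c09070d0f0a) (Net.cons (nat_lit 2) (nat_lit 0x1331110210213303330000021010322213131122303132001133320320332222313220020312112010233030) (Net.cons (nat_lit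 1) (nat_lit 0x1514400454001051114444500544444151051010115554140040454450450015155515011410441405044510) Net.nil)))))))))))))))))

theorem o_g628_ok : Net.ok 351 o_g628 = true := by decide +kernel

noncomputable def o_g629 : Net := (Net.cons (nat_lit 1) (nat_lit 0x1514050411540005540101011111400140504054540115141451501554411511104415414105114551454015) (Net.cons (nat_lit 2) (nat_lit 0x11220031003022011122033021331210113121310030320323021102202311212301200033332121012012) (Net.cons (nat_lit 4) (nat_lit 0x601090f0d040e0f0a0f02060b01090f0d050702050d0f0a000d010906060f0f070805040603010a06040200) (Net.cons (nat_lit 8) (nat_lit 0x800920076004100f4007c002b004d005b00c500db0015008e0047000000e0008900fb003c005800030000) (Net.cons (nat_lit 16) (nat_lit 0x4d22000077050000c61600009f3d0000c0320000753100006eee00004362000030500000904600008000) (Net.cons (nat_lit 32) (nat_lit 0x45edba4200000000da29af6a00000000c2995d5f00000000c7b9d100000000003e66924d) (Net.cons (nat_lit 64) (nat_lit 0x5b68264e00000000000000006a5642aaa82751900000000000000000021022c180000000)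 (Net.cons (nat_lit 128) (nat_lit 0x26c9b87c5f0224c92842428000254001) (Net.cons (nat_lit 256) (nat_lit 0x5f13e4efbbd6e6f3a67dd20d) (Net.cons (nat_lit 128) (nat_lit 0xe5208acd81f0d46a85351f2) (Net.cons (nat_lit 64) (nat_lit 0x2484b8230000000000000000da9e17c2e831724000000000000000006876c691de861945) (Net.cons (nat_lit 32) (nat_lit 0x7efa26ba000000003075304d00000000344dd63400000000762f35ab00000000f2bd169d) (Net.cons (nat_lit 16) (nat_lit 0x618a0000813700007afb000039060000e8ea0000295400006cd7000006de0000ce680000d2ff0000ed58) (Net.cons (nat_lit 8) (nat_lit 0x3d004e00a700d000cd0034001a001a00f100c7006600df008000b4000a009d0079006200d9008d00790068) (Net.cons (nat_lit 4) (nat_lit 0x4070b0a0c080505060606060b0f0a0f0b0a0f060c0b01080e0007000a040100070e050408080e0c0e070303) (Net.cons (nat_lit 2) (nat_lit 0x33213203310233211223302213123131000103133110030200330233002332131231233100131010103233) (Net.cons (nat_lit 1) (nat_lit 0x501010154001150155100510155151110551445001100400100545055150450440404550404454144140041)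 Net.nil)))))))))))))))))

theorem o_g629_ok : Net.ok 351 o_g629 = true := by decide +kernel

theorem o_T76_s0 : Stab 351 (grp 351 o_O) [] o_lb_E 4585351680 :=
  Stab.root' o_lb_E_ok o_eq.symm o_card

theorem o_le86 : grp 351 ot_c1_K ≤ grp 351 o_lb_E :=
  grp_le_of_memB o_hn o_hk o_lb_E_ok ot_c1_K_ok (ws := [nat_lit 0x2f392725211d212011241701050d1f, nat_lit 0x45373927261d20111117, nat_lit 0x4331392825281d2e1724, nat_lit 0x4528261739, nat_lit 0x3927211d21191e, nat_lit 0x3b3739251d202d, nat_lit 0x452f39253f1d1f3b, nat_lit 0x3b392825281d41]) (by decide +kernel)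

theorem ot_c1_le : grp 351 ot_c1_K ≤ (grp 351 o_O) :=
  (o_le86.trans o_T76_s0.le)

theorem ot_c1_mem : Net.toPerm 351 o_g77 ∈ (grp 351 o_O) :=
  ot_c1_le (mem_grp_of_memB o_hn o_hk ot_c1_K_ok o_g77_ok (w := (nat_lit 0xc0c0508090307010b020701)) (by decide +kernel))

theorem ot_c1_sym : Sym 351 (grp 351 o_O) [o_g77] ot_c1_K 0 :=
  Sym.of_lab o_hn o_hk (okE_cons.2 ⟨o_g77_ok, okE_nil _⟩) ot_c1_K_ok ot_c1_le (kT := 0) (by decide +kernel)

theorem o_T76_s1 : Stab 351 (grp 351 o_O) [nat_lit 0] o_V87 13063680 :=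
  Stab.step (k := 9) (L := (lab 351 9)) o_hn o_T76_s0 o_V87_ok (grp_mono (List.subset_append_right [o_b, o_c, o_d, o_e, o_f, o_g, o_h, o_i] _)) (c := (Ch.cons (nat_lit 3) [nat_lit 1, nat_lit 3, nat_lit 5, nat_lit 7, nat_lit 9, nat_lit 11] (Ch.cons (nat_lit 14) [nat_lit 13, nat_lit 15] (Ch.cons (nat_lit 16) [nat_lit 17, nat_lit 19, nat_lit 21] (Ch.cons (nat_lit 22) [nat_lit 23, nat_lit 25, nat_lit 27, nat_lit 29] (Ch.cons (nat_lit 1) [nat_lit 31, nat_lit 33, nat_lit 35, nat_lit 37, nat_lit 39, nat_lit 41] (Ch.cons (nat_lit 31) [nat_lit 43, nat_lit 45, nat_lit 47] (Ch.cons (nat_lit 5) [nat_lit 49, nat_lit 51] (Ch.cons (nat_lit 127) [nat_lit 53, nat_lit 55] Ch.nil))))))))) (by decide +kernel)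

theorem o_le96 : grp 351 o_V95 ≤ grp 351 o_V87 :=
  grp_le_of_memB o_hn o_hk o_V87_ok o_V95_ok (ws := [nat_lit 0x35332117152f0d181201051e, nat_lit 0x2b1f2918160d1e0712, nat_lit 0x331f1715140d0f0716, nat_lit 0x1f152f0e011502, nat_lit 0x352911140729, nat_lit 0x35332b21180e19011502, nat_lit 0x332b21290d31]) (by decide +kernel)

theorem o_T76_s2 : Stab 351 (grp 351 o_O) [nat_lit 187, nat_lit 0] o_V95 58320 :=
  Stab.step (k := 9) (L := (lab 351 9)) o_hn o_T76_s1 o_V95_ok o_le96 (c := (Ch.cons (nat_lit 252) [nat_lit 1] (Ch.cons (nat_lit 22) [nat_lit 3, nat_lit 5] (Ch.cons (nat_lit 343) [nat_lit 7] (Ch.cons (nat_lit 12) [nat_lit 9] (Ch.cons (nat_lit 151) [nat_lit 11, nat_lit 13] Ch.nil)))))) (by decide +kernel)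

theorem o_T76_s3 : Stab 351 (grp 351 o_O) [nat_lit 252, nat_lit 187, nat_lit 0] o_V97 972 :=
  Stab.step (k := 9) (L := (lab 351 9)) o_hn o_T76_s2 o_V97_ok (grp_mono (List.subset_append_right [o_g88] _)) (c := (Ch.cons (nat_lit 22) [nat_lit 1, nat_lit 3] (Ch.cons (nat_lit 343) [nat_lit 5] (Ch.cons (nat_lit 12) [nat_lit 7] (Ch.cons (nat_lit 151) [nat_lit 9, nat_lit 11] Ch.nil))))) (by decide +kernel)

theorem o_T76_s4 : Stab 351 (grp 351 o_O) [nat_lit 22, nat_lit 252, nat_lit 187, nat_lit 0] o_V98 108 :=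
  Stab.step (k := 9) (L := (lab 351 9)) o_hn o_T76_s3 o_V98_ok (grp_mono (List.subset_append_right [o_g89, o_g90] _)) (c := (Ch.cons (nat_lit 343) [nat_lit 1] (Ch.cons (nat_lit 12) [nat_lit 3] (Ch.cons (nat_lit 151) [nat_lit 5, nat_lit 7] Ch.nil)))) (by decide +kernel)

theorem o_T76_s5 : Stab 351 (grp 351 o_O) [nat_lit 343, nat_lit 22, nat_lit 252, nat_lit 187, nat_lit 0] o_V99 54 :=
  Stab.step (k := 9) (L := (lab 351 9)) o_hn o_T76_s4 o_V99_ok (grp_mono (List.subset_append_right [o_g91] _)) (c := (Ch.cons (nat_lit 12) [nat_lit 1] (Ch.cons (nat_lit 151) [nat_lit 3, nat_lit 5] Ch.nil))) (by decide +kernel)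

theorem o_T76_s6 : Stab 351 (grp 351 o_O) [nat_lit 12, nat_lit 343, nat_lit 22, nat_lit 252, nat_lit 187, nat_lit 0] o_V100 6 :=
  Stab.step (k := 9) (L := (lab 351 9)) o_hn o_T76_s5 o_V100_ok (grp_mono (List.subset_append_right [o_g92] _)) (c := (Ch.cons (nat_lit 151) [nat_lit 1, nat_lit 3] Ch.nil)) (by decide +kernel)

theorem o_T76_s7 : Stab 351 (grp 351 o_O) [nat_lit 151, nat_lit 12, nat_lit 343, nat_lit 22, nat_lit 252, nat_lit 187, nat_lit 0] o_V101 1 :=
  Stab.step (k := 9) (L := (lab 351 9)) o_hn o_T76_s6 o_V101_ok (grp_mono (List.subset_append_right [o_g93, o_g94] _)) (c := Ch.nil) (by decide +kernel)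

theorem o_b_o_T76 : Net.toPerm 351 o_b ∈ (grp 351 o_O) :=
  o_T76_s0.le (toPerm_mem_grp (E := o_lb_E) (List.Mem.head _))

theorem o_c_o_T76 : Net.toPerm 351 o_c ∈ (grp 351 o_O) :=
  o_T76_s0.le (toPerm_mem_grp (E := o_lb_E) (List.Mem.tail _ (List.Mem.head _)))

theorem o_d_o_T76 : Net.toPerm 351 o_d ∈ (grp 351 o_O) :=
  o_T76_s0.le (toPerm_mem_grp (E := o_lb_E) (List.Mem.tail _ (List.Mem.tail _ (List.Mem.head _))))

theorem o_e_o_T76 : Net.toPerm 351 o_e ∈ (grp 351 o_O) :=
  o_T76_s0.le (toPerm_mem_grp (E := o_lb_E) (List.Mem.tail _ (List.Mem.tail _ (List.Mem.tail _ (List.Mem.head _)))))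

theorem o_f_o_T76 : Net.toPerm 351 o_f ∈ (grp 351 o_O) :=
  o_T76_s0.le (toPerm_mem_grp (E := o_lb_E) (List.Mem.tail _ (List.Mem.tail _ (List.Mem.tail _ (List.Mem.tail _ (List.Mem.head _))))))

theorem o_g_o_T76 : Net.toPerm 351 o_g ∈ (grp 351 o_O) :=
  o_T76_s0.le (toPerm_mem_grp (E := o_lb_E) (List.Mem.tail _ (List.Mem.tail _ (List.Mem.tail _ (List.Mem.tail _ (List.Mem.tail _ (List.Mem.head _)))))))

theorem o_h_o_T76 : Net.toPerm 351 o_h ∈ (grp 351 o_O) :=
  o_T76_s0.le (toPerm_mem_grp (E := o_lb_E) (List.Mem.tail _ (List.Mem.tail _ (List.Mem.tail _ (List.Mem.tail _ (List.Mem.tail _ (List.Mem.tail _ (List.Mem.head _))))))))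

theorem o_i_o_T76 : Net.toPerm 351 o_i ∈ (grp 351 o_O) :=
  o_T76_s0.le (toPerm_mem_grp (E := o_lb_E) (List.Mem.tail _ (List.Mem.tail _ (List.Mem.tail _ (List.Mem.tail _ (List.Mem.tail _ (List.Mem.tail _ (List.Mem.tail _ (List.Mem.head _)))))))))

theorem o_g1_o_T76 : Net.toPerm 351 o_g1 ∈ (grp 351 o_O) :=
  o_T76_s0.le (toPerm_mem_grp (E := o_lb_E) (List.Mem.tail _ (List.Mem.tail _ (List.Mem.tail _ (List.Mem.tail _ (List.Mem.tail _ (List.Mem.tail _ (List.Mem.tail _ (List.Mem.tail _ (List.Mem.head _))))))))))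

theorem o_g2_o_T76 : Net.toPerm 351 o_g2 ∈ (grp 351 o_O) :=
  o_T76_s0.le (toPerm_mem_grp (E := o_lb_E) (List.Mem.tail _ (List.Mem.tail _ (List.Mem.tail _ (List.Mem.tail _ (List.Mem.tail _ (List.Mem.tail _ (List.Mem.tail _ (List.Mem.tail _ (List.Mem.tail _ (List.Mem.tail _ (List.Mem.head _))))))))))))

theorem o_g3_o_T76 : Net.toPerm 351 o_g3 ∈ (grp 351 o_O) :=
  o_T76_s0.le (toPerm_mem_grp (E := o_lb_E) (List.Mem.tail _ (List.Mem.tail _ (List.Mem.tail _ (List.Mem.tail _ (List.Mem.tail _ (List.Mem.tail _ (List.Mem.tail _ (List.Mem.tail _ (List.Mem.tail _ (List.Mem.tail _ (List.Mem.tail _ (List.Mem.head _)))))))))))))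

theorem o_g4_o_T76 : Net.toPerm 351 o_g4 ∈ (grp 351 o_O) :=
  o_T76_s0.le (toPerm_mem_grp (E := o_lb_E) (List.Mem.tail _ (List.Mem.tail _ (List.Mem.tail _ (List.Mem.tail _ (List.Mem.tail _ (List.Mem.tail _ (List.Mem.tail _ (List.Mem.tail _ (List.Mem.tail _ (List.Mem.tail _ (List.Mem.tail _ (List.Mem.tail _ (List.Mem.head _))))))))))))))

theorem o_g5_o_T76 : Net.toPerm 351 o_g5 ∈ (grp 351 o_O) :=
  o_T76_s0.le (toPerm_mem_grp (E := o_lb_E) (List.Mem.tail _ (List.Mem.tail _ (List.Mem.tail _ (List.Mem.tail _ (List.Mem.tail _ (List.Mem.tail _ (List.Mem.tail _ (List.Mem.tail _ (List.Mem.tail _ (List.Mem.tail _ (List.Mem.tail _ (List.Mem.tail _ (List.Mem.tail _ (List.Mem.head _)))))))))))))))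

theorem o_g8_o_T76 : Net.toPerm 351 o_g8 ∈ (grp 351 o_O) :=
  o_T76_s0.le (toPerm_mem_grp (E := o_lb_E) (List.Mem.tail _ (List.Mem.tail _ (List.Mem.tail _ (List.Mem.tail _ (List.Mem.tail _ (List.Mem.tail _ (List.Mem.tail _ (List.Mem.tail _ (List.Mem.tail _ (List.Mem.tail _ (List.Mem.tail _ (List.Mem.tail _ (List.Mem.tail _ (List.Mem.tail _ (List.Mem.head _))))))))))))))))

theorem o_g9_o_T76 : Net.toPerm 351 o_g9 ∈ (grp 351 o_O) :=
  o_T76_s0.le (toPerm_mem_grp (E := o_lb_E) (List.Mem.tail _ (List.Mem.tail _ (List.Mem.tail _ (List.Mem.tail _ (List.Mem.tail _ (List.Mem.tail _ (List.Mem.tail _ (List.Mem.tail _ (List.Mem.tail _ (List.Mem.tail _ (List.Mem.tail _ (List.Mem.tail _ (List.Mem.tail _ (List.Mem.tail _ (List.Mem.tail _ (List.Mem.head _)))))))))))))))))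

theorem o_g12_o_T76 : Net.toPerm 351 o_g12 ∈ (grp 351 o_O) :=
  o_T76_s0.le (toPerm_mem_grp (E := o_lb_E) (List.Mem.tail _ (List.Mem.tail _ (List.Mem.tail _ (List.Mem.tail _ (List.Mem.tail _ (List.Mem.tail _ (List.Mem.tail _ (List.Mem.tail _ (List.Mem.tail _ (List.Mem.tail _ (List.Mem.tail _ (List.Mem.tail _ (List.Mem.tail _ (List.Mem.tail _ (List.Mem.tail _ (List.Mem.tail _ (List.Mem.head _))))))))))))))))))

theorem o_g13_o_T76 : Net.toPerm 351 o_g13 ∈ (grp 351 o_O) :=
  o_T76_s0.le (toPerm_mem_grp (E := o_lb_E) (List.Mem.tail _ (List.Mem.tail _ (List.Mem.tail _ (List.Mem.tail _ (List.Mem.tail _ (List.Mem.tail _ (List.Mem.tail _ (List.Mem.tail _ (List.Mem.tail _ (List.Mem.tail _ (List.Mem.tail _ (List.Mem.tail _ (List.Mem.tail _ (List.Mem.tail _ (List.Mem.tail _ (List.Mem.tail _ (List.Mem.tail _ (List.Mem.head _)))))))))))))))))))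

theorem o_g14_o_T76 : Net.toPerm 351 o_g14 ∈ (grp 351 o_O) :=
  o_T76_s0.le (toPerm_mem_grp (E := o_lb_E) (List.Mem.tail _ (List.Mem.tail _ (List.Mem.tail _ (List.Mem.tail _ (List.Mem.tail _ (List.Mem.tail _ (List.Mem.tail _ (List.Mem.tail _ (List.Mem.tail _ (List.Mem.tail _ (List.Mem.tail _ (List.Mem.tail _ (List.Mem.tail _ (List.Mem.tail _ (List.Mem.tail _ (List.Mem.tail _ (List.Mem.tail _ (List.Mem.tail _ (List.Mem.head _))))))))))))))))))))

theorem o_g17_o_T76 : Net.toPerm 351 o_g17 ∈ (grp 351 o_O) :=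
  o_T76_s0.le (toPerm_mem_grp (E := o_lb_E) (List.Mem.tail _ (List.Mem.tail _ (List.Mem.tail _ (List.Mem.tail _ (List.Mem.tail _ (List.Mem.tail _ (List.Mem.tail _ (List.Mem.tail _ (List.Mem.tail _ (List.Mem.tail _ (List.Mem.tail _ (List.Mem.tail _ (List.Mem.tail _ (List.Mem.tail _ (List.Mem.tail _ (List.Mem.tail _ (List.Mem.tail _ (List.Mem.tail _ (List.Mem.tail _ (List.Mem.head _)))))))))))))))))))))

theorem o_g18_o_T76 : Net.toPerm 351 o_g18 ∈ (grp 351 o_O) :=
  o_T76_s0.le (toPerm_mem_grp (E := o_lb_E) (List.Mem.tail _ (List.Mem.tail _ (List.Mem.tail _ (List.Mem.tail _ (List.Mem.tail _ (List.Mem.tail _ (List.Mem.tail _ (List.Mem.tail _ (List.Mem.tail _ (List.Mem.tail _ (List.Mem.tail _ (List.Mem.tail _ (List.Mem.tail _ (List.Mem.tail _ (List.Mem.tail _ (List.Mem.tail _ (List.Mem.tail _ (List.Mem.tail _ (List.Mem.tail _ (List.Mem.tail _ (List.Mem.head _))))))))))))))))))))))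

theorem o_g19_o_T76 : Net.toPerm 351 o_g19 ∈ (grp 351 o_O) :=
  o_T76_s0.le (toPerm_mem_grp (E := o_lb_E) (List.Mem.tail _ (List.Mem.tail _ (List.Mem.tail _ (List.Mem.tail _ (List.Mem.tail _ (List.Mem.tail _ (List.Mem.tail _ (List.Mem.tail _ (List.Mem.tail _ (List.Mem.tail _ (List.Mem.tail _ (List.Mem.tail _ (List.Mem.tail _ (List.Mem.tail _ (List.Mem.tail _ (List.Mem.tail _ (List.Mem.tail _ (List.Mem.tail _ (List.Mem.tail _ (List.Mem.tail _ (List.Mem.tail _ (List.Mem.head _)))))))))))))))))))))))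

theorem o_g20_o_T76 : Net.toPerm 351 o_g20 ∈ (grp 351 o_O) :=
  o_T76_s0.le (toPerm_mem_grp (E := o_lb_E) (List.Mem.tail _ (List.Mem.tail _ (List.Mem.tail _ (List.Mem.tail _ (List.Mem.tail _ (List.Mem.tail _ (List.Mem.tail _ (List.Mem.tail _ (List.Mem.tail _ (List.Mem.tail _ (List.Mem.tail _ (List.Mem.tail _ (List.Mem.tail _ (List.Mem.tail _ (List.Mem.tail _ (List.Mem.tail _ (List.Mem.tail _ (List.Mem.tail _ (List.Mem.tail _ (List.Mem.tail _ (List.Mem.tail _ (List.Mem.tail _ (List.Mem.head _))))))))))))))))))))))))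

theorem o_g23_o_T76 : Net.toPerm 351 o_g23 ∈ (grp 351 o_O) :=
  o_T76_s0.le (toPerm_mem_grp (E := o_lb_E) (List.Mem.tail _ (List.Mem.tail _ (List.Mem.tail _ (List.Mem.tail _ (List.Mem.tail _ (List.Mem.tail _ (List.Mem.tail _ (List.Mem.tail _ (List.Mem.tail _ (List.Mem.tail _ (List.Mem.tail _ (List.Mem.tail _ (List.Mem.tail _ (List.Mem.tail _ (List.Mem.tail _ (List.Mem.tail _ (List.Mem.tail _ (List.Mem.tail _ (List.Mem.tail _ (List.Mem.tail _ (List.Mem.tail _ (List.Mem.tail _ (List.Mem.tail _ (List.Mem.head _)))))))))))))))))))))))))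

theorem o_g24_o_T76 : Net.toPerm 351 o_g24 ∈ (grp 351 o_O) :=
  o_T76_s0.le (toPerm_mem_grp (E := o_lb_E) (List.Mem.tail _ (List.Mem.tail _ (List.Mem.tail _ (List.Mem.tail _ (List.Mem.tail _ (List.Mem.tail _ (List.Mem.tail _ (List.Mem.tail _ (List.Mem.tail _ (List.Mem.tail _ (List.Mem.tail _ (List.Mem.tail _ (List.Mem.tail _ (List.Mem.tail _ (List.Mem.tail _ (List.Mem.tail _ (List.Mem.tail _ (List.Mem.tail _ (List.Mem.tail _ (List.Mem.tail _ (List.Mem.tail _ (List.Mem.tail _ (List.Mem.tail _ (List.Mem.tail _ (List.Mem.head _))))))))))))))))))))))))))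

theorem o_g25_o_T76 : Net.toPerm 351 o_g25 ∈ (grp 351 o_O) :=
  o_T76_s0.le (toPerm_mem_grp (E := o_lb_E) (List.Mem.tail _ (List.Mem.tail _ (List.Mem.tail _ (List.Mem.tail _ (List.Mem.tail _ (List.Mem.tail _ (List.Mem.tail _ (List.Mem.tail _ (List.Mem.tail _ (List.Mem.tail _ (List.Mem.tail _ (List.Mem.tail _ (List.Mem.tail _ (List.Mem.tail _ (List.Mem.tail _ (List.Mem.tail _ (List.Mem.tail _ (List.Mem.tail _ (List.Mem.tail _ (List.Mem.tail _ (List.Mem.tail _ (List.Mem.tail _ (List.Mem.tail _ (List.Mem.tail _ (List.Mem.tail _ (List.Mem.head _)))))))))))))))))))))))))))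

theorem o_g26_o_T76 : Net.toPerm 351 o_g26 ∈ (grp 351 o_O) :=
  o_T76_s0.le (toPerm_mem_grp (E := o_lb_E) (List.Mem.tail _ (List.Mem.tail _ (List.Mem.tail _ (List.Mem.tail _ (List.Mem.tail _ (List.Mem.tail _ (List.Mem.tail _ (List.Mem.tail _ (List.Mem.tail _ (List.Mem.tail _ (List.Mem.tail _ (List.Mem.tail _ (List.Mem.tail _ (List.Mem.tail _ (List.Mem.tail _ (List.Mem.tail _ (List.Mem.tail _ (List.Mem.tail _ (List.Mem.tail _ (List.Mem.tail _ (List.Mem.tail _ (List.Mem.tail _ (List.Mem.tail _ (List.Mem.tail _ (List.Mem.tail _ (List.Mem.tail _ (List.Mem.head _))))))))))))))))))))))))))))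

theorem o_g27_o_T76 : Net.toPerm 351 o_g27 ∈ (grp 351 o_O) :=
  o_T76_s0.le (toPerm_mem_grp (E := o_lb_E) (List.Mem.tail _ (List.Mem.tail _ (List.Mem.tail _ (List.Mem.tail _ (List.Mem.tail _ (List.Mem.tail _ (List.Mem.tail _ (List.Mem.tail _ (List.Mem.tail _ (List.Mem.tail _ (List.Mem.tail _ (List.Mem.tail _ (List.Mem.tail _ (List.Mem.tail _ (List.Mem.tail _ (List.Mem.tail _ (List.Mem.tail _ (List.Mem.tail _ (List.Mem.tail _ (List.Mem.tail _ (List.Mem.tail _ (List.Mem.tail _ (List.Mem.tail _ (List.Mem.tail _ (List.Mem.tail _ (List.Mem.tail _ (List.Mem.tail _ (List.Mem.tail _ (List.Mem.head _))))))))))))))))))))))))))))))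

theorem o_g30_o_T76 : Net.toPerm 351 o_g30 ∈ (grp 351 o_O) :=
  o_T76_s0.le (toPerm_mem_grp (E := o_lb_E) (List.Mem.tail _ (List.Mem.tail _ (List.Mem.tail _ (List.Mem.tail _ (List.Mem.tail _ (List.Mem.tail _ (List.Mem.tail _ (List.Mem.tail _ (List.Mem.tail _ (List.Mem.tail _ (List.Mem.tail _ (List.Mem.tail _ (List.Mem.tail _ (List.Mem.tail _ (List.Mem.tail _ (List.Mem.tail _ (List.Mem.tail _ (List.Mem.tail _ (List.Mem.tail _ (List.Mem.tail _ (List.Mem.tail _ (List.Mem.tail _ (List.Mem.tail _ (List.Mem.tail _ (List.Mem.tail _ (List.Mem.tail _ (List.Mem.tail _ (List.Mem.tail _ (List.Mem.tail _ (List.Mem.head _)))))))))))))))))))))))))))))))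

theorem o_g31_o_T76 : Net.toPerm 351 o_g31 ∈ (grp 351 o_O) :=
  o_T76_s0.le (toPerm_mem_grp (E := o_lb_E) (List.Mem.tail _ (List.Mem.tail _ (List.Mem.tail _ (List.Mem.tail _ (List.Mem.tail _ (List.Mem.tail _ (List.Mem.tail _ (List.Mem.tail _ (List.Mem.tail _ (List.Mem.tail _ (List.Mem.tail _ (List.Mem.tail _ (List.Mem.tail _ (List.Mem.tail _ (List.Mem.tail _ (List.Mem.tail _ (List.Mem.tail _ (List.Mem.tail _ (List.Mem.tail _ (List.Mem.tail _ (List.Mem.tail _ (List.Mem.tail _ (List.Mem.tail _ (List.Mem.tail _ (List.Mem.tail _ (List.Mem.tail _ (List.Mem.tail _ (List.Mem.tail _ (List.Mem.tail _ (List.Mem.tail _ (List.Mem.head _))))))))))))))))))))))))))))))))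

theorem o_g32_o_T76 : Net.toPerm 351 o_g32 ∈ (grp 351 o_O) :=
  o_T76_s0.le (toPerm_mem_grp (E := o_lb_E) (List.Mem.tail _ (List.Mem.tail _ (List.Mem.tail _ (List.Mem.tail _ (List.Mem.tail _ (List.Mem.tail _ (List.Mem.tail _ (List.Mem.tail _ (List.Mem.tail _ (List.Mem.tail _ (List.Mem.tail _ (List.Mem.tail _ (List.Mem.tail _ (List.Mem.tail _ (List.Mem.tail _ (List.Mem.tail _ (List.Mem.tail _ (List.Mem.tail _ (List.Mem.tail _ (List.Mem.tail _ (List.Mem.tail _ (List.Mem.tail _ (List.Mem.tail _ (List.Mem.tail _ (List.Mem.tail _ (List.Mem.tail _ (List.Mem.tail _ (List.Mem.tail _ (List.Mem.tail _ (List.Mem.tail _ (List.Mem.tail _ (List.Mem.head _)))))))))))))))))))))))))))))))))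

theorem o_g35_o_T76 : Net.toPerm 351 o_g35 ∈ (grp 351 o_O) :=
  o_T76_s0.le (toPerm_mem_grp (E := o_lb_E) (List.Mem.tail _ (List.Mem.tail _ (List.Mem.tail _ (List.Mem.tail _ (List.Mem.tail _ (List.Mem.tail _ (List.Mem.tail _ (List.Mem.tail _ (List.Mem.tail _ (List.Mem.tail _ (List.Mem.tail _ (List.Mem.tail _ (List.Mem.tail _ (List.Mem.tail _ (List.Mem.tail _ (List.Mem.tail _ (List.Mem.tail _ (List.Mem.tail _ (List.Mem.tail _ (List.Mem.tail _ (List.Mem.tail _ (List.Mem.tail _ (List.Mem.tail _ (List.Mem.tail _ (List.Mem.tail _ (List.Mem.tail _ (List.Mem.tail _ (List.Mem.tail _ (List.Mem.tail _ (List.Mem.tail _ (List.Mem.tail _ (List.Mem.tail _ (List.Mem.tail _ (List.Mem.head _)))))))))))))))))))))))))))))))))))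

theorem o_g88_o_T76 : Net.toPerm 351 o_g88 ∈ (grp 351 o_O) :=
  o_T76_s2.le (toPerm_mem_grp (E := o_V95) (List.Mem.head _))

theorem o_g89_o_T76 : Net.toPerm 351 o_g89 ∈ (grp 351 o_O) :=
  o_T76_s2.le (toPerm_mem_grp (E := o_V95) (List.Mem.tail _ (List.Mem.head _)))

theorem o_g90_o_T76 : Net.toPerm 351 o_g90 ∈ (grp 351 o_O) :=
  o_T76_s2.le (toPerm_mem_grp (E := o_V95) (List.Mem.tail _ (List.Mem.tail _ (List.Mem.head _))))

theorem o_g91_o_T76 : Net.toPerm 351 o_g91 ∈ (grp 351 o_O) :=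
  o_T76_s2.le (toPerm_mem_grp (E := o_V95) (List.Mem.tail _ (List.Mem.tail _ (List.Mem.tail _ (List.Mem.head _)))))

theorem o_g92_o_T76 : Net.toPerm 351 o_g92 ∈ (grp 351 o_O) :=
  o_T76_s2.le (toPerm_mem_grp (E := o_V95) (List.Mem.tail _ (List.Mem.tail _ (List.Mem.tail _ (List.Mem.tail _ (List.Mem.head _))))))

theorem o_g93_o_T76 : Net.toPerm 351 o_g93 ∈ (grp 351 o_O) :=
  o_T76_s2.le (toPerm_mem_grp (E := o_V95) (List.Mem.tail _ (List.Mem.tail _ (List.Mem.tail _ (List.Mem.tail _ (List.Mem.tail _ (List.Mem.head _)))))))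

theorem o_g94_o_T76 : Net.toPerm 351 o_g94 ∈ (grp 351 o_O) :=
  o_T76_s2.le (toPerm_mem_grp (E := o_V95) (List.Mem.tail _ (List.Mem.tail _ (List.Mem.tail _ (List.Mem.tail _ (List.Mem.tail _ (List.Mem.tail _ (List.Mem.head _))))))))

noncomputable def o_T76_s7_O : ℕ := (nat_lit 0xfffffffffffffffffffffffe0000000000000000000000000000000000000000000000000000000000000000000000000000000000000003fffffffffffffffffffffffffffffffc00000000000000000000000000000003fffffff80000000000000007fffffffffffffff80000000000000007fffffffffffffff800000000000000000000000ffffffff00000000ffffffff00000000ffffffff00000000ffffffff00000000ffffffff00000000fffe0001fffe0001fffe0001fffe0001fffe0001fffe0001fffe0001fffe0001fffe0001fffe0001fffe0001fc03fc03fc03fc03fc03fc03fc03fc03fc03fc03fc03fc03fc03fc03fc03fc03fc03fc03fc03fc03fc03fc038787878787878787878787878787878787878787878787878787878787878787878787878787878787878784ccccccccccccccccccccccccccccccccccccccccccccccccccccccccccccccccccccccccccccccccccc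cccc555555555555555555555555555555555555555555555555555555555555555555555555555555555555555400000000000000000000000000000000000000000000000000000000000000000000000000000000000000040000000000000000000000000000000000000000400000000000000000000000000000000000000000000000000000000000000000000001000000000000000000000000000000000000000000000000000000000000000000000000000000000000000000000000000000000000000000000000000000000000000000000000080000002000000000000000000000000000000000000000000000000000000000000000000000000000000000000000000000000000000000000000000000000000000000000000000000000000000000000000000000000008000000000000000000000000000000000000000000000000000080000000000000000000000000000000000000)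

theorem o_T76_s7_F : Frame 351 (grp 351 o_O) 7 16 o_T76_s7_O 1 1 :=
  IsBase.frame o_T76_s7.isBase (by decide +kernel)

noncomputable def o_T76_s6_O : ℕ := (nat_lit 0x8880000000000000000000000000000000000000000000000000000000000000000000000000000000000f4480bc1e61530b99e21087ede6dd160487e09820f0ca71eb38065bc1532588920010040001000300002000007444e2a34b88184a19f8a102084437f46083150e940008d6a80200711418fbf6cffd786ce0b670800000009469aaf16e8f71346691570f961bd2e907cb465402d198b051820410602049d5a1dfba820426121cfcfe9c0002d263ccbf4a0069d93418484397880daa31896b3a5148bb7ad4beddf504913b6a380ac033aa243df98107e460c2836717e1d7600d65a66cd2c27c9bf4d813da6e0218ce0cd645061f2543ba8a8e91b570f9b473c0f20f01ae601ecc606c324782c2ee7d543877ea65342b3a0b11eb91519785cd3467cea27998cb593ca316d6719899881b9e29cef5c72ae59fc452895026c7260e318bdce7167ab35312bb5992c05b1c72ad646137ccab6aaaa2aa00000000000000000000000000000000000000000000000000000000000000000000000000000000000000008000000000000000000000000000000000000000080000000000000000000000000000000000000000000000000000000000000000000000200000000000000000000000000000000000000000000000000000000000000000000000000000000000000000000000000000000000000000000000000000000000000000000000010000000400000000000000000000000000000000000000000000000000000000000000000000000000000000000000000000000000000000000000000000000000000000000000000000000000000000000000000000000001000)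

theorem o_T76_s6_F : Frame 351 (grp 351 o_O) 6 14 o_T76_s6_O 0 1 :=
  Stab.frame o_hn o_T76_s6 (by decide +kernel)

noncomputable def o_T76_s4_O : ℕ := (nat_lit 0x1800000000000008000000000000000000000000000000000000000000000000000000000000000000009a00010ec171c3102180408741900c000146c831c250618a400b61d901000ce24780000891e00100816800210a0b1542f2105494bc883350ec8225a0749014c43201057634ad82cc9d18d52f701daa089600310004223d5e7940147a3824574580859b22a2e1eca9c6a063140598e55304d41a6771053ba15e532b88602b0b18aa547b2374d731a80edecd7ba3055b6162d22d854e88e2b6a04a3adfa96d45be0a2f6907c8e1f33564a31e44981c461235f52f2bae9b937308b68029d92c80039604d1046029a7d97f8a6072ac656d6dad4e7d9ab51e72baec354000000000000000000000000000000000000000000000000000000000000000000000000000000000000000200000000000000000000000000000000000000002000000000000000000000000000000000000000000000000000000000000000000000008000000000000000000000000000000000000000000000000000000000000000000000000000000000000000000000000000000000000000000000000000000000000000000000000400000)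

theorem o_T76_s4_F : Frame 351 (grp 351 o_O) 4 10 o_T76_s4_O 0 1 :=
  Stab.frame o_hn o_T76_s4 (by decide +kernel)

noncomputable def o_T76_s3_O : ℕ := (nat_lit 0x6000000000000020000000000000000010000000000000000000000000000000000000000000000000160902188e0dc72668d3852f9a176036c02781405b4809683c4022989e0414b30baa2072ba0702050ba70000168c280e43a95130000c54241a8905005702be0d0813ed25d116124a419416ccf0a22008c8fb78212ab36e00e0f25bc87b40d2598ef64576932fd29ff6786b2c638b481304a4510b1d2b96cfd73af19264a2a18d4022d2851f75fc75a738f525d6aa1134228ac012b3aaf4826e9b34e56ecb3717e15695e6dda53ea096e684231a0556800000000000000000000000000000000000000000000000000000000000000000000000000000000000000040000000000000000000000000000000000000000400000000000000000000000000000000000000000000000000000000000000000000001000000000000000000000000000000000000000000000000000000000000000)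

theorem o_T76_s3_F : Frame 351 (grp 351 o_O) 3 8 o_T76_s3_O 0 1 :=
  Stab.frame o_hn o_T76_s3 (by decide +kernel)

noncomputable def o_T76_s2_O : ℕ := (nat_lit 0x200000000000000000000000000000000000000000000000000c02000000198200000408043408002000030200041012c0700000300008000010000004400e0400134e000040200b403800101982470437000d809b001801006100000000000002180012cc0628818260000004000000004a30a0310681448000201080220404015c02f010200fb48604480101025018238280802003c5c0008245b00001000298101022809683860219806010028000dc120000a04623b85198038400621081047000476861001200000000000000000000000000000000000000000000000000000000000000000000000000000000000000008000000000000000000000000000000000000000080000000000000000000000000000000000000000000000)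

theorem o_T76_s2_F : Frame 351 (grp 351 o_O) 2 7 o_T76_s2_O 0 1 :=
  Stab.frame o_hn o_T76_s2 (by decide +kernel)

noncomputable def o_T76_s1_O : ℕ := (nat_lit 0xc220053021b865012d478c477380c220053021b865012d478c4773a330870801c421024ce0e0ced1f6e0240000000000000000000000000000000000000000000000000000000000000000000000000000000000000001)

theorem o_T76_s1_F : Frame 351 (grp 351 o_O) 1 2 o_T76_s1_O 0 1 :=
  Stab.frame o_hn o_T76_s1 (by decide +kernel)

noncomputable def ot_c1_cnt_L : List ℕ := [1, 2, o_T76_s1_O, 0, 0, 2, 7, o_T76_s2_O, 0, 0, 3, 8, o_T76_s3_O, 0, 0, 4, 10, o_T76_s4_O, 0, 0, 6, 14, o_T76_s6_O, 0, 0, 7, 16, o_T76_s7_O, 1, 0]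

theorem ot_c1_cnt_P : Prob 351 9 (grp 351 o_O) ot_c1_cnt_EG [o_g77] [o_g77] ot_c1_K ot_c1_cnt_L 0 0 :=
  Sym.prob o_hn o_hk ot_c1_sym ot_c1_cnt_EG_ok (grp_cons_le o_b_o_T76 (grp_cons_le o_c_o_T76 (grp_cons_le o_d_o_T76 (grp_cons_le o_e_o_T76 (grp_cons_le o_f_o_T76 (grp_cons_le o_g_o_T76 (grp_cons_le o_h_o_T76 (grp_cons_le o_i_o_T76 (grp_cons_le o_g1_o_T76 (grp_cons_le o_g2_o_T76 (grp_cons_le o_g3_o_T76 (grp_cons_le o_g4_o_T76 (grp_cons_le o_g5_o_T76 (grp_cons_le o_g8_o_T76 (grp_cons_le o_g9_o_T76 (grp_cons_le o_g12_o_T76 (grp_cons_le o_g13_o_T76 (grp_cons_le o_g14_o_T76 (grp_cons_le o_g17_o_T76 (grp_cons_le o_g18_o_T76 (grp_cons_le o_g19_o_T76 (grp_cons_le o_g20_o_T76 (grp_cons_le o_g23_o_T76 (grp_cons_le o_g24_o_T76 (grp_cons_le o_g25_o_T76 (grp_cons_le o_g26_o_T76 (grp_cons_le o_g27_o_T76 (grp_cons_le o_g30_o_T76 (grp_cons_le o_g31_o_T76 (grp_cons_le o_g32_o_T76 (grp_cons_le o_g35_o_T76 (grp_cons_le o_g88_o_T76 (grp_cons_le o_g89_o_T76 (grp_cons_le o_g90_o_T76 (grp_cons_le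 o_g91_o_T76 (grp_cons_le o_g92_o_T76 (grp_cons_le o_g93_o_T76 (grp_cons_le o_g94_o_T76 (grp_nil_le _))))))))))))))))))))))))))))))))))))))) (Frames.cons o_T76_s1_F (Frames.cons o_T76_s2_F (Frames.cons o_T76_s3_F (Frames.cons o_T76_s4_F (Frames.cons o_T76_s6_F (Frames.cons o_T76_s7_F Frames.nil)))))) (okE_cons.2 ⟨o_g77_ok, okE_nil _⟩) _

noncomputable def ot_c1_cnt_t : BT := (BT.fix (nat_lit 1) (BT.dif (nat_lit 3) (nat_lit 0) (BT.br (nat_lit 0) (nat_lit 0) [nat_lit 1, nat_lit 3] (BT.kid (nat_lit 0) (nat_lit 58320) (BT.img (nat_lit 1) (nat_lit 0) (BT.frm (nat_lit 1) (nat_lit 4881) (nat_lit 4881) [nat_lit 0, nat_lit 1] (BT.pln (nat_lit 0) (nat_lit 4) (BT.br (nat_lit 0) (nat_lit 5) [nat_lit 3, nat_lit 5] (BT.kid (nat_lit 5) (nat_lit 972) (BT.frm (nat_lit 0) (nat_lit 0) (nat_lit 0) [nat_lit 4] (BT.pln (nat_lit 0) (nat_lit 1) (BT.and (nat_lit 8) (nat_lit 0) (BT.frm (nat_lit 2) (nat_lit 0x3f3f41431311) (nat_lit 0x3f3f41431311) [nat_lit 3, nat_lit 6, nat_lit 7] (BT.pln (nat_lit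 0) (nat_lit 3) (BT.and (nat_lit 2) (nat_lit 0) (BT.br (nat_lit 0) (nat_lit 266) [nat_lit 5, nat_lit 7, nat_lit 9] (BT.kid (nat_lit 266) (nat_lit 108) (BT.and (nat_lit 5) (nat_lit 2) (BT.and (nat_lit 0) (nat_lit 14) (BT.frm (nat_lit 3) (nat_lit 0x42433f3f41431311) (nat_lit 0x42433f3f41431311) [nat_lit 2, nat_lit 9, nat_lit 12, nat_lit 13] (BT.pln (nat_lit 0) (nat_lit 6) (BT.and (nat_lit 2) (nat_lit 0) (BT.br (nat_lit 0) (nat_lit 3) [nat_lit 9] (BT.kid (nat_lit 3) (nat_lit 54) (BT.pln (nat_lit 3) (nat_lit 7) (BT.and (nat_lit 3) (nat_lit 0) (BT.pln (nat_lit 5) (nat_lit 4) (BT.dif (nat_lit 1) (nat_lit 0) (BT.dif (nat_lit 0) (nat_lit 15) (BT.dif (nat_lit 0) (nat_lit 19) (BT.br (nat_lit 0) (nat_lit 210) [nat_lit 11, nat_lit 13] (BT.kid (nat_lit 210) (nat_lit 6) (BT.and (nat_lit 9) (nat_lit 4) (BT.pln (nat_lit 11) (nat_lit 5) (BT.and (nat_lit 1) (nat_lit 0) (BT.dif (nat_lit 0) (nat_lit 29) (BT.dif (nat_lit 0) (nat_lit 25) (BT.frm (nat_lit 4) (nat_lit 0x42433f3f41431311) (nat_lit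 0x42433f3f41431311) [nat_lit 5, nat_lit 12, nat_lit 18, nat_lit 25, nat_lit 28, nat_lit 29] (BT.pln (nat_lit 0) (nat_lit 7) (BT.and (nat_lit 2) (nat_lit 0) (BT.pln (nat_lit 2) (nat_lit 9) (BT.dif (nat_lit 1) (nat_lit 0) (BT.br (nat_lit 0) (nat_lit 20) [nat_lit 13, nat_lit 15] (BT.kid (nat_lit 20) (nat_lit 1) (BT.one (nat_lit 5) (nat_lit 0x4a4b42433f3f41431311) (nat_lit 0x4a4b42433f3f41431311) [nat_lit 0, nat_lit 11, nat_lit 18, nat_lit 24, nat_lit 31, nat_lit 34, nat_lit 35]) BT.nil)))))))))))) BT.nil)))))))) BT.nil))))))) BT.nil)))))))) BT.nil))))) BT.nil))))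

theorem ot_c1_cnt : Cnt 351 (grp 351 o_O) [o_g77] [o_g77] 0 0 0 0 13063680 :=
  BT.sound ot_c1_cnt_P Known.nil (t := ot_c1_cnt_t) (d := 0) (by decide +kernel)

theorem ot_c1_ge : 13063680 ≤ Nat.card (grp 351 ot_c1_K) :=
  Ch.le_card_grp (k := 9) (L := (lab 351 9)) o_hn ot_c1_K_ok (c := (Ch.cons (nat_lit 0) [nat_lit 1] (Ch.cons (nat_lit 5) [nat_lit 3] (Ch.cons (nat_lit 266) [nat_lit 5, nat_lit 7] (Ch.cons (nat_lit 3) [nat_lit 9] (Ch.cons (nat_lit 210) [nat_lit 11] (Ch.cons (nat_lit 20) [nat_lit 13, nat_lit 15] Ch.nil))))))) (by decide +kernel)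

theorem ot_c1_eq : (grp 351 o_O) ⊓ Subgroup.centralizer {Net.toPerm 351 o_g77} = grp 351 ot_c1_K :=
  cent_eq ot_c1_sym ot_c1_cnt ot_c1_ge

theorem ot_c1_card : Nat.card ↥((grp 351 o_O) ⊓ Subgroup.centralizer {Net.toPerm 351 o_g77}) = 13063680 :=
  card_cent ot_c1_sym ot_c1_cnt ot_c1_ge

theorem ot_c1_ord : orderOf (Net.toPerm 351 o_g77) = 2 :=
  orderOf_net o_hn o_hk o_g77_ok (by decide) (ps := [2]) (by set_option linter.unusedSimpArgs false in simp [Nat.primeFactorsList_ofNat]) (by decide +kernel)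

theorem o_le112 : grp 351 ot_c2_K ≤ grp 351 o_lb_E :=
  grp_le_of_memB o_hn o_hk o_lb_E_ok ot_c2_K_ok (ws := [nat_lit 0x454331261e2f1222010507, nat_lit 0x372825221f3f19011a26, nat_lit 0x433b28251f2811113101190f1f, nat_lit 0x2f25281d20241901031a1f, nat_lit 0x45433139, nat_lit 0x433b2825281e11152001051d25, nat_lit 0x453b2f3928251e2819011a1d, nat_lit 0x45433128253f1d202419011a1d, nat_lit 12601]) (by decide +kernel)

theorem ot_c2_le : grp 351 ot_c2_K ≤ (grp 351 o_O) :=
  (o_le112.trans o_T76_s0.le)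

theorem ot_c2_mem : Net.toPerm 351 o_g102 ∈ (grp 351 o_O) :=
  ot_c2_le (mem_grp_of_memB o_hn o_hk ot_c2_K_ok o_g102_ok (w := (nat_lit 1799)) (by decide +kernel))

theorem ot_c2_sym : Sym 351 (grp 351 o_O) [o_g102] ot_c2_K 0 :=
  Sym.of_lab o_hn o_hk (okE_cons.2 ⟨o_g102_ok, okE_nil _⟩) ot_c2_K_ok ot_c2_le (kT := 0) (by decide +kernel)

theorem o_T76_s8 : Stab 351 (grp 351 o_O) [nat_lit 3, nat_lit 0] o_V113 103680 :=
  Stab.step (k := 9) (L := (lab 351 9)) o_hn o_T76_s1 o_V113_ok (grp_mono (List.subset_append_right [o_g1, o_g, o_g2, o_g3, o_g4, o_g5] _)) (c := (Ch.cons (nat_lit 14) [nat_lit 1, nat_lit 3] (Ch.cons (nat_lit 16) [nat_lit 5, nat_lit 7, nat_lit 9] (Ch.cons (nat_lit 22) [nat_lit 11, nat_lit 13, nat_lit 15, nat_lit 17] (Ch.cons (nat_lit 1) [nat_lit 19, nat_lit 21, nat_lit 23, nat_lit 25, nat_lit 27, nat_lit 29] (Ch.cons (nat_lit 31) [nat_lit 31, nat_lit 33, nat_lit 35] (Ch.cons (nat_lit 5) [nat_lit 37, nat_lit 39] (Ch.cons (nat_lit 127) [nat_lit 41, nat_lit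 43] Ch.nil)))))))) (by decide +kernel)

theorem o_T76_s9 : Stab 351 (grp 351 o_O) [nat_lit 14, nat_lit 3, nat_lit 0] o_V114 2304 :=
  Stab.step (k := 9) (L := (lab 351 9)) o_hn o_T76_s8 o_V114_ok (grp_mono (List.subset_append_right [o_g8, o_g9] _)) (c := (Ch.cons (nat_lit 16) [nat_lit 1, nat_lit 3, nat_lit 5] (Ch.cons (nat_lit 22) [nat_lit 7, nat_lit 9, nat_lit 11, nat_lit 13] (Ch.cons (nat_lit 1) [nat_lit 15, nat_lit 17, nat_lit 19, nat_lit 21, nat_lit 23, nat_lit 25] (Ch.cons (nat_lit 31) [nat_lit 27, nat_lit 29, nat_lit 31] (Ch.cons (nat_lit 5) [nat_lit 33, nat_lit 35] (Ch.cons (nat_lit 127) [nat_lit 37, nat_lit 39] Ch.nil))))))) (by decide +kernel)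

theorem o_T76_s10 : Stab 351 (grp 351 o_O) [nat_lit 16, nat_lit 14, nat_lit 3, nat_lit 0] o_V115 192 :=
  Stab.step (k := 9) (L := (lab 351 9)) o_hn o_T76_s9 o_V115_ok (grp_mono (List.subset_append_right [o_g12, o_g13, o_g14] _)) (c := (Ch.cons (nat_lit 22) [nat_lit 1, nat_lit 3, nat_lit 5, nat_lit 7] (Ch.cons (nat_lit 1) [nat_lit 9, nat_lit 11, nat_lit 13, nat_lit 15, nat_lit 17, nat_lit 19] (Ch.cons (nat_lit 31) [nat_lit 21, nat_lit 23, nat_lit 25] (Ch.cons (nat_lit 5) [nat_lit 27, nat_lit 29] (Ch.cons (nat_lit 127) [nat_lit 31, nat_lit 33] Ch.nil)))))) (by decide +kernel)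

theorem o_T76_s11 : Stab 351 (grp 351 o_O) [nat_lit 22, nat_lit 16, nat_lit 14, nat_lit 3, nat_lit 0] o_V116 64 :=
  Stab.step (k := 9) (L := (lab 351 9)) o_hn o_T76_s10 o_V116_ok (grp_mono (List.subset_append_right [o_g17, o_g18, o_g19, o_g20] _)) (c := (Ch.cons (nat_lit 1) [nat_lit 1, nat_lit 3, nat_lit 5, nat_lit 7, nat_lit 9, nat_lit 11] (Ch.cons (nat_lit 31) [nat_lit 13, nat_lit 15, nat_lit 17] (Ch.cons (nat_lit 5) [nat_lit 19, nat_lit 21] (Ch.cons (nat_lit 127) [nat_lit 23, nat_lit 25] Ch.nil))))) (by decide +kernel)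

theorem o_le119 : grp 351 o_V118 ≤ grp 351 o_V116 :=
  grp_le_of_memB o_hn o_hk o_V116_ok o_V118_ok (ws := [nat_lit 23, nat_lit 0x170d09, nat_lit 9]) (by decide +kernel)

theorem o_T76_s12 : Stab 351 (grp 351 o_O) [nat_lit 78, nat_lit 22, nat_lit 16, nat_lit 14, nat_lit 3, nat_lit 0] o_V118 8 :=
  Stab.step (k := 9) (L := (lab 351 9)) o_hn o_T76_s11 o_V118_ok o_le119 (c := (Ch.cons (nat_lit 317) [nat_lit 1, nat_lit 3] (Ch.cons (nat_lit 238) [nat_lit 5] Ch.nil))) (by decide +kernel)

theorem o_T76_s13 : Stab 351 (grp 351 o_O) [nat_lit 317, nat_lit 78, nat_lit 22, nat_lit 16, nat_lit 14, nat_lit 3, nat_lit 0] o_V120 2 :=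
  Stab.step (k := 9) (L := (lab 351 9)) o_hn o_T76_s12 o_V120_ok (grp_mono (List.subset_append_right [o_g, o_g117] _)) (c := (Ch.cons (nat_lit 238) [nat_lit 1] Ch.nil)) (by decide +kernel)

theorem o_T76_s14 : Stab 351 (grp 351 o_O) [nat_lit 238, nat_lit 317, nat_lit 78, nat_lit 22, nat_lit 16, nat_lit 14, nat_lit 3, nat_lit 0] o_V121 1 :=
  Stab.step (k := 9) (L := (lab 351 9)) o_hn o_T76_s13 o_V121_ok (grp_mono (List.subset_append_right [o_c] _)) (c := Ch.nil) (by decide +kernel)

theorem o_g117_o_T76 : Net.toPerm 351 o_g117 ∈ (grp 351 o_O) :=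
  o_T76_s12.le (toPerm_mem_grp (E := o_V118) (List.Mem.tail _ (List.Mem.head _)))

noncomputable def o_T76_s14_O : ℕ := (nat_lit 0x7fffffffffffffffffffffff0000000000000000000000000000000000000000000000000000000000000000000000000000000000000001fffffffffffffffffffffffffffffffe00000000000000000000000000000001fffffffc0000000000000003fffffffffffffffc0000000000000003fffffffffffffffc000000000000000000000007fffffff800000007fffffff800000007fffffff800000007fffffff800000007fffffff800000007fff0000ffff0000ffff0000ffff0000ffff0000ffff0000ffff0000ffff0000ffff0000ffff0000ffff0000fe01fe01fe01fe01fe01fe01fe01fe01fe01fe01fe01fe01fe01fe01fe01fe01fe01fe01fe01fe01fe01fe01c3c3c3c3c3c3c3c3c3c3c3c3c3c3c3c3c3c3c3c3c3c3c3c3c3c3c3c3c3c3c3c3c3c3c3c3c3c3c3c3c3c3c3c26666666666666666666666666666666666666666666666666666666666666666666666666666666666666662aaaaaaaaaaaaaaaaaaaaaaaaaaaaaaaaaaaaaaaaaaaaaaaaaaaaaaaaaaaaaaaaaaaaaaaaaaaaaaaaaaaaaaa0000000000000000000000000000000000000000000000000000000000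00000000000000000000000000000200000000000000000000000000000000000000000000000000000000000000000000000000000000000000200000000000000000000000000000000000000000000000000000000000000000000000000000000000020000000000000000000000000000000000000000000000000000000000000000000000000000000000000010000000000000000000000000000000000000000000000000000000000000000000000000000000000000080000000000000000000000000000000000000000000000000000000000000000000000001000000000000000000000000000100000000000000000000000000000000000000000000000000000000000000000000000000000000000000000000000000000000000400000000000000000000000000000000000000000000000000000000000)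

theorem o_T76_s14_F : Frame 351 (grp 351 o_O) 8 17 o_T76_s14_O 1 1 :=
  IsBase.frame o_T76_s14.isBase (by decide +kernel)

noncomputable def o_T76_s13_O : ℕ := (nat_lit 0x6110029010dc328096a3c623b9c06110029810dc328096a3c623b9d198438400e20081267070000000000033f7ffffefffffffffffffffffffffbcdff8ce0000000000000000000000000000000000000000ced1d640205f9ff3bfdcdc0e113800000000000086400e63fffffffffffffffd18b880e12dc04200000000019da3ac8040304000000447e3dd8ffff1cee031610c801cc7feffbbfb0ac18005ce8ef61d84402b7bf6cc3c033b47590081f966dfc6448dc7b316159fe2340023dff0298f7238ccc9ea609dcfff047843407ef6db920080ffff80000001fc3ff4006d5f70363aa8b8bb9f0077b217e01d5f41347aa039bb1701ff368d801c2dc0d9fd01fcc0fd81b00199bb43b0db7909627aa668f829ececdb287c31396b64e0b762c93863f8d285bae0d869b185939e51f1e00b0e64954f19a35b2af2899ca98d4ba5555d68e654cacc4d3932b5634ba389be92aea3a5ab862a94aad1d1163480000000000000000000000000000000000000000000000000000000000000000000000000000000000000004000000000000000000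0000000000000000000000000000000000000000000000000000000000000000000040000000000000000000000000000000000000000000000000000000000000000000000000000000000004000000000000000000000000000000000000000000000000000000000000000000000000000000000000002000000000000000000000000000000000000000000000000000000000000000000000000000000000000010000000000000000000000000000000000000000000000000000000000000000000000000200000000000000000000000000020000000000000000000000000000000000000000000000000000000000000000000000000000000)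

theorem o_T76_s13_F : Frame 351 (grp 351 o_O) 7 15 o_T76_s13_O 0 1 :=
  Stab.frame o_hn o_T76_s13 (by decide +kernel)

noncomputable def o_T76_s12_O : ℕ := (nat_lit 0x400020043000800100718068400040002004300080010071806844650e7a103882b3fb785c1000080000063540062dd2860a045151106000063540062dd2860a045151106000084423c200010000812803b3b475d72ac00510028010d022801401c623ffc00510028010d022801401c623ffce6bc617bb15e53002160f3f68cbae55be1f247fc7f9b36f06a8020044bdbe1f247fc7f9b36f06a8020044bda218fcd88910101da4310f4fee08035023fd163b4c4e0822e24f6338894023fd163b4c4e0822e24f633889401e28ff65737f0ec0f6321e927d3cb6a0744d56fce71b3d15d40b1609dc70744d56fce71b3d15d40b1609dc703639ab7da34b5a49c2de7c1c865c00a0fdf39a240d16db16d273ca525688fdf39a240d16db16d273ca5256880d0bab5d551ece73603a672cccc21d100000000000000000000000000000000000000000000000000000000000000000000000000000000000000008000000000000000000000000000000000000000000000000000000000000000000000000000000000000008000000000000000000000000000000000000000000000000000000000000000000000000000000000000800000000000000000000000000000000000000000000000000000000000000000000000000000000000000400000000000000000000000000000000000000000000000000000000000000000000000000000000000002000000000000000000000000000000000000000000000000000000000000000000000000040000000000000000000)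

theorem o_T76_s12_F : Frame 351 (grp 351 o_O) 6 13 o_T76_s12_O 0 1 :=
  Stab.frame o_hn o_T76_s12 (by decide +kernel)

noncomputable def o_T76_s11_O : ℕ := (nat_lit 0xe0a800c40e101800800000000000e0a800c40e101800800000000001000000000000000000000000020000000ca2005362dbceda97dcfedcfffc0ca2005362dbceda97dcfedcfffc00000000000000000000000000000000080000a601b385952039e1b90000080000a601b385952039e1b90001f1cffefe3dfedffa71d3d800000000000280000d896718085831d000ef000280000d896718085831d000ef0f3de02fdf8ef3db0fdf5c4ff81000000447900cc3b60e1610066046c1e18447900cc3b60e1610066046c1e1860ebc6c4d040fdedd9587178fcf21b80446001db0a427452129848c47728446001db0a427452129848c4772a1b8e3b90025655f9fe46c8ed1975cab0000000000000000000000000000000000000000000000000000000000000000000000000000000000000001000000000000000000000000000000000000000000000000000000000000000000000000000000000000001000000000000000000000000000000000000000000000000000000000000000000000000000000000000100000000000000000000000000000000000000000000000000000000000000000000000000000000000000080000000000000000000000000000000000000000000000000000000000000000000000000000000000000400000)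

theorem o_T76_s11_F : Frame 351 (grp 351 o_O) 5 11 o_T76_s11_O 0 1 :=
  Stab.frame o_hn o_T76_s11 (by decide +kernel)

noncomputable def o_T76_s10_O : ℕ := (nat_lit 0x80000000000000000000000001800000200000000400180000000000000020000000040018000000000000000000000000000000000000000000000000000003000000001000400000000000000300000000100040000000000000000000000000000000000000000800008000000000002000080000080000800000000000200008000000000000000000000000000000000000200800000000000001000000004020080000000000000100000000400000000000000000000000000000000000000000000000000000000000000000000000000000000000000000000000000000000000000000008e45800800000600000000000000008000080000060000000000000000800c0400901008062c1308000000000000000800310000000000000000000000080031000000000000000000000014c00cc00500230000380000000000200400000500000000000000000020040000050000000000000000000200618600854300001808000000000000000000000c020001001800018000000000000c0200010018000180100020000e00000200040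200000000000000001000018240000400c000000000001000018240000400c000000100008000001000820000e000000002020000000040100202000400000a020000000040100202000400000800200001400100040020042000000000008000000800000000000000c000008000000800000000000000c0004820c0000108008130182030000000000000000006020410004000c000000000000006020410004000c000082000000208000000080088100000000000000000002001000800800442800000000000200100080080044280000000000000000000000011964020000000000000000110801080101800000000000000011080108010180000000000000000000000001c1006a0000000000000000000000000000000000000000000000000000000000000000000000000000000000000000200000000000000000000000000000000000000000000000000000000000000000000000000000000000000200000000000000000000000000000000000000000000000000000000000000000000000000000000000020000000000000000000000000000000000000000000000000000000000000000000000000000000000000010000)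

theorem o_T76_s10_F : Frame 351 (grp 351 o_O) 4 20 o_T76_s10_O 0 1 :=
  Stab.frame o_hn o_T76_s10 (by decide +kernel)

noncomputable def o_T76_s9_O : ℕ := (nat_lit 0x30000000010004000000000000003000000001000400000020000000000000000000000000608000008000080003008000420600806000800008000300800042060080600400080003800000800100800000000002008004000060900011003000040200800400006090001100300004004000200000040020800038000000002000000004001804420042004060200000000400180442004200406000000000000000000000000070401a8101800000602008010100020008050180000060200801010002000804c0500901a080e2c3309002100000000000800310018081040010003000000080031001808104001000300002094c00cc825002300203a20400000000008000000808004002002001d0a0008000000808004002002001d0a04820c0000108008130182034659008000000000000000000000000000000000000000000000000000000000000000000000000000000000000000040000000000000000000000000000000000000000000000000000000000000000000000000000000000000040000000000000000000000000000000000000000000000000000000000000000000000000000000000004000)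

theorem o_T76_s9_F : Frame 351 (grp 351 o_O) 3 10 o_T76_s9_O 0 1 :=
  Stab.frame o_hn o_T76_s9 (by decide +kernel)

noncomputable def o_T76_s8_O : ℕ := (nat_lit 0x100400260003048020888180002010040026000304802088818000240200010000002001040001c00c14000010800100086810400a40e011dca010800100086810400a40e011dca0c821c00071080091303830346590080a0c0000034101c04c28043004462a0c0000034101c04c2804300446260280480d04071619848010870401a800000000000000000000000000000000000000000000000000000000000000000000000000000000000000008000000000000000000000000000000000000000000000000000000000000000000000000000000000000008)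

theorem o_T76_s8_F : Frame 351 (grp 351 o_O) 2 5 o_T76_s8_O 0 1 :=
  Stab.frame o_hn o_T76_s8 (by decide +kernel)

noncomputable def ot_c2_cnt_L : List ℕ := [1, 2, o_T76_s1_O, 0, 0, 2, 5, o_T76_s8_O, 0, 0, 3, 10, o_T76_s9_O, 0, 0, 4, 20, o_T76_s10_O, 0, 0, 5, 11, o_T76_s11_O, 0, 0, 6, 13, o_T76_s12_O, 0, 0, 7, 15, o_T76_s13_O, 0, 0, 8, 17, o_T76_s14_O, 1, 0]

theorem ot_c2_cnt_P : Prob 351 9 (grp 351 o_O) ot_c2_cnt_EG [o_g102] [o_g102] ot_c2_K ot_c2_cnt_L 0 0 :=
  Sym.prob o_hn o_hk ot_c2_sym ot_c2_cnt_EG_ok (grp_cons_le o_b_o_T76 (grp_cons_le o_c_o_T76 (grp_cons_le o_d_o_T76 (grp_cons_le o_e_o_T76 (grp_cons_le o_f_o_T76 (grp_cons_le o_g_o_T76 (grp_cons_le o_h_o_T76 (grp_cons_le o_i_o_T76 (grp_cons_le o_g1_o_T76 (grp_cons_le o_g2_o_T76 (grp_cons_le o_g3_o_T76 (grp_cons_le o_g4_o_T76 (grp_cons_le o_g5_o_T76 (grp_cons_le o_g8_o_T76 (grp_cons_le o_g9_o_T76 (grp_cons_le o_g12_o_T76 (grp_cons_le o_g13_o_T76 (grp_cons_le o_g14_o_T76 (grp_cons_le o_g17_o_T76 (grp_cons_le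 o_g18_o_T76 (grp_cons_le o_g19_o_T76 (grp_cons_le o_g20_o_T76 (grp_cons_le o_g23_o_T76 (grp_cons_le o_g24_o_T76 (grp_cons_le o_g25_o_T76 (grp_cons_le o_g26_o_T76 (grp_cons_le o_g27_o_T76 (grp_cons_le o_g30_o_T76 (grp_cons_le o_g31_o_T76 (grp_cons_le o_g32_o_T76 (grp_cons_le o_g35_o_T76 (grp_cons_le o_g117_o_T76 (grp_nil_le _))))))))))))))))))))))))))))))))) (Frames.cons o_T76_s1_F (Frames.cons o_T76_s8_F (Frames.cons o_T76_s9_F (Frames.cons o_T76_s10_F (Frames.cons o_T76_s11_F (Frames.cons o_T76_s12_F (Frames.cons o_T76_s13_F (Frames.cons o_T76_s14_F Frames.nil)))))))) (okE_cons.2 ⟨o_g102_ok, okE_nil _⟩) _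

noncomputable def ot_c2_cnt_t : BT := (BT.fix (nat_lit 1) (BT.br (nat_lit 0) (nat_lit 3) [nat_lit 1, nat_lit 3, nat_lit 5] (BT.dead (nat_lit 172) (BT.frm (nat_lit 0) (nat_lit 77569) (nat_lit 331042) [nat_lit 0] (BT.pln (nat_lit 0) (nat_lit 1) (BT.and (nat_lit 0) (nat_lit 3) (BT.cnt (nat_lit 0))))) (BT.kid (nat_lit 3) (nat_lit 4608) (BT.frm (nat_lit 0) (nat_lit 77569) (nat_lit 77569) [nat_lit 0] (BT.pln (nat_lit 0) (nat_lit 1) (BT.and (nat_lit 3) (nat_lit 0) (BT.br (nat_lit 0) (nat_lit 182) [nat_lit 3, nat_lit 7] (BT.dead (nat_lit 203) (BT.frm (nat_lit 1) (nat_lit 0x12012f01) (nat_lit 0x111720012f01) [nat_lit 0, nat_lit 4] (BT.pln (nat_lit 0) (nat_lit 2) (BT.and (nat_lit 0) (nat_lit 7) (BT.cnt (nat_lit 0))))) (BT.kid (nat_lit 182) (nat_lit 384) (BT.frm (nat_lit 1) (nat_lit 0x12012f01) (nat_lit 0x12012f01) [nat_lit 0, nat_lit 4] (BT.pln (nat_lit 0) (nat_lit 4) (BT.and (nat_lit 3) (nat_lit 0) (BT.br (nat_lit 0) (nat_lit 93) [nat_lit 5, nat_lit 7] (BT.dead (nat_lit 203)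 (BT.frm (nat_lit 2) (nat_lit 0x1b271f12012f01) (nat_lit 0x1d2212012f01) [nat_lit 0, nat_lit 4, nat_lit 8] (BT.pln (nat_lit 0) (nat_lit 3) (BT.and (nat_lit 0) (nat_lit 11) (BT.cnt (nat_lit 0))))) (BT.kid (nat_lit 93) (nat_lit 128) (BT.frm (nat_lit 2) (nat_lit 0x1b271f12012f01) (nat_lit 0x1b271f12012f01) [nat_lit 0, nat_lit 4, nat_lit 8] (BT.pln (nat_lit 0) (nat_lit 9) (BT.and (nat_lit 4) (nat_lit 0) (BT.dif (nat_lit 0) (nat_lit 12) (BT.br (nat_lit 0) (nat_lit 194) [nat_lit 7, nat_lit 9] (BT.kid (nat_lit 194) (nat_lit 16) (BT.dif (nat_lit 11) (nat_lit 7) (BT.frm (nat_lit 3) (nat_lit 0x1b271f12012f01) (nat_lit 0x1b271f12012f01) [nat_lit 1, nat_lit 6, nat_lit 10, nat_lit 14] (BT.pln (nat_lit 0) (nat_lit 7) (BT.and (nat_lit 2) (nat_lit 0) (BT.dif (nat_lit 0) (nat_lit 18) (BT.img (nat_lit 1) (nat_lit 5) (BT.frm (nat_lit 4) (nat_lit 0x251b271f12012f01) (nat_lit 0x251b271f12012f01) [nat_lit 0, nat_lit 6, nat_lit 11, nat_lit 15, nat_lit 19] (BT.pln (nat_lit 0) (nat_lit 7) (BT.dif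 (nat_lit 3) (nat_lit 0) (BT.br (nat_lit 0) (nat_lit 136) [nat_lit 11, nat_lit 13] (BT.kid (nat_lit 136) (nat_lit 4) (BT.dif (nat_lit 13) (nat_lit 24) (BT.and (nat_lit 0) (nat_lit 3) (BT.pln (nat_lit 5) (nat_lit 8) (BT.and (nat_lit 1) (nat_lit 0) (BT.frm (nat_lit 5) (nat_lit 0x39251b271f12012f01) (nat_lit 0x39251b271f12012f01) [nat_lit 4, nat_lit 8, nat_lit 14, nat_lit 19, nat_lit 23, nat_lit 27] (BT.pln (nat_lit 0) (nat_lit 8) (BT.dif (nat_lit 2) (nat_lit 0) (BT.br (nat_lit 0) (nat_lit 279) [nat_lit 15] (BT.kid (nat_lit 279) (nat_lit 2) (BT.dif (nat_lit 35) (nat_lit 2) (BT.pln (nat_lit 4) (nat_lit 9) (BT.and (nat_lit 1) (nat_lit 0) (BT.pln (nat_lit 6) (nat_lit 6) (BT.dif (nat_lit 1) (nat_lit 0) (BT.pln (nat_lit 8) (nat_lit 7) (BT.dif (nat_lit 1) (nat_lit 0) (BT.dif (nat_lit 0) (nat_lit 36) (BT.dif (nat_lit 0) (nat_lit 40) (BT.dif (nat_lit 0) (nat_lit 14) (BT.frm (nat_lit 6) (nat_lit 0xb3f39251b271f12012f01) (nat_lit 0xb3f39251b271f12012f01) [nat_lit 10, nat_lit 18,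 nat_lit 22, nat_lit 28, nat_lit 33, nat_lit 37, nat_lit 41] (BT.pln (nat_lit 0) (nat_lit 9) (BT.dif (nat_lit 2) (nat_lit 0) (BT.br (nat_lit 0) (nat_lit 261) [nat_lit 17] (BT.kid (nat_lit 261) (nat_lit 1) (BT.one (nat_lit 7) (nat_lit 0x30b3f39251b271f12012f01) (nat_lit 0x30b3f39251b271f12012f01) [nat_lit 0, nat_lit 14, nat_lit 22, nat_lit 26, nat_lit 32, nat_lit 37, nat_lit 41, nat_lit 45]) BT.nil))))))))))))))) BT.nil))))))))) BT.nil))))))))))) BT.nil)))))) BT.nil)))))) BT.nil)))))) BT.nil))))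

theorem ot_c2_cnt : Cnt 351 (grp 351 o_O) [o_g102] [o_g102] 0 0 0 0 207360 :=
  BT.sound ot_c2_cnt_P Known.nil (t := ot_c2_cnt_t) (d := 0) (by decide +kernel)

theorem ot_c2_ge : 207360 ≤ Nat.card (grp 351 ot_c2_K) :=
  Ch.le_card_grp (k := 9) (L := (lab 351 9)) o_hn ot_c2_K_ok (c := (Ch.cons (nat_lit 3) [nat_lit 1] (Ch.cons (nat_lit 182) [nat_lit 3] (Ch.cons (nat_lit 93) [nat_lit 5] (Ch.cons (nat_lit 194) [nat_lit 7, nat_lit 9] (Ch.cons (nat_lit 136) [nat_lit 11, nat_lit 13] (Ch.cons (nat_lit 279) [nat_lit 15] (Ch.cons (nat_lit 261) [nat_lit 17] Ch.nil)))))))) (by decide +kernel)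

theorem ot_c2_eq : (grp 351 o_O) ⊓ Subgroup.centralizer {Net.toPerm 351 o_g102} = grp 351 ot_c2_K :=
  cent_eq ot_c2_sym ot_c2_cnt ot_c2_ge

theorem ot_c2_card : Nat.card ↥((grp 351 o_O) ⊓ Subgroup.centralizer {Net.toPerm 351 o_g102}) = 207360 :=
  card_cent ot_c2_sym ot_c2_cnt ot_c2_ge

theorem ot_c2_ord : orderOf (Net.toPerm 351 o_g102) = 2 :=
  orderOf_net o_hn o_hk o_g102_ok (by decide) (ps := [2]) (by set_option linter.unusedSimpArgs false in simp [Nat.primeFactorsList_ofNat]) (by decide +kernel)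

theorem o_le131 : grp 351 ot_c3_K ≤ grp 351 o_lb_E :=
  grp_le_of_memB o_hn o_hk o_lb_E_ok ot_c3_K_ok (ws := [nat_lit 0x4543312721231f2411152001053d12, nat_lit 0x3b3727252d1d281d112717012035, nat_lit 0x3b37392821231d2d111627013d0f, nat_lit 0x453928252d1f281124050d, nat_lit 0x45433b312725211d291116120105231c, nat_lit 0x45433928211f22112a17012422, nat_lit 0x433b312821241d2e013d, nat_lit 0x3b2f3927253f1d1124050d]) (by decide +kernel)

theorem ot_c3_le : grp 351 ot_c3_K ≤ (grp 351 o_O) :=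
  (o_le131.trans o_T76_s0.le)

theorem ot_c3_mem : Net.toPerm 351 o_g122 ∈ (grp 351 o_O) :=
  ot_c3_le (mem_grp_of_memB o_hn o_hk ot_c3_K_ok o_g122_ok (w := (nat_lit 0xf0d070707)) (by decide +kernel))

theorem ot_c3_sym : Sym 351 (grp 351 o_O) [o_g122] ot_c3_K 0 :=
  Sym.of_lab o_hn o_hk (okE_cons.2 ⟨o_g122_ok, okE_nil _⟩) ot_c3_K_ok ot_c3_le (kT := 0) (by decide +kernel)

theorem o_le137 : grp 351 o_V136 ≤ grp 351 o_V115 :=
  grp_le_of_memB o_hn o_hk o_V115_ok o_V136_ok (ws := [nat_lit 0x1f151301, nat_lit 0x1f1d0b1301, nat_lit 0x1d15091301, nat_lit 0x1f1102]) (by decide +kernel)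

theorem o_T76_s15 : Stab 351 (grp 351 o_O) [nat_lit 155, nat_lit 16, nat_lit 14, nat_lit 3, nat_lit 0] o_V136 24 :=
  Stab.step (k := 9) (L := (lab 351 9)) o_hn o_T76_s10 o_V136_ok o_le137 (c := (Ch.cons (nat_lit 129) [nat_lit 1] (Ch.cons (nat_lit 186) [nat_lit 3] (Ch.cons (nat_lit 178) [nat_lit 5] (Ch.cons (nat_lit 126) [nat_lit 7] Ch.nil))))) (by decide +kernel)

theorem o_T76_s16 : Stab 351 (grp 351 o_O) [nat_lit 129, nat_lit 155, nat_lit 16, nat_lit 14, nat_lit 3, nat_lit 0] o_V138 12 :=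
  Stab.step (k := 9) (L := (lab 351 9)) o_hn o_T76_s15 o_V138_ok (grp_mono (List.subset_append_right [o_g132] _)) (c := (Ch.cons (nat_lit 186) [nat_lit 1] (Ch.cons (nat_lit 178) [nat_lit 3] (Ch.cons (nat_lit 126) [nat_lit 5] Ch.nil)))) (by decide +kernel)

theorem o_T76_s17 : Stab 351 (grp 351 o_O) [nat_lit 186, nat_lit 129, nat_lit 155, nat_lit 16, nat_lit 14, nat_lit 3, nat_lit 0] o_V139 6 :=
  Stab.step (k := 9) (L := (lab 351 9)) o_hn o_T76_s16 o_V139_ok (grp_mono (List.subset_append_right [o_g133] _)) (c := (Ch.cons (nat_lit 178) [nat_lit 1] (Ch.cons (nat_lit 126) [nat_lit 3] Ch.nil))) (by decide +kernel)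

theorem o_T76_s18 : Stab 351 (grp 351 o_O) [nat_lit 178, nat_lit 186, nat_lit 129, nat_lit 155, nat_lit 16, nat_lit 14, nat_lit 3, nat_lit 0] o_V140 3 :=
  Stab.step (k := 9) (L := (lab 351 9)) o_hn o_T76_s17 o_V140_ok (grp_mono (List.subset_append_right [o_g134] _)) (c := (Ch.cons (nat_lit 126) [nat_lit 1] Ch.nil)) (by decide +kernel)

theorem o_T76_s19 : Stab 351 (grp 351 o_O) [nat_lit 126, nat_lit 178, nat_lit 186, nat_lit 129, nat_lit 155, nat_lit 16, nat_lit 14, nat_lit 3, nat_lit 0] o_V141 1 :=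
  Stab.step (k := 9) (L := (lab 351 9)) o_hn o_T76_s18 o_V141_ok (grp_mono (List.subset_append_right [o_g135] _)) (c := Ch.nil) (by decide +kernel)

theorem o_g132_o_T76 : Net.toPerm 351 o_g132 ∈ (grp 351 o_O) :=
  o_T76_s15.le (toPerm_mem_grp (E := o_V136) (List.Mem.head _))

theorem o_g133_o_T76 : Net.toPerm 351 o_g133 ∈ (grp 351 o_O) :=
  o_T76_s15.le (toPerm_mem_grp (E := o_V136) (List.Mem.tail _ (List.Mem.head _)))

theorem o_g134_o_T76 : Net.toPerm 351 o_g134 ∈ (grp 351 o_O) :=
  o_T76_s15.le (toPerm_mem_grp (E := o_V136) (List.Mem.tail _ (List.Mem.tail _ (List.Mem.head _))))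

theorem o_g135_o_T76 : Net.toPerm 351 o_g135 ∈ (grp 351 o_O) :=
  o_T76_s15.le (toPerm_mem_grp (E := o_V136) (List.Mem.tail _ (List.Mem.tail _ (List.Mem.tail _ (List.Mem.head _)))))

noncomputable def o_T76_s19_O : ℕ := (nat_lit 0x3fffffffffffffffffffffff8000000000000000000000000000000000000000000000000000000000000000000000000000000000000000ffffffffffffffffffffffffffffffff00000000000000000000000000000000fffffffe0000000000000001fffffffffffffffe0000000000000001fffffffffffffffe000000000000000000000003fffffffc00000003fffffffc00000003fffffffc00000003fffffffc00000003fffffffc00000003fff80007fff80007fff80007fff80007fff80007fff80007fff80007fff80007fff80007fff80007fff80007f00ff00ff00ff00ff00ff00ff00ff00ff00ff00ff00ff00ff00ff00ff00ff00ff00ff00ff00ff00ff00ff00e1e1e1e1e1e1e1e1e1e1e1e1e1e1e1e1e1e1e1e1e1e1e1e1e1e1e1e1e1e1e1e1e1e1e1e1e1e1e1e1e1e1e1e1333333333333333333333333333333333333333333333333333333333333333333333333333333333333333155555555555555555555555555555555555555555555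55555555555555555555555555555555555555555550000000000000000000000000000000000000000000000000000000000000000000000000000000000000001000000000000000000000000000000000000000000000000000000000000000000000000000000000000001000000000000000000000000000000000000000000000000000000000000000000000000000000000000100000000000000000000000000000000000000000000000000000000000000000000000000000000000000080000000000000000000000000000000000000000000000000000800000000000000000000000000000000000000000000000000000000000000000000000000000000000000000000040000000000000000000000000000000000000000000000000000000000000000000000001000000000000000000000000000000000000000000000000000000000000000000000000000000000000000002000000000000000000000000000000000000000000000000000000000000000000000000000000000000000000000000000040000000000000000000000000000000)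

theorem o_T76_s19_F : Frame 351 (grp 351 o_O) 9 18 o_T76_s19_O 1 1 :=
  IsBase.frame o_T76_s19.isBase (by decide +kernel)

noncomputable def o_T76_s17_O : ℕ := (nat_lit 0x480200030800304110444000001448020023090411247873012700000110000000000000000000000011c8b243108020c04314510a030d81118207000020c04314930a090d81118d808013034101e587652005e1cd006a085bd6ffb3c6d72c19acc847bc640cd677f953c4206c95ed8c81002407eb1a7736e2e3ff1fcf0000000000001cb82df3a63b683c2749d53bb9541da66fffe421ac620808a09d381020234b5d9d302f80c021cff786008e45bdb5619bd8d0d1c08046063638a53396f49aa72cd5b83d35c21ff314608e74aeef9ee0ffa883fc3ce26802007a3457d1d98fe6b20e79474e73ec1904b4c42dbd120983c714618b31ded86b52a379b8588f07866726e41b90f7a4029883adb656b5e507e36a542973b95855b2a6174a93896aa9686a5a4ac6a6e1eb2b89ccaa696a61664800000000000000000000000000000000000000000000000000000000000000000000000000000000000000040000000000000000000000000000000000000000000000000000000000000000000000000000000000000040000000000000000000000000000000000000000000000000000000000000000000000000000000000004000000000000000000000000000000000000000000000000000000000000000000000000000000000000002000000000000000000000000000000000000000000000000000020000000000000000000000000000000000000000000000000000000000000000000000000000000000000000000001000000000000000000000000000000000000000000000000000000000000000000000000040000000000000000000000000000000000000000000000)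

theorem o_T76_s17_F : Frame 351 (grp 351 o_O) 7 14 o_T76_s17_O 0 1 :=
  Stab.frame o_hn o_T76_s17 (by decide +kernel)

noncomputable def o_T76_s16_O : ℕ := (nat_lit 0x13008014c2086c904455103100051300801cc2436cd91e9dc879c0408044002006002400208000380184722c84d10001b10d872809627d205de884d10009b1181e0088a809021d0279a43cc0d2613973be4f070eb080000312a01a34e01c8d08c60037a35f28218de4006103b27cbce78cc0cceaf2405901008062c7f29800e09ee4370152ffcb320e2100595cc6a9007a663504344de06e1e33822827ce8dd8759e769949585f898c401da1316bf161923f9109ec02c1b2f1dc1211b0ab7bc06fb7b8521d015242759fe82b05a2b4cc1b4d8be6fb1fb0b25b801c19ee47ee7416aa4555b0dcb3ff4ec83f381f4808541aa25fa14e20e92f27714f31c34108f5e8aed547462c5100000000000000000000000000000000000000000000000000000000000000000000000000000000000000008000000000000000000000000000000000000000000000000000000000000000000000000000000000000008000000000000000000000000000000000000000000000000000000000000000000000000000000000000800000000000000000000000000000000000000000000000000000000000000000000000000000000000000400000000000000000000000000000000000000000000000000004000000000000000000000000000000000000000000000000000000000000000000000000000000000000000000000200000000000000000000000000000000)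

theorem o_T76_s16_F : Frame 351 (grp 351 o_O) 6 12 o_T76_s16_O 0 1 :=
  Stab.frame o_hn o_T76_s16 (by decide +kernel)

noncomputable def o_T76_s15_O : ℕ := (nat_lit 0x401000180000000082020000008040100018000180008280002000900000000000000000000000003000000440000500819b6488614b4c483c044000070091d876cee27b5e383c0210040801c001004820804e0e08035028b800390d1f3fd86063865b8160a8b8003b0d070180206006400160bcbec93cf7951e7be6733ac200023916113800761a80cc16212523112f38112800101ab27cb0849708371e4634f38e71567a98f87f21827bfc6c722dba347eefc51a5d109989a953b88623b281ed8501d92c4a4246605a70195f18330035489f670be476042affd90605027103f94dc74b3cf35cebce35a8fc66e1c3419ed8bc099c14e32558698041c0a2c60d1c19ca6e55fab0000000000000000000000000000000000000000000000000000000000000000000000000000000000000001000000000000000000000000000000000000000000000000000000000000000000000000000000000000001000000000000000000000000000000000000000000000000000000000000000000000000000000000000100000000000000000000000000000000000000000000000000000000000000000000000000000000000000080000000000000000000000000000000000000000000000000000800000000000000000000000000000000000000)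

theorem o_T76_s15_F : Frame 351 (grp 351 o_O) 5 11 o_T76_s15_O 0 1 :=
  Stab.frame o_hn o_T76_s15 (by decide +kernel)

noncomputable def ot_c3_cnt_L : List ℕ := [1, 2, o_T76_s1_O, 0, 0, 2, 5, o_T76_s8_O, 0, 0, 3, 10, o_T76_s9_O, 0, 0, 4, 20, o_T76_s10_O, 0, 0, 5, 11, o_T76_s15_O, 0, 0, 6, 12, o_T76_s16_O, 0, 0, 7, 14, o_T76_s17_O, 0, 0, 9, 18, o_T76_s19_O, 1, 0]

theorem ot_c3_cnt_P : Prob 351 9 (grp 351 o_O) ot_c3_cnt_EG [o_g122] [o_g122] ot_c3_K ot_c3_cnt_L 0 0 :=
  Sym.prob o_hn o_hk ot_c3_sym ot_c3_cnt_EG_ok (grp_cons_le o_b_o_T76 (grp_cons_le o_c_o_T76 (grp_cons_le o_d_o_T76 (grp_cons_le o_e_o_T76 (grp_cons_le o_f_o_T76 (grp_cons_le o_g_o_T76 (grp_cons_le o_h_o_T76 (grp_cons_le o_i_o_T76 (grp_cons_le o_g1_o_T76 (grp_cons_le o_g2_o_T76 (grp_cons_le o_g3_o_T76 (grp_cons_le o_g4_o_T76 (grp_cons_le o_g5_o_T76 (grp_cons_le o_g8_o_T76 (grp_cons_le o_g9_o_T76 (grp_cons_le o_g12_o_T76 (grp_cons_le o_g13_o_T76 (grp_cons_le o_g14_o_T76 (grp_cons_le o_g17_o_T76 (grp_cons_le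 o_g18_o_T76 (grp_cons_le o_g19_o_T76 (grp_cons_le o_g20_o_T76 (grp_cons_le o_g23_o_T76 (grp_cons_le o_g24_o_T76 (grp_cons_le o_g25_o_T76 (grp_cons_le o_g26_o_T76 (grp_cons_le o_g27_o_T76 (grp_cons_le o_g30_o_T76 (grp_cons_le o_g31_o_T76 (grp_cons_le o_g32_o_T76 (grp_cons_le o_g35_o_T76 (grp_cons_le o_g132_o_T76 (grp_cons_le o_g133_o_T76 (grp_cons_le o_g134_o_T76 (grp_cons_le o_g135_o_T76 (grp_nil_le _)))))))))))))))))))))))))))))))))))) (Frames.cons o_T76_s1_F (Frames.cons o_T76_s8_F (Frames.cons o_T76_s9_F (Frames.cons o_T76_s10_F (Frames.cons o_T76_s15_F (Frames.cons o_T76_s16_F (Frames.cons o_T76_s17_F (Frames.cons o_T76_s19_F Frames.nil)))))))) (okE_cons.2 ⟨o_g122_ok, okE_nil _⟩) _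

noncomputable def ot_c3_cnt_t : BT := (BT.fix (nat_lit 1) (BT.br (nat_lit 0) (nat_lit 25) [nat_lit 1, nat_lit 5] (BT.dead (nat_lit 65) (BT.frm (nat_lit 0) (nat_lit 0x105111e) (nat_lit 73769) [nat_lit 0] (BT.pln (nat_lit 0) (nat_lit 1) (BT.and (nat_lit 0) (nat_lit 3) (BT.cnt (nat_lit 0))))) (BT.kid (nat_lit 25) (nat_lit 4608) (BT.dif (nat_lit 1) (nat_lit 0) (BT.br (nat_lit 0) (nat_lit 65) [nat_lit 3, nat_lit 5] (BT.dead (nat_lit 113) (BT.frm (nat_lit 1) (nat_lit 0x110b0105111e) (nat_lit 0x120105111e) [nat_lit 0, nat_lit 2] (BT.pln (nat_lit 0) (nat_lit 3) (BT.and (nat_lit 0) (nat_lit 5) (BT.cnt (nat_lit 0))))) (BT.kid (nat_lit 65) (nat_lit 384) (BT.frm (nat_lit 1) (nat_lit 0x110b0105111e) (nat_lit 0x110b0105111e) [nat_lit 0, nat_lit 2] (BT.pln (nat_lit 0) (nat_lit 4) (BT.and (nat_lit 5) (nat_lit 0) (BT.br (nat_lit 0) (nat_lit 113) [nat_lit 5, nat_lit 7] (BT.dead (nat_lit 220) (BT.frm (nat_lit 2) (nat_lit 0x1b1e1b110b0105111e) (nat_lit 0x1b231e110b0105111e) [nat_lit 0,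 nat_lit 4, nat_lit 6] (BT.pln (nat_lit 0) (nat_lit 3) (BT.and (nat_lit 0) (nat_lit 9) (BT.cnt (nat_lit 0))))) (BT.kid (nat_lit 113) (nat_lit 192) (BT.frm (nat_lit 2) (nat_lit 0x1b1e1b110b0105111e) (nat_lit 0x1b1e1b110b0105111e) [nat_lit 0, nat_lit 4, nat_lit 6] (BT.pln (nat_lit 0) (nat_lit 9) (BT.and (nat_lit 4) (nat_lit 0) (BT.dif (nat_lit 0) (nat_lit 10) (BT.br (nat_lit 0) (nat_lit 318) [nat_lit 7, nat_lit 9] (BT.kid (nat_lit 318) (nat_lit 24) (BT.dif (nat_lit 7) (nat_lit 3) (BT.frm (nat_lit 3) (nat_lit 0x233b1b1e1b110b0105111e) (nat_lit 0x233b1b1e1b110b0105111e) [nat_lit 1, nat_lit 6, nat_lit 10, nat_lit 12] (BT.pln (nat_lit 0) (nat_lit 15) (BT.and (nat_lit 2) (nat_lit 0) (BT.img (nat_lit 1) (nat_lit 4) (BT.frm (nat_lit 4) (nat_lit 0x25233b1b1e1b110b0105111e) (nat_lit 0x25233b1b1e1b110b0105111e) [nat_lit 0, nat_lit 5, nat_lit 10, nat_lit 14, nat_lit 16] (BT.pln (nat_lit 0) (nat_lit 7) (BT.and (nat_lit 3) (nat_lit 0) (BT.br (nat_lit 0) (nat_lit 104) [nat_lit 9] (BT.kid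 (nat_lit 104) (nat_lit 12) (BT.pln (nat_lit 3) (nat_lit 10) (BT.and (nat_lit 3) (nat_lit 0) (BT.frm (nat_lit 0) (nat_lit 0x105111e) (nat_lit 0x105111e) [nat_lit 22] (BT.pln (nat_lit 0) (nat_lit 1) (BT.dif (nat_lit 2) (nat_lit 0) (BT.br (nat_lit 0) (nat_lit 31) [nat_lit 11] (BT.kid (nat_lit 31) (nat_lit 6) (BT.dif (nat_lit 30) (nat_lit 8) (BT.pln (nat_lit 10) (nat_lit 9) (BT.and (nat_lit 1) (nat_lit 0) (BT.pln (nat_lit 12) (nat_lit 5) (BT.dif (nat_lit 1) (nat_lit 0) (BT.dif (nat_lit 0) (nat_lit 7) (BT.pln (nat_lit 15) (nat_lit 6) (BT.dif (nat_lit 1) (nat_lit 0) (BT.frm (nat_lit 5) (nat_lit 0x25233b1b1e1b110b0105111e) (nat_lit 0x25233b1b1e1b110b0105111e) [nat_lit 14, nat_lit 18, nat_lit 23, nat_lit 28, nat_lit 32, nat_lit 34] (BT.pln (nat_lit 0) (nat_lit 7) (BT.dif (nat_lit 2) (nat_lit 0) (BT.frm (nat_lit 6) (nat_lit 0x4125233b1b1e1b110b0105111e) (nat_lit 0x4125233b1b1e1b110b0105111e) [nat_lit 11, nat_lit 17, nat_lit 21, nat_lit 26, nat_lit 31, nat_lit 35, nat_lit 37]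 (BT.pln (nat_lit 0) (nat_lit 7) (BT.dif (nat_lit 2) (nat_lit 0) (BT.br (nat_lit 0) (nat_lit 185) [nat_lit 13] (BT.kid (nat_lit 185) (nat_lit 3) (BT.dif (nat_lit 33) (nat_lit 8) (BT.and (nat_lit 0) (nat_lit 12) (BT.br (nat_lit 0) (nat_lit 145) [nat_lit 15] (BT.kid (nat_lit 145) (nat_lit 1) (BT.one (nat_lit 7) (nat_lit 0x45434125233b1b1e1b110b0105111e) (nat_lit 0x45434125233b1b1e1b110b0105111e) [nat_lit 0, nat_lit 3, nat_lit 18, nat_lit 24, nat_lit 28, nat_lit 33, nat_lit 38, nat_lit 42, nat_lit 44]) BT.nil)))) BT.nil)))))))))))))))) BT.nil))))))) BT.nil)))))))))) BT.nil)))))) BT.nil)))))) BT.nil)))) BT.nil))))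

theorem ot_c3_cnt : Cnt 351 (grp 351 o_O) [o_g122] [o_g122] 0 0 0 0 13824 :=
  BT.sound ot_c3_cnt_P Known.nil (t := ot_c3_cnt_t) (d := 0) (by decide +kernel)

theorem ot_c3_ge : 13824 ≤ Nat.card (grp 351 ot_c3_K) :=
  Ch.le_card_grp (k := 9) (L := (lab 351 9)) o_hn ot_c3_K_ok (c := (Ch.cons (nat_lit 25) [nat_lit 1] (Ch.cons (nat_lit 65) [nat_lit 3] (Ch.cons (nat_lit 113) [nat_lit 5] (Ch.cons (nat_lit 318) [nat_lit 7] (Ch.cons (nat_lit 104) [nat_lit 9] (Ch.cons (nat_lit 31) [nat_lit 11] (Ch.cons (nat_lit 185) [nat_lit 13] (Ch.cons (nat_lit 145) [nat_lit 15] Ch.nil))))))))) (by decide +kernel)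

theorem ot_c3_eq : (grp 351 o_O) ⊓ Subgroup.centralizer {Net.toPerm 351 o_g122} = grp 351 ot_c3_K :=
  cent_eq ot_c3_sym ot_c3_cnt ot_c3_ge

theorem ot_c3_card : Nat.card ↥((grp 351 o_O) ⊓ Subgroup.centralizer {Net.toPerm 351 o_g122}) = 13824 :=
  card_cent ot_c3_sym ot_c3_cnt ot_c3_ge

theorem ot_c3_ord : orderOf (Net.toPerm 351 o_g122) = 2 :=
  orderOf_net o_hn o_hk o_g122_ok (by decide) (ps := [2]) (by set_option linter.unusedSimpArgs false in simp [Nat.primeFactorsList_ofNat]) (by decide +kernel)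

theorem o_le151 : grp 351 ot_c4_K ≤ grp 351 o_lb_E :=
  grp_le_of_memB o_hn o_hk o_lb_E_ok ot_c4_K_ok (ws := [nat_lit 0x453b371d2024112301291b, nat_lit 0x31252d1d241e112e011611, nat_lit 0x4543313928252d1d241f11281101212a, nat_lit 0x453b37261d2911051e01, nat_lit 0x45431a01193d, nat_lit 0x45433139251d1f3b171e0105071e, nat_lit 0x45433b3739281d212017201601212a, nat_lit 0x452f282101212a]) (by decide +kernel)

theorem ot_c4_le : grp 351 ot_c4_K ≤ (grp 351 o_O) :=
  (o_le151.trans o_T76_s0.le)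

theorem ot_c4_mem : Net.toPerm 351 o_g142 ∈ (grp 351 o_O) :=
  ot_c4_le (mem_grp_of_memB o_hn o_hk ot_c4_K_ok o_g142_ok (w := (nat_lit 0xb070b07)) (by decide +kernel))

theorem ot_c4_sym : Sym 351 (grp 351 o_O) [o_g142] ot_c4_K 0 :=
  Sym.of_lab o_hn o_hk (okE_cons.2 ⟨o_g142_ok, okE_nil _⟩) ot_c4_K_ok ot_c4_le (kT := 0) (by decide +kernel)

theorem o_le156 : grp 351 o_V155 ≤ grp 351 o_V97 :=
  grp_le_of_memB o_hn o_hk o_V97_ok o_V155_ok (ws := [nat_lit 0x907070504, nat_lit 0x7090b04, nat_lit 527108, nat_lit 658181]) (by decide +kernel)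

theorem o_T76_s20 : Stab 351 (grp 351 o_O) [nat_lit 176, nat_lit 252, nat_lit 187, nat_lit 0] o_V155 36 :=
  Stab.step (k := 9) (L := (lab 351 9)) o_hn o_T76_s3 o_V155_ok o_le156 (c := (Ch.cons (nat_lit 302) [nat_lit 1, nat_lit 3] (Ch.cons (nat_lit 16) [nat_lit 5] (Ch.cons (nat_lit 158) [nat_lit 7] Ch.nil)))) (by decide +kernel)

theorem o_T76_s21 : Stab 351 (grp 351 o_O) [nat_lit 302, nat_lit 176, nat_lit 252, nat_lit 187, nat_lit 0] o_V157 6 :=
  Stab.step (k := 9) (L := (lab 351 9)) o_hn o_T76_s20 o_V157_ok (grp_mono (List.subset_append_right [o_g152, o_g153] _)) (c := (Ch.cons (nat_lit 16) [nat_lit 1] (Ch.cons (nat_lit 158) [nat_lit 3] Ch.nil))) (by decide +kernel)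

theorem o_T76_s22 : Stab 351 (grp 351 o_O) [nat_lit 16, nat_lit 302, nat_lit 176, nat_lit 252, nat_lit 187, nat_lit 0] o_V158 2 :=
  Stab.step (k := 9) (L := (lab 351 9)) o_hn o_T76_s21 o_V158_ok (grp_mono (List.subset_append_right [o_g154] _)) (c := (Ch.cons (nat_lit 158) [nat_lit 1] Ch.nil)) (by decide +kernel)

theorem o_T76_s23 : Stab 351 (grp 351 o_O) [nat_lit 158, nat_lit 16, nat_lit 302, nat_lit 176, nat_lit 252, nat_lit 187, nat_lit 0] o_V159 1 :=
  Stab.step (k := 9) (L := (lab 351 9)) o_hn o_T76_s22 o_V159_ok (grp_mono (List.subset_append_right [o_g31] _)) (c := Ch.nil) (by decide +kernel)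

theorem o_g152_o_T76 : Net.toPerm 351 o_g152 ∈ (grp 351 o_O) :=
  o_T76_s20.le (toPerm_mem_grp (E := o_V155) (List.Mem.head _))

theorem o_g153_o_T76 : Net.toPerm 351 o_g153 ∈ (grp 351 o_O) :=
  o_T76_s20.le (toPerm_mem_grp (E := o_V155) (List.Mem.tail _ (List.Mem.head _)))

theorem o_g154_o_T76 : Net.toPerm 351 o_g154 ∈ (grp 351 o_O) :=
  o_T76_s20.le (toPerm_mem_grp (E := o_V155) (List.Mem.tail _ (List.Mem.tail _ (List.Mem.head _))))

noncomputable def o_T76_s23_O : ℕ := (nat_lit 0xfffffffffffffffffffffffe0000000000000000000000000000000000000000000000000000000000000000000000000000000000000003fffffffffffffffffffffffffffffffc00000000000000000000000000000003fffffff80000000000000007fffffffffffffff80000000000000007fffffffffffffff800000000000000000000000ffffffff00000000ffffffff00000000ffffffff00000000ffffffff00000000ffffffff00000000fffe0001fffe0001fffe0001fffe0001fffe0001fffe0001fffe0001fffe0001fffe0001fffe0001fffe0001fc03fc03fc03fc03fc03fc03fc03fc03fc03fc03fc03fc03fc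03fc03fc03fc03fc03fc03fc03fc03fc03fc038787878787878787878787878787878787878787878787878787878787878787878787878787878787878784ccccccccccccccccccccccccccccccccccccccccccccccccccccccccccccccccccccccccccccccccccccccc555555555555555555555555555555555555555555555555555555555555555555555555555555555555555400000000000000000000000000000000000000000000000000000000000000000000000000000000000000040000000000000000000000000000000000000000400000000000000000000000000000000000000000000000000000000000000000000001000000000000000000000000000000000000000000000000000000000000000000000000000000000000000000000000000000000020000000000000000000000000000000000000000000000000000000100000000000000000000000000000000000000000000000000000000000000000000000000000000000000000000000000000000000000000000000000000000000000000000000000000000000000080000000000000000000000000000000000000000000000000004000000000000000000000000000000000000000)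

theorem o_T76_s23_F : Frame 351 (grp 351 o_O) 7 16 o_T76_s23_O 1 1 :=
  IsBase.frame o_T76_s23.isBase (by decide +kernel)

noncomputable def o_T76_s22_O : ℕ := (nat_lit 0x80f001887641ce1a830c82007b0c80f0018876438e12830c8200fb0eca68027702bc260044c4000000000003ebe2dff7fecbfe7ff6ffe7feff3ff79ffc4b137863caf900000000000000000000000000000600180c2791ebbffaffff06f08705f2413114018c50c00769d90e384a0dfffffffbc4c047102235042000000c0030184f23c810748001b6cef7f413190990038151fecff3ff9c6000039befc008765771dfa380120fcdc1dfc060309e47af90eee253f59e12575ef9f8870104e3fe1ca700c33f2837f700705fecf06298302bcd0ffb30307fe06120004e5ef50ed7e007ea0137ba2c416f0de782fc81c9c642fc0e51f0f8a1c40fcec177d00cf7c96370f1872cbd000d73c7792c504303d35605cf529dabccce0ef1e360e546d873998c72747c0d3ae85c1d39e32cd99813f86531b3d5819552785504d6a3ad5314daa6555eae92b495a32b2cd4aad4d2c465aaad2d94f96a96a52aacaaaaa9500000000000000000000000000000000000000000000000000000000000000000000000000000000000000008000000000000000000000000000000000000000080000000000000000000000000000000000000000000000000000000000000000000000200000000000000000000000000000000000000000000000000000000000000000000000000000000000000000000000000000000004000000000000000000000000000000000000000000000000000000020000000000000000000000000000000000000000000000000000000000000000000000000000000000000000000000000000000000000000000000000000000000000000000000000000000000000010000)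

theorem o_T76_s22_F : Frame 351 (grp 351 o_O) 6 14 o_T76_s22_O 0 1 :=
  Stab.frame o_hn o_T76_s22 (by decide +kernel)

noncomputable def o_T76_s21_O : ℕ := (nat_lit 0x1000003000002000000000000000000000000000000000000000000000000000000000000000000000000000069941128001030091c7f7a6cf87873e2a077df322f526e800d118fdb29a0091000000001100c0020100f004304929103f001a17101640100c84704aabd03f205918702040102c848050eeffa5dfb7e0fe73fc0402010000608040622878fe3e837fc23b5f0f61fff02dfec335a11b80320088010501c43b0bbd3804030005e67b7df81207f0b4963e1018376cfbd902f61dc81c10e002657ce5003a22c9c7da4a60bbf71e00ad8b76000bcf05038fe50a9d58406240db9986384b69038317471a71a2aefbdf91b0b7f2980b601890f803e15ff51f1a170627e71e453b8b9bf24026bb993e97b2309981c49639bce0ccf133d8224f166e549e0b0da9c72831270fcb2969cf2d332aace38f40d408fb487bab9f16c52abe5d52152989c5352e9852b64ba57ba0cade2d46496969556a2d5d55540000000000000000000000000000000000000000000000000000000000000000000000000000000000000001000000000000000000000000000000000000000010000000000000000000000000000000000000000000000000000000000000000000000040000000000000000000000000000000000000000000000000000000000000000000000000000000000000000000000000000000000800000000000000000000000000000000000000000000000000000004000000000000000000000000000000000000000000000000000000000000000000000000000)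

theorem o_T76_s21_F : Frame 351 (grp 351 o_O) 5 13 o_T76_s21_O 0 1 :=
  Stab.frame o_hn o_T76_s21 (by decide +kernel)

noncomputable def o_T76_s20_O : ℕ := (nat_lit 0x4000181008b0482100c800410c800000042024082108410541841002026004414000018440b000806020001b5a4ab90fc0078148e772c36900d81b95419fb1c7b405281064131ae10133e748656b98a76c87b800003802389001880a1d3e8f3958c288cb45d76ffe417f500e4066e008c102eb43f8703982ef4a80200050099d577e04585a80d5ae0c044a48a1b74d9fab767dc33e3b6a9863705e5a2611b4739127d5a60a2068d8701813c555e3a98f1604121688d67b40e0507c1bb08cd6548bfee90c82df645994161b5b0c79c41be261edb88c8c253be7e6b2c33afe5a979b5e3be25c28121115680b59d26ad0236cac72246d269fdaa82bf34e3c8f11d3675245a78aab4000000000000000000000000000000000000000000000000000000000000000000000000000000000000000200000000000000000000000000000000000000002000000000000000000000000000000000000000000000000000000000000000000000008000000000000000000000000000000000000000000000000000000000000000000000000000000000000000000000000000000000100000000000000000000000000000000000000000000)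

theorem o_T76_s20_F : Frame 351 (grp 351 o_O) 4 10 o_T76_s20_O 0 1 :=
  Stab.frame o_hn o_T76_s20 (by decide +kernel)

noncomputable def ot_c4_cnt_L : List ℕ := [1, 2, o_T76_s1_O, 0, 0, 2, 7, o_T76_s2_O, 0, 0, 3, 8, o_T76_s3_O, 0, 0, 4, 10, o_T76_s20_O, 0, 0, 5, 13, o_T76_s21_O, 0, 0, 6, 14, o_T76_s22_O, 0, 0, 7, 16, o_T76_s23_O, 1, 0]

theorem ot_c4_cnt_P : Prob 351 9 (grp 351 o_O) ot_c4_cnt_EG [o_g142] [o_g142] ot_c4_K ot_c4_cnt_L 0 0 :=
  Sym.prob o_hn o_hk ot_c4_sym ot_c4_cnt_EG_ok (grp_cons_le o_b_o_T76 (grp_cons_le o_c_o_T76 (grp_cons_le o_d_o_T76 (grp_cons_le o_e_o_T76 (grp_cons_le o_f_o_T76 (grp_cons_le o_g_o_T76 (grp_cons_le o_h_o_T76 (grp_cons_le o_i_o_T76 (grp_cons_le o_g1_o_T76 (grp_cons_le o_g2_o_T76 (grp_cons_le o_g3_o_T76 (grp_cons_le o_g4_o_T76 (grp_cons_le o_g5_o_T76 (grp_cons_le o_g8_o_T76 (grp_cons_le o_g9_o_T76 (grp_cons_le o_g12_o_T76 (grp_cons_le o_g13_o_T76 (grp_cons_le o_g14_o_T76 (grp_cons_le o_g17_o_T76 (grp_cons_le o_g18_o_T76 (grp_cons_le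 o_g19_o_T76 (grp_cons_le o_g20_o_T76 (grp_cons_le o_g23_o_T76 (grp_cons_le o_g24_o_T76 (grp_cons_le o_g25_o_T76 (grp_cons_le o_g26_o_T76 (grp_cons_le o_g27_o_T76 (grp_cons_le o_g30_o_T76 (grp_cons_le o_g31_o_T76 (grp_cons_le o_g32_o_T76 (grp_cons_le o_g35_o_T76 (grp_cons_le o_g88_o_T76 (grp_cons_le o_g89_o_T76 (grp_cons_le o_g90_o_T76 (grp_cons_le o_g91_o_T76 (grp_cons_le o_g92_o_T76 (grp_cons_le o_g93_o_T76 (grp_cons_le o_g94_o_T76 (grp_cons_le o_g152_o_T76 (grp_cons_le o_g153_o_T76 (grp_cons_le o_g154_o_T76 (grp_nil_le _)))))))))))))))))))))))))))))))))))))))))) (Frames.cons o_T76_s1_F (Frames.cons o_T76_s2_F (Frames.cons o_T76_s3_F (Frames.cons o_T76_s20_F (Frames.cons o_T76_s21_F (Frames.cons o_T76_s22_F (Frames.cons o_T76_s23_F Frames.nil))))))) (okE_cons.2 ⟨o_g142_ok, okE_nil _⟩) _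

noncomputable def ot_c4_cnt_t : BT := (BT.fix (nat_lit 1) (BT.br (nat_lit 0) (nat_lit 25) [nat_lit 1, nat_lit 3] (BT.kid (nat_lit 25) (nat_lit 23328) (BT.frm (nat_lit 0) (nat_lit 0x105111e) (nat_lit 0x105111e) [nat_lit 0] (BT.pln (nat_lit 0) (nat_lit 1) (BT.dif (nat_lit 3) (nat_lit 0) (BT.dif (nat_lit 0) (nat_lit 3) (BT.br (nat_lit 0) (nat_lit 31) [nat_lit 3, nat_lit 5] (BT.kid (nat_lit 31) (nat_lit 2916) (BT.frm (nat_lit 1) (nat_lit 0x13111b0105111e) (nat_lit 0x13111b0105111e) [nat_lit 0, nat_lit 5] (BT.pln (nat_lit 0) (nat_lit 4) (BT.and (nat_lit 4) (nat_lit 0) (BT.br (nat_lit 0) (nat_lit 43) [nat_lit 5] (BT.dead (nat_lit 123) (BT.dif (nat_lit 13) (nat_lit 7) (BT.dif (nat_lit 0) (nat_lit 3) (BT.pln (nat_lit 5) (nat_lit 3) (BT.dif (nat_lit 1) (nat_lit 0) (BT.frm (nat_lit 2) (nat_lit 0x3f3f4913111b0105111e) (nat_lit 0x3f444113111b0105111e) [nat_lit 4, nat_lit 8, nat_lit 13] (BT.pln (nat_lit 0) (nat_lit 3) (BT.dif (nat_lit 2) (nat_lit 0) (BT.dif (nat_lit 0) (nat_lit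 17) (BT.br (nat_lit 0) (nat_lit 8) [nat_lit 0xf0b07090c, nat_lit 0xf090c07090d] (BT.dead (nat_lit 6) (BT.frm (nat_lit 3) (nat_lit 0x4144483f3f4913111b0105111e) (nat_lit 0x413f444113111b0105111e) [nat_lit 0, nat_lit 9, nat_lit 13, nat_lit 18] (BT.pln (nat_lit 0) (nat_lit 5) (BT.img (nat_lit 1) (nat_lit 2) (BT.and (nat_lit 1) (nat_lit 0) (BT.cnt (nat_lit 0)))))) BT.nil)))))))))) (BT.kid (nat_lit 43) (nat_lit 972) (BT.dif (nat_lit 13) (nat_lit 7) (BT.dif (nat_lit 0) (nat_lit 3) (BT.pln (nat_lit 5) (nat_lit 3) (BT.dif (nat_lit 1) (nat_lit 0) (BT.frm (nat_lit 2) (nat_lit 0x3f3f4913111b0105111e) (nat_lit 0x3f3f4913111b0105111e) [nat_lit 4, nat_lit 8, nat_lit 13] (BT.pln (nat_lit 0) (nat_lit 3) (BT.dif (nat_lit 2) (nat_lit 0) (BT.dif (nat_lit 0) (nat_lit 17) (BT.br (nat_lit 0) (nat_lit 8) [nat_lit 7, nat_lit 9, nat_lit 11] (BT.kid (nat_lit 8) (nat_lit 36) (BT.and (nat_lit 16) (nat_lit 3) (BT.dif (nat_lit 0) (nat_lit 20) (BT.frm (nat_lit 3) (nat_lit 0x4144483f3f4913111b0105111e)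 (nat_lit 0x4144483f3f4913111b0105111e) [nat_lit 2, nat_lit 11, nat_lit 15, nat_lit 20] (BT.pln (nat_lit 0) (nat_lit 5) (BT.dif (nat_lit 2) (nat_lit 0) (BT.pln (nat_lit 2) (nat_lit 4) (BT.dif (nat_lit 1) (nat_lit 0) (BT.pln (nat_lit 4) (nat_lit 7) (BT.dif (nat_lit 1) (nat_lit 0) (BT.br (nat_lit 0) (nat_lit 210) [nat_lit 9, nat_lit 11] (BT.kid (nat_lit 210) (nat_lit 6) (BT.and (nat_lit 26) (nat_lit 2) (BT.dif (nat_lit 0) (nat_lit 7) (BT.frm (nat_lit 4) (nat_lit 0x4d504144483f3f4913111b0105111e) (nat_lit 0x4d504144483f3f4913111b0105111e) [nat_lit 2, nat_lit 12, nat_lit 21, nat_lit 25, nat_lit 30] (BT.pln (nat_lit 0) (nat_lit 7) (BT.and (nat_lit 2) (nat_lit 0) (BT.br (nat_lit 0) (nat_lit 273) [nat_lit 13] (BT.kid (nat_lit 273) (nat_lit 2) (BT.dif (nat_lit 38) (nat_lit 19) (BT.dif (nat_lit 0) (nat_lit 33) (BT.pln (nat_lit 22) (nat_lit 4) (BT.dif (nat_lit 1) (nat_lit 0) (BT.dif (nat_lit 0) (nat_lit 6) (BT.pln (nat_lit 8) (nat_lit 5) (BT.dif (nat_lit 1) (nat_lit 0) (BT.dif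 (nat_lit 0) (nat_lit 42) (BT.frm (nat_lit 5) (nat_lit 0x4d504144483f3f4913111b0105111e) (nat_lit 0x4d504144483f3f4913111b0105111e) [nat_lit 8, nat_lit 14, nat_lit 24, nat_lit 33, nat_lit 37, nat_lit 42] (BT.pln (nat_lit 0) (nat_lit 10) (BT.and (nat_lit 2) (nat_lit 0) (BT.br (nat_lit 0) (nat_lit 135) [nat_lit 15] (BT.kid (nat_lit 135) (nat_lit 1) (BT.one (nat_lit 6) (nat_lit 0x4d504144483f3f4913111b0105111e) (nat_lit 0x4d504144483f3f4913111b0105111e) [nat_lit 0, nat_lit 12, nat_lit 18, nat_lit 28, nat_lit 37, nat_lit 41, nat_lit 46]) BT.nil))))))))))))) BT.nil))))))) BT.nil))))))))))) BT.nil)))))))))) BT.nil)))))) BT.nil)))))) BT.nil)))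

theorem ot_c4_cnt : Cnt 351 (grp 351 o_O) [o_g142] [o_g142] 0 0 0 0 629856 :=
  BT.sound ot_c4_cnt_P Known.nil (t := ot_c4_cnt_t) (d := 0) (by decide +kernel)

theorem ot_c4_ge : 629856 ≤ Nat.card (grp 351 ot_c4_K) :=
  Ch.le_card_grp (k := 9) (L := (lab 351 9)) o_hn ot_c4_K_ok (c := (Ch.cons (nat_lit 25) [nat_lit 1] (Ch.cons (nat_lit 31) [nat_lit 3] (Ch.cons (nat_lit 43) [nat_lit 5] (Ch.cons (nat_lit 8) [nat_lit 7] (Ch.cons (nat_lit 210) [nat_lit 9, nat_lit 11] (Ch.cons (nat_lit 273) [nat_lit 13] (Ch.cons (nat_lit 135) [nat_lit 15] Ch.nil)))))))) (by decide +kernel)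

theorem ot_c4_eq : (grp 351 o_O) ⊓ Subgroup.centralizer {Net.toPerm 351 o_g142} = grp 351 ot_c4_K :=
  cent_eq ot_c4_sym ot_c4_cnt ot_c4_ge

theorem ot_c4_card : Nat.card ↥((grp 351 o_O) ⊓ Subgroup.centralizer {Net.toPerm 351 o_g142}) = 629856 :=
  card_cent ot_c4_sym ot_c4_cnt ot_c4_ge

theorem ot_c4_ord : orderOf (Net.toPerm 351 o_g142) = 3 :=
  orderOf_net o_hn o_hk o_g142_ok (by decide) (ps := [3]) (by set_option linter.unusedSimpArgs false in simp [Nat.primeFactorsList_ofNat]) (by decide +kernel)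

theorem o_le169 : grp 351 ot_c5_K ≤ grp 351 o_lb_E :=
  grp_le_of_memB o_hn o_hk o_lb_E_ok ot_c5_K_ok (ws := [nat_lit 0x4543313925281f2411192a012207, nat_lit 0x433b37271d241e1929012f, nat_lit 0x452f3921231d29111115010521, nat_lit 0x453b313921231e122801051f12, nat_lit 0x45313927261d1f1e121c011e, nat_lit 0x433b39282511161201212a, nat_lit 0x4331392825221d212011271f01051222, nat_lit 0x45432719011a24]) (by decide +kernel)

theorem ot_c5_le : grp 351 ot_c5_K ≤ (grp 351 o_O) :=
  (o_le169.trans o_T76_s0.le)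

theorem ot_c5_mem : Net.toPerm 351 o_g160 ∈ (grp 351 o_O) :=
  ot_c5_le (mem_grp_of_memB o_hn o_hk ot_c5_K_ok o_g160_ok (w := (nat_lit 2825)) (by decide +kernel))

theorem ot_c5_sym : Sym 351 (grp 351 o_O) [o_g160] ot_c5_K 0 :=
  Sym.of_lab o_hn o_hk (okE_cons.2 ⟨o_g160_ok, okE_nil _⟩) ot_c5_K_ok ot_c5_le (kT := 0) (by decide +kernel)

theorem o_le175 : grp 351 o_V174 ≤ grp 351 o_V114 :=
  grp_le_of_memB o_hn o_hk o_V114_ok o_V174_ok (ws := [nat_lit 0x231b1119080502, nat_lit 0x25231b17190501, nat_lit 0x25230f190103, nat_lit 0x251b0f19, nat_lit 4377]) (by decide +kernel)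

theorem o_T76_s24 : Stab 351 (grp 351 o_O) [nat_lit 60, nat_lit 14, nat_lit 3, nat_lit 0] o_V174 72 :=
  Stab.step (k := 9) (L := (lab 351 9)) o_hn o_T76_s9 o_V174_ok o_le175 (c := (Ch.cons (nat_lit 318) [nat_lit 1] (Ch.cons (nat_lit 126) [nat_lit 3] (Ch.cons (nat_lit 291) [nat_lit 5] (Ch.cons (nat_lit 347) [nat_lit 7] (Ch.cons (nat_lit 261) [nat_lit 9] Ch.nil)))))) (by decide +kernel)

theorem o_T76_s25 : Stab 351 (grp 351 o_O) [nat_lit 318, nat_lit 60, nat_lit 14, nat_lit 3, nat_lit 0] o_V176 24 :=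
  Stab.step (k := 9) (L := (lab 351 9)) o_hn o_T76_s24 o_V176_ok (grp_mono (List.subset_append_right [o_g170] _)) (c := (Ch.cons (nat_lit 126) [nat_lit 1] (Ch.cons (nat_lit 291) [nat_lit 3] (Ch.cons (nat_lit 347) [nat_lit 5] (Ch.cons (nat_lit 261) [nat_lit 7] Ch.nil))))) (by decide +kernel)

theorem o_T76_s26 : Stab 351 (grp 351 o_O) [nat_lit 126, nat_lit 318, nat_lit 60, nat_lit 14, nat_lit 3, nat_lit 0] o_V177 12 :=
  Stab.step (k := 9) (L := (lab 351 9)) o_hn o_T76_s25 o_V177_ok (grp_mono (List.subset_append_right [o_g171] _)) (c := (Ch.cons (nat_lit 291) [nat_lit 1] (Ch.cons (nat_lit 347) [nat_lit 3] (Ch.cons (nat_lit 261) [nat_lit 5] Ch.nil)))) (by decide +kernel)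

theorem o_T76_s27 : Stab 351 (grp 351 o_O) [nat_lit 291, nat_lit 126, nat_lit 318, nat_lit 60, nat_lit 14, nat_lit 3, nat_lit 0] o_V178 4 :=
  Stab.step (k := 9) (L := (lab 351 9)) o_hn o_T76_s26 o_V178_ok (grp_mono (List.subset_append_right [o_g172] _)) (c := (Ch.cons (nat_lit 347) [nat_lit 1] (Ch.cons (nat_lit 261) [nat_lit 3] Ch.nil))) (by decide +kernel)

theorem o_T76_s28 : Stab 351 (grp 351 o_O) [nat_lit 347, nat_lit 291, nat_lit 126, nat_lit 318, nat_lit 60, nat_lit 14, nat_lit 3, nat_lit 0] o_V179 2 :=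
  Stab.step (k := 9) (L := (lab 351 9)) o_hn o_T76_s27 o_V179_ok (grp_mono (List.subset_append_right [o_g173] _)) (c := (Ch.cons (nat_lit 261) [nat_lit 1] Ch.nil)) (by decide +kernel)

theorem o_T76_s29 : Stab 351 (grp 351 o_O) [nat_lit 261, nat_lit 347, nat_lit 291, nat_lit 126, nat_lit 318, nat_lit 60, nat_lit 14, nat_lit 3, nat_lit 0] o_V180 1 :=
  Stab.step (k := 9) (L := (lab 351 9)) o_hn o_T76_s28 o_V180_ok (grp_mono (List.subset_append_right [o_g111] _)) (c := Ch.nil) (by decide +kernel)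

theorem o_g171_o_T76 : Net.toPerm 351 o_g171 ∈ (grp 351 o_O) :=
  o_T76_s25.le (toPerm_mem_grp (E := o_V176) (List.Mem.head _))

theorem o_g172_o_T76 : Net.toPerm 351 o_g172 ∈ (grp 351 o_O) :=
  o_T76_s25.le (toPerm_mem_grp (E := o_V176) (List.Mem.tail _ (List.Mem.head _)))

theorem o_g173_o_T76 : Net.toPerm 351 o_g173 ∈ (grp 351 o_O) :=
  o_T76_s25.le (toPerm_mem_grp (E := o_V176) (List.Mem.tail _ (List.Mem.tail _ (List.Mem.head _))))

theorem o_g111_o_T76 : Net.toPerm 351 o_g111 ∈ (grp 351 o_O) :=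
  o_T76_s25.le (toPerm_mem_grp (E := o_V176) (List.Mem.tail _ (List.Mem.tail _ (List.Mem.tail _ (List.Mem.head _)))))

theorem o_g170_o_T76 : Net.toPerm 351 o_g170 ∈ (grp 351 o_O) :=
  o_T76_s24.le (toPerm_mem_grp (E := o_V174) (List.Mem.head _))

noncomputable def o_T76_s29_O : ℕ := (nat_lit 0x3fffffffffffffffffffffff8000000000000000000000000000000000000000000000000000000000000000000000000000000000000000ffffffffffffffffffffffffffffffff00000000000000000000000000000000fffffffe0000000000000001fffffffffffffffe0000000000000001fffffffffffffffe000000000000000000000003fffffffc00000003fffffffc00000003fffffffc00000003fffffffc00000003fffffffc00000003fff80007fff80007fff80007fff80007fff80007fff80007fff80007fff80007fff80007fff80007fff80007f00ff00ff00ff00ff00ff00ff00ff00ff00ff00ff00ff00ff00ff00ff00ff00ff00ff00ff00ff00ff00ff00e1e1e1e1e1e1e1e1e1e1e1e1e1e1e1e1e1e1e1e1e1e1e1e1e1e1e1e1e1e1e1e1e1e1e1e1e1e1e1e1e1e1e1e133333333333333333333333333333333333333333333333333333333333333333333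333333333333333333315555555555555555555555555555555555555555555555555555555555555555555555555555555555555550000000000000000000000000000000000000000000000000000000000000000000000000000000000000001000000000000000000000000000000000000000000000000000000000000000000000000000000000000001000000000000000000000000000000000000000000000000000000000000000000000000000000000000100000000000000000000000000000000000000000000000000000000000000000000000000008000000000000000000000040000000000000000000000000000000000000000000000000000000000000000000000000000000000000000000000000000000000000000000000000000000000000008000000000000000000000000000000000000000000000200000000000000000000000000000000000000000000000000000000000000000000000004000000000000000000000000000000000000000000000000000000000000000000000000000000000000000000000000000000000000200000000000000000000000000000000000000000000000000000000000000000)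

theorem o_T76_s29_F : Frame 351 (grp 351 o_O) 9 18 o_T76_s29_O 1 1 :=
  IsBase.frame o_T76_s29.isBase (by decide +kernel)

noncomputable def o_T76_s28_O : ℕ := (nat_lit 0x426080045a086e82655131b0223552608004da086e92655131b022353054026068203cb0cca4000000000001dffffffeffffffdfffffffffffffbb2effe64800000000000000000000000000000000000000017873441a839dca75dd05424136682b0000000089a200336fffffffffffffff772810a294561a280000000002f0e688350004400040d57b7d132f20727eee5153040066dbf7f36cd176723911abd6ba975300ac1a789ad385e1cd106a0ad131ffb3f2e6c2000353fff8000a6eff204d1d191d7ffca8008ffff3b8108821971ffe912018fffb80000019cb476903d1f278fa4627c80dd614ffb13a0171fa1bda062fc11dc608effdf05124ae6a192b01f708fd64403348ac2c8e3dfca92926c3619ad369b01b6be2d0ea6f49a6527338b1535ca53b83b873866170d339997607284394268a9b21e5331cde5592ba33731b2cb734de1ac5d18932b554d611735ce82726f4cd2a99556aa9b8a4c4000000000000000000000000000000000000000000000000000000000000000000000000000000000000000200000000000000000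000000000000000000000000000000000000000000000000000000000000000000000200000000000000000000000000000000000000000000000000000000000000000000000000000000000020000000000000000000000000000000000000000000000000000000000000000000000000001000000000000000000000008000000000000000000000000000000000000000000000000000000000000000000000000000000000000000000000000000000000000000000000000000000000000001000000000000000000000000000000000000000000000040000000000000000000000000000000000000000000000000000000000000000000000000800000000000000000000000000000000000000000000000000000000000000000000000000000000000000)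

theorem o_T76_s28_F : Frame 351 (grp 351 o_O) 8 16 o_T76_s28_O 0 1 :=
  Stab.frame o_hn o_T76_s28 (by decide +kernel)

noncomputable def o_T76_s27_O : ℕ := (nat_lit 0x40100088000c100082220600008040100098000c1200822204000000000000000000000000000000000000145a000406a3a3c198790be04ffed45a000406a3a3c198790be44fffcd100198018001000020000e00608000428c02398c6f4f83f1d717c09efd0000000000000000000000080002046b0c1034985e5cefd3c1dfbffd86e07bc7fb9c7f21ecec1c51d06ec201fdf77ff33f5e9c07e32a0f10000408d618204130bcb9dfa6033801820000b5c11718c45e04d4f2c99fbf840ab7d7f239b54286d03109c1bfdd8815eb016a515f7bf2a123016ef8d00001012dc0200abd87a9f103b17bb21759421bac82a6bbf9f113837fe4fc017984aba0c1aad83ca7e23c0e4c37057bb5fbd9ec430253cf8f1a8153ab0dea07f428357660c0ae668839e3f8e2a4ddc2dd784c76722666da086002b1e39f6036a4ea94af8fa96274996aa34855c6a2f394a38fa9634b27167ca53082ab6cecd4d36aa3ab1628800000000000000000000000000000000000000000000000000000000000000000000000000000000000000040000000000000000000000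000000000000000000000000000000000000000000000000000000000000000040000000000000000000000000000000000000000000000000000000000000000000000000000000000004000000000000000000000000000000000000000000000000000000000000000000000000000200000000000000000000001000000000000000000000000000000000000000000000000000000000000000000000000000000000000000000000000000000000000000000000000000000000000000200000000000000000000000000000000000000000000008000000000000000000000000000000000000000000000000000000000000000000000000)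

theorem o_T76_s27_F : Frame 351 (grp 351 o_O) 7 15 o_T76_s27_O 0 1 :=
  Stab.frame o_hn o_T76_s27 (by decide +kernel)

noncomputable def o_T76_s26_O : ℕ := (nat_lit 0x2acdcb0465046d922455143105bd6a85cb04fd00e09404111030000400400020010004000080013801820c00a6400028b515c5288b607760748c26d10029851c9e04cbca7f027ff6702824809e005063184c03100000180064caedc888ac08810684ae3bc908468502420b78ce470e78b6c4ab101308308084c252214e060cfdffec0707b42e2468fe8796ecdcdf0e815225ebf1fbd9395967d3cb875bf7a9f8041041010184a4429804112a324860086a1c40d400ccf4e78a5d6c112f28f280f1da08a6e4a7c10c8f00f3875ed8e59f06a30f6d0e57656f9f20dc0518d7210072a668120ee4df3f507bd611bce39d89b76d65b8e4e316c9a88acaecd7c650e85f7683e0830dd100000000000000000000000000000000000000000000000000000000000000000000000000000000000000008000000000000000000000000000000000000000000000000000000000000000000000000000000000000008000000000000000000000000000000000000000000000000000000000000000000000000000000000000800000000000000000000000000000000000000000000000000000000000000000000000000040000000000000000000000200000000000000000000000000000000000000000000000000000000000000000000000000000000000000000000000000000000000000000000000000000000000000040000000000000000000000000000000)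

theorem o_T76_s26_F : Frame 351 (grp 351 o_O) 6 12 o_T76_s26_O 0 1 :=
  Stab.frame o_hn o_T76_s26 (by decide +kernel)

noncomputable def o_T76_s24_O : ℕ := (nat_lit 0x400010480008000800020000000040001048000800080002584205202088101849124184a22406004340801458064d0224c51c2100f14340801458064d0224c51c2100f1495010310f0a0c070cc235b801820000245100098519c7288a6a6f627f1c245100098519c7288a6a6f627f1d08840840404129108302006c77661b80aaf72d9a94e3789b800c02981ce0aaf72d9a94e3789b800c02981ce3c5be09e7c1aad3fb0791d1d2080430014d3fdc832e59701b35c8d5c6d3914d3fdc832e59701b35c8d5c6d3906422f3333521b40a81d811720e93744000000000000000000000000000000000000000000000000000000000000000000000000000000000000000200000000000000000000000000000000000000000000000000000000000000000000000000000000000000200000000000000000000000000000000000000000000000000000000000000000000000000000000000020000000000000000000000000000000000000000000000000000000000000000000000000001000000000000000)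

theorem o_T76_s24_F : Frame 351 (grp 351 o_O) 4 9 o_T76_s24_O 0 1 :=
  Stab.frame o_hn o_T76_s24 (by decide +kernel)

noncomputable def ot_c5_cnt_L : List ℕ := [1, 2, o_T76_s1_O, 0, 0, 2, 5, o_T76_s8_O, 0, 0, 3, 10, o_T76_s9_O, 0, 0, 4, 9, o_T76_s24_O, 0, 0, 6, 12, o_T76_s26_O, 0, 0, 7, 15, o_T76_s27_O, 0, 0, 8, 16, o_T76_s28_O, 0, 0, 9, 18, o_T76_s29_O, 1, 0]

theorem ot_c5_cnt_P : Prob 351 9 (grp 351 o_O) ot_c5_cnt_EG [o_g160] [o_g160] ot_c5_K ot_c5_cnt_L 0 0 :=
  Sym.prob o_hn o_hk ot_c5_sym ot_c5_cnt_EG_ok (grp_cons_le o_b_o_T76 (grp_cons_le o_c_o_T76 (grp_cons_le o_d_o_T76 (grp_cons_le o_e_o_T76 (grp_cons_le o_f_o_T76 (grp_cons_le o_g_o_T76 (grp_cons_le o_h_o_T76 (grp_cons_le o_i_o_T76 (grp_cons_le o_g1_o_T76 (grp_cons_le o_g2_o_T76 (grp_cons_le o_g3_o_T76 (grp_cons_le o_g4_o_T76 (grp_cons_le o_g5_o_T76 (grp_cons_le o_g8_o_T76 (grp_cons_le o_g9_o_T76 (grp_cons_le o_g12_o_T76 (grp_cons_le o_g13_o_T76 (grp_cons_le o_g14_o_T76 (grp_cons_le o_g17_o_T76 (grp_cons_le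 o_g18_o_T76 (grp_cons_le o_g19_o_T76 (grp_cons_le o_g20_o_T76 (grp_cons_le o_g23_o_T76 (grp_cons_le o_g24_o_T76 (grp_cons_le o_g25_o_T76 (grp_cons_le o_g26_o_T76 (grp_cons_le o_g27_o_T76 (grp_cons_le o_g30_o_T76 (grp_cons_le o_g31_o_T76 (grp_cons_le o_g32_o_T76 (grp_cons_le o_g35_o_T76 (grp_cons_le o_g171_o_T76 (grp_cons_le o_g172_o_T76 (grp_cons_le o_g173_o_T76 (grp_cons_le o_g111_o_T76 (grp_cons_le o_g170_o_T76 (grp_nil_le _))))))))))))))))))))))))))))))))))))) (Frames.cons o_T76_s1_F (Frames.cons o_T76_s8_F (Frames.cons o_T76_s9_F (Frames.cons o_T76_s24_F (Frames.cons o_T76_s26_F (Frames.cons o_T76_s27_F (Frames.cons o_T76_s28_F (Frames.cons o_T76_s29_F Frames.nil)))))))) (okE_cons.2 ⟨o_g160_ok, okE_nil _⟩) _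

noncomputable def ot_c5_cnt_t : BT := (BT.fix (nat_lit 1) (BT.br (nat_lit 0) (nat_lit 12) [nat_lit 1, nat_lit 3] (BT.kid (nat_lit 12) (nat_lit 3888) (BT.frm (nat_lit 0) (nat_lit 276) (nat_lit 276) [nat_lit 0] (BT.pln (nat_lit 0) (nat_lit 1) (BT.and (nat_lit 3) (nat_lit 0) (BT.br (nat_lit 0) (nat_lit 184) [nat_lit 3, nat_lit 5, nat_lit 7] (BT.kid (nat_lit 184) (nat_lit 216) (BT.frm (nat_lit 1) (nat_lit 0x1117250114) (nat_lit 0x1117250114) [nat_lit 0, nat_lit 4] (BT.pln (nat_lit 0) (nat_lit 4) (BT.and (nat_lit 3) (nat_lit 0) (BT.br (nat_lit 0) (nat_lit 269) [nat_lit 5] (BT.kid (nat_lit 269) (nat_lit 72) (BT.and (nat_lit 9) (nat_lit 2) (BT.dif (nat_lit 0) (nat_lit 1) (BT.br (nat_lit 0) (nat_lit 285) [nat_lit 7] (BT.kid (nat_lit 285) (nat_lit 36) (BT.frm (nat_lit 2) (nat_lit 0x1b1e2b1117250114) (nat_lit 0x1b1e2b1117250114) [nat_lit 3, nat_lit 7, nat_lit 11] (BT.pln (nat_lit 0) (nat_lit 9) (BT.and (nat_lit 7) (nat_lit 0) (BT.frm (nat_lit 3) (nat_lit 0x251f1b1e2b1117250114)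 (nat_lit 0x251f1b1e2b1117250114) [nat_lit 3, nat_lit 6, nat_lit 10, nat_lit 14] (BT.pln (nat_lit 0) (nat_lit 4) (BT.dif (nat_lit 2) (nat_lit 0) (BT.br (nat_lit 0) (nat_lit 10) [nat_lit 9] (BT.kid (nat_lit 10) (nat_lit 12) (BT.dif (nat_lit 12) (nat_lit 2) (BT.pln (nat_lit 4) (nat_lit 5) (BT.dif (nat_lit 1) (nat_lit 0) (BT.dif (nat_lit 0) (nat_lit 22) (BT.img (nat_lit 1) (nat_lit 4) (BT.frm (nat_lit 4) (nat_lit 0x3f47251f1b1e2b1117250114) (nat_lit 0x3f47251f1b1e2b1117250114) [nat_lit 0, nat_lit 5, nat_lit 12, nat_lit 15, nat_lit 19, nat_lit 23] (BT.pln (nat_lit 0) (nat_lit 6) (BT.dif (nat_lit 3) (nat_lit 0) (BT.br (nat_lit 0) (nat_lit 108) [nat_lit 11] (BT.kid (nat_lit 108) (nat_lit 4) (BT.dif (nat_lit 31) (nat_lit 2) (BT.pln (nat_lit 4) (nat_lit 10) (BT.and (nat_lit 1) (nat_lit 0) (BT.pln (nat_lit 6) (nat_lit 9) (BT.and (nat_lit 1) (nat_lit 0) (BT.dif (nat_lit 0) (nat_lit 16) (BT.dif (nat_lit 0) (nat_lit 31) (BT.frm (nat_lit 5) (nat_lit 0x413f47251f1b1e2b1117250114)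 (nat_lit 0x413f47251f1b1e2b1117250114) [nat_lit 7, nat_lit 11, nat_lit 16, nat_lit 23, nat_lit 26, nat_lit 30, nat_lit 34] (BT.pln (nat_lit 0) (nat_lit 11) (BT.and (nat_lit 2) (nat_lit 0) (BT.br (nat_lit 0) (nat_lit 102) [nat_lit 13] (BT.kid (nat_lit 102) (nat_lit 2) (BT.dif (nat_lit 2) (nat_lit 22) (BT.and (nat_lit 0) (nat_lit 14) (BT.pln (nat_lit 16) (nat_lit 7) (BT.and (nat_lit 1) (nat_lit 0) (BT.pln (nat_lit 7) (nat_lit 8) (BT.and (nat_lit 1) (nat_lit 0) (BT.dif (nat_lit 0) (nat_lit 42) (BT.frm (nat_lit 6) (nat_lit 0x43413f47251f1b1e2b1117250114) (nat_lit 0x43413f47251f1b1e2b1117250114) [nat_lit 7, nat_lit 18, nat_lit 22, nat_lit 27, nat_lit 34, nat_lit 37, nat_lit 41, nat_lit 45] (BT.pln (nat_lit 0) (nat_lit 8) (BT.dif (nat_lit 2) (nat_lit 0) (BT.br (nat_lit 0) (nat_lit 43) [nat_lit 15] (BT.kid (nat_lit 43) (nat_lit 1) (BT.one (nat_lit 7) (nat_lit 0x43413f47251f1b1e2b1117250114) (nat_lit 0x43413f47251f1b1e2b1117250114) [nat_lit 0, nat_lit 11, nat_lit 22, nat_lit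 26, nat_lit 31, nat_lit 38, nat_lit 41, nat_lit 45, nat_lit 49]) BT.nil)))))))))))) BT.nil)))))))))))) BT.nil)))))))))) BT.nil)))))))) BT.nil)))) BT.nil))))) BT.nil))))) BT.nil)))

theorem ot_c5_cnt : Cnt 351 (grp 351 o_O) [o_g160] [o_g160] 0 0 0 0 174960 :=
  BT.sound ot_c5_cnt_P Known.nil (t := ot_c5_cnt_t) (d := 0) (by decide +kernel)

theorem ot_c5_ge : 174960 ≤ Nat.card (grp 351 ot_c5_K) :=
  Ch.le_card_grp (k := 9) (L := (lab 351 9)) o_hn ot_c5_K_ok (c := (Ch.cons (nat_lit 12) [nat_lit 1] (Ch.cons (nat_lit 184) [nat_lit 3] (Ch.cons (nat_lit 269) [nat_lit 5] (Ch.cons (nat_lit 285) [nat_lit 7] (Ch.cons (nat_lit 10) [nat_lit 9] (Ch.cons (nat_lit 108) [nat_lit 11] (Ch.cons (nat_lit 102) [nat_lit 13] (Ch.cons (nat_lit 43) [nat_lit 15] Ch.nil))))))))) (by decide +kernel)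

theorem ot_c5_eq : (grp 351 o_O) ⊓ Subgroup.centralizer {Net.toPerm 351 o_g160} = grp 351 ot_c5_K :=
  cent_eq ot_c5_sym ot_c5_cnt ot_c5_ge

theorem ot_c5_card : Nat.card ↥((grp 351 o_O) ⊓ Subgroup.centralizer {Net.toPerm 351 o_g160}) = 174960 :=
  card_cent ot_c5_sym ot_c5_cnt ot_c5_ge

theorem ot_c5_ord : orderOf (Net.toPerm 351 o_g160) = 3 :=
  orderOf_net o_hn o_hk o_g160_ok (by decide) (ps := [3]) (by set_option linter.unusedSimpArgs false in simp [Nat.primeFactorsList_ofNat]) (by decide +kernel)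

theorem o_le190 : grp 351 ot_c6_K ≤ grp 351 o_lb_E :=
  grp_le_of_memB o_hn o_hk o_lb_E_ok ot_c6_K_ok (ws := [nat_lit 0x4537392725281e12261101032d, nat_lit 0x311e2611203f012005, nat_lit 0x45433b31392725211d1921051f, nat_lit 0x45392825241f1927011a25, nat_lit 0x453b2f21241f23111529010515, nat_lit 0x453b2f39271d24193101, nat_lit 0x45433b31272124121701, nat_lit 0x45432f211f22051520]) (by decide +kernel)

theorem ot_c6_le : grp 351 ot_c6_K ≤ (grp 351 o_O) :=
  (o_le190.trans o_T76_s0.le)

theorem ot_c6_mem : Net.toPerm 351 o_g181 ∈ (grp 351 o_O) :=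
  ot_c6_le (mem_grp_of_memB o_hn o_hk ot_c6_K_ok o_g181_ok (w := (nat_lit 919560)) (by decide +kernel))

theorem ot_c6_sym : Sym 351 (grp 351 o_O) [o_g181] ot_c6_K 0 :=
  Sym.of_lab o_hn o_hk (okE_cons.2 ⟨o_g181_ok, okE_nil _⟩) ot_c6_K_ok ot_c6_le (kT := 0) (by decide +kernel)

theorem o_le197 : grp 351 o_V196 ≤ grp 351 o_V113 :=
  grp_le_of_memB o_hn o_hk o_V113_ok o_V196_ok (ws := [nat_lit 0x271f0c0a0206, nat_lit 0x291f1b1d0507010d05, nat_lit 0x1f0507010d05, nat_lit 0x1f130b0908010a, nat_lit 0x29151d0b0908010a]) (by decide +kernel)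

theorem o_T76_s30 : Stab 351 (grp 351 o_O) [nat_lit 38, nat_lit 3, nat_lit 0] o_V196 1296 :=
  Stab.step (k := 9) (L := (lab 351 9)) o_hn o_T76_s8 o_V196_ok o_le197 (c := (Ch.cons (nat_lit 41) [nat_lit 1] (Ch.cons (nat_lit 229) [nat_lit 3, nat_lit 5] (Ch.cons (nat_lit 326) [nat_lit 7] (Ch.cons (nat_lit 316) [nat_lit 9] Ch.nil))))) (by decide +kernel)

theorem o_T76_s31 : Stab 351 (grp 351 o_O) [nat_lit 41, nat_lit 38, nat_lit 3, nat_lit 0] o_V198 36 :=
  Stab.step (k := 9) (L := (lab 351 9)) o_hn o_T76_s30 o_V198_ok (grp_mono (List.subset_append_right [o_g191] _)) (c := (Ch.cons (nat_lit 229) [nat_lit 1, nat_lit 3] (Ch.cons (nat_lit 326) [nat_lit 5] (Ch.cons (nat_lit 316) [nat_lit 7] Ch.nil)))) (by decide +kernel)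

theorem o_T76_s32 : Stab 351 (grp 351 o_O) [nat_lit 229, nat_lit 41, nat_lit 38, nat_lit 3, nat_lit 0] o_V199 6 :=
  Stab.step (k := 9) (L := (lab 351 9)) o_hn o_T76_s31 o_V199_ok (grp_mono (List.subset_append_right [o_g192, o_g193] _)) (c := (Ch.cons (nat_lit 326) [nat_lit 1] (Ch.cons (nat_lit 316) [nat_lit 3] Ch.nil))) (by decide +kernel)

theorem o_T76_s33 : Stab 351 (grp 351 o_O) [nat_lit 326, nat_lit 229, nat_lit 41, nat_lit 38, nat_lit 3, nat_lit 0] o_V200 2 :=
  Stab.step (k := 9) (L := (lab 351 9)) o_hn o_T76_s32 o_V200_ok (grp_mono (List.subset_append_right [o_g194] _)) (c := (Ch.cons (nat_lit 316) [nat_lit 1] Ch.nil)) (by decide +kernel)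

theorem o_T76_s34 : Stab 351 (grp 351 o_O) [nat_lit 316, nat_lit 326, nat_lit 229, nat_lit 41, nat_lit 38, nat_lit 3, nat_lit 0] o_V201 1 :=
  Stab.step (k := 9) (L := (lab 351 9)) o_hn o_T76_s33 o_V201_ok (grp_mono (List.subset_append_right [o_g195] _)) (c := Ch.nil) (by decide +kernel)

theorem o_g191_o_T76 : Net.toPerm 351 o_g191 ∈ (grp 351 o_O) :=
  o_T76_s30.le (toPerm_mem_grp (E := o_V196) (List.Mem.head _))

theorem o_g192_o_T76 : Net.toPerm 351 o_g192 ∈ (grp 351 o_O) :=
  o_T76_s30.le (toPerm_mem_grp (E := o_V196) (List.Mem.tail _ (List.Mem.head _)))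

theorem o_g193_o_T76 : Net.toPerm 351 o_g193 ∈ (grp 351 o_O) :=
  o_T76_s30.le (toPerm_mem_grp (E := o_V196) (List.Mem.tail _ (List.Mem.tail _ (List.Mem.head _))))

theorem o_g194_o_T76 : Net.toPerm 351 o_g194 ∈ (grp 351 o_O) :=
  o_T76_s30.le (toPerm_mem_grp (E := o_V196) (List.Mem.tail _ (List.Mem.tail _ (List.Mem.tail _ (List.Mem.head _)))))

theorem o_g195_o_T76 : Net.toPerm 351 o_g195 ∈ (grp 351 o_O) :=
  o_T76_s30.le (toPerm_mem_grp (E := o_V196) (List.Mem.tail _ (List.Mem.tail _ (List.Mem.tail _ (List.Mem.tail _ (List.Mem.head _))))))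

noncomputable def o_T76_s34_O : ℕ := (nat_lit 0xfffffffffffffffffffffffe0000000000000000000000000000000000000000000000000000000000000000000000000000000000000003fffffffffffffffffffffffffffffffc00000000000000000000000000000003fffffff80000000000000007fffffffffffffff80000000000000007fffffffffffffff800000000000000000000000ffffffff00000000ffffffff00000000ffffffff00000000ffffffff00000000ffffffff00000000fffe0001fffe0001fffe0001fffe0001fffe0001fffe0001fffe0001fffe0001fffe0001fffe0001fffe0001fc03fc03fc03fc03fc03fc03fc03fc03fc03fc03fc03fc03fc03fc03fc03fc03fc03fc03fc03fc03fc03fc038787878787878787878787878787878787878787878787878787878787878787878787878787878787878784ccccccccccccccccccccccccccccccccccccccccccccccccccccccccccccccccccccccccccccccccccccccc555555555555555555555555555555555555555555555555555555555555555555555555555555555555555400000000000000000000000000000000000000000000000000000000000000000000000000000000000000040000000000000000000000000000000000000000000000000000000000000000000000000000000000000040000000000000000000000000000000000000000000000000000000000000000000000000000004000000000000000000000000000000000000000000000000000000000000000000000000000000000000004000000000000000000000000000000000000000080000000000000000000000000000000000000000000000000000000000000020000000000000000000000000000000000000000000000000000000000000000000000000000000000000000010000000000000000000000000000000000000000000000000000000000000000000000000000000)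

theorem o_T76_s34_F : Frame 351 (grp 351 o_O) 7 16 o_T76_s34_O 1 1 :=
  IsBase.frame o_T76_s34.isBase (by decide +kernel)

noncomputable def o_T76_s32_O : ℕ := (nat_lit 0x2020400000000400000000000000000000000000000000000000000000000000000000000000000000000000120f6288f5ff97effbffefffffff63079010c0000c00006402011003c1004006088402000058000000100080424020201400080000c804022006a051c5107fff3fdff7ffdfffffff8248833f1108c6ec1880000000000000889dc0432d7a5336a9ffb834400d00a38a00bf7e7336a9ffb13800001966b0811c2c300282f7eced1f6e0201d93ba1dedb8839528f201e1f9994a5c35e41ffb019728c001c0ff99e18cd60038258400401efc22620a3ff6a5b019cc2a2774b7de759072eccd692086af2e2078b3de1bd231fcce0250e13fec084c0080bc614783d45fc1e4ce14a1ac1eea687d94e4e7079ab01ee91c73512b4075a25c63879b1976a148a9af129f277c36b1061ce459d27fc6a4c69f9a5010ed7d094ba4d25f8ed4d56059afe8828c32cba5711dc7685ea4397368c74d11ca75a480000000000000000000000000000000000000000000000000000000000000000000000000000000000000001000000000000000000000000000000000000000000000000000000000000000000000000000000000000001000000000000000000000000000000000000000000000000000000000000000000000000000000100000000000000000000000000000000000000000000000000000000000000000000000000000000000000100000000000000000000000000000000000000002000000000000000000000000000000000000000000000000000000000)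

theorem o_T76_s32_F : Frame 351 (grp 351 o_O) 5 13 o_T76_s32_O 0 1 :=
  Stab.frame o_hn o_T76_s32 (by decide +kernel)

noncomputable def o_T76_s31_O : ℕ := (nat_lit 0x1010200000000300001900804400d010200000000300001900804400f26094018225208244d680060004802000000004003cc9b5fdc576e7709800000004003cc9b5fdc576e77098399ef7efe415bcfb6612fc003e10000023080090e08f00c7e01be07e2ccc23080090e08f00c7e01be07e2ccc346403f987a477f66cd803633bfdc08020df24303dec151b02f78362a46820df24303dec151b02f78362a469e6a146f3e958bd0181c8c23f77c47ec3643fb148460459806c100ffa3bff643fb148460459806c100ffa3bfed0e50b911f9c671b02f06c72ecac6c3037ff098e5ec447418afb746406d037ff098e5ec447418afb746406d6e23b8ed1274872e7d18e990794c4b26000000000000000000000000000000000000000000000000000000000000000000000000000000000000000200000000000000000000000000000000000000000000000000000000000000000000000000000000000000200000000000000000000000000000000000000000000000000000000000000000000000000000020000000000000000000000000000000000000000000000000000000000000000000000000000000000000020000000000)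

theorem o_T76_s31_F : Frame 351 (grp 351 o_O) 4 10 o_T76_s31_O 0 1 :=
  Stab.frame o_hn o_T76_s31 (by decide +kernel)

noncomputable def o_T76_s30_O : ℕ := (nat_lit 0x10000000000000000000000000000000000000000000000000000000000000000000000000000000000000000000000000000000004002000200000000004000020000000000020000000000400002000000000080000200010000020000000180000004000000000000400000000000001400000000000040000000000000120000200000010800000000008200000000100080000c020080020000000000100080000c020080020000001000000000000000000000030000400000000000000000000009008044008000000000000000000900804400822084000004200244c08000000000000100000060000040000880180002010000006000004000088018000200200010000002001040001000c0400010000000100800002100208002101000000010080000210020800210000400000000081088200004000009000040000014000404800002004040004000001400040480000200404000200000c000404008080000000008823240358c000000000000000000023240358c00000000000000000001040100180210080001601000000000000840008004340820040060006e400840008004340820040060006e402000600038000000000c181a324800000071200040010619a00800c800000071200040010619a00800c80000009008190034044000018008000322000000000000000000000000000000000000000000000000000000000000000000000000000000000000000040000000000000000000000000000000000000000000000000000000000000000000000000000000000000040000000000000000000000000000000000000000000000000000000000000000000000000000004000000000)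

theorem o_T76_s30_F : Frame 351 (grp 351 o_O) 3 15 o_T76_s30_O 0 1 :=
  Stab.frame o_hn o_T76_s30 (by decide +kernel)

noncomputable def ot_c6_cnt_L : List ℕ := [1, 2, o_T76_s1_O, 0, 0, 2, 5, o_T76_s8_O, 0, 0, 3, 15, o_T76_s30_O, 0, 0, 4, 10, o_T76_s31_O, 0, 0, 5, 13, o_T76_s32_O, 0, 0, 7, 16, o_T76_s34_O, 1, 0]

theorem ot_c6_cnt_P : Prob 351 9 (grp 351 o_O) ot_c6_cnt_EG [o_g181] [o_g181] ot_c6_K ot_c6_cnt_L 0 0 :=
  Sym.prob o_hn o_hk ot_c6_sym ot_c6_cnt_EG_ok (grp_cons_le o_b_o_T76 (grp_cons_le o_c_o_T76 (grp_cons_le o_d_o_T76 (grp_cons_le o_e_o_T76 (grp_cons_le o_f_o_T76 (grp_cons_le o_g_o_T76 (grp_cons_le o_h_o_T76 (grp_cons_le o_i_o_T76 (grp_cons_le o_g1_o_T76 (grp_cons_le o_g2_o_T76 (grp_cons_le o_g3_o_T76 (grp_cons_le o_g4_o_T76 (grp_cons_le o_g5_o_T76 (grp_cons_le o_g8_o_T76 (grp_cons_le o_g9_o_T76 (grp_cons_le o_g12_o_T76 (grp_cons_le o_g13_o_T76 (grp_cons_le o_g14_o_T76 (grp_cons_le o_g17_o_T76 (grp_cons_le o_g18_o_T76 (grp_cons_le o_g19_o_T76 (grp_cons_le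 o_g20_o_T76 (grp_cons_le o_g23_o_T76 (grp_cons_le o_g24_o_T76 (grp_cons_le o_g25_o_T76 (grp_cons_le o_g26_o_T76 (grp_cons_le o_g27_o_T76 (grp_cons_le o_g30_o_T76 (grp_cons_le o_g31_o_T76 (grp_cons_le o_g32_o_T76 (grp_cons_le o_g35_o_T76 (grp_cons_le o_g191_o_T76 (grp_cons_le o_g192_o_T76 (grp_cons_le o_g193_o_T76 (grp_cons_le o_g194_o_T76 (grp_cons_le o_g195_o_T76 (grp_nil_le _))))))))))))))))))))))))))))))))))))) (Frames.cons o_T76_s1_F (Frames.cons o_T76_s8_F (Frames.cons o_T76_s30_F (Frames.cons o_T76_s31_F (Frames.cons o_T76_s32_F (Frames.cons o_T76_s34_F Frames.nil)))))) (okE_cons.2 ⟨o_g181_ok, okE_nil _⟩) _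

noncomputable def ot_c6_cnt_t : BT := (BT.fix (nat_lit 1) (BT.br (nat_lit 0) (nat_lit 16) [nat_lit 1, nat_lit 3, nat_lit 5] (BT.kid (nat_lit 16) (nat_lit 3888) (BT.frm (nat_lit 0) (nat_lit 341253) (nat_lit 341253) [nat_lit 0] (BT.pln (nat_lit 0) (nat_lit 1) (BT.and (nat_lit 3) (nat_lit 0) (BT.br (nat_lit 0) (nat_lit 323) [nat_lit 3] (BT.kid (nat_lit 323) (nat_lit 432) (BT.frm (nat_lit 1) (nat_lit 0x1120053505) (nat_lit 0x1120053505) [nat_lit 0, nat_lit 4] (BT.pln (nat_lit 0) (nat_lit 2) (BT.and (nat_lit 7) (nat_lit 0) (BT.br (nat_lit 0) (nat_lit 39) [nat_lit 5] (BT.kid (nat_lit 39) (nat_lit 216) (BT.dif (nat_lit 12) (nat_lit 6) (BT.dif (nat_lit 0) (nat_lit 3) (BT.frm (nat_lit 2) (nat_lit 0x1d2a1120053505) (nat_lit 0x1d2a1120053505) [nat_lit 2, nat_lit 6, nat_lit 10] (BT.pln (nat_lit 0) (nat_lit 5) (BT.and (nat_lit 2) (nat_lit 0) (BT.dif (nat_lit 0) (nat_lit 14) (BT.br (nat_lit 0) (nat_lit 345) [nat_lit 7] (BT.dead (nat_lit 136) (BT.frm (nat_lit 3) (nat_lit 0x3f3f463f1d2a1120053505)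 (nat_lit 0x3f3f43401d2a1120053505) [nat_lit 0, nat_lit 7, nat_lit 11, nat_lit 15] (BT.pln (nat_lit 0) (nat_lit 5) (BT.img (nat_lit 1) (nat_lit 2) (BT.and (nat_lit 1) (nat_lit 0) (BT.cnt (nat_lit 0)))))) (BT.kid (nat_lit 345) (nat_lit 36) (BT.pln (nat_lit 4) (nat_lit 12) (BT.and (nat_lit 10) (nat_lit 0) (BT.frm (nat_lit 3) (nat_lit 0x3f3f463f1d2a1120053505) (nat_lit 0x3f3f463f1d2a1120053505) [nat_lit 2, nat_lit 9, nat_lit 13, nat_lit 17] (BT.pln (nat_lit 0) (nat_lit 5) (BT.dif (nat_lit 2) (nat_lit 0) (BT.br (nat_lit 0) (nat_lit 66) [nat_lit 9, nat_lit 11] (BT.kid (nat_lit 66) (nat_lit 6) (BT.dif (nat_lit 25) (nat_lit 2) (BT.pln (nat_lit 4) (nat_lit 7) (BT.and (nat_lit 1) (nat_lit 0) (BT.pln (nat_lit 6) (nat_lit 4) (BT.dif (nat_lit 1) (nat_lit 0) (BT.pln (nat_lit 8) (nat_lit 6) (BT.dif (nat_lit 1) (nat_lit 0) (BT.dif (nat_lit 0) (nat_lit 22) (BT.frm (nat_lit 4) (nat_lit 0x41443f3f463f1d2a1120053505) (nat_lit 0x41443f3f463f1d2a1120053505) [nat_lit 8, nat_lit 14, nat_lit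 21, nat_lit 25, nat_lit 29] (BT.pln (nat_lit 0) (nat_lit 8) (BT.dif (nat_lit 2) (nat_lit 0) (BT.br (nat_lit 0) (nat_lit 156) [nat_lit 13] (BT.kid (nat_lit 156) (nat_lit 2) (BT.dif (nat_lit 10) (nat_lit 8) (BT.dif (nat_lit 0) (nat_lit 15) (BT.dif (nat_lit 0) (nat_lit 8) (BT.dif (nat_lit 0) (nat_lit 5) (BT.dif (nat_lit 0) (nat_lit 31) (BT.dif (nat_lit 0) (nat_lit 5) (BT.br (nat_lit 0) (nat_lit 223) [nat_lit 15] (BT.kid (nat_lit 223) (nat_lit 1) (BT.one (nat_lit 5) (nat_lit 0x4741443f3f463f1d2a1120053505) (nat_lit 0x4741443f3f463f1d2a1120053505) [nat_lit 0, nat_lit 7, nat_lit 19, nat_lit 25, nat_lit 32, nat_lit 36, nat_lit 40]) BT.nil)))))))) BT.nil))))))))))))) BT.nil))))))) BT.nil))))))))) BT.nil))))) BT.nil))))) BT.nil)))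

theorem ot_c6_cnt : Cnt 351 (grp 351 o_O) [o_g181] [o_g181] 0 0 0 0 139968 :=
  BT.sound ot_c6_cnt_P Known.nil (t := ot_c6_cnt_t) (d := 0) (by decide +kernel)

theorem ot_c6_ge : 139968 ≤ Nat.card (grp 351 ot_c6_K) :=
  Ch.le_card_grp (k := 9) (L := (lab 351 9)) o_hn ot_c6_K_ok (c := (Ch.cons (nat_lit 16) [nat_lit 1] (Ch.cons (nat_lit 323) [nat_lit 3] (Ch.cons (nat_lit 39) [nat_lit 5] (Ch.cons (nat_lit 345) [nat_lit 7] (Ch.cons (nat_lit 66) [nat_lit 9, nat_lit 11] (Ch.cons (nat_lit 156) [nat_lit 13] (Ch.cons (nat_lit 223) [nat_lit 15] Ch.nil)))))))) (by decide +kernel)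

theorem ot_c6_eq : (grp 351 o_O) ⊓ Subgroup.centralizer {Net.toPerm 351 o_g181} = grp 351 ot_c6_K :=
  cent_eq ot_c6_sym ot_c6_cnt ot_c6_ge

theorem ot_c6_card : Nat.card ↥((grp 351 o_O) ⊓ Subgroup.centralizer {Net.toPerm 351 o_g181}) = 139968 :=
  card_cent ot_c6_sym ot_c6_cnt ot_c6_ge

theorem ot_c6_ord : orderOf (Net.toPerm 351 o_g181) = 3 :=
  orderOf_net o_hn o_hk o_g181_ok (by decide) (ps := [3]) (by set_option linter.unusedSimpArgs false in simp [Nat.primeFactorsList_ofNat]) (by decide +kernel)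

theorem o_le207 : grp 351 ot_c7_K ≤ grp 351 o_lb_E :=
  grp_le_of_memB o_hn o_hk o_lb_E_ok ot_c7_K_ok (ws := [nat_lit 0x454337391d201d111601232e, nat_lit 0x3b3127252d1e2f112e, nat_lit 0x3b2725221d26111923, nat_lit 0x45433b392825211d21111e]) (by decide +kernel)

theorem ot_c7_le : grp 351 ot_c7_K ≤ (grp 351 o_O) :=
  (o_le207.trans o_T76_s0.le)

theorem ot_c7_mem : Net.toPerm 351 o_g202 ∈ (grp 351 o_O) :=
  ot_c7_le (mem_grp_of_memB o_hn o_hk ot_c7_K_ok o_g202_ok (w := (nat_lit 0x801010802)) (by decide +kernel))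

theorem ot_c7_sym : Sym 351 (grp 351 o_O) [o_g202] ot_c7_K 0 :=
  Sym.of_lab o_hn o_hk (okE_cons.2 ⟨o_g202_ok, okE_nil _⟩) ot_c7_K_ok ot_c7_le (kT := 0) (by decide +kernel)

theorem o_le212 : grp 351 o_V211 ≤ grp 351 o_V97 :=
  grp_le_of_memB o_hn o_hk o_V97_ok o_V211_ok (ws := [nat_lit 0xb07090b0504, nat_lit 0x9080b01, nat_lit 461058]) (by decide +kernel)

theorem o_T76_s35 : Stab 351 (grp 351 o_O) [nat_lit 104, nat_lit 252, nat_lit 187, nat_lit 0] o_V211 36 :=
  Stab.step (k := 9) (L := (lab 351 9)) o_hn o_T76_s3 o_V211_ok o_le212 (c := (Ch.cons (nat_lit 196) [nat_lit 1, nat_lit 3] (Ch.cons (nat_lit 40) [nat_lit 5] Ch.nil))) (by decide +kernel)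

theorem o_T76_s36 : Stab 351 (grp 351 o_O) [nat_lit 196, nat_lit 104, nat_lit 252, nat_lit 187, nat_lit 0] o_V213 3 :=
  Stab.step (k := 9) (L := (lab 351 9)) o_hn o_T76_s35 o_V213_ok (grp_mono (List.subset_append_right [o_g208, o_g209] _)) (c := (Ch.cons (nat_lit 40) [nat_lit 1] Ch.nil)) (by decide +kernel)

theorem o_T76_s37 : Stab 351 (grp 351 o_O) [nat_lit 40, nat_lit 196, nat_lit 104, nat_lit 252, nat_lit 187, nat_lit 0] o_V214 1 :=
  Stab.step (k := 9) (L := (lab 351 9)) o_hn o_T76_s36 o_V214_ok (grp_mono (List.subset_append_right [o_g210] _)) (c := Ch.nil) (by decide +kernel)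

theorem o_g208_o_T76 : Net.toPerm 351 o_g208 ∈ (grp 351 o_O) :=
  o_T76_s35.le (toPerm_mem_grp (E := o_V211) (List.Mem.head _))

theorem o_g209_o_T76 : Net.toPerm 351 o_g209 ∈ (grp 351 o_O) :=
  o_T76_s35.le (toPerm_mem_grp (E := o_V211) (List.Mem.tail _ (List.Mem.head _)))

theorem o_g210_o_T76 : Net.toPerm 351 o_g210 ∈ (grp 351 o_O) :=
  o_T76_s35.le (toPerm_mem_grp (E := o_V211) (List.Mem.tail _ (List.Mem.tail _ (List.Mem.head _))))

noncomputable def o_T76_s37_O : ℕ := (nat_lit 0x1fffffffffffffffffffffffc0000000000000000000000000000000000000000000000000000000000000000000000000000000000000007fffffffffffffffffffffffffffffff800000000000000000000000000000007fffffff0000000000000000ffffffffffffffff0000000000000000ffffffffffffffff000000000000000000000001fffffffe00000001fffffffe00000001fffffffe00000001fffffffe00000001fffffffe00000001fffc0003fffc0003fffc0003fffc0003fffc0003fffc0003fffc0003fffc0003fffc0003fffc0003fffc0003f807f807f807f807f807f807f807f807f807f807f807f807f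807f807f807f807f807f807f807f807f807f8070f0f0f0f0f0f0f0f0f0f0f0f0f0f0f0f0f0f0f0f0f0f0f0f0f0f0f0f0f0f0f0f0f0f0f0f0f0f0f0f0f0f0f09999999999999999999999999999999999999999999999999999999999999999999999999999999999999998aaaaaaaaaaaaaaaaaaaaaaaaaaaaaaaaaaaaaaaaaaaaaaaaaaaaaaaaaaaaaaaaaaaaaaaaaaaaaaaaaaaaaaa80000000000000000000000000000000000000000000000000000000000000000000000000000000000000008000000000000000000000000000000000000000080000000000000000000000000000000000000000000000000000000000000000000000200000000000000000000000000000000000000000000000000000000000000000000000000000000000000000000000000000000000000000000000000004000000000000000000000000000000000000000000000000000000000000000080000000000000000000000000000000000000000000000000000000000000000000000000000000000000000000000000000000000000000000000000000010000000000)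

theorem o_T76_s37_F : Frame 351 (grp 351 o_O) 6 15 o_T76_s37_O 1 1 :=
  IsBase.frame o_T76_s37.isBase (by decide +kernel)

noncomputable def o_T76_s36_O : ℕ := (nat_lit 0x10000340202110000000000000000000000000000000000000000000000000000000000000000000000000070ff788642719ce6b34632fe0a707bfab9ee4e55ae60b20622f8be707b077c7be0c40001000100008040000159547f22c2758ad3bd7fcfe18c33415ec403e320194000002800020501f100aa0bde7dffbffffc010080000305020014ed24644542e0aa2f4797993dfbf55556bb8a581cfbe58ff110a207441ccfdffb8000047dfec00002c0a28c844ec88400e68f5462e77bd25d9fe1f0080e34ed9bea2a4805bfbe8000ff7fb008fe480cff027f8005aeea768818b5d47d06ff2ec15419f401de7c296ed834cfd1c397781bb600cac17e501f93e06e11c1e0f0bc12f4612af89cda9a0e8175232bc5d5aba2bb1bfa941f89a9c3d602ac0790f19853fa063cc336732e733199663fbd7889bd32ed2777f45494036e9b01842c7502dacb11a14fca4c140b8eba4c912d2b752555d572955aabaa0000000000000000000000000000000000000000000000000000000000000000000000000000000000000001000000000000000000000000000000000000000010000000000000000000000000000000000000000000000000000000000000000000000040000000000000000000000000000000000000000000000000000000000000000000000000000000000000000000000000000000000000000000000000000800000000000000000000000000000000000000000000000000000000000000010000000000000000000000000000000000000000000000000)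

theorem o_T76_s36_F : Frame 351 (grp 351 o_O) 5 13 o_T76_s36_O 0 1 :=
  Stab.frame o_hn o_T76_s36 (by decide +kernel)

noncomputable def ot_c7_cnt_L : List ℕ := [1, 2, o_T76_s1_O, 0, 0, 2, 7, o_T76_s2_O, 0, 0, 3, 8, o_T76_s3_O, 0, 0, 5, 13, o_T76_s36_O, 0, 0, 6, 15, o_T76_s37_O, 1, 0]

theorem ot_c7_cnt_P : Prob 351 9 (grp 351 o_O) ot_c7_cnt_EG [o_g202] [o_g202] ot_c7_K ot_c7_cnt_L 0 0 :=
  Sym.prob o_hn o_hk ot_c7_sym ot_c7_cnt_EG_ok (grp_cons_le o_b_o_T76 (grp_cons_le o_c_o_T76 (grp_cons_le o_d_o_T76 (grp_cons_le o_e_o_T76 (grp_cons_le o_f_o_T76 (grp_cons_le o_g_o_T76 (grp_cons_le o_h_o_T76 (grp_cons_le o_i_o_T76 (grp_cons_le o_g1_o_T76 (grp_cons_le o_g2_o_T76 (grp_cons_le o_g3_o_T76 (grp_cons_le o_g4_o_T76 (grp_cons_le o_g5_o_T76 (grp_cons_le o_g8_o_T76 (grp_cons_le o_g9_o_T76 (grp_cons_le o_g12_o_T76 (grp_cons_le o_g13_o_T76 (grp_cons_le o_g14_o_T76 (grp_cons_le o_g17_o_T76 (grp_cons_le o_g18_o_T76 (grp_cons_le o_g19_o_T76 (grp_cons_le o_g20_o_T76 (grp_cons_le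 o_g23_o_T76 (grp_cons_le o_g24_o_T76 (grp_cons_le o_g25_o_T76 (grp_cons_le o_g26_o_T76 (grp_cons_le o_g27_o_T76 (grp_cons_le o_g30_o_T76 (grp_cons_le o_g31_o_T76 (grp_cons_le o_g32_o_T76 (grp_cons_le o_g35_o_T76 (grp_cons_le o_g88_o_T76 (grp_cons_le o_g89_o_T76 (grp_cons_le o_g90_o_T76 (grp_cons_le o_g91_o_T76 (grp_cons_le o_g92_o_T76 (grp_cons_le o_g93_o_T76 (grp_cons_le o_g94_o_T76 (grp_cons_le o_g208_o_T76 (grp_cons_le o_g209_o_T76 (grp_cons_le o_g210_o_T76 (grp_nil_le _)))))))))))))))))))))))))))))))))))))))))) (Frames.cons o_T76_s1_F (Frames.cons o_T76_s2_F (Frames.cons o_T76_s3_F (Frames.cons o_T76_s36_F (Frames.cons o_T76_s37_F Frames.nil))))) (okE_cons.2 ⟨o_g202_ok, okE_nil _⟩) _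

noncomputable def ot_c7_cnt_t : BT := (BT.br (nat_lit 2) (nat_lit 0) [nat_lit 1, nat_lit 3] (BT.dead (nat_lit 2) (BT.frm (nat_lit 0) (nat_lit 0) (nat_lit 1287) [nat_lit 0] (BT.pln (nat_lit 0) (nat_lit 1) (BT.img (nat_lit 1) (nat_lit 2) (BT.and (nat_lit 1) (nat_lit 0) (BT.cnt (nat_lit 0)))))) (BT.kid (nat_lit 0) (nat_lit 162) (BT.img (nat_lit 1) (nat_lit 0) (BT.frm (nat_lit 1) (nat_lit 5143) (nat_lit 5143) [nat_lit 0, nat_lit 1] (BT.pln (nat_lit 0) (nat_lit 4) (BT.br (nat_lit 0) (nat_lit 4) [nat_lit 3, nat_lit 5] (BT.dead (nat_lit 214) (BT.frm (nat_lit 2) (nat_lit 0x40481417) (nat_lit 0x3f3f3f3f1417) [nat_lit 0, nat_lit 3, nat_lit 4] (BT.pln (nat_lit 0) (nat_lit 3) (BT.img (nat_lit 1) (nat_lit 2) (BT.and (nat_lit 1) (nat_lit 0) (BT.cnt (nat_lit 0)))))) (BT.dead (nat_lit 142) (BT.frm (nat_lit 2) (nat_lit 0x40481417) (nat_lit 0x3f443f3f1417) [nat_lit 0, nat_lit 3, nat_lit 4] (BT.pln (nat_lit 0) (nat_lit 3) (BT.img (nat_lit 1) (nat_lit 2) (BT.and (nat_lit 1) (nat_lit 0)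 (BT.cnt (nat_lit 0)))))) (BT.dead (nat_lit 141) (BT.frm (nat_lit 2) (nat_lit 0x40481417) (nat_lit 5143) [nat_lit 0, nat_lit 3, nat_lit 4] (BT.pln (nat_lit 0) (nat_lit 3) (BT.img (nat_lit 1) (nat_lit 2) (BT.and (nat_lit 1) (nat_lit 0) (BT.cnt (nat_lit 0)))))) (BT.kid (nat_lit 4) (nat_lit 3) (BT.frm (nat_lit 0) (nat_lit 0) (nat_lit 0) [nat_lit 4] (BT.pln (nat_lit 0) (nat_lit 1) (BT.frm (nat_lit 2) (nat_lit 0x40481417) (nat_lit 0x40481417) [nat_lit 2, nat_lit 5, nat_lit 6] (BT.pln (nat_lit 0) (nat_lit 5) (BT.and (nat_lit 2) (nat_lit 0) (BT.pln (nat_lit 2) (nat_lit 6) (BT.dif (nat_lit 1) (nat_lit 0) (BT.img (nat_lit 1) (nat_lit 7) (BT.img (nat_lit 1) (nat_lit 0) (BT.frm (nat_lit 3) (nat_lit 0x4f5241484a40481417) (nat_lit 0x4f5241484a40481417) [nat_lit 0, nat_lit 1, nat_lit 9, nat_lit 12, nat_lit 13] (BT.pln (nat_lit 0) (nat_lit 7) (BT.dif (nat_lit 4) (nat_lit 0) (BT.pln (nat_lit 2) (nat_lit 5) (BT.dif (nat_lit 1) (nat_lit 0) (BT.br (nat_lit 0) (nat_lit 3) [nat_lit 7] (BT.kid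 (nat_lit 3) (nat_lit 1) (BT.one (nat_lit 4) (nat_lit 0x4f5241484a40481417) (nat_lit 0x4f5241484a40481417) [nat_lit 0, nat_lit 6, nat_lit 7, nat_lit 15, nat_lit 18, nat_lit 19]) BT.nil)))))))))))))))) BT.nil)))))))) BT.nil)))

theorem ot_c7_cnt : Cnt 351 (grp 351 o_O) [o_g202] [o_g202] 0 0 0 0 17496 :=
  BT.sound ot_c7_cnt_P Known.nil (t := ot_c7_cnt_t) (d := 0) (by decide +kernel)

theorem ot_c7_ge : 17496 ≤ Nat.card (grp 351 ot_c7_K) :=
  Ch.le_card_grp (k := 9) (L := (lab 351 9)) o_hn ot_c7_K_ok (c := (Ch.cons (nat_lit 0) [nat_lit 1] (Ch.cons (nat_lit 4) [nat_lit 3, nat_lit 5] (Ch.cons (nat_lit 3) [nat_lit 7] Ch.nil)))) (by decide +kernel)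

theorem ot_c7_eq : (grp 351 o_O) ⊓ Subgroup.centralizer {Net.toPerm 351 o_g202} = grp 351 ot_c7_K :=
  cent_eq ot_c7_sym ot_c7_cnt ot_c7_ge

theorem ot_c7_card : Nat.card ↥((grp 351 o_O) ⊓ Subgroup.centralizer {Net.toPerm 351 o_g202}) = 17496 :=
  card_cent ot_c7_sym ot_c7_cnt ot_c7_ge

theorem ot_c7_ord : orderOf (Net.toPerm 351 o_g202) = 3 :=
  orderOf_net o_hn o_hk o_g202_ok (by decide) (ps := [3]) (by set_option linter.unusedSimpArgs false in simp [Nat.primeFactorsList_ofNat]) (by decide +kernel)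

theorem o_le220 : grp 351 ot_c8_K ≤ grp 351 o_lb_E :=
  grp_le_of_memB o_hn o_hk o_lb_E_ok ot_c8_K_ok (ws := [nat_lit 0x433739252d1d41111627011928, nat_lit 0x43271d281a, nat_lit 0x4531392825211d2520, nat_lit 0x453b313928253f1f21]) (by decide +kernel)

theorem ot_c8_le : grp 351 ot_c8_K ≤ (grp 351 o_O) :=
  (o_le220.trans o_T76_s0.le)

theorem ot_c8_mem : Net.toPerm 351 o_g215 ∈ (grp 351 o_O) :=
  ot_c8_le (mem_grp_of_memB o_hn o_hk ot_c8_K_ok o_g215_ok (w := (nat_lit 0x5030802070302)) (by decide +kernel))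

theorem ot_c8_sym : Sym 351 (grp 351 o_O) [o_g215] ot_c8_K 0 :=
  Sym.of_lab o_hn o_hk (okE_cons.2 ⟨o_g215_ok, okE_nil _⟩) ot_c8_K_ok ot_c8_le (kT := 0) (by decide +kernel)

theorem o_le223 : grp 351 o_V222 ≤ grp 351 o_V136 :=
  grp_le_of_memB o_hn o_hk o_V136_ok o_V222_ok (ws := [nat_lit 769, nat_lit 460035, nat_lit 7]) (by decide +kernel)

theorem o_T76_s38 : Stab 351 (grp 351 o_O) [nat_lit 143, nat_lit 155, nat_lit 16, nat_lit 14, nat_lit 3, nat_lit 0] o_V222 12 :=
  Stab.step (k := 9) (L := (lab 351 9)) o_hn o_T76_s15 o_V222_ok o_le223 (c := (Ch.cons (nat_lit 2) [nat_lit 1, nat_lit 3] (Ch.cons (nat_lit 283) [nat_lit 5] Ch.nil))) (by decide +kernel)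

theorem o_T76_s39 : Stab 351 (grp 351 o_O) [nat_lit 2, nat_lit 143, nat_lit 155, nat_lit 16, nat_lit 14, nat_lit 3, nat_lit 0] o_V224 3 :=
  Stab.step (k := 9) (L := (lab 351 9)) o_hn o_T76_s38 o_V224_ok (grp_mono (List.subset_append_right [o_g221, o_g13] _)) (c := (Ch.cons (nat_lit 283) [nat_lit 1] Ch.nil)) (by decide +kernel)

theorem o_T76_s40 : Stab 351 (grp 351 o_O) [nat_lit 283, nat_lit 2, nat_lit 143, nat_lit 155, nat_lit 16, nat_lit 14, nat_lit 3, nat_lit 0] o_V225 1 :=
  Stab.step (k := 9) (L := (lab 351 9)) o_hn o_T76_s39 o_V225_ok (grp_mono (List.subset_append_right [o_g135] _)) (c := Ch.nil) (by decide +kernel)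

theorem o_g221_o_T76 : Net.toPerm 351 o_g221 ∈ (grp 351 o_O) :=
  o_T76_s38.le (toPerm_mem_grp (E := o_V222) (List.Mem.head _))

noncomputable def o_T76_s40_O : ℕ := (nat_lit 0x7fffffffffffffffffffffff0000000000000000000000000000000000000000000000000000000000000000000000000000000000000001fffffffffffffffffffffffffffffffe00000000000000000000000000000001fffffffc0000000000000003fffffffffffffffc0000000000000003fffffffffffffffc000000000000000000000007fffffff800000007fffffff800000007fffffff800000007fffffff800000007fffffff800000007fff0000ffff0000ffff0000ffff0000ffff0000ffff0000ffff0000ffff0000ffff0000ffff0000ffff0000fe01fe01fe01fe01fe01fe01fe01fe01fe01fe01fe01fe01fe01fe01fe01fe01fe01fe01fe01fe01fe01fe01c3c3c3c3c3c3c3c3c3c3c3c3c3c3c3c3c3c3c3c3c3c3c3c3c3c3c3c3c3c3c3c3c3c3c3c3c3c3c3c3c3c3c3c26666666666666666666666666666666666666666666666666666666666666666666666666666666666666662aaaaaaaaaaaaaaaaaaaaaaaaaaaaaaaaaaaaaaaaaaaaaaaaaaaaaaaaaaaaaaaaaaaaaaaaaaaaaaaaaaaaaaa00000000000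0000000000000000000000000000000000000000000000000000000000000000000000000000200000000000000000000000000000000000000000000000000000000000000000000000000000000000000200000000000000000000000000000000000000000000000000000000000000000000000000000000000020000000000000000000000000000000000000000000000000000000000000000000000000000000000000010000000000000000000000000000000000000000000000000000100000000000000000000000000000000000000000000000000000000000000000000000000000000000000000020000000000000000000000000000000000000000000000000000000000000000000000000000000000000000000000000000000000000000000000000020000000000000000080000000000000000000000000000000000000000000000000000000000000000000000)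

theorem o_T76_s40_F : Frame 351 (grp 351 o_O) 8 17 o_T76_s40_O 1 1 :=
  IsBase.frame o_T76_s40.isBase (by decide +kernel)

noncomputable def o_T76_s39_O : ℕ := (nat_lit 0x1000821880000000000000000000000000000000000000000000027e4ffe6f8d9d35e77a7f416718177e0ffe47880808277b732133011127575ac4f8000000000000000011c897c17dd389f041b44002c6651e46003fa00030e9a00448f0e602c67421b1414a120f7bfffffffe0000002391207c445ecd0f908c59e44164c0044b83ffff5ffbc71391e1fc4eac085422a014ec1fefff300003fffc00000002dd0885027bf6ee6c3c642dc5c7b50cffcc0026903123c34082427037becbf99838cf0017b807f807fc8e44bbef0ff9db0550ae1e21ec77384fc811f07f211f18a75e09703c04268bd9684fe853c1d03e0f0f0f0f075e000648dcc64647a1f41f6d54a806d127259cf2bedae4c5c3b2d21e43d14dc19e1c4cf873587399999999ce23902bcd509bb886eb9934ad0971b2963d5e955c5305b43e94b54a2c4ba91c5a9327d5b5552ad4aaaaaaaa55268400000000000000000000000000000000000000000000000000000000000000000000000000000000000000040000000000000000000000000000000000000000000000000000000000000000000000000000000000000040000000000000000000000000000000000000000000000000000000000000000000000000000000000004000000000000000000000000000000000000000000000000000000000000000000000000000000000000002000000000000000000000000000000000000000000000000000020000000000000000000000000000000000000000000000000000000000000000000000000000000000000000004000000000000000000000000000000000000000000000000000000000000000000000000000000000000000000000000000000000000000000000000004)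

theorem o_T76_s39_F : Frame 351 (grp 351 o_O) 7 15 o_T76_s39_O 0 1 :=
  Stab.frame o_hn o_T76_s39 (by decide +kernel)

noncomputable def o_T76_s38_O : ℕ := (nat_lit 0x13008010c2264d3084971c1100c413008018c2470d491e9ccc48c0c4c940102007000001000201000184722c023000ed812d63000948604e5870023000ed8160f961092e106c38081957383328b5089c6783ecf738800002006dabac8240c21cc4233c9b4708324055b8011a351cdcb09d00b7ea10ae00660c28113c4b0fdc018ee437006dc0abb2c20906715820fb485e14095b54adc03b04f5419e01f657f1a18c528a99d0e7cbed1403d301ebf167e909576824d0e4e6fd003c915059357eae367b7d1288d13e72ee1c68aad851993cfe246800c7171e3a801c15e2d7e074a6663555a2dca5decec456b813cbb07433b307c0c3c02988733efae254b9f6e41b09a92746a05500000000000000000000000000000000000000000000000000000000000000000000000000000000000000008000000000000000000000000000000000000000000000000000000000000000000000000000000000000008000000000000000000000000000000000000000000000000000000000000000000000000000000000000800000000000000000000000000000000000000000000000000000000000000000000000000000000000000400000000000000000000000000000000000000000000000000004000000000000000000000000000000000000000000000000000000000000000000000000000000000000000000800000000000000000000000000000000000)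

theorem o_T76_s38_F : Frame 351 (grp 351 o_O) 6 12 o_T76_s38_O 0 1 :=
  Stab.frame o_hn o_T76_s38 (by decide +kernel)

noncomputable def ot_c8_cnt_L : List ℕ := [1, 2, o_T76_s1_O, 0, 0, 3, 10, o_T76_s9_O, 0, 0, 4, 20, o_T76_s10_O, 0, 0, 5, 11, o_T76_s15_O, 0, 0, 6, 12, o_T76_s38_O, 0, 0, 7, 15, o_T76_s39_O, 0, 0, 8, 17, o_T76_s40_O, 1, 0]

theorem ot_c8_cnt_P : Prob 351 9 (grp 351 o_O) ot_c8_cnt_EG [o_g215] [o_g215] ot_c8_K ot_c8_cnt_L 0 0 :=
  Sym.prob o_hn o_hk ot_c8_sym ot_c8_cnt_EG_ok (grp_cons_le o_b_o_T76 (grp_cons_le o_c_o_T76 (grp_cons_le o_d_o_T76 (grp_cons_le o_e_o_T76 (grp_cons_le o_f_o_T76 (grp_cons_le o_g_o_T76 (grp_cons_le o_h_o_T76 (grp_cons_le o_i_o_T76 (grp_cons_le o_g1_o_T76 (grp_cons_le o_g2_o_T76 (grp_cons_le o_g3_o_T76 (grp_cons_le o_g4_o_T76 (grp_cons_le o_g5_o_T76 (grp_cons_le o_g8_o_T76 (grp_cons_le o_g9_o_T76 (grp_cons_le o_g12_o_T76 (grp_cons_le o_g13_o_T76 (grp_cons_le o_g14_o_T76 (grp_cons_le o_g17_o_T76 (grp_cons_le o_g18_o_T76 (grp_cons_le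 o_g19_o_T76 (grp_cons_le o_g20_o_T76 (grp_cons_le o_g23_o_T76 (grp_cons_le o_g24_o_T76 (grp_cons_le o_g25_o_T76 (grp_cons_le o_g26_o_T76 (grp_cons_le o_g27_o_T76 (grp_cons_le o_g30_o_T76 (grp_cons_le o_g31_o_T76 (grp_cons_le o_g32_o_T76 (grp_cons_le o_g35_o_T76 (grp_cons_le o_g132_o_T76 (grp_cons_le o_g133_o_T76 (grp_cons_le o_g134_o_T76 (grp_cons_le o_g135_o_T76 (grp_cons_le o_g221_o_T76 (grp_nil_le _))))))))))))))))))))))))))))))))))))) (Frames.cons o_T76_s1_F (Frames.cons o_T76_s9_F (Frames.cons o_T76_s10_F (Frames.cons o_T76_s15_F (Frames.cons o_T76_s38_F (Frames.cons o_T76_s39_F (Frames.cons o_T76_s40_F Frames.nil))))))) (okE_cons.2 ⟨o_g215_ok, okE_nil _⟩) _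

noncomputable def ot_c8_cnt_t : BT := (BT.br (nat_lit 2) (nat_lit 0) [nat_lit 1, nat_lit 3] (BT.dead (nat_lit 2) (BT.frm (nat_lit 0) (nat_lit 0) (nat_lit 1287) [nat_lit 0] (BT.pln (nat_lit 0) (nat_lit 1) (BT.img (nat_lit 1) (nat_lit 2) (BT.and (nat_lit 1) (nat_lit 0) (BT.cnt (nat_lit 0)))))) (BT.kid (nat_lit 0) (nat_lit 72) (BT.img (nat_lit 1) (nat_lit 0) (BT.img (nat_lit 1) (nat_lit 0) (BT.frm (nat_lit 1) (nat_lit 0x1b1d1113) (nat_lit 0x1b1d1113) [nat_lit 0, nat_lit 1, nat_lit 2] (BT.pln (nat_lit 0) (nat_lit 9) (BT.br (nat_lit 0) (nat_lit 21) [nat_lit 3, nat_lit 7] (BT.kid (nat_lit 21) (nat_lit 6) (BT.frm (nat_lit 0) (nat_lit 0) (nat_lit 0) [nat_lit 5] (BT.pln (nat_lit 0) (nat_lit 1) (BT.frm (nat_lit 2) (nat_lit 0x233b1b1d1113) (nat_lit 0x233b1b1d1113) [nat_lit 2, nat_lit 5, nat_lit 6, nat_lit 7] (BT.pln (nat_lit 0) (nat_lit 16) (BT.and (nat_lit 2) (nat_lit 0) (BT.img (nat_lit 1) (nat_lit 5) (BT.frm (nat_lit 3) (nat_lit 0x33233b1b1d1113) (nat_lit 0x33233b1b1d1113)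 [nat_lit 0, nat_lit 6, nat_lit 9, nat_lit 10, nat_lit 11] (BT.pln (nat_lit 0) (nat_lit 6) (BT.dif (nat_lit 3) (nat_lit 0) (BT.br (nat_lit 0) (nat_lit 189) [nat_lit 5] (BT.kid (nat_lit 189) (nat_lit 3) (BT.dif (nat_lit 18) (nat_lit 2) (BT.pln (nat_lit 4) (nat_lit 5) (BT.and (nat_lit 1) (nat_lit 0) (BT.pln (nat_lit 6) (nat_lit 7) (BT.dif (nat_lit 1) (nat_lit 0) (BT.pln (nat_lit 8) (nat_lit 8) (BT.dif (nat_lit 1) (nat_lit 0) (BT.pln (nat_lit 10) (nat_lit 9) (BT.dif (nat_lit 1) (nat_lit 0) (BT.dif (nat_lit 0) (nat_lit 17) (BT.frm (nat_lit 4) (nat_lit 0x33233b1b1d1113) (nat_lit 0x33233b1b1d1113) [nat_lit 10, nat_lit 14, nat_lit 20, nat_lit 23, nat_lit 24, nat_lit 25] (BT.pln (nat_lit 0) (nat_lit 7) (BT.dif (nat_lit 2) (nat_lit 0) (BT.pln (nat_lit 20) (nat_lit 11) (BT.img (nat_lit 1) (nat_lit 0) (BT.and (nat_lit 0) (nat_lit 3) (BT.img (nat_lit 1) (nat_lit 0) (BT.dif (nat_lit 4) (nat_lit 0) (BT.pln (nat_lit 25) (nat_lit 14) (BT.pln (nat_lit 8) (nat_lit 6) (BT.and (nat_lit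 1) (nat_lit 0) (BT.img (nat_lit 1) (nat_lit 2) (BT.img (nat_lit 1) (nat_lit 0) (BT.dif (nat_lit 0) (nat_lit 3) (BT.and (nat_lit 2) (nat_lit 4) (BT.img (nat_lit 1) (nat_lit 0) (BT.and (nat_lit 2) (nat_lit 0) (BT.img (nat_lit 1) (nat_lit 0) (BT.and (nat_lit 7) (nat_lit 0) (BT.frm (nat_lit 5) (nat_lit 0x33233b1b1d1113) (nat_lit 0x33233b1b1d1113) [nat_lit 0, nat_lit 29, nat_lit 33, nat_lit 39, nat_lit 42, nat_lit 43, nat_lit 44] (BT.pln (nat_lit 0) (nat_lit 9) (BT.and (nat_lit 13) (nat_lit 0) (BT.br (nat_lit 0) (nat_lit 75) [nat_lit 7] (BT.kid (nat_lit 75) (nat_lit 1) (BT.one (nat_lit 6) (nat_lit 0x33233b1b1d1113) (nat_lit 0x33233b1b1d1113) [nat_lit 0, nat_lit 4, nat_lit 33, nat_lit 37, nat_lit 43, nat_lit 46, nat_lit 47, nat_lit 48]) BT.nil)))))))))))))))))))))))))))))))))) BT.nil))))))))))) BT.nil)))))) BT.nil)))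

theorem ot_c8_cnt : Cnt 351 (grp 351 o_O) [o_g215] [o_g215] 0 0 0 0 17496 :=
  BT.sound ot_c8_cnt_P Known.nil (t := ot_c8_cnt_t) (d := 0) (by decide +kernel)

theorem ot_c8_ge : 17496 ≤ Nat.card (grp 351 ot_c8_K) :=
  Ch.le_card_grp (k := 9) (L := (lab 351 9)) o_hn ot_c8_K_ok (c := (Ch.cons (nat_lit 0) [nat_lit 1] (Ch.cons (nat_lit 21) [nat_lit 3] (Ch.cons (nat_lit 189) [nat_lit 5] (Ch.cons (nat_lit 75) [nat_lit 7] Ch.nil))))) (by decide +kernel)

theorem ot_c8_eq : (grp 351 o_O) ⊓ Subgroup.centralizer {Net.toPerm 351 o_g215} = grp 351 ot_c8_K :=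
  cent_eq ot_c8_sym ot_c8_cnt ot_c8_ge

theorem ot_c8_card : Nat.card ↥((grp 351 o_O) ⊓ Subgroup.centralizer {Net.toPerm 351 o_g215}) = 17496 :=
  card_cent ot_c8_sym ot_c8_cnt ot_c8_ge

theorem ot_c8_ord : orderOf (Net.toPerm 351 o_g215) = 3 :=
  orderOf_net o_hn o_hk o_g215_ok (by decide) (ps := [3]) (by set_option linter.unusedSimpArgs false in simp [Nat.primeFactorsList_ofNat]) (by decide +kernel)

theorem o_le234 : grp 351 ot_c9_K ≤ grp 351 o_lb_E :=
  grp_le_of_memB o_hn o_hk o_lb_E_ok ot_c9_K_ok (ws := [nat_lit 0x433b3121241d26192a012b, nat_lit 0x433b2f3928251f21112412, nat_lit 0x45433b311d2411161d, nat_lit 0x45433b37392725221124, nat_lit 0x43281d3f1129, nat_lit 0x4528251d241a25, nat_lit 4369]) (by decide +kernel)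

theorem ot_c9_le : grp 351 ot_c9_K ≤ (grp 351 o_O) :=
  (o_le234.trans o_T76_s0.le)

theorem ot_c9_mem : Net.toPerm 351 o_g226 ∈ (grp 351 o_O) :=
  ot_c9_le (mem_grp_of_memB o_hn o_hk ot_c9_K_ok o_g226_ok (w := (nat_lit 0xc0d0709)) (by decide +kernel))

theorem ot_c9_sym : Sym 351 (grp 351 o_O) [o_g226] ot_c9_K 0 :=
  Sym.of_lab o_hn o_hk (okE_cons.2 ⟨o_g226_ok, okE_nil _⟩) ot_c9_K_ok ot_c9_le (kT := 0) (by decide +kernel)

noncomputable def o_T76_s5_O : ℕ := (nat_lit 0x2c14ca9104040c00c0400201504000002500208000000629480d0744021032db24000000040000000000027180d5e8dd8605e4f87323fb00574a4faa3400b0bac705130c4b45817493c9024934d1fb369003dae400000015040850b8730589b07dd6ba781c9adda00f7c9839a5e7e4f88208e2e81012941269a1edd50ef84223dec00ca81a098a7e234d5741877b78995959a6145a2264908178d6a4b8592cd4697e38425883a665f2bbcc66e0780a59dbf220eceb4c4f7b345c4aacf5822549cc5b908da2a71f2199078850ae19759caf4cf30a952e268eb0ca3580fab3595d831a58c986f340ce57e4a2ee5354801659cc335fb80b004d7ac16ec559e5e8b398e31b16555a0000000000000000000000000000000000000000000000000000000000000000000000000000000000000001000000000000000000000000000000000000000010000000000000000000000000000000000000000000000000000000000000000000000040000000000000000000000000000000000000000000000000000000000000000000000000000000000000000000000000000000000000000000000000000000000000000000000002000000080000000000000000000000000000000000000000000000000000000000000000000000000000000000000)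

theorem o_T76_s5_F : Frame 351 (grp 351 o_O) 5 11 o_T76_s5_O 0 1 :=
  Stab.frame o_hn o_T76_s5 (by decide +kernel)

noncomputable def ot_c9_cnt_L : List ℕ := [2, 7, o_T76_s2_O, 0, 0, 3, 8, o_T76_s3_O, 0, 0, 4, 10, o_T76_s4_O, 0, 0, 5, 11, o_T76_s5_O, 0, 0, 6, 14, o_T76_s6_O, 0, 0, 7, 16, o_T76_s7_O, 1, 0]

theorem ot_c9_cnt_P : Prob 351 9 (grp 351 o_O) ot_c9_cnt_EG [o_g226] [o_g226] ot_c9_K ot_c9_cnt_L 0 0 :=
  Sym.prob o_hn o_hk ot_c9_sym ot_c9_cnt_EG_ok (grp_cons_le o_g1_o_T76 (grp_cons_le o_g_o_T76 (grp_cons_le o_g2_o_T76 (grp_cons_le o_g3_o_T76 (grp_cons_le o_g4_o_T76 (grp_cons_le o_g5_o_T76 (grp_cons_le o_g8_o_T76 (grp_cons_le o_g9_o_T76 (grp_cons_le o_g12_o_T76 (grp_cons_le o_g13_o_T76 (grp_cons_le o_g14_o_T76 (grp_cons_le o_g17_o_T76 (grp_cons_le o_g18_o_T76 (grp_cons_le o_g19_o_T76 (grp_cons_le o_g20_o_T76 (grp_cons_le o_g23_o_T76 (grp_cons_le o_g24_o_T76 (grp_cons_le o_g25_o_T76 (grp_cons_le o_g26_o_T76 (grp_cons_le o_c_o_T76 (grp_cons_le o_g27_o_T76 (grp_cons_le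 o_g30_o_T76 (grp_cons_le o_g31_o_T76 (grp_cons_le o_g32_o_T76 (grp_cons_le o_g35_o_T76 (grp_cons_le o_b_o_T76 (grp_cons_le o_d_o_T76 (grp_cons_le o_e_o_T76 (grp_cons_le o_f_o_T76 (grp_cons_le o_h_o_T76 (grp_cons_le o_i_o_T76 (grp_cons_le o_g88_o_T76 (grp_cons_le o_g89_o_T76 (grp_cons_le o_g90_o_T76 (grp_cons_le o_g91_o_T76 (grp_cons_le o_g92_o_T76 (grp_cons_le o_g93_o_T76 (grp_cons_le o_g94_o_T76 (grp_nil_le _))))))))))))))))))))))))))))))))))))))) (Frames.cons o_T76_s2_F (Frames.cons o_T76_s3_F (Frames.cons o_T76_s4_F (Frames.cons o_T76_s5_F (Frames.cons o_T76_s6_F (Frames.cons o_T76_s7_F Frames.nil)))))) (okE_cons.2 ⟨o_g226_ok, okE_nil _⟩) _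

noncomputable def ot_c9_cnt_t : BT := (BT.fix (nat_lit 1) (BT.br (nat_lit 0) (nat_lit 0) [nat_lit 1, nat_lit 3] (BT.kid (nat_lit 0) (nat_lit 324) (BT.dif (nat_lit 1) (nat_lit 0) (BT.br (nat_lit 0) (nat_lit 30) [nat_lit 3, nat_lit 5] (BT.dead (nat_lit 185) (BT.frm (nat_lit 0) (nat_lit 28) (nat_lit 330255) [nat_lit 0, nat_lit 2] (BT.pln (nat_lit 0) (nat_lit 4) (BT.and (nat_lit 5) (nat_lit 0) (BT.br (nat_lit 0) (nat_lit 195) [nat_lit 590597] (BT.dead (nat_lit 195) (BT.pln (nat_lit 3) (nat_lit 5) (BT.frm (nat_lit 1) (nat_lit 0x40401c) (nat_lit 0x3f4a44050a0f) [nat_lit 1, nat_lit 5, nat_lit 7] (BT.pln (nat_lit 0) (nat_lit 3) (BT.and (nat_lit 2) (nat_lit 0) (BT.br (nat_lit 0) (nat_lit 240) [nat_lit 3337, nat_lit 2824] (BT.dead (nat_lit 169) (BT.frm (nat_lit 2) (nat_lit 0x4240401c) (nat_lit 0x41433f4a44050a0f) [nat_lit 0, nat_lit 5, nat_lit 9, nat_lit 11] (BT.pln (nat_lit 0) (nat_lit 4) (BT.img (nat_lit 1) (nat_lit 2) (BT.and (nat_lit 1) (nat_lit 0) (BT.cnt (nat_lit 0))))))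 BT.nil)))))) (BT.dead (nat_lit 196) (BT.pln (nat_lit 3) (nat_lit 5) (BT.frm (nat_lit 1) (nat_lit 0x40401c) (nat_lit 0x3f4144050a0f) [nat_lit 1, nat_lit 5, nat_lit 7] (BT.pln (nat_lit 0) (nat_lit 3) (BT.and (nat_lit 2) (nat_lit 0) (BT.br (nat_lit 0) (nat_lit 240) [nat_lit 10, nat_lit 724490] (BT.dead (nat_lit 169) (BT.frm (nat_lit 2) (nat_lit 0x4240401c) (nat_lit 0x42433f4144050a0f) [nat_lit 0, nat_lit 5, nat_lit 9, nat_lit 11] (BT.pln (nat_lit 0) (nat_lit 4) (BT.img (nat_lit 1) (nat_lit 2) (BT.and (nat_lit 1) (nat_lit 0) (BT.cnt (nat_lit 0)))))) BT.nil)))))) (BT.dead (nat_lit 187) (BT.pln (nat_lit 3) (nat_lit 5) (BT.frm (nat_lit 1) (nat_lit 0x40401c) (nat_lit 0x3f423f050a0f) [nat_lit 1, nat_lit 5, nat_lit 7] (BT.pln (nat_lit 0) (nat_lit 3) (BT.and (nat_lit 2) (nat_lit 0) (BT.br (nat_lit 0) (nat_lit 240) [nat_lit 1802, nat_lit 10] (BT.dead (nat_lit 129) (BT.frm (nat_lit 2) (nat_lit 0x4240401c) (nat_lit 0x41443f423f050a0f) [nat_lit 0, nat_lit 5, nat_lit 9, nat_lit 11]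 (BT.pln (nat_lit 0) (nat_lit 5) (BT.img (nat_lit 1) (nat_lit 2) (BT.and (nat_lit 1) (nat_lit 0) (BT.cnt (nat_lit 0)))))) BT.nil)))))) BT.nil))))))) (BT.dead (nat_lit 180) (BT.frm (nat_lit 0) (nat_lit 28) (nat_lit 27) [nat_lit 0, nat_lit 2] (BT.pln (nat_lit 0) (nat_lit 4) (BT.and (nat_lit 5) (nat_lit 0) (BT.br (nat_lit 0) (nat_lit 195) [nat_lit 3075] (BT.dead (nat_lit 186) (BT.pln (nat_lit 3) (nat_lit 5) (BT.frm (nat_lit 1) (nat_lit 0x40401c) (nat_lit 0x3f3f471b) [nat_lit 1, nat_lit 5, nat_lit 7] (BT.pln (nat_lit 0) (nat_lit 3) (BT.and (nat_lit 2) (nat_lit 0) (BT.br (nat_lit 0) (nat_lit 240) [nat_lit 2826, nat_lit 724232] (BT.dead (nat_lit 130) (BT.frm (nat_lit 2) (nat_lit 0x4240401c) (nat_lit 0x41443f3f471b) [nat_lit 0, nat_lit 5, nat_lit 9, nat_lit 11] (BT.pln (nat_lit 0) (nat_lit 5) (BT.img (nat_lit 1) (nat_lit 2) (BT.and (nat_lit 1) (nat_lit 0) (BT.cnt (nat_lit 0)))))) BT.nil)))))) (BT.dead (nat_lit 85) (BT.pln (nat_lit 3) (nat_lit 5) (BT.frm (nat_lit 1) (nat_lit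 0x40401c) (nat_lit 0x40401b) [nat_lit 1, nat_lit 5, nat_lit 7] (BT.pln (nat_lit 0) (nat_lit 3) (BT.and (nat_lit 2) (nat_lit 0) (BT.br (nat_lit 0) (nat_lit 240) [nat_lit 2826, nat_lit 919306] (BT.dead (nat_lit 164) (BT.frm (nat_lit 2) (nat_lit 0x4240401c) (nat_lit 0x414440401b) [nat_lit 0, nat_lit 5, nat_lit 9, nat_lit 11] (BT.pln (nat_lit 0) (nat_lit 4) (BT.img (nat_lit 1) (nat_lit 2) (BT.and (nat_lit 1) (nat_lit 0) (BT.cnt (nat_lit 0)))))) BT.nil)))))) (BT.dead (nat_lit 30) (BT.pln (nat_lit 3) (nat_lit 5) (BT.frm (nat_lit 1) (nat_lit 0x40401c) (nat_lit 0x3f441b) [nat_lit 1, nat_lit 5, nat_lit 7] (BT.pln (nat_lit 0) (nat_lit 3) (BT.and (nat_lit 2) (nat_lit 0) (BT.br (nat_lit 0) (nat_lit 240) [nat_lit 2830, nat_lit 790024] (BT.dead (nat_lit 155) (BT.frm (nat_lit 2) (nat_lit 0x4240401c) (nat_lit 0x413f441b) [nat_lit 0, nat_lit 5, nat_lit 9, nat_lit 11] (BT.pln (nat_lit 0) (nat_lit 4) (BT.img (nat_lit 1) (nat_lit 2) (BT.and (nat_lit 1) (nat_lit 0) (BT.cnt (nat_lit 0))))))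 BT.nil)))))) BT.nil))))))) (BT.kid (nat_lit 30) (nat_lit 81) (BT.frm (nat_lit 0) (nat_lit 28) (nat_lit 28) [nat_lit 0, nat_lit 2] (BT.pln (nat_lit 0) (nat_lit 4) (BT.and (nat_lit 5) (nat_lit 0) (BT.br (nat_lit 0) (nat_lit 195) [] (BT.dead (nat_lit 186) (BT.pln (nat_lit 3) (nat_lit 5) (BT.frm (nat_lit 1) (nat_lit 0x40401c) (nat_lit 0x3f3f471c) [nat_lit 1, nat_lit 5, nat_lit 7] (BT.pln (nat_lit 0) (nat_lit 3) (BT.and (nat_lit 2) (nat_lit 0) (BT.br (nat_lit 0) (nat_lit 240) [nat_lit 7, nat_lit 9] (BT.dead (nat_lit 240) (BT.dif (nat_lit 15) (nat_lit 2) (BT.pln (nat_lit 4) (nat_lit 4) (BT.dif (nat_lit 1) (nat_lit 0) (BT.dif (nat_lit 0) (nat_lit 7) (BT.pln (nat_lit 12) (nat_lit 2) (BT.dif (nat_lit 1) (nat_lit 0) (BT.frm (nat_lit 2) (nat_lit 0x4240401c) (nat_lit 0x433f3f471c) [nat_lit 6, nat_lit 11, nat_lit 15, nat_lit 17] (BT.pln (nat_lit 0) (nat_lit 7) (BT.and (nat_lit 2) (nat_lit 0) (BT.dif (nat_lit 0) (nat_lit 21) (BT.br (nat_lit 0) (nat_lit 52) [nat_lit 11] (BT.dead (nat_lit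 99) (BT.img (nat_lit 1) (nat_lit 11) (BT.frm (nat_lit 4) (nat_lit 0x47494240401c) (nat_lit 0x484b45433f3f471c) [nat_lit 1, nat_lit 0, nat_lit 12, nat_lit 17, nat_lit 21, nat_lit 23] (BT.pln (nat_lit 0) (nat_lit 6) (BT.img (nat_lit 1) (nat_lit 3) (BT.img (nat_lit 1) (nat_lit 0) (BT.and (nat_lit 2) (nat_lit 0) (BT.cnt (nat_lit 0)))))))) (BT.dead (nat_lit 125) (BT.img (nat_lit 1) (nat_lit 11) (BT.frm (nat_lit 4) (nat_lit 0x47494240401c) (nat_lit 0x474745433f3f471c) [nat_lit 1, nat_lit 0, nat_lit 12, nat_lit 17, nat_lit 21, nat_lit 23] (BT.pln (nat_lit 0) (nat_lit 6) (BT.img (nat_lit 1) (nat_lit 3) (BT.and (nat_lit 1) (nat_lit 0) (BT.cnt (nat_lit 0))))))) (BT.dead (nat_lit 98) (BT.img (nat_lit 1) (nat_lit 11) (BT.frm (nat_lit 4) (nat_lit 0x47494240401c) (nat_lit 0x4745433f3f471c) [nat_lit 1, nat_lit 0, nat_lit 12, nat_lit 17, nat_lit 21, nat_lit 23] (BT.pln (nat_lit 0) (nat_lit 6) (BT.img (nat_lit 1) (nat_lit 3) (BT.and (nat_lit 1) (nat_lit 0) (BT.cnt (nat_lit 0)))))))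 BT.nil)))))))))))))) BT.nil)))))) (BT.dead (nat_lit 180) (BT.pln (nat_lit 3) (nat_lit 5) (BT.frm (nat_lit 1) (nat_lit 0x40401c) (nat_lit 0x3f3f1c) [nat_lit 1, nat_lit 5, nat_lit 7] (BT.pln (nat_lit 0) (nat_lit 3) (BT.and (nat_lit 2) (nat_lit 0) (BT.br (nat_lit 0) (nat_lit 240) [nat_lit 7, nat_lit 9] (BT.dead (nat_lit 240) (BT.dif (nat_lit 15) (nat_lit 2) (BT.pln (nat_lit 4) (nat_lit 4) (BT.dif (nat_lit 1) (nat_lit 0) (BT.dif (nat_lit 0) (nat_lit 7) (BT.pln (nat_lit 12) (nat_lit 2) (BT.dif (nat_lit 1) (nat_lit 0) (BT.frm (nat_lit 2) (nat_lit 0x4240401c) (nat_lit 0x413f3f1c) [nat_lit 6, nat_lit 11, nat_lit 15, nat_lit 17] (BT.pln (nat_lit 0) (nat_lit 7) (BT.and (nat_lit 2) (nat_lit 0) (BT.dif (nat_lit 0) (nat_lit 21) (BT.br (nat_lit 0) (nat_lit 52) [nat_lit 11, nat_lit 13] (BT.dead (nat_lit 1) (BT.pln (nat_lit 19) (nat_lit 3) (BT.dif (nat_lit 0) (nat_lit 14) (BT.img (nat_lit 1) (nat_lit 13) (BT.frm (nat_lit 3) (nat_lit 0x4240401c) (nat_lit 0x413f3f1c) [nat_lit 0, nat_lit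 14, nat_lit 19, nat_lit 23, nat_lit 25] (BT.pln (nat_lit 0) (nat_lit 8) (BT.and (nat_lit 3) (nat_lit 0) (BT.frm (nat_lit 4) (nat_lit 0x47494240401c) (nat_lit 0x4747413f3f1c) [nat_lit 6, nat_lit 3, nat_lit 17, nat_lit 22, nat_lit 26, nat_lit 28] (BT.pln (nat_lit 0) (nat_lit 6) (BT.and (nat_lit 2) (nat_lit 0) (BT.pln (nat_lit 2) (nat_lit 9) (BT.and (nat_lit 8) (nat_lit 0) (BT.pln (nat_lit 4) (nat_lit 11) (BT.and (nat_lit 1) (nat_lit 0) (BT.img (nat_lit 1) (nat_lit 0) (BT.and (nat_lit 5) (nat_lit 0) (BT.img (nat_lit 1) (nat_lit 0) (BT.and (nat_lit 0) (nat_lit 8) (BT.cnt (nat_lit 0))))))))))))))))))) BT.nil)))))))))))) BT.nil)))))) (BT.dead (nat_lit 196) (BT.pln (nat_lit 3) (nat_lit 5) (BT.frm (nat_lit 1) (nat_lit 0x40401c) (nat_lit 0x3f44471c) [nat_lit 1, nat_lit 5, nat_lit 7] (BT.pln (nat_lit 0) (nat_lit 3) (BT.and (nat_lit 2) (nat_lit 0) (BT.br (nat_lit 0) (nat_lit 240) [nat_lit 7, nat_lit 13] (BT.dead (nat_lit 154) (BT.frm (nat_lit 2) (nat_lit 0x4240401c) (nat_lit 0x413f44471c)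 [nat_lit 0, nat_lit 5, nat_lit 9, nat_lit 11] (BT.pln (nat_lit 0) (nat_lit 5) (BT.img (nat_lit 1) (nat_lit 2) (BT.and (nat_lit 1) (nat_lit 0) (BT.cnt (nat_lit 0)))))) BT.nil)))))) (BT.dead (nat_lit 185) (BT.pln (nat_lit 3) (nat_lit 5) (BT.frm (nat_lit 1) (nat_lit 0x40401c) (nat_lit 0x3f44481c) [nat_lit 1, nat_lit 5, nat_lit 7] (BT.pln (nat_lit 0) (nat_lit 3) (BT.and (nat_lit 2) (nat_lit 0) (BT.br (nat_lit 0) (nat_lit 240) [nat_lit 7, nat_lit 13] (BT.dead (nat_lit 183) (BT.frm (nat_lit 2) (nat_lit 0x4240401c) (nat_lit 0x413f44481c) [nat_lit 0, nat_lit 5, nat_lit 9, nat_lit 11] (BT.pln (nat_lit 0) (nat_lit 4) (BT.img (nat_lit 1) (nat_lit 2) (BT.and (nat_lit 1) (nat_lit 0) (BT.cnt (nat_lit 0)))))) BT.nil)))))) (BT.dead (nat_lit 187) (BT.pln (nat_lit 3) (nat_lit 5) (BT.frm (nat_lit 1) (nat_lit 0x40401c) (nat_lit 0x3f441c) [nat_lit 1, nat_lit 5, nat_lit 7] (BT.pln (nat_lit 0) (nat_lit 3) (BT.and (nat_lit 2) (nat_lit 0) (BT.br (nat_lit 0) (nat_lit 240) [nat_lit 7, nat_lit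 13] (BT.dead (nat_lit 155) (BT.frm (nat_lit 2) (nat_lit 0x4240401c) (nat_lit 0x413f441c) [nat_lit 0, nat_lit 5, nat_lit 9, nat_lit 11] (BT.pln (nat_lit 0) (nat_lit 4) (BT.img (nat_lit 1) (nat_lit 2) (BT.and (nat_lit 1) (nat_lit 0) (BT.cnt (nat_lit 0)))))) BT.nil)))))) (BT.kid (nat_lit 195) (nat_lit 81) (BT.pln (nat_lit 3) (nat_lit 5) (BT.frm (nat_lit 1) (nat_lit 0x40401c) (nat_lit 0x40401c) [nat_lit 1, nat_lit 5, nat_lit 7] (BT.pln (nat_lit 0) (nat_lit 3) (BT.and (nat_lit 2) (nat_lit 0) (BT.br (nat_lit 0) (nat_lit 240) [nat_lit 7, nat_lit 9] (BT.kid (nat_lit 240) (nat_lit 9) (BT.dif (nat_lit 15) (nat_lit 2) (BT.pln (nat_lit 4) (nat_lit 4) (BT.dif (nat_lit 1) (nat_lit 0) (BT.dif (nat_lit 0) (nat_lit 7) (BT.pln (nat_lit 12) (nat_lit 2) (BT.dif (nat_lit 1) (nat_lit 0) (BT.frm (nat_lit 2) (nat_lit 0x4240401c) (nat_lit 0x4240401c) [nat_lit 6, nat_lit 11, nat_lit 15, nat_lit 17] (BT.pln (nat_lit 0) (nat_lit 7) (BT.and (nat_lit 2) (nat_lit 0) (BT.dif (nat_lit 0) (nat_lit 21)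 (BT.br (nat_lit 0) (nat_lit 52) [nat_lit 11, nat_lit 13] (BT.kid (nat_lit 52) (nat_lit 1) (BT.img (nat_lit 1) (nat_lit 0) (BT.img (nat_lit 1) (nat_lit 12) (BT.one (nat_lit 5) (nat_lit 0x4b47494240401c) (nat_lit 0x4b47494240401c) [nat_lit 1, nat_lit 2, nat_lit 0, nat_lit 13, nat_lit 18, nat_lit 22, nat_lit 24]))) BT.nil)))))))))))) BT.nil)))))) BT.nil)))))))))) BT.nil))))) BT.nil)))

theorem ot_c9_cnt : Cnt 351 (grp 351 o_O) [o_g226] [o_g226] 0 0 0 0 2916 :=
  BT.sound ot_c9_cnt_P Known.nil (t := ot_c9_cnt_t) (d := 0) (by decide +kernel)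

theorem ot_c9_ge : 2916 ≤ Nat.card (grp 351 ot_c9_K) :=
  Ch.le_card_grp (k := 9) (L := (lab 351 9)) o_hn ot_c9_K_ok (c := (Ch.cons (nat_lit 0) [nat_lit 1] (Ch.cons (nat_lit 30) [nat_lit 3, nat_lit 5] (Ch.cons (nat_lit 240) [nat_lit 7, nat_lit 9] (Ch.cons (nat_lit 52) [nat_lit 11, nat_lit 13] Ch.nil))))) (by decide +kernel)

theorem ot_c9_eq : (grp 351 o_O) ⊓ Subgroup.centralizer {Net.toPerm 351 o_g226} = grp 351 ot_c9_K :=
  cent_eq ot_c9_sym ot_c9_cnt ot_c9_ge

theorem ot_c9_card : Nat.card ↥((grp 351 o_O) ⊓ Subgroup.centralizer {Net.toPerm 351 o_g226}) = 2916 :=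
  card_cent ot_c9_sym ot_c9_cnt ot_c9_ge

theorem ot_c9_ord : orderOf (Net.toPerm 351 o_g226) = 3 :=
  orderOf_net o_hn o_hk o_g226_ok (by decide) (ps := [3]) (by set_option linter.unusedSimpArgs false in simp [Nat.primeFactorsList_ofNat]) (by decide +kernel)

theorem o_le239 : grp 351 ot_c10_K ≤ grp 351 o_lb_E :=
  grp_le_of_memB o_hn o_hk o_lb_E_ok ot_c10_K_ok (ws := [nat_lit 0x45433b373927211d25172201050d1f, nat_lit 0x45432f3927211d311a25, nat_lit 0x45433b37392725221124, nat_lit 0x453b2f271d291119]) (by decide +kernel)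

theorem ot_c10_le : grp 351 ot_c10_K ≤ (grp 351 o_O) :=
  (o_le239.trans o_T76_s0.le)

theorem ot_c10_mem : Net.toPerm 351 o_g235 ∈ (grp 351 o_O) :=
  ot_c10_le (mem_grp_of_memB o_hn o_hk ot_c10_K_ok o_g235_ok (w := (nat_lit 514)) (by decide +kernel))

theorem ot_c10_sym : Sym 351 (grp 351 o_O) [o_g235] ot_c10_K 0 :=
  Sym.of_lab o_hn o_hk (okE_cons.2 ⟨o_g235_ok, okE_nil _⟩) ot_c10_K_ok ot_c10_le (kT := 0) (by decide +kernel)

theorem o_le243 : grp 351 o_V242 ≤ grp 351 o_V211 :=
  grp_le_of_memB o_hn o_hk o_V211_ok o_V242_ok (ws := [nat_lit 393730, nat_lit 1537]) (by decide +kernel)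

theorem o_T76_s41 : Stab 351 (grp 351 o_O) [nat_lit 238, nat_lit 104, nat_lit 252, nat_lit 187, nat_lit 0] o_V242 6 :=
  Stab.step (k := 9) (L := (lab 351 9)) o_hn o_T76_s35 o_V242_ok o_le243 (c := (Ch.cons (nat_lit 310) [nat_lit 1] (Ch.cons (nat_lit 233) [nat_lit 3] Ch.nil))) (by decide +kernel)

theorem o_T76_s42 : Stab 351 (grp 351 o_O) [nat_lit 310, nat_lit 238, nat_lit 104, nat_lit 252, nat_lit 187, nat_lit 0] o_V244 2 :=
  Stab.step (k := 9) (L := (lab 351 9)) o_hn o_T76_s41 o_V244_ok (grp_mono (List.subset_append_right [o_g240] _)) (c := (Ch.cons (nat_lit 233) [nat_lit 1] Ch.nil)) (by decide +kernel)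

theorem o_T76_s43 : Stab 351 (grp 351 o_O) [nat_lit 233, nat_lit 310, nat_lit 238, nat_lit 104, nat_lit 252, nat_lit 187, nat_lit 0] o_V245 1 :=
  Stab.step (k := 9) (L := (lab 351 9)) o_hn o_T76_s42 o_V245_ok (grp_mono (List.subset_append_right [o_g241] _)) (c := Ch.nil) (by decide +kernel)

theorem o_g241_o_T76 : Net.toPerm 351 o_g241 ∈ (grp 351 o_O) :=
  o_T76_s42.le (toPerm_mem_grp (E := o_V244) (List.Mem.head _))

theorem o_g240_o_T76 : Net.toPerm 351 o_g240 ∈ (grp 351 o_O) :=
  o_T76_s41.le (toPerm_mem_grp (E := o_V242) (List.Mem.head _))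

noncomputable def o_T76_s43_O : ℕ := (nat_lit 0xfffffffffffffffffffffffe0000000000000000000000000000000000000000000000000000000000000000000000000000000000000003fffffffffffffffffffffffffffffffc00000000000000000000000000000003fffffff80000000000000007fffffffffffffff80000000000000007fffffffffffffff800000000000000000000000ffffffff00000000ffffffff00000000ffffffff00000000ffffffff00000000ffffffff00000000fffe0001fffe0001fffe0001fffe0001fffe0001fffe0001fffe0001fffe0001fffe0001fffe0001fffe0001fc03fc03fc03fc03fc03fc03fc03fc03fc03fc03fc03fc03fc03fc03fc03fc03fc03fc03fc03fc03fc03fc038787878787878787878787878787878787878787878787878787878787878787878787878787878787878784ccccccccccccccccccccccccccccccccccccccccccccccccccccccccccccccccccccccccccccccccccccccc555555555555555555555555555555555555555555555555555555555555555555555555555555555555555400000000000000000000000000000000000000000000000000000000000000000000000000000000000000040000000000000000000000000000000000000000400000000000000000000000000000000000000000000000000000000000000000000001000000000000000000000000000000000000000000000000000000000000000000000000000000000000000000000000000000000000000000000000000020000000000000000000000000000000000000000000000000000010000000000000000000000000000000000000000000000000000000000000000000002000000000000000000000000000000000000000000000000000000000000000000000000000000000000000000000000000000000020000000000000000000000000000000000000000000000000000000000)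

theorem o_T76_s43_F : Frame 351 (grp 351 o_O) 7 16 o_T76_s43_O 1 1 :=
  IsBase.frame o_T76_s43.isBase (by decide +kernel)

noncomputable def o_T76_s41_O : ℕ := (nat_lit 0x10040300000000000000000000000000000000000000000000000000000000000000000000000000000000020d94a0eea204d3190bf361605be1d862b1125d622d62544c991daf1cd11e051000000301000810004408000004001302487809a341244dc2e84a44568db3133001abc1014dc0204e3101baef4619f7c6375f1fe0000000012ad8a6589e745e476f48cd81de941187620ac378a2f891f82e8900881b01299aca1bf3081101c01fdb3fc078588e0d0161a72daad69e8c296614c09927c64ab35e6f059402f6d8a82008d73df9280141fd2b803fb4407e7c662d0dd7e141292940daee96b546d0653534b3881b3a472049f940af9411f7a0172f004ff42dd0fc44f0f12e2d37316d6731d9afdd2deb33e482c8c82b3a1f401c4a17aac30bd9364f01c81e2d19f197141718cf289999be85d33ad63151b9421d5e0e06454711f689a33c1c9f4f267b1dde42d4a526e831d6aa9d5da1ad294b98aaa0000000000000000000000000000000000000000000000000000000000000000000000000000000000000001000000000000000000000000000000000000000010000000000000000000000000000000000000000000000000000000000000000000000040000000000000000000000000000000000000000000000000000000000000000000000000000000000000000000000000000000000000000000000000000800000000000000000000000000000000000000000000000000000400000000000000000000000000000000000000000000000000000000000)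

theorem o_T76_s41_F : Frame 351 (grp 351 o_O) 5 13 o_T76_s41_O 0 1 :=
  Stab.frame o_hn o_T76_s41 (by decide +kernel)

noncomputable def o_T76_s35_O : ℕ := (nat_lit 0x2c1205a00c0900044123881c040640088006024000001000700000010c000144100400c0300a04001300000117ca43f243046de0fda9a180f7d23d0060e0222d1631103915cfbff064936513188668418e0030f3d88400004bb6a13d0e89dc080b703781e62024239c43f56e204fb4c41f4823c90e7c1533a28240a12bc5890007cfb80ed66e98c342699cb8616369c192d31c554f331b004bf36060782b4fada0ff24cb005c5e0206571dec069c8f3f1303cb4c5ad4aa82b570ca138cdb39c5bca161610bfe003897bc134b8e82770c38c7c1a71dbf11860d2699592b6590bb3144f21d354fc945da46da758057b01409daa6e477f757b90faab0d407419774372596eb1828aa000000000000000000000000000000000000000000000000000000000000000000000000000000000000000200000000000000000000000000000000000000002000000000000000000000000000000000000000000000000000000000000000000000008000000000000000000000000000000000000000000000000000000000000000000000000000000000000000000000000000000000000000000000000000100000000000000000000000000)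

theorem o_T76_s35_F : Frame 351 (grp 351 o_O) 4 10 o_T76_s35_O 0 1 :=
  Stab.frame o_hn o_T76_s35 (by decide +kernel)

noncomputable def ot_c10_cnt_L : List ℕ := [1, 2, o_T76_s1_O, 0, 0, 2, 7, o_T76_s2_O, 0, 0, 3, 8, o_T76_s3_O, 0, 0, 4, 10, o_T76_s35_O, 0, 0, 5, 13, o_T76_s41_O, 0, 0, 7, 16, o_T76_s43_O, 1, 0]

theorem ot_c10_cnt_P : Prob 351 9 (grp 351 o_O) ot_c10_cnt_EG [o_g235] [o_g235] ot_c10_K ot_c10_cnt_L 0 0 :=
  Sym.prob o_hn o_hk ot_c10_sym ot_c10_cnt_EG_ok (grp_cons_le o_b_o_T76 (grp_cons_le o_c_o_T76 (grp_cons_le o_d_o_T76 (grp_cons_le o_e_o_T76 (grp_cons_le o_f_o_T76 (grp_cons_le o_g_o_T76 (grp_cons_le o_h_o_T76 (grp_cons_le o_i_o_T76 (grp_cons_le o_g1_o_T76 (grp_cons_le o_g2_o_T76 (grp_cons_le o_g3_o_T76 (grp_cons_le o_g4_o_T76 (grp_cons_le o_g5_o_T76 (grp_cons_le o_g8_o_T76 (grp_cons_le o_g9_o_T76 (grp_cons_le o_g12_o_T76 (grp_cons_le o_g13_o_T76 (grp_cons_le o_g14_o_T76 (grp_cons_le o_g17_o_T76 (grp_cons_le o_g18_o_T76 (grp_cons_le o_g19_o_T76 (grp_cons_le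 o_g20_o_T76 (grp_cons_le o_g23_o_T76 (grp_cons_le o_g24_o_T76 (grp_cons_le o_g25_o_T76 (grp_cons_le o_g26_o_T76 (grp_cons_le o_g27_o_T76 (grp_cons_le o_g30_o_T76 (grp_cons_le o_g31_o_T76 (grp_cons_le o_g32_o_T76 (grp_cons_le o_g35_o_T76 (grp_cons_le o_g88_o_T76 (grp_cons_le o_g89_o_T76 (grp_cons_le o_g90_o_T76 (grp_cons_le o_g91_o_T76 (grp_cons_le o_g92_o_T76 (grp_cons_le o_g93_o_T76 (grp_cons_le o_g94_o_T76 (grp_cons_le o_g208_o_T76 (grp_cons_le o_g209_o_T76 (grp_cons_le o_g210_o_T76 (grp_cons_le o_g241_o_T76 (grp_cons_le o_g240_o_T76 (grp_nil_le _)))))))))))))))))))))))))))))))))))))))))))) (Frames.cons o_T76_s1_F (Frames.cons o_T76_s2_F (Frames.cons o_T76_s3_F (Frames.cons o_T76_s35_F (Frames.cons o_T76_s41_F (Frames.cons o_T76_s43_F Frames.nil)))))) (okE_cons.2 ⟨o_g235_ok, okE_nil _⟩) _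

noncomputable def ot_c10_cnt_t : BT := (BT.br (nat_lit 2) (nat_lit 0) [nat_lit 1, nat_lit 3, nat_lit 5] (BT.dead (nat_lit 16) (BT.img (nat_lit 1) (nat_lit 0) (BT.frm (nat_lit 1) (nat_lit 33) (nat_lit 0x151825053505) [nat_lit 0, nat_lit 1] (BT.pln (nat_lit 0) (nat_lit 4) (BT.br (nat_lit 0) (nat_lit 20) [nat_lit 0x70407060105, nat_lit 0x3010601] (BT.dead (nat_lit 153) (BT.frm (nat_lit 2) (nat_lit 0x3f3f434221) (nat_lit 0x3f3f4943151825053505) [nat_lit 0, nat_lit 3, nat_lit 4] (BT.pln (nat_lit 0) (nat_lit 5) (BT.img (nat_lit 1) (nat_lit 2) (BT.and (nat_lit 1) (nat_lit 0) (BT.cnt (nat_lit 0)))))) (BT.dead (nat_lit 154) (BT.frm (nat_lit 2) (nat_lit 0x3f3f434221) (nat_lit 0x3f47151825053505) [nat_lit 0, nat_lit 3, nat_lit 4] (BT.pln (nat_lit 0) (nat_lit 5) (BT.img (nat_lit 1) (nat_lit 2) (BT.and (nat_lit 1) (nat_lit 0) (BT.cnt (nat_lit 0)))))) (BT.dead (nat_lit 39) (BT.frm (nat_lit 2) (nat_lit 0x3f3f434221) (nat_lit 0x3f48151825053505) [nat_lit 0, nat_lit 3, nat_lit 4] (BT.pln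 (nat_lit 0) (nat_lit 5) (BT.img (nat_lit 1) (nat_lit 2) (BT.and (nat_lit 1) (nat_lit 0) (BT.cnt (nat_lit 0)))))) (BT.dead (nat_lit 46) (BT.frm (nat_lit 2) (nat_lit 0x3f3f434221) (nat_lit 0x3f151825053505) [nat_lit 0, nat_lit 3, nat_lit 4] (BT.pln (nat_lit 0) (nat_lit 3) (BT.img (nat_lit 1) (nat_lit 2) (BT.and (nat_lit 1) (nat_lit 0) (BT.cnt (nat_lit 0)))))) BT.nil)))))))) (BT.dead (nat_lit 21) (BT.frm (nat_lit 0) (nat_lit 0) (nat_lit 0x105111d) [nat_lit 0] (BT.pln (nat_lit 0) (nat_lit 1) (BT.img (nat_lit 1) (nat_lit 2) (BT.and (nat_lit 1) (nat_lit 0) (BT.cnt (nat_lit 0)))))) (BT.dead (nat_lit 20) (BT.frm (nat_lit 0) (nat_lit 0) (nat_lit 74010) [nat_lit 0] (BT.pln (nat_lit 0) (nat_lit 1) (BT.img (nat_lit 1) (nat_lit 0) (BT.dif (nat_lit 0) (nat_lit 1) (BT.img (nat_lit 1) (nat_lit 0) (BT.and (nat_lit 0) (nat_lit 3) (BT.cnt (nat_lit 0)))))))) (BT.dead (nat_lit 1) (BT.frm (nat_lit 0) (nat_lit 0) (nat_lit 5) [nat_lit 0] (BT.pln (nat_lit 0) (nat_lit 1) (BT.img (nat_lit 1)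 (nat_lit 0) (BT.dif (nat_lit 0) (nat_lit 1) (BT.img (nat_lit 1) (nat_lit 0) (BT.and (nat_lit 0) (nat_lit 3) (BT.cnt (nat_lit 0)))))))) (BT.kid (nat_lit 0) (nat_lit 81) (BT.img (nat_lit 1) (nat_lit 0) (BT.frm (nat_lit 1) (nat_lit 33) (nat_lit 33) [nat_lit 0, nat_lit 1] (BT.pln (nat_lit 0) (nat_lit 4) (BT.br (nat_lit 0) (nat_lit 20) [nat_lit 3, nat_lit 5, nat_lit 7] (BT.dead (nat_lit 186) (BT.frm (nat_lit 2) (nat_lit 0x3f3f434221) (nat_lit 0x3f444821) [nat_lit 0, nat_lit 3, nat_lit 4] (BT.pln (nat_lit 0) (nat_lit 5) (BT.img (nat_lit 1) (nat_lit 2) (BT.and (nat_lit 1) (nat_lit 0) (BT.cnt (nat_lit 0)))))) (BT.dead (nat_lit 185) (BT.frm (nat_lit 2) (nat_lit 0x3f3f434221) (nat_lit 0x3f3f4721) [nat_lit 0, nat_lit 3, nat_lit 4] (BT.pln (nat_lit 0) (nat_lit 5) (BT.img (nat_lit 1) (nat_lit 2) (BT.and (nat_lit 1) (nat_lit 0) (BT.cnt (nat_lit 0)))))) (BT.dead (nat_lit 180) (BT.frm (nat_lit 2) (nat_lit 0x3f3f434221) (nat_lit 0x3f444721) [nat_lit 0, nat_lit 3, nat_lit 4] (BT.pln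 (nat_lit 0) (nat_lit 5) (BT.img (nat_lit 1) (nat_lit 2) (BT.and (nat_lit 1) (nat_lit 0) (BT.cnt (nat_lit 0)))))) (BT.dead (nat_lit 196) (BT.frm (nat_lit 2) (nat_lit 0x3f3f434221) (nat_lit 0x3f3f21) [nat_lit 0, nat_lit 3, nat_lit 4] (BT.pln (nat_lit 0) (nat_lit 5) (BT.img (nat_lit 1) (nat_lit 2) (BT.and (nat_lit 1) (nat_lit 0) (BT.cnt (nat_lit 0)))))) (BT.dead (nat_lit 195) (BT.frm (nat_lit 2) (nat_lit 0x3f3f434221) (nat_lit 0x3f4421) [nat_lit 0, nat_lit 3, nat_lit 4] (BT.pln (nat_lit 0) (nat_lit 5) (BT.img (nat_lit 1) (nat_lit 2) (BT.and (nat_lit 1) (nat_lit 0) (BT.cnt (nat_lit 0)))))) (BT.dead (nat_lit 187) (BT.frm (nat_lit 2) (nat_lit 0x3f3f434221) (nat_lit 0x404021) [nat_lit 0, nat_lit 3, nat_lit 4] (BT.pln (nat_lit 0) (nat_lit 5) (BT.img (nat_lit 1) (nat_lit 2) (BT.and (nat_lit 1) (nat_lit 0) (BT.cnt (nat_lit 0)))))) (BT.dead (nat_lit 27) (BT.pln (nat_lit 2) (nat_lit 5) (BT.frm (nat_lit 2) (nat_lit 0x3f3f434221) (nat_lit 33) [nat_lit 1, nat_lit 4, nat_lit 5] (BT.pln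 (nat_lit 0) (nat_lit 5) (BT.and (nat_lit 2) (nat_lit 0) (BT.pln (nat_lit 2) (nat_lit 3) (BT.dif (nat_lit 1) (nat_lit 0) (BT.img (nat_lit 1) (nat_lit 0) (BT.and (nat_lit 1) (nat_lit 0) (BT.img (nat_lit 1) (nat_lit 0) (BT.and (nat_lit 0) (nat_lit 6) (BT.cnt (nat_lit 0)))))))))))) (BT.kid (nat_lit 20) (nat_lit 3) (BT.frm (nat_lit 0) (nat_lit 0) (nat_lit 0) [nat_lit 4] (BT.pln (nat_lit 0) (nat_lit 1) (BT.frm (nat_lit 2) (nat_lit 0x3f3f434221) (nat_lit 0x3f3f434221) [nat_lit 2, nat_lit 5, nat_lit 6] (BT.pln (nat_lit 0) (nat_lit 5) (BT.and (nat_lit 2) (nat_lit 0) (BT.pln (nat_lit 2) (nat_lit 6) (BT.dif (nat_lit 1) (nat_lit 0) (BT.and (nat_lit 8) (nat_lit 3) (BT.pln (nat_lit 5) (nat_lit 3) (BT.dif (nat_lit 1) (nat_lit 0) (BT.img (nat_lit 1) (nat_lit 0) (BT.and (nat_lit 12) (nat_lit 0) (BT.frm (nat_lit 3) (nat_lit 0x43493f3f434221) (nat_lit 0x43493f3f434221) [nat_lit 0, nat_lit 12, nat_lit 15, nat_lit 16] (BT.pln (nat_lit 0) (nat_lit 4) (BT.dif (nat_lit 7) (nat_lit 0) (BT.img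 (nat_lit 1) (nat_lit 15) (BT.img (nat_lit 1) (nat_lit 0) (BT.frm (nat_lit 4) (nat_lit 0x4d43493f3f434221) (nat_lit 0x4d43493f3f434221) [nat_lit 0, nat_lit 5, nat_lit 17, nat_lit 20, nat_lit 21] (BT.pln (nat_lit 0) (nat_lit 5) (BT.and (nat_lit 4) (nat_lit 0) (BT.pln (nat_lit 2) (nat_lit 8) (BT.and (nat_lit 1) (nat_lit 0) (BT.br (nat_lit 0) (nat_lit 188) [nat_lit 7] (BT.kid (nat_lit 188) (nat_lit 1) (BT.img (nat_lit 1) (nat_lit 0) (BT.one (nat_lit 5) (nat_lit 0x4d43493f3f434221) (nat_lit 0x4d43493f3f434221) [nat_lit 0, nat_lit 1, nat_lit 7, nat_lit 12, nat_lit 24, nat_lit 27, nat_lit 28])) BT.nil)))))))))))))))))))))))) BT.nil)))))))))))) BT.nil))))))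

theorem ot_c10_cnt : Cnt 351 (grp 351 o_O) [o_g235] [o_g235] 0 0 0 0 1458 :=
  BT.sound ot_c10_cnt_P Known.nil (t := ot_c10_cnt_t) (d := 0) (by decide +kernel)

theorem ot_c10_ge : 1458 ≤ Nat.card (grp 351 ot_c10_K) :=
  Ch.le_card_grp (k := 9) (L := (lab 351 9)) o_hn ot_c10_K_ok (c := (Ch.cons (nat_lit 0) [nat_lit 1] (Ch.cons (nat_lit 20) [nat_lit 3, nat_lit 5] (Ch.cons (nat_lit 188) [nat_lit 7] Ch.nil)))) (by decide +kernel)

theorem ot_c10_eq : (grp 351 o_O) ⊓ Subgroup.centralizer {Net.toPerm 351 o_g235} = grp 351 ot_c10_K :=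
  cent_eq ot_c10_sym ot_c10_cnt ot_c10_ge

theorem ot_c10_card : Nat.card ↥((grp 351 o_O) ⊓ Subgroup.centralizer {Net.toPerm 351 o_g235}) = 1458 :=
  card_cent ot_c10_sym ot_c10_cnt ot_c10_ge

theorem ot_c10_ord : orderOf (Net.toPerm 351 o_g235) = 3 :=
  orderOf_net o_hn o_hk o_g235_ok (by decide) (ps := [3]) (by set_option linter.unusedSimpArgs false in simp [Nat.primeFactorsList_ofNat]) (by decide +kernel)

theorem o_le253 : grp 351 ot_c11_K ≤ grp 351 o_lb_E :=
  grp_le_of_memB o_hn o_hk o_lb_E_ok ot_c11_K_ok (ws := [nat_lit 0x433b373925211e22112e1101051d22, nat_lit 0x4543373927252d1d1f3b112e11011d07, nat_lit 0x3b312725211e26112717011927, nat_lit 0x452721231e111924011925, nat_lit 0x43312821241d24192901212a, nat_lit 0x45433b2f3925281f1a1f01212a, nat_lit 0x433b37271d291119]) (by decide +kernel)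

theorem ot_c11_le : grp 351 ot_c11_K ≤ (grp 351 o_O) :=
  (o_le253.trans o_T76_s0.le)

theorem ot_c11_mem : Net.toPerm 351 o_g246 ∈ (grp 351 o_O) :=
  ot_c11_le (mem_grp_of_memB o_hn o_hk ot_c11_K_ok o_g246_ok (w := (nat_lit 0xd050303)) (by decide +kernel))

theorem ot_c11_sym : Sym 351 (grp 351 o_O) [o_g246] ot_c11_K 0 :=
  Sym.of_lab o_hn o_hk (okE_cons.2 ⟨o_g246_ok, okE_nil _⟩) ot_c11_K_ok ot_c11_le (kT := 0) (by decide +kernel)

noncomputable def ot_c11_cnt_L : List ℕ := [1, 2, o_T76_s1_O, 0, 0, 2, 5, o_T76_s8_O, 0, 0, 3, 10, o_T76_s9_O, 0, 0, 4, 20, o_T76_s10_O, 0, 0, 5, 11, o_T76_s11_O, 0, 0, 6, 13, o_T76_s12_O, 0, 0, 7, 15, o_T76_s13_O, 0, 0, 8, 17, o_T76_s14_O, 1, 0]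

theorem ot_c11_cnt_P : Prob 351 9 (grp 351 o_O) ot_c11_cnt_EG [o_g246] [o_g246] ot_c11_K ot_c11_cnt_L 0 0 :=
  Sym.prob o_hn o_hk ot_c11_sym ot_c11_cnt_EG_ok (grp_cons_le o_b_o_T76 (grp_cons_le o_c_o_T76 (grp_cons_le o_d_o_T76 (grp_cons_le o_e_o_T76 (grp_cons_le o_f_o_T76 (grp_cons_le o_g_o_T76 (grp_cons_le o_h_o_T76 (grp_cons_le o_i_o_T76 (grp_cons_le o_g1_o_T76 (grp_cons_le o_g2_o_T76 (grp_cons_le o_g3_o_T76 (grp_cons_le o_g4_o_T76 (grp_cons_le o_g5_o_T76 (grp_cons_le o_g8_o_T76 (grp_cons_le o_g9_o_T76 (grp_cons_le o_g12_o_T76 (grp_cons_le o_g13_o_T76 (grp_cons_le o_g14_o_T76 (grp_cons_le o_g17_o_T76 (grp_cons_le o_g18_o_T76 (grp_cons_le o_g19_o_T76 (grp_cons_le o_g20_o_T76 (grp_cons_le o_g23_o_T76 (grp_cons_le o_g24_o_T76 (grp_cons_le o_g25_o_T76 (grp_cons_le o_g26_o_T76 (grp_cons_le o_g27_o_T76 (grp_cons_le o_g30_o_T76 (grp_cons_le o_g31_o_T76 (grp_cons_le o_g32_o_T76 (grp_cons_le o_g35_o_T76 (grp_cons_le o_g117_o_T76 (grp_nil_le _)))))))))))))))))))))))))))))))))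 (Frames.cons o_T76_s1_F (Frames.cons o_T76_s8_F (Frames.cons o_T76_s9_F (Frames.cons o_T76_s10_F (Frames.cons o_T76_s11_F (Frames.cons o_T76_s12_F (Frames.cons o_T76_s13_F (Frames.cons o_T76_s14_F Frames.nil)))))))) (okE_cons.2 ⟨o_g246_ok, okE_nil _⟩) _

noncomputable def ot_c11_cnt_t : BT := (BT.fix (nat_lit 1) (BT.br (nat_lit 0) (nat_lit 15) [nat_lit 1, nat_lit 3] (BT.kid (nat_lit 15) (nat_lit 192) (BT.fix (nat_lit 257) (BT.frm (nat_lit 0) (nat_lit 0x1050d13) (nat_lit 0x1050d13) [nat_lit 1] (BT.pln (nat_lit 0) (nat_lit 1) (BT.and (nat_lit 2) (nat_lit 0) (BT.dif (nat_lit 0) (nat_lit 5) (BT.br (nat_lit 0) (nat_lit 313) [nat_lit 3, nat_lit 7] (BT.dead (nat_lit 43) (BT.frm (nat_lit 1) (nat_lit 0x121f01050d13) (nat_lit 0x111e1201050d13) [nat_lit 0, nat_lit 6] (BT.pln (nat_lit 0) (nat_lit 2) (BT.and (nat_lit 0) (nat_lit 9) (BT.cnt (nat_lit 0))))) (BT.kid (nat_lit 313) (nat_lit 32) (BT.img (nat_lit 1) (nat_lit 0) (BT.frm (nat_lit 2) (nat_lit 0x1d26121f01050d13) (nat_lit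 0x1d26121f01050d13) [nat_lit 0, nat_lit 1, nat_lit 7] (BT.pln (nat_lit 0) (nat_lit 9) (BT.and (nat_lit 4) (nat_lit 0) (BT.br (nat_lit 0) (nat_lit 43) [nat_lit 5] (BT.kid (nat_lit 43) (nat_lit 16) (BT.frm (nat_lit 3) (nat_lit 0x1f1d26121f01050d13) (nat_lit 0x1f1d26121f01050d13) [nat_lit 0, nat_lit 4, nat_lit 5, nat_lit 11] (BT.pln (nat_lit 0) (nat_lit 7) (BT.and (nat_lit 10) (nat_lit 0) (BT.frm (nat_lit 1) (nat_lit 0x121f01050d13) (nat_lit 0x121f01050d13) [nat_lit 8, nat_lit 14] (BT.pln (nat_lit 0) (nat_lit 4) (BT.and (nat_lit 15) (nat_lit 0) (BT.dif (nat_lit 0) (nat_lit 6) (BT.dif (nat_lit 0) (nat_lit 19) (BT.dif (nat_lit 0) (nat_lit 12) (BT.frm (nat_lit 4) (nat_lit 0x1f1d26121f01050d13) (nat_lit 0x1f1d26121f01050d13) [nat_lit 0, nat_lit 9, nat_lit 13, nat_lit 14, nat_lit 20] (BT.pln (nat_lit 0) (nat_lit 7) (BT.dif (nat_lit 8) (nat_lit 0) (BT.br (nat_lit 0) (nat_lit 187) [nat_lit 7] (BT.dead (nat_lit 58) (BT.frm (nat_lit 5) (nat_lit 0x351f1d26121f01050d13) (nat_lit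 0x35391f1d26121f01050d13) [nat_lit 0, nat_lit 4, nat_lit 13, nat_lit 17, nat_lit 18, nat_lit 24] (BT.pln (nat_lit 0) (nat_lit 6) (BT.img (nat_lit 1) (nat_lit 2) (BT.and (nat_lit 1) (nat_lit 0) (BT.cnt (nat_lit 0)))))) (BT.dead (nat_lit 181) (BT.frm (nat_lit 5) (nat_lit 0x351f1d26121f01050d13) (nat_lit 0x2d351f1d26121f01050d13) [nat_lit 0, nat_lit 4, nat_lit 13, nat_lit 17, nat_lit 18, nat_lit 24] (BT.pln (nat_lit 0) (nat_lit 6) (BT.and (nat_lit 0) (nat_lit 27) (BT.cnt (nat_lit 0))))) (BT.dead (nat_lit 296) (BT.frm (nat_lit 5) (nat_lit 0x351f1d26121f01050d13) (nat_lit 0x2d1f1d26121f01050d13) [nat_lit 0, nat_lit 4, nat_lit 13, nat_lit 17, nat_lit 18, nat_lit 24] (BT.pln (nat_lit 0) (nat_lit 6) (BT.and (nat_lit 0) (nat_lit 27) (BT.cnt (nat_lit 0))))) (BT.kid (nat_lit 187) (nat_lit 8) (BT.dif (nat_lit 15) (nat_lit 23) (BT.frm (nat_lit 5) (nat_lit 0x351f1d26121f01050d13) (nat_lit 0x351f1d26121f01050d13) [nat_lit 1, nat_lit 5, nat_lit 14, nat_lit 18, nat_lit 19, nat_lit 25]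 (BT.pln (nat_lit 0) (nat_lit 8) (BT.dif (nat_lit 2) (nat_lit 0) (BT.br (nat_lit 0) (nat_lit 249) [nat_lit 9, nat_lit 11] (BT.kid (nat_lit 249) (nat_lit 2) (BT.dif (nat_lit 33) (nat_lit 2) (BT.pln (nat_lit 4) (nat_lit 9) (BT.and (nat_lit 1) (nat_lit 0) (BT.pln (nat_lit 6) (nat_lit 6) (BT.dif (nat_lit 1) (nat_lit 0) (BT.pln (nat_lit 8) (nat_lit 7) (BT.dif (nat_lit 1) (nat_lit 0) (BT.dif (nat_lit 0) (nat_lit 33) (BT.pln (nat_lit 11) (nat_lit 11) (BT.dif (nat_lit 1) (nat_lit 0) (BT.pln (nat_lit 13) (nat_lit 12) (BT.dif (nat_lit 1) (nat_lit 0) (BT.frm (nat_lit 6) (nat_lit 0x351f1d26121f01050d13) (nat_lit 0x351f1d26121f01050d13) [nat_lit 12, nat_lit 17, nat_lit 21, nat_lit 30, nat_lit 34, nat_lit 35, nat_lit 41] (BT.pln (nat_lit 0) (nat_lit 7) (BT.dif (nat_lit 2) (nat_lit 0) (BT.pln (nat_lit 2) (nat_lit 9) (BT.dif (nat_lit 1) (nat_lit 0) (BT.br (nat_lit 0) (nat_lit 217) [nat_lit 13] (BT.kid (nat_lit 217) (nat_lit 1) (BT.one (nat_lit 7) (nat_lit 0x3351f1d26121f01050d13) (nat_lit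 0x3351f1d26121f01050d13) [nat_lit 0, nat_lit 18, nat_lit 23, nat_lit 27, nat_lit 36, nat_lit 40, nat_lit 41, nat_lit 47]) BT.nil))))))))))))))))))) BT.nil)))))) BT.nil))))))))))))))))) BT.nil)))))) BT.nil)))))))) BT.nil)))

theorem ot_c11_cnt : Cnt 351 (grp 351 o_O) [o_g246] [o_g246] 0 0 0 0 2880 :=
  BT.sound ot_c11_cnt_P Known.nil (t := ot_c11_cnt_t) (d := 0) (by decide +kernel)

theorem ot_c11_ge : 2880 ≤ Nat.card (grp 351 ot_c11_K) :=
  Ch.le_card_grp (k := 9) (L := (lab 351 9)) o_hn ot_c11_K_ok (c := (Ch.cons (nat_lit 15) [nat_lit 1] (Ch.cons (nat_lit 313) [nat_lit 3] (Ch.cons (nat_lit 43) [nat_lit 5] (Ch.cons (nat_lit 187) [nat_lit 7] (Ch.cons (nat_lit 249) [nat_lit 9, nat_lit 11] (Ch.cons (nat_lit 217) [nat_lit 13] Ch.nil))))))) (by decide +kernel)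

theorem ot_c11_eq : (grp 351 o_O) ⊓ Subgroup.centralizer {Net.toPerm 351 o_g246} = grp 351 ot_c11_K :=
  cent_eq ot_c11_sym ot_c11_cnt ot_c11_ge

theorem ot_c11_card : Nat.card ↥((grp 351 o_O) ⊓ Subgroup.centralizer {Net.toPerm 351 o_g246}) = 2880 :=
  card_cent ot_c11_sym ot_c11_cnt ot_c11_ge

theorem ot_c11_ord : orderOf (Net.toPerm 351 o_g246) = 4 :=
  orderOf_net o_hn o_hk o_g246_ok (by decide) (ps := [2]) (by set_option linter.unusedSimpArgs false in simp [Nat.primeFactorsList_ofNat]) (by decide +kernel)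

theorem o_le262 : grp 351 ot_c12_K ≤ grp 351 o_lb_E :=
  grp_le_of_memB o_hn o_hk o_lb_E_ok ot_c12_K_ok (ws := [nat_lit 0x3921241e221a20011f0f, nat_lit 0x2725211d31112117010515, nat_lit 0x431e2f1a0119, nat_lit 0x3b2f211d201d111117012f01, nat_lit 0x453b3739211f1d111501311f, nat_lit 0x454319011a3d, nat_lit 0x433b392725281d23111929]) (by decide +kernel)

theorem ot_c12_le : grp 351 ot_c12_K ≤ (grp 351 o_O) :=
  (o_le262.trans o_T76_s0.le)

theorem ot_c12_mem : Net.toPerm 351 o_g254 ∈ (grp 351 o_O) :=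
  ot_c12_le (mem_grp_of_memB o_hn o_hk ot_c12_K_ok o_g254_ok (w := (nat_lit 0xd07050d050d05)) (by decide +kernel))

theorem ot_c12_sym : Sym 351 (grp 351 o_O) [o_g254] ot_c12_K 0 :=
  Sym.of_lab o_hn o_hk (okE_cons.2 ⟨o_g254_ok, okE_nil _⟩) ot_c12_K_ok ot_c12_le (kT := 0) (by decide +kernel)

theorem o_le264 : grp 351 o_V263 ≤ grp 351 o_V118 :=
  grp_le_of_memB o_hn o_hk o_V118_ok o_V263_ok (ws := [nat_lit 1, nat_lit 327939]) (by decide +kernel)

theorem o_T76_s44 : Stab 351 (grp 351 o_O) [nat_lit 64, nat_lit 78, nat_lit 22, nat_lit 16, nat_lit 14, nat_lit 3, nat_lit 0] o_V263 4 :=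
  Stab.step (k := 9) (L := (lab 351 9)) o_hn o_T76_s12 o_V263_ok o_le264 (c := (Ch.cons (nat_lit 132) [nat_lit 1] (Ch.cons (nat_lit 10) [nat_lit 3] Ch.nil))) (by decide +kernel)

theorem o_T76_s45 : Stab 351 (grp 351 o_O) [nat_lit 132, nat_lit 64, nat_lit 78, nat_lit 22, nat_lit 16, nat_lit 14, nat_lit 3, nat_lit 0] o_V265 2 :=
  Stab.step (k := 9) (L := (lab 351 9)) o_hn o_T76_s44 o_V265_ok (grp_mono (List.subset_append_right [o_g] _)) (c := (Ch.cons (nat_lit 10) [nat_lit 1] Ch.nil)) (by decide +kernel)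

theorem o_T76_s46 : Stab 351 (grp 351 o_O) [nat_lit 10, nat_lit 132, nat_lit 64, nat_lit 78, nat_lit 22, nat_lit 16, nat_lit 14, nat_lit 3, nat_lit 0] o_V266 1 :=
  Stab.step (k := 9) (L := (lab 351 9)) o_hn o_T76_s45 o_V266_ok (grp_mono (List.subset_append_right [o_g30] _)) (c := Ch.nil) (by decide +kernel)

noncomputable def o_T76_s46_O : ℕ := (nat_lit 0x3fffffffffffffffffffffff8000000000000000000000000000000000000000000000000000000000000000000000000000000000000000ffffffffffffffffffffffffffffffff00000000000000000000000000000000fffffffe0000000000000001fffffffffffffffe0000000000000001fffffffffffffffe000000000000000000000003fffffffc00000003fffffffc00000003fffffffc00000003fffffffc00000003fffffffc00000003fff80007fff80007fff80007fff80007fff80007fff80007fff80007fff80007fff80007fff80007fff80007f00ff00ff00ff00ff00ff00ff00ff00ff00ff00ff00ff00ff00ff00ff00ff00ff00ff00ff00ff00ff00ff00e1e1e1e1e1e1e1e1e1e1e1e1e1e1e1e1e1e1e1e1e1e1e1e1e1e1e1e1e1e1e1e1e1e1e1e1e1e1e1e1e1e1e1e13333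3333333333333333333333333333333333333333333333333333333333333333333333333333333333315555555555555555555555555555555555555555555555555555555555555555555555555555555555555550000000000000000000000000000000000000000000000000000000000000000000000000000000000000001000000000000000000000000000000000000000000000000000000000000000000000000000000000000001000000000000000000000000000000000000000000000000000000000000000000000000000000000000100000000000000000000000000000000000000000000000000000000000000000000000000000000000000080000000000000000000000000000000000000000000000000000000000000000000000000000000000000400000000000000000000000000000000000000000000000000000000000000000000000008000000000000000000000000000000000000000000000000000000000000000000000000000000000000000000400000000000000000000000000000000000000000000000000000000000000000000008000000000000000000000000000000000000000000000000000000000000000000000000000000000000000000000000000000000000000000000400)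

theorem o_T76_s46_F : Frame 351 (grp 351 o_O) 9 18 o_T76_s46_O 1 1 :=
  IsBase.frame o_T76_s46.isBase (by decide +kernel)

noncomputable def o_T76_s44_O : ℕ := (nat_lit 0x10843de840020a4f89c1040000000000181f0019876b800c104803cd83ce181f0019876b800c104803cd83ce1e060027372bca400000068000411c8b703e88370ff78400000000000000703e88370ff7840000000000000001e3081091a00240d8fbefffffbebff67f602d81801074f9df3f8f360e007f602d81801074f9df3f8f360e0087e5ff6123400481a1b3dff80104722c313ccbece02089f7b2c0fd930270313ccbece02089f7b2c0fd930271bd7600246e20ade362ef340fc6baf0007a708907360113f99f61c6d1c6e07a708907360113f99f61c6d1c6e0001be22f8be95237e1917e1e74801fb78cd6b16c63c2ad9d31334b534b278cd6b16c63c2ad9d31334b534b24bac634bb5f89126cb0b2e33093e239053d736bac925a56554355553555253d736bac925a565543555535552f3b2b5a792894e29641d53554665268800000000000000000000000000000000000000000000000000000000000000000000000000000000000000040000000000000000000000000000000000000000000000000000000000000000000000000000000000000040000000000000000000000000000000000000000000000000000000000000000000000000000000000004000000000000000000000000000000000000000000000000000000000000000000000000000000000000002000000000000000000000000000000000000000000000000000000000000000000000000000000000000010000000000000000000000000000000000000000000000000000000000000000000000000200000000000000000000000000000000000000000000000000000000000000000000000000000000000000000010000000000000000)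

theorem o_T76_s44_F : Frame 351 (grp 351 o_O) 7 15 o_T76_s44_O 0 1 :=
  Stab.frame o_hn o_T76_s44 (by decide +kernel)

noncomputable def ot_c12_cnt_L : List ℕ := [1, 2, o_T76_s1_O, 0, 0, 4, 20, o_T76_s10_O, 0, 0, 6, 13, o_T76_s12_O, 0, 0, 7, 15, o_T76_s44_O, 0, 0, 9, 18, o_T76_s46_O, 1, 0]

theorem ot_c12_cnt_P : Prob 351 9 (grp 351 o_O) ot_c12_cnt_EG [o_g254] [o_g254] ot_c12_K ot_c12_cnt_L 0 0 :=
  Sym.prob o_hn o_hk ot_c12_sym ot_c12_cnt_EG_ok (grp_cons_le o_b_o_T76 (grp_cons_le o_c_o_T76 (grp_cons_le o_d_o_T76 (grp_cons_le o_e_o_T76 (grp_cons_le o_f_o_T76 (grp_cons_le o_g_o_T76 (grp_cons_le o_h_o_T76 (grp_cons_le o_i_o_T76 (grp_cons_le o_g1_o_T76 (grp_cons_le o_g2_o_T76 (grp_cons_le o_g3_o_T76 (grp_cons_le o_g4_o_T76 (grp_cons_le o_g5_o_T76 (grp_cons_le o_g8_o_T76 (grp_cons_le o_g9_o_T76 (grp_cons_le o_g12_o_T76 (grp_cons_le o_g13_o_T76 (grp_cons_le o_g14_o_T76 (grp_cons_le o_g17_o_T76 (grp_cons_le o_g18_o_T76 (grp_cons_le o_g19_o_T76 (grp_cons_le o_g20_o_T76 (grp_cons_le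 o_g23_o_T76 (grp_cons_le o_g24_o_T76 (grp_cons_le o_g25_o_T76 (grp_cons_le o_g26_o_T76 (grp_cons_le o_g27_o_T76 (grp_cons_le o_g30_o_T76 (grp_cons_le o_g31_o_T76 (grp_cons_le o_g32_o_T76 (grp_cons_le o_g35_o_T76 (grp_cons_le o_g117_o_T76 (grp_nil_le _))))))))))))))))))))))))))))))))) (Frames.cons o_T76_s1_F (Frames.cons o_T76_s10_F (Frames.cons o_T76_s12_F (Frames.cons o_T76_s44_F (Frames.cons o_T76_s46_F Frames.nil))))) (okE_cons.2 ⟨o_g254_ok, okE_nil _⟩) _

noncomputable def ot_c12_cnt_t : BT := (BT.fix (nat_lit 1) (BT.br (nat_lit 0) (nat_lit 76) [nat_lit 1] (BT.kid (nat_lit 76) (nat_lit 384) (BT.dif (nat_lit 1) (nat_lit 0) (BT.br (nat_lit 0) (nat_lit 92) [nat_lit 3] (BT.kid (nat_lit 92) (nat_lit 192) (BT.fix (nat_lit 257) (BT.dif (nat_lit 0) (nat_lit 4) (BT.br (nat_lit 0) (nat_lit 47) [nat_lit 5, nat_lit 13] (BT.kid (nat_lit 47) (nat_lit 16) (BT.frm (nat_lit 0) (nat_lit 335117) (nat_lit 335117) [nat_lit 5] (BT.pln (nat_lit 0) (nat_lit 1) (BT.dif (nat_lit 6) (nat_lit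 5) (BT.frm (nat_lit 1) (nat_lit 0x1f211b221c15051d0d) (nat_lit 0x1f211b221c15051d0d) [nat_lit 3, nat_lit 0, nat_lit 6, nat_lit 8] (BT.pln (nat_lit 0) (nat_lit 7) (BT.and (nat_lit 3) (nat_lit 0) (BT.pln (nat_lit 2) (nat_lit 5) (BT.and (nat_lit 5) (nat_lit 0) (BT.img (nat_lit 1) (nat_lit 0) (BT.dif (nat_lit 3) (nat_lit 0) (BT.br (nat_lit 0) (nat_lit 88) [nat_lit 7, nat_lit 9] (BT.dead (nat_lit 194) (BT.img (nat_lit 1) (nat_lit 11) (BT.frm (nat_lit 2) (nat_lit 0x261f211b221c15051d0d) (nat_lit 0x39261f211b221c15051d0d) [nat_lit 1, nat_lit 0, nat_lit 12, nat_lit 9, nat_lit 15, nat_lit 17] (BT.pln (nat_lit 0) (nat_lit 6) (BT.img (nat_lit 1) (nat_lit 3) (BT.and (nat_lit 1) (nat_lit 0) (BT.cnt (nat_lit 0))))))) (BT.kid (nat_lit 88) (nat_lit 4) (BT.dif (nat_lit 20) (nat_lit 9) (BT.pln (nat_lit 8) (nat_lit 12) (BT.and (nat_lit 1) (nat_lit 0) (BT.pln (nat_lit 10) (nat_lit 6) (BT.img (nat_lit 1) (nat_lit 0) (BT.dif (nat_lit 2) (nat_lit 0) (BT.img (nat_lit 1) (nat_lit 17) (BT.frm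 (nat_lit 2) (nat_lit 0x261f211b221c15051d0d) (nat_lit 0x261f211b221c15051d0d) [nat_lit 7, nat_lit 0, nat_lit 18, nat_lit 15, nat_lit 21, nat_lit 23] (BT.pln (nat_lit 0) (nat_lit 7) (BT.dif (nat_lit 3) (nat_lit 0) (BT.br (nat_lit 0) (nat_lit 220) [nat_lit 11] (BT.kid (nat_lit 220) (nat_lit 2) (BT.pln (nat_lit 3) (nat_lit 10) (BT.and (nat_lit 3) (nat_lit 0) (BT.dif (nat_lit 0) (nat_lit 22) (BT.pln (nat_lit 6) (nat_lit 9) (BT.and (nat_lit 1) (nat_lit 0) (BT.pln (nat_lit 8) (nat_lit 8) (BT.dif (nat_lit 1) (nat_lit 0) (BT.frm (nat_lit 3) (nat_lit 0x3f261f211b221c15051d0d) (nat_lit 0x3f261f211b221c15051d0d) [nat_lit 7, nat_lit 18, nat_lit 11, nat_lit 29, nat_lit 26, nat_lit 32, nat_lit 34] (BT.pln (nat_lit 0) (nat_lit 7) (BT.dif (nat_lit 2) (nat_lit 0) (BT.br (nat_lit 0) (nat_lit 12) [nat_lit 13] (BT.kid (nat_lit 12) (nat_lit 1) (BT.img (nat_lit 1) (nat_lit 0) (BT.one (nat_lit 4) (nat_lit 0x3f261f211b221c15051d0d) (nat_lit 0x3f261f211b221c15051d0d) [nat_lit 0, nat_lit 1,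 nat_lit 12, nat_lit 23, nat_lit 16, nat_lit 34, nat_lit 31, nat_lit 37, nat_lit 39])) BT.nil)))))))))))) BT.nil)))))))))))) BT.nil))))))))))))) BT.nil)))) BT.nil))) BT.nil)))

theorem ot_c12_cnt : Cnt 351 (grp 351 o_O) [o_g254] [o_g254] 0 0 0 0 1152 :=
  BT.sound ot_c12_cnt_P Known.nil (t := ot_c12_cnt_t) (d := 0) (by decide +kernel)

theorem ot_c12_ge : 1152 ≤ Nat.card (grp 351 ot_c12_K) :=
  Ch.le_card_grp (k := 9) (L := (lab 351 9)) o_hn ot_c12_K_ok (c := (Ch.cons (nat_lit 76) [nat_lit 1] (Ch.cons (nat_lit 92) [nat_lit 3] (Ch.cons (nat_lit 47) [nat_lit 5] (Ch.cons (nat_lit 88) [nat_lit 7, nat_lit 9] (Ch.cons (nat_lit 220) [nat_lit 11] (Ch.cons (nat_lit 12) [nat_lit 13] Ch.nil))))))) (by decide +kernel)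

theorem ot_c12_eq : (grp 351 o_O) ⊓ Subgroup.centralizer {Net.toPerm 351 o_g254} = grp 351 ot_c12_K :=
  cent_eq ot_c12_sym ot_c12_cnt ot_c12_ge

theorem ot_c12_card : Nat.card ↥((grp 351 o_O) ⊓ Subgroup.centralizer {Net.toPerm 351 o_g254}) = 1152 :=
  card_cent ot_c12_sym ot_c12_cnt ot_c12_ge

theorem ot_c12_ord : orderOf (Net.toPerm 351 o_g254) = 4 :=
  orderOf_net o_hn o_hk o_g254_ok (by decide) (ps := [2]) (by set_option linter.unusedSimpArgs false in simp [Nat.primeFactorsList_ofNat]) (by decide +kernel)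

theorem o_le274 : grp 351 ot_c13_K ≤ grp 351 o_lb_E :=
  grp_le_of_memB o_hn o_hk o_lb_E_ok ot_c13_K_ok (ws := [nat_lit 0x45432821241f2d1a2a052605, nat_lit 0x4543392825241e172d051f, nat_lit 0x3b312821241d1f1e013101, nat_lit 0x4539281d1f1e01212a, nat_lit 0x3b3928251f051f2a, nat_lit 0x2f282101212a]) (by decide +kernel)

theorem ot_c13_le : grp 351 ot_c13_K ≤ (grp 351 o_O) :=
  (o_le274.trans o_T76_s0.le)

theorem ot_c13_mem : Net.toPerm 351 o_g267 ∈ (grp 351 o_O) :=
  ot_c13_le (mem_grp_of_memB o_hn o_hk ot_c13_K_ok o_g267_ok (w := (nat_lit 0x507030303)) (by decide +kernel))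

theorem ot_c13_sym : Sym 351 (grp 351 o_O) [o_g267] ot_c13_K 0 :=
  Sym.of_lab o_hn o_hk (okE_cons.2 ⟨o_g267_ok, okE_nil _⟩) ot_c13_K_ok ot_c13_le (kT := 0) (by decide +kernel)

noncomputable def ot_c13_cnt_L : List ℕ := [1, 2, o_T76_s1_O, 0, 0, 4, 20, o_T76_s10_O, 0, 0, 6, 13, o_T76_s12_O, 0, 0, 7, 15, o_T76_s44_O, 0, 0, 9, 18, o_T76_s46_O, 1, 0]

theorem ot_c13_cnt_P : Prob 351 9 (grp 351 o_O) ot_c13_cnt_EG [o_g267] [o_g267] ot_c13_K ot_c13_cnt_L 0 0 :=
  Sym.prob o_hn o_hk ot_c13_sym ot_c13_cnt_EG_ok (grp_cons_le o_b_o_T76 (grp_cons_le o_c_o_T76 (grp_cons_le o_d_o_T76 (grp_cons_le o_e_o_T76 (grp_cons_le o_f_o_T76 (grp_cons_le o_g_o_T76 (grp_cons_le o_h_o_T76 (grp_cons_le o_i_o_T76 (grp_cons_le o_g1_o_T76 (grp_cons_le o_g2_o_T76 (grp_cons_le o_g3_o_T76 (grp_cons_le o_g4_o_T76 (grp_cons_le o_g5_o_T76 (grp_cons_le o_g8_o_T76 (grp_cons_le o_g9_o_T76 (grp_cons_le o_g12_o_T76 (grp_cons_le o_g13_o_T76 (grp_cons_le o_g14_o_T76 (grp_cons_le o_g17_o_T76 (grp_cons_le o_g18_o_T76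 (grp_cons_le o_g19_o_T76 (grp_cons_le o_g20_o_T76 (grp_cons_le o_g23_o_T76 (grp_cons_le o_g24_o_T76 (grp_cons_le o_g25_o_T76 (grp_cons_le o_g26_o_T76 (grp_cons_le o_g27_o_T76 (grp_cons_le o_g30_o_T76 (grp_cons_le o_g31_o_T76 (grp_cons_le o_g32_o_T76 (grp_cons_le o_g35_o_T76 (grp_cons_le o_g117_o_T76 (grp_nil_le _))))))))))))))))))))))))))))))))) (Frames.cons o_T76_s1_F (Frames.cons o_T76_s10_F (Frames.cons o_T76_s12_F (Frames.cons o_T76_s44_F (Frames.cons o_T76_s46_F Frames.nil))))) (okE_cons.2 ⟨o_g267_ok, okE_nil _⟩) _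

noncomputable def ot_c13_cnt_t : BT := (BT.fix (nat_lit 1) (BT.br (nat_lit 0) (nat_lit 77) [nat_lit 1] (BT.dead (nat_lit 99) (BT.dif (nat_lit 1) (nat_lit 0) (BT.br (nat_lit 0) (nat_lit 99) [nat_lit 1] (BT.dead (nat_lit 77) (BT.fix (nat_lit 257) (BT.dif (nat_lit 0) (nat_lit 4) (BT.br (nat_lit 0) (nat_lit 60) [nat_lit 3, nat_lit 5] (BT.dead (nat_lit 60) (BT.frm (nat_lit 0) (nat_lit 73495) (nat_lit 0x1031f2a) [nat_lit 5] (BT.pln (nat_lit 0) (nat_lit 1) (BT.dif (nat_lit 6) (nat_lit 5) (BT.frm (nat_lit 1) (nat_lit 0x1f211b1d1c1115011f17) (nat_lit 0x1b221b11131e01031f2a) [nat_lit 3, nat_lit 0, nat_lit 6, nat_lit 8] (BT.pln (nat_lit 0) (nat_lit 7) (BT.and (nat_lit 3) (nat_lit 0) (BT.pln (nat_lit 2) (nat_lit 5) (BT.and (nat_lit 5) (nat_lit 0) (BT.img (nat_lit 1) (nat_lit 0) (BT.dif (nat_lit 3) (nat_lit 0) (BT.br (nat_lit 0) (nat_lit 107) [nat_lit 5, nat_lit 9] (BT.dead (nat_lit 72) (BT.img (nat_lit 1) (nat_lit 11) (BT.frm (nat_lit 2) (nat_lit 0x3135251f211b1d1c1115011f17)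 (nat_lit 0x2d351b221b11131e01031f2a) [nat_lit 1, nat_lit 0, nat_lit 12, nat_lit 9, nat_lit 15, nat_lit 17] (BT.pln (nat_lit 0) (nat_lit 6) (BT.img (nat_lit 1) (nat_lit 3) (BT.and (nat_lit 1) (nat_lit 0) (BT.cnt (nat_lit 0))))))) (BT.dead (nat_lit 109) (BT.img (nat_lit 1) (nat_lit 11) (BT.frm (nat_lit 2) (nat_lit 0x3135251f211b1d1c1115011f17) (nat_lit 0x391b221b11131e01031f2a) [nat_lit 1, nat_lit 0, nat_lit 12, nat_lit 9, nat_lit 15, nat_lit 17] (BT.pln (nat_lit 0) (nat_lit 6) (BT.img (nat_lit 1) (nat_lit 3) (BT.img (nat_lit 1) (nat_lit 0) (BT.img (nat_lit 1) (nat_lit 0) (BT.and (nat_lit 3) (nat_lit 0) (BT.cnt (nat_lit 0))))))))) BT.nil))))))))))))) BT.nil)))) BT.nil))) (BT.kid (nat_lit 77) (nat_lit 192) (BT.dif (nat_lit 1) (nat_lit 0) (BT.br (nat_lit 0) (nat_lit 99) [] (BT.dead (nat_lit 117) (BT.fix (nat_lit 257) (BT.dif (nat_lit 0) (nat_lit 4) (BT.br (nat_lit 0) (nat_lit 60) [nat_lit 3, nat_lit 5] (BT.dead (nat_lit 60) (BT.frm (nat_lit 0) (nat_lit 73495) (nat_lit 73495)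 [nat_lit 5] (BT.pln (nat_lit 0) (nat_lit 1) (BT.dif (nat_lit 6) (nat_lit 5) (BT.frm (nat_lit 1) (nat_lit 0x1f211b1d1c1115011f17) (nat_lit 0x233b1b221b112312011f17) [nat_lit 3, nat_lit 0, nat_lit 6, nat_lit 8] (BT.pln (nat_lit 0) (nat_lit 7) (BT.and (nat_lit 3) (nat_lit 0) (BT.pln (nat_lit 2) (nat_lit 5) (BT.and (nat_lit 5) (nat_lit 0) (BT.img (nat_lit 1) (nat_lit 0) (BT.dif (nat_lit 3) (nat_lit 0) (BT.br (nat_lit 0) (nat_lit 107) [nat_lit 5, nat_lit 7] (BT.dead (nat_lit 118) (BT.dif (nat_lit 20) (nat_lit 9) (BT.pln (nat_lit 8) (nat_lit 12) (BT.and (nat_lit 1) (nat_lit 0) (BT.pln (nat_lit 10) (nat_lit 6) (BT.img (nat_lit 1) (nat_lit 0) (BT.dif (nat_lit 2) (nat_lit 0) (BT.img (nat_lit 1) (nat_lit 17) (BT.frm (nat_lit 2) (nat_lit 0x3135251f211b1d1c1115011f17) (nat_lit 0x3926233b1b221b112312011f17) [nat_lit 7, nat_lit 0, nat_lit 18, nat_lit 15, nat_lit 21, nat_lit 23] (BT.pln (nat_lit 0) (nat_lit 7) (BT.dif (nat_lit 3) (nat_lit 0) (BT.br (nat_lit 0) (nat_lit 62) [nat_lit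 9] (BT.dead (nat_lit 100) (BT.frm (nat_lit 3) (nat_lit 0x3f3135251f211b1d1c1115011f17) (nat_lit 0x3f3926233b1b221b112312011f17) [nat_lit 0, nat_lit 11, nat_lit 4, nat_lit 22, nat_lit 19, nat_lit 25, nat_lit 27] (BT.pln (nat_lit 0) (nat_lit 7) (BT.img (nat_lit 1) (nat_lit 2) (BT.and (nat_lit 1) (nat_lit 0) (BT.cnt (nat_lit 0)))))) BT.nil)))))))))))) (BT.dead (nat_lit 107) (BT.img (nat_lit 1) (nat_lit 11) (BT.frm (nat_lit 2) (nat_lit 0x3135251f211b1d1c1115011f17) (nat_lit 0x3126233b1b221b112312011f17) [nat_lit 1, nat_lit 0, nat_lit 12, nat_lit 9, nat_lit 15, nat_lit 17] (BT.pln (nat_lit 0) (nat_lit 8) (BT.img (nat_lit 1) (nat_lit 3) (BT.and (nat_lit 1) (nat_lit 0) (BT.cnt (nat_lit 0))))))) BT.nil))))))))))))) BT.nil)))) (BT.kid (nat_lit 99) (nat_lit 192) (BT.fix (nat_lit 257) (BT.dif (nat_lit 0) (nat_lit 4) (BT.br (nat_lit 0) (nat_lit 60) [nat_lit 3, nat_lit 5] (BT.kid (nat_lit 60) (nat_lit 16) (BT.frm (nat_lit 0) (nat_lit 73495) (nat_lit 73495) [nat_lit 5] (BT.pln (nat_lit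 0) (nat_lit 1) (BT.dif (nat_lit 6) (nat_lit 5) (BT.frm (nat_lit 1) (nat_lit 0x1f211b1d1c1115011f17) (nat_lit 0x1f211b1d1c1115011f17) [nat_lit 3, nat_lit 0, nat_lit 6, nat_lit 8] (BT.pln (nat_lit 0) (nat_lit 7) (BT.and (nat_lit 3) (nat_lit 0) (BT.pln (nat_lit 2) (nat_lit 5) (BT.and (nat_lit 5) (nat_lit 0) (BT.img (nat_lit 1) (nat_lit 0) (BT.dif (nat_lit 3) (nat_lit 0) (BT.br (nat_lit 0) (nat_lit 107) [nat_lit 5, nat_lit 7] (BT.dead (nat_lit 38) (BT.img (nat_lit 1) (nat_lit 11) (BT.frm (nat_lit 2) (nat_lit 0x3135251f211b1d1c1115011f17) (nat_lit 0x3539251f211b1d1c1115011f17) [nat_lit 1, nat_lit 0, nat_lit 12, nat_lit 9, nat_lit 15, nat_lit 17] (BT.pln (nat_lit 0) (nat_lit 8) (BT.img (nat_lit 1) (nat_lit 3) (BT.and (nat_lit 1) (nat_lit 0) (BT.cnt (nat_lit 0))))))) (BT.kid (nat_lit 107) (nat_lit 4) (BT.dif (nat_lit 20) (nat_lit 9) (BT.pln (nat_lit 8) (nat_lit 12) (BT.and (nat_lit 1) (nat_lit 0) (BT.pln (nat_lit 10) (nat_lit 6) (BT.img (nat_lit 1) (nat_lit 0) (BT.dif (nat_lit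 2) (nat_lit 0) (BT.img (nat_lit 1) (nat_lit 17) (BT.frm (nat_lit 2) (nat_lit 0x3135251f211b1d1c1115011f17) (nat_lit 0x3135251f211b1d1c1115011f17) [nat_lit 7, nat_lit 0, nat_lit 18, nat_lit 15, nat_lit 21, nat_lit 23] (BT.pln (nat_lit 0) (nat_lit 7) (BT.dif (nat_lit 3) (nat_lit 0) (BT.br (nat_lit 0) (nat_lit 62) [nat_lit 9] (BT.kid (nat_lit 62) (nat_lit 2) (BT.pln (nat_lit 3) (nat_lit 10) (BT.and (nat_lit 3) (nat_lit 0) (BT.dif (nat_lit 0) (nat_lit 22) (BT.pln (nat_lit 6) (nat_lit 9) (BT.and (nat_lit 1) (nat_lit 0) (BT.pln (nat_lit 8) (nat_lit 8) (BT.dif (nat_lit 1) (nat_lit 0) (BT.frm (nat_lit 3) (nat_lit 0x3f3135251f211b1d1c1115011f17) (nat_lit 0x3f3135251f211b1d1c1115011f17) [nat_lit 7, nat_lit 18, nat_lit 11, nat_lit 29, nat_lit 26, nat_lit 32, nat_lit 34] (BT.pln (nat_lit 0) (nat_lit 7) (BT.dif (nat_lit 2) (nat_lit 0) (BT.br (nat_lit 0) (nat_lit 81) [nat_lit 11] (BT.kid (nat_lit 81) (nat_lit 1) (BT.img (nat_lit 1) (nat_lit 0) (BT.one (nat_lit 4) (nat_lit 0x370b3f3135251f211b1d1c1115011f17)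 (nat_lit 0x370b3f3135251f211b1d1c1115011f17) [nat_lit 0, nat_lit 1, nat_lit 12, nat_lit 23, nat_lit 16, nat_lit 34, nat_lit 31, nat_lit 37, nat_lit 39])) BT.nil)))))))))))) BT.nil)))))))))))) BT.nil))))))))))))) BT.nil)))) BT.nil)))) BT.nil))))

theorem ot_c13_cnt : Cnt 351 (grp 351 o_O) [o_g267] [o_g267] 0 0 0 0 384 :=
  BT.sound ot_c13_cnt_P Known.nil (t := ot_c13_cnt_t) (d := 0) (by decide +kernel)

theorem ot_c13_ge : 384 ≤ Nat.card (grp 351 ot_c13_K) :=
  Ch.le_card_grp (k := 9) (L := (lab 351 9)) o_hn ot_c13_K_ok (c := (Ch.cons (nat_lit 77) [nat_lit 1] (Ch.cons (nat_lit 60) [nat_lit 3] (Ch.cons (nat_lit 107) [nat_lit 5, nat_lit 7] (Ch.cons (nat_lit 62) [nat_lit 9] (Ch.cons (nat_lit 81) [nat_lit 11] Ch.nil)))))) (by decide +kernel)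

theorem ot_c13_eq : (grp 351 o_O) ⊓ Subgroup.centralizer {Net.toPerm 351 o_g267} = grp 351 ot_c13_K :=
  cent_eq ot_c13_sym ot_c13_cnt ot_c13_ge

theorem ot_c13_card : Nat.card ↥((grp 351 o_O) ⊓ Subgroup.centralizer {Net.toPerm 351 o_g267}) = 384 :=
  card_cent ot_c13_sym ot_c13_cnt ot_c13_ge

theorem ot_c13_ord : orderOf (Net.toPerm 351 o_g267) = 4 :=
  orderOf_net o_hn o_hk o_g267_ok (by decide) (ps := [2]) (by set_option linter.unusedSimpArgs false in simp [Nat.primeFactorsList_ofNat]) (by decide +kernel)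

theorem o_le280 : grp 351 ot_c14_K ≤ grp 351 o_lb_E :=
  grp_le_of_memB o_hn o_hk o_lb_E_ok ot_c14_K_ok (ws := [nat_lit 0x45432821231d241d111921012205, nat_lit 0x3b3128251d2024172421011a1f29, nat_lit 0x45433b3139272124172b012201, nat_lit 0x453b3125281e291721010325, nat_lit 0x39261739012b]) (by decide +kernel)

theorem ot_c14_le : grp 351 ot_c14_K ≤ (grp 351 o_O) :=
  (o_le280.trans o_T76_s0.le)

theorem ot_c14_mem : Net.toPerm 351 o_g275 ∈ (grp 351 o_O) :=
  ot_c14_le (toPerm_mem_grp (E := ot_c14_K) (List.Mem.tail _ (List.Mem.head _)))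

theorem ot_c14_sym : Sym 351 (grp 351 o_O) [o_g275] ot_c14_K 0 :=
  Sym.of_lab o_hn o_hk (okE_cons.2 ⟨o_g275_ok, okE_nil _⟩) ot_c14_K_ok ot_c14_le (kT := 0) (by decide +kernel)

theorem o_le286 : grp 351 o_V285 ≤ grp 351 o_V114 :=
  grp_le_of_memB o_hn o_hk o_V114_ok o_V285_ok (ws := [nat_lit 0x170501, nat_lit 0x111901, nat_lit 0x1b171906, nat_lit 0x25111901]) (by decide +kernel)

theorem o_T76_s47 : Stab 351 (grp 351 o_O) [nat_lit 95, nat_lit 14, nat_lit 3, nat_lit 0] o_V285 48 :=
  Stab.step (k := 9) (L := (lab 351 9)) o_hn o_T76_s9 o_V285_ok o_le286 (c := (Ch.cons (nat_lit 59) [nat_lit 1] (Ch.cons (nat_lit 157) [nat_lit 3] (Ch.cons (nat_lit 8) [nat_lit 5, nat_lit 7] Ch.nil)))) (by decide +kernel)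

theorem o_T76_s48 : Stab 351 (grp 351 o_O) [nat_lit 59, nat_lit 95, nat_lit 14, nat_lit 3, nat_lit 0] o_V287 24 :=
  Stab.step (k := 9) (L := (lab 351 9)) o_hn o_T76_s47 o_V287_ok (grp_mono (List.subset_append_right [o_g281] _)) (c := (Ch.cons (nat_lit 157) [nat_lit 1] (Ch.cons (nat_lit 8) [nat_lit 3, nat_lit 5] Ch.nil))) (by decide +kernel)

theorem o_T76_s49 : Stab 351 (grp 351 o_O) [nat_lit 157, nat_lit 59, nat_lit 95, nat_lit 14, nat_lit 3, nat_lit 0] o_V288 4 :=
  Stab.step (k := 9) (L := (lab 351 9)) o_hn o_T76_s48 o_V288_ok (grp_mono (List.subset_append_right [o_g282] _)) (c := (Ch.cons (nat_lit 8) [nat_lit 1, nat_lit 3] Ch.nil)) (by decide +kernel)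

theorem o_T76_s50 : Stab 351 (grp 351 o_O) [nat_lit 8, nat_lit 157, nat_lit 59, nat_lit 95, nat_lit 14, nat_lit 3, nat_lit 0] o_V289 1 :=
  Stab.step (k := 9) (L := (lab 351 9)) o_hn o_T76_s49 o_V289_ok (grp_mono (List.subset_append_right [o_g283, o_g284] _)) (c := Ch.nil) (by decide +kernel)

theorem o_g281_o_T76 : Net.toPerm 351 o_g281 ∈ (grp 351 o_O) :=
  o_T76_s47.le (toPerm_mem_grp (E := o_V285) (List.Mem.head _))

theorem o_g282_o_T76 : Net.toPerm 351 o_g282 ∈ (grp 351 o_O) :=
  o_T76_s47.le (toPerm_mem_grp (E := o_V285) (List.Mem.tail _ (List.Mem.head _)))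

theorem o_g283_o_T76 : Net.toPerm 351 o_g283 ∈ (grp 351 o_O) :=
  o_T76_s47.le (toPerm_mem_grp (E := o_V285) (List.Mem.tail _ (List.Mem.tail _ (List.Mem.head _))))

theorem o_g284_o_T76 : Net.toPerm 351 o_g284 ∈ (grp 351 o_O) :=
  o_T76_s47.le (toPerm_mem_grp (E := o_V285) (List.Mem.tail _ (List.Mem.tail _ (List.Mem.tail _ (List.Mem.head _)))))

noncomputable def o_T76_s50_O : ℕ := (nat_lit 0xfffffffffffffffffffffffe0000000000000000000000000000000000000000000000000000000000000000000000000000000000000003fffffffffffffffffffffffffffffffc00000000000000000000000000000003fffffff80000000000000007fffffffffffffff80000000000000007fffffffffffffff800000000000000000000000ffffffff00000000ffffffff00000000ffffffff00000000ffffffff00000000ffffffff00000000fffe0001fffe0001fffe0001fffe0001fffe0001fffe0001fffe0001fffe0001fffe0001fffe0001fffe0001fc03fc03fc03fc03fc03fc03fc03fc03fc03fc03fc03fc03fc03fc03fc03fc03fc03fc03fc03fc03fc03fc038787878787878787878787878787878787878787878787878787878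787878787878787878787878787878784ccccccccccccccccccccccccccccccccccccccccccccccccccccccccccccccccccccccccccccccccccccccc555555555555555555555555555555555555555555555555555555555555555555555555555555555555555400000000000000000000000000000000000000000000000000000000000000000000000000000000000000040000000000000000000000000000000000000000000000000000000000000000000000000000000000000040000000000000000000000000000000000000000000000000000000000000000000000000000000000004000000000000000000000000000000000000000000000000000000000000000000100000000000000000000000000000000000000000000000000000000000000000000000000000000000000000000000020000000000000000000000000000000000000000000000000000000000000010000000000000000000000000000000000000000000000000000000000000000000000000000000000000000000000000000000000000000000000000000100)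

theorem o_T76_s50_F : Frame 351 (grp 351 o_O) 7 16 o_T76_s50_O 1 1 :=
  IsBase.frame o_T76_s50.isBase (by decide +kernel)

noncomputable def o_T76_s48_O : ℕ := (nat_lit 0x30000000000000000000000000000000006000c43021a409018601002486006000c43021a4090186010024869bcb1ce0f2b560ffdcc96f9b000000011128000b02a608831089c818fd211128000b02a608831089c818fd23327e207385ec62b80487000d7f7d32040261ac8944a08942d22d4457601c0261ac8944a08942d22d4457601815c0bfd255700a8371a5800af2c9f5669896ecb156a004508e9a6cd9fc969896ecb156a004508e9a6cd9fc94e866270f55ccb91ed1b4f820e593a219c01f4db1b93c5ba00632161de8d9c01f4db1b93c5ba00632161de8d1588d968730dbd70c7ca0cf0a5b8691924b2cfbb8de898aa7b42565caa4924b2cfbb8de898aa7b42565caa4b8a33172bd109e7d52b0b959057cc9c20000000000000000000000000000000000000000000000000000000000000000000000000000000000000001000000000000000000000000000000000000000000000000000000000000000000000000000000000000001000000000000000000000000000000000000000000000000000000000000000000000000000000000000100000000000000000000000000000000000000000000000000000000000000000004000000000000000000000000000000000000000000000000000000000000000000000000000000000000000000000000800000000000000)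

theorem o_T76_s48_F : Frame 351 (grp 351 o_O) 5 12 o_T76_s48_O 0 1 :=
  Stab.frame o_hn o_T76_s48 (by decide +kernel)

noncomputable def o_T76_s47_O : ℕ := (nat_lit 0x8004040020008000001000000000800404002000800000101e2860041052801184082c004000000000080030641061120260984319018008003064106112026098431901c2a607345c08481cb72223a44cc10600417a007110ae012040a46e07ad88417a007110ae012040a46e07ad88311a1018d62f2881816345c6de595c80287029e5a50b1e145b88321038e0287029e5a50b1e145b88321038e19b0031a826a0625330a10b8bcffe07d335a1ab237d2c110f320ad605aa4735a1ab237d2c110f320ad605aa460a578810f2a9ae5f501a161477dcbc17a7290f0584cc4127d9459612ab5fa7290f0584cc4127d9459612ab5d70d478728dc54ee6ba4d76335461562000000000000000000000000000000000000000000000000000000000000000000000000000000000000000200000000000000000000000000000000000000000000000000000000000000000000000000000000000000200000000000000000000000000000000000000000000000000000000000000000000000000000000000020000000000000000000000000000000000000000000000000000000000000000000800000000000000000000000)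

theorem o_T76_s47_F : Frame 351 (grp 351 o_O) 4 10 o_T76_s47_O 0 1 :=
  Stab.frame o_hn o_T76_s47 (by decide +kernel)

noncomputable def ot_c14_cnt_L : List ℕ := [1, 2, o_T76_s1_O, 0, 0, 2, 5, o_T76_s8_O, 0, 0, 3, 10, o_T76_s9_O, 0, 0, 4, 10, o_T76_s47_O, 0, 0, 5, 12, o_T76_s48_O, 0, 0, 7, 16, o_T76_s50_O, 1, 0]

theorem ot_c14_cnt_P : Prob 351 9 (grp 351 o_O) ot_c14_cnt_EG [o_g275] [o_g275] ot_c14_K ot_c14_cnt_L 0 0 :=
  Sym.prob o_hn o_hk ot_c14_sym ot_c14_cnt_EG_ok (grp_cons_le o_b_o_T76 (grp_cons_le o_c_o_T76 (grp_cons_le o_d_o_T76 (grp_cons_le o_e_o_T76 (grp_cons_le o_f_o_T76 (grp_cons_le o_g_o_T76 (grp_cons_le o_h_o_T76 (grp_cons_le o_i_o_T76 (grp_cons_le o_g1_o_T76 (grp_cons_le o_g2_o_T76 (grp_cons_le o_g3_o_T76 (grp_cons_le o_g4_o_T76 (grp_cons_le o_g5_o_T76 (grp_cons_le o_g8_o_T76 (grp_cons_le o_g9_o_T76 (grp_cons_le o_g12_o_T76 (grp_cons_le o_g13_o_T76 (grp_cons_le o_g14_o_T76 (grp_cons_le o_g17_o_T76 (grp_cons_le o_g18_o_T76 (grp_cons_le o_g19_o_T76 (grp_cons_le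 o_g20_o_T76 (grp_cons_le o_g23_o_T76 (grp_cons_le o_g24_o_T76 (grp_cons_le o_g25_o_T76 (grp_cons_le o_g26_o_T76 (grp_cons_le o_g27_o_T76 (grp_cons_le o_g30_o_T76 (grp_cons_le o_g31_o_T76 (grp_cons_le o_g32_o_T76 (grp_cons_le o_g35_o_T76 (grp_cons_le o_g281_o_T76 (grp_cons_le o_g282_o_T76 (grp_cons_le o_g283_o_T76 (grp_cons_le o_g284_o_T76 (grp_nil_le _)))))))))))))))))))))))))))))))))))) (Frames.cons o_T76_s1_F (Frames.cons o_T76_s8_F (Frames.cons o_T76_s9_F (Frames.cons o_T76_s47_F (Frames.cons o_T76_s48_F (Frames.cons o_T76_s50_F Frames.nil)))))) (okE_cons.2 ⟨o_g275_ok, okE_nil _⟩) _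

noncomputable def ot_c14_cnt_t : BT := (BT.fix (nat_lit 1) (BT.br (nat_lit 0) (nat_lit 26) [nat_lit 1, nat_lit 7] (BT.dead (nat_lit 334) (BT.frm (nat_lit 0) (nat_lit 331044) (nat_lit 0x1052124) [nat_lit 0] (BT.pln (nat_lit 0) (nat_lit 1) (BT.and (nat_lit 0) (nat_lit 3) (BT.cnt (nat_lit 0))))) (BT.kid (nat_lit 26) (nat_lit 32) (BT.frm (nat_lit 0) (nat_lit 331044) (nat_lit 331044) [nat_lit 0] (BT.pln (nat_lit 0) (nat_lit 1) (BT.and (nat_lit 3) (nat_lit 0) (BT.br (nat_lit 0) (nat_lit 170) [] (BT.dead (nat_lit 334) (BT.frm (nat_lit 1) (nat_lit 0x110b1c050d24) (nat_lit 0x1111050d24) [nat_lit 0, nat_lit 4] (BT.pln (nat_lit 0) (nat_lit 2) (BT.and (nat_lit 0) (nat_lit 7) (BT.cnt (nat_lit 0))))) (BT.kid (nat_lit 170) (nat_lit 32) (BT.fix (nat_lit 257) (BT.dif (nat_lit 0) (nat_lit 3) (BT.dif (nat_lit 0) (nat_lit 7) (BT.frm (nat_lit 1) (nat_lit 0x110b1c050d24) (nat_lit 0x110b1c050d24) [nat_lit 3, nat_lit 7] (BT.pln (nat_lit 0) (nat_lit 4) (BT.and (nat_lit 10) (nat_lit 0) (BT.frm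 (nat_lit 2) (nat_lit 0x1d20110b1c050d24) (nat_lit 0x1d20110b1c050d24) [nat_lit 0, nat_lit 6, nat_lit 10] (BT.pln (nat_lit 0) (nat_lit 4) (BT.and (nat_lit 5) (nat_lit 0) (BT.br (nat_lit 0) (nat_lit 328) [nat_lit 3, nat_lit 5] (BT.kid (nat_lit 328) (nat_lit 8) (BT.and (nat_lit 9) (nat_lit 12) (BT.dif (nat_lit 0) (nat_lit 6) (BT.dif (nat_lit 0) (nat_lit 17) (BT.frm (nat_lit 3) (nat_lit 0x211f1d20110b1c050d24) (nat_lit 0x211f1d20110b1c050d24) [nat_lit 3, nat_lit 7, nat_lit 13, nat_lit 17] (BT.pln (nat_lit 0) (nat_lit 5) (BT.and (nat_lit 2) (nat_lit 0) (BT.pln (nat_lit 2) (nat_lit 4) (BT.and (nat_lit 1) (nat_lit 0) (BT.br (nat_lit 0) (nat_lit 64) [nat_lit 7] (BT.kid (nat_lit 64) (nat_lit 4) (BT.dif (nat_lit 27) (nat_lit 2) (BT.pln (nat_lit 6) (nat_lit 7) (BT.and (nat_lit 1) (nat_lit 0) (BT.dif (nat_lit 0) (nat_lit 24) (BT.pln (nat_lit 9) (nat_lit 8) (BT.dif (nat_lit 1) (nat_lit 0) (BT.dif (nat_lit 0) (nat_lit 24) (BT.frm (nat_lit 4) (nat_lit 0x3f211f1d20110b1c050d24) (nat_lit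 0x3f211f1d20110b1c050d24) [nat_lit 7, nat_lit 16, nat_lit 20, nat_lit 26, nat_lit 30] (BT.pln (nat_lit 0) (nat_lit 6) (BT.dif (nat_lit 2) (nat_lit 0) (BT.br (nat_lit 0) (nat_lit 4) [nat_lit 9] (BT.kid (nat_lit 4) (nat_lit 1) (BT.img (nat_lit 1) (nat_lit 0) (BT.one (nat_lit 5) (nat_lit 0x433f211f1d20110b1c050d24) (nat_lit 0x433f211f1d20110b1c050d24) [nat_lit 0, nat_lit 1, nat_lit 12, nat_lit 21, nat_lit 25, nat_lit 31, nat_lit 35])) BT.nil)))))))))))) BT.nil)))))))))) BT.nil))))))))))) BT.nil)))))) BT.nil))))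

theorem ot_c14_cnt : Cnt 351 (grp 351 o_O) [o_g275] [o_g275] 0 0 0 0 192 :=
  BT.sound ot_c14_cnt_P Known.nil (t := ot_c14_cnt_t) (d := 0) (by decide +kernel)

theorem ot_c14_ge : 192 ≤ Nat.card (grp 351 ot_c14_K) :=
  Ch.le_card_grp (k := 9) (L := (lab 351 9)) o_hn ot_c14_K_ok (c := (Ch.cons (nat_lit 26) [nat_lit 1] (Ch.cons (nat_lit 328) [nat_lit 3, nat_lit 5] (Ch.cons (nat_lit 64) [nat_lit 7] (Ch.cons (nat_lit 4) [nat_lit 9] Ch.nil))))) (by decide +kernel)

theorem ot_c14_eq : (grp 351 o_O) ⊓ Subgroup.centralizer {Net.toPerm 351 o_g275} = grp 351 ot_c14_K :=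
  cent_eq ot_c14_sym ot_c14_cnt ot_c14_ge

theorem ot_c14_card : Nat.card ↥((grp 351 o_O) ⊓ Subgroup.centralizer {Net.toPerm 351 o_g275}) = 192 :=
  card_cent ot_c14_sym ot_c14_cnt ot_c14_ge

theorem ot_c14_ord : orderOf (Net.toPerm 351 o_g275) = 4 :=
  orderOf_net o_hn o_hk o_g275_ok (by decide) (ps := [2]) (by set_option linter.unusedSimpArgs false in simp [Nat.primeFactorsList_ofNat]) (by decide +kernel)

theorem o_le294 : grp 351 ot_c15_K ≤ grp 351 o_lb_E :=
  grp_le_of_memB o_hn o_hk o_lb_E_ok ot_c15_K_ok (ws := [nat_lit 0x2725241d3111152001241c, nat_lit 0x3b37271e17390105111f, nat_lit 0x453b2f392821241e26111117011e, nat_lit 0x3b37392825241d28221a2b01050d16]) (by decide +kernel)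

theorem ot_c15_le : grp 351 ot_c15_K ≤ (grp 351 o_O) :=
  (o_le294.trans o_T76_s0.le)

theorem ot_c15_mem : Net.toPerm 351 o_g290 ∈ (grp 351 o_O) :=
  ot_c15_le (toPerm_mem_grp (E := ot_c15_K) (List.Mem.tail _ (List.Mem.tail _ (List.Mem.tail _ (List.Mem.head _)))))

theorem ot_c15_sym : Sym 351 (grp 351 o_O) [o_g290] ot_c15_K 0 :=
  Sym.of_lab o_hn o_hk (okE_cons.2 ⟨o_g290_ok, okE_nil _⟩) ot_c15_K_ok ot_c15_le (kT := 0) (by decide +kernel)

theorem o_le300 : grp 351 o_V299 ≤ grp 351 o_V113 :=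
  grp_le_of_memB o_hn o_hk o_V113_ok o_V299_ok (ws := [nat_lit 0x29271f1b0906, nat_lit 0x1f151d050305, nat_lit 0x290507010d05, nat_lit 0x271d0c09230308]) (by decide +kernel)

theorem o_T76_s51 : Stab 351 (grp 351 o_O) [nat_lit 144, nat_lit 3, nat_lit 0] o_V299 720 :=
  Stab.step (k := 9) (L := (lab 351 9)) o_hn o_T76_s8 o_V299_ok o_le300 (c := (Ch.cons (nat_lit 242) [nat_lit 1] (Ch.cons (nat_lit 168) [nat_lit 3, nat_lit 5] (Ch.cons (nat_lit 229) [nat_lit 7] Ch.nil)))) (by decide +kernel)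

theorem o_T76_s52 : Stab 351 (grp 351 o_O) [nat_lit 242, nat_lit 144, nat_lit 3, nat_lit 0] o_V301 36 :=
  Stab.step (k := 9) (L := (lab 351 9)) o_hn o_T76_s51 o_V301_ok (grp_mono (List.subset_append_right [o_g295] _)) (c := (Ch.cons (nat_lit 168) [nat_lit 1, nat_lit 3] (Ch.cons (nat_lit 229) [nat_lit 5] Ch.nil))) (by decide +kernel)

theorem o_T76_s53 : Stab 351 (grp 351 o_O) [nat_lit 168, nat_lit 242, nat_lit 144, nat_lit 3, nat_lit 0] o_V302 3 :=
  Stab.step (k := 9) (L := (lab 351 9)) o_hn o_T76_s52 o_V302_ok (grp_mono (List.subset_append_right [o_g296, o_g297] _)) (c := (Ch.cons (nat_lit 229) [nat_lit 1] Ch.nil)) (by decide +kernel)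

theorem o_T76_s54 : Stab 351 (grp 351 o_O) [nat_lit 229, nat_lit 168, nat_lit 242, nat_lit 144, nat_lit 3, nat_lit 0] o_V303 1 :=
  Stab.step (k := 9) (L := (lab 351 9)) o_hn o_T76_s53 o_V303_ok (grp_mono (List.subset_append_right [o_g298] _)) (c := Ch.nil) (by decide +kernel)

theorem o_g295_o_T76 : Net.toPerm 351 o_g295 ∈ (grp 351 o_O) :=
  o_T76_s51.le (toPerm_mem_grp (E := o_V299) (List.Mem.head _))

theorem o_g296_o_T76 : Net.toPerm 351 o_g296 ∈ (grp 351 o_O) :=
  o_T76_s51.le (toPerm_mem_grp (E := o_V299) (List.Mem.tail _ (List.Mem.head _)))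

theorem o_g297_o_T76 : Net.toPerm 351 o_g297 ∈ (grp 351 o_O) :=
  o_T76_s51.le (toPerm_mem_grp (E := o_V299) (List.Mem.tail _ (List.Mem.tail _ (List.Mem.head _))))

theorem o_g298_o_T76 : Net.toPerm 351 o_g298 ∈ (grp 351 o_O) :=
  o_T76_s51.le (toPerm_mem_grp (E := o_V299) (List.Mem.tail _ (List.Mem.tail _ (List.Mem.tail _ (List.Mem.head _)))))

noncomputable def o_T76_s54_O : ℕ := (nat_lit 0x1fffffffffffffffffffffffc0000000000000000000000000000000000000000000000000000000000000000000000000000000000000007fffffffffffffffffffffffffffffff800000000000000000000000000000007fffffff0000000000000000ffffffffffffffff0000000000000000ffffffffffffffff000000000000000000000001fffffffe00000001fffffffe00000001fffffffe00000001fffffffe00000001fffffffe00000001fffc0003fffc0003fffc0003fffc0003fffc0003fffc0003fffc0003fffc0003fffc0003fffc0003fffc0003f807f807f807f807f807f807f807f807f807f807f807f807f807f807f807f807f807f807f807f807f807f8070f0f0f0f0f0f0f0f0f0f0f0f0f0f0f0f0f0f0f0f0f0f0f0f0f0f0f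0f0f0f0f0f0f0f0f0f0f0f0f0f0f0f0f09999999999999999999999999999999999999999999999999999999999999999999999999999999999999998aaaaaaaaaaaaaaaaaaaaaaaaaaaaaaaaaaaaaaaaaaaaaaaaaaaaaaaaaaaaaaaaaaaaaaaaaaaaaaaaaaaaaaa80000000000000000000000000000000000000000000000000000000000000000000000000000000000000008000000000000000000000000000000000000000000000000000000000000000000000000000000000000008000000000000000000000000000000000000000000000000000200000000000000000000000000000000000000000000000000000000000000100000000000000000000000000000000000000000000000000000000000000000000000000000000000000000000000000000000008000000000000000000000000000000000000000000000000000000000000000000000002000000000000000000000000000000000000000000000000000000000)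

theorem o_T76_s54_F : Frame 351 (grp 351 o_O) 6 15 o_T76_s54_O 1 1 :=
  IsBase.frame o_T76_s54.isBase (by decide +kernel)

noncomputable def o_T76_s52_O : ℕ := (nat_lit 0x801000006c203801000002c00c0040a20000129800800500341030d400010908804248230830001004080007ace3a3582ec4827fd877784fe9914a805f9118c4e037013110018013ccad8802fb0347a8691dee021208000d68384f6e057f03f813cc14330f60b57085606310db0f49330758008b0326d2648256b9218e8001bc2ddd2014fef247e18cfe21915fc9ce2b80e926926f038612560020e1d6a9fad8d4546402621200623a75437ffc65bc1442395434e7a255402923ef47b9d1e03a05c54821d123bf14ce44fba726973e99f890117460e1c6ddd6e2637c31fc4513a08437702010e6be72e40673280eef43b5b860575c5707681a7652fdfcd13fc761324c5dbe26a6000000000000000000000000000000000000000000000000000000000000000000000000000000000000000200000000000000000000000000000000000000000000000000000000000000000000000000000000000000200000000000000000000000000000000000000000000000000008000000000000000000000000000000000000000000000000000000000000004000000000000000000000000000000000000000000000000000000000000)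

theorem o_T76_s52_F : Frame 351 (grp 351 o_O) 4 10 o_T76_s52_O 0 1 :=
  Stab.frame o_hn o_T76_s52 (by decide +kernel)

noncomputable def o_T76_s51_O : ℕ := (nat_lit 0x40000000000000000000000000000000000000000000000000000000000000000000000000000000000000000000800000000000000000000000000000000000000000000000000000000000000000000000000000000000000000000000200000000000000000000000000000000000000000000c0000010000000300000020080040000000004101000000400000000000000000000000001028000a0000000001000008200020000600080000004001800000000000000602000008040110000400000000000000000512014400004000200010000000028080000000200000000000100020000400108000000800000000004000300100200024400000040000040000200288000000000000000000003000002000220000020000000000048400200000100010084000800020100080200000000002000000000101010000000000000810400000000002000020000c000000401c000210000000000000000000080002000001040000000000002203000600000000804c0004000400002808010000000010048000004000000000000000008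00008000000080100200200000000100400200003040020888000002000000006000304800008018000040200010000002001040001c0040000000080000008080000004000000c2010000000000010400a00c001c0808001c000410800000000100401900000000030040000040000000040000090600020002000034108081000000100038000e0200000000000008a4000000000028002008000002008005008000004000080185008000084000000800a000c04220000000c0002400000000000000082004000008e0000040008004340000000010000e102000000018000048101010003200040006000001000060020402000020010000000080800020000018020210004004000000020440400840820044000000000000000000000000000000000000000000000000000000000000000000000000000000000000000040000000000000000000000000000000000000000000000000000000000000000000000000000000000000040000000000000000000000000000000000000000000000000001000000000000000000000000000000000000)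

theorem o_T76_s51_F : Frame 351 (grp 351 o_O) 3 19 o_T76_s51_O 0 1 :=
  Stab.frame o_hn o_T76_s51 (by decide +kernel)

noncomputable def ot_c15_cnt_L : List ℕ := [1, 2, o_T76_s1_O, 0, 0, 3, 19, o_T76_s51_O, 0, 0, 4, 10, o_T76_s52_O, 0, 0, 6, 15, o_T76_s54_O, 1, 0]

theorem ot_c15_cnt_P : Prob 351 9 (grp 351 o_O) ot_c15_cnt_EG [o_g290] [o_g290] ot_c15_K ot_c15_cnt_L 0 0 :=
  Sym.prob o_hn o_hk ot_c15_sym ot_c15_cnt_EG_ok (grp_cons_le o_b_o_T76 (grp_cons_le o_c_o_T76 (grp_cons_le o_d_o_T76 (grp_cons_le o_e_o_T76 (grp_cons_le o_f_o_T76 (grp_cons_le o_g_o_T76 (grp_cons_le o_h_o_T76 (grp_cons_le o_i_o_T76 (grp_cons_le o_g1_o_T76 (grp_cons_le o_g2_o_T76 (grp_cons_le o_g3_o_T76 (grp_cons_le o_g4_o_T76 (grp_cons_le o_g5_o_T76 (grp_cons_le o_g8_o_T76 (grp_cons_le o_g9_o_T76 (grp_cons_le o_g12_o_T76 (grp_cons_le o_g13_o_T76 (grp_cons_le o_g14_o_T76 (grp_cons_le o_g17_o_T76 (grp_cons_le o_g18_o_T76 (grp_cons_le o_g19_o_T76 (grp_cons_le o_g20_o_T76 (grp_cons_le o_g23_o_T76 (grp_cons_le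 o_g24_o_T76 (grp_cons_le o_g25_o_T76 (grp_cons_le o_g26_o_T76 (grp_cons_le o_g27_o_T76 (grp_cons_le o_g30_o_T76 (grp_cons_le o_g31_o_T76 (grp_cons_le o_g32_o_T76 (grp_cons_le o_g35_o_T76 (grp_cons_le o_g295_o_T76 (grp_cons_le o_g296_o_T76 (grp_cons_le o_g297_o_T76 (grp_cons_le o_g298_o_T76 (grp_nil_le _)))))))))))))))))))))))))))))))))))) (Frames.cons o_T76_s1_F (Frames.cons o_T76_s51_F (Frames.cons o_T76_s52_F (Frames.cons o_T76_s54_F Frames.nil)))) (okE_cons.2 ⟨o_g290_ok, okE_nil _⟩) _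

noncomputable def ot_c15_cnt_t : BT := (BT.fix (nat_lit 1) (BT.br (nat_lit 0) (nat_lit 46) [nat_lit 1, nat_lit 3] (BT.kid (nat_lit 46) (nat_lit 20) (BT.dif (nat_lit 1) (nat_lit 0) (BT.frm (nat_lit 0) (nat_lit 0x105221a) (nat_lit 0x105221a) [nat_lit 1] (BT.pln (nat_lit 0) (nat_lit 1) (BT.dif (nat_lit 2) (nat_lit 0) (BT.br (nat_lit 0) (nat_lit 172) [nat_lit 3, nat_lit 5] (BT.kid (nat_lit 172) (nat_lit 5) (BT.and (nat_lit 6) (nat_lit 2) (BT.frm (nat_lit 1) (nat_lit 0x28121a0105221a) (nat_lit 0x28121a0105221a) [nat_lit 1, nat_lit 0, nat_lit 6] (BT.pln (nat_lit 0) (nat_lit 10) (BT.and (nat_lit 5) (nat_lit 0) (BT.br (nat_lit 0) (nat_lit 322) [nat_lit 7] (BT.dead (nat_lit 215) (BT.pln (nat_lit 3) (nat_lit 4) (BT.and (nat_lit 8) (nat_lit 0) (BT.frm (nat_lit 2) (nat_lit 0x3f4428121a0105221a) (nat_lit 0x3f3f4128121a0105221a) [nat_lit 2, nat_lit 7, nat_lit 6, nat_lit 12] (BT.pln (nat_lit 0) (nat_lit 4) (BT.dif (nat_lit 2) (nat_lit 0) (BT.pln (nat_lit 2) (nat_lit 7) (BT.and (nat_lit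 4) (nat_lit 0) (BT.img (nat_lit 1) (nat_lit 0) (BT.and (nat_lit 3) (nat_lit 0) (BT.img (nat_lit 1) (nat_lit 0) (BT.and (nat_lit 0) (nat_lit 6) (BT.cnt (nat_lit 0))))))))))))) (BT.dead (nat_lit 126) (BT.frm (nat_lit 2) (nat_lit 0x3f4428121a0105221a) (nat_lit 0x3f3f4228121a0105221a) [nat_lit 0, nat_lit 5, nat_lit 4, nat_lit 10] (BT.pln (nat_lit 0) (nat_lit 7) (BT.img (nat_lit 1) (nat_lit 2) (BT.and (nat_lit 1) (nat_lit 0) (BT.cnt (nat_lit 0)))))) (BT.dead (nat_lit 212) (BT.frm (nat_lit 2) (nat_lit 0x3f4428121a0105221a) (nat_lit 0x3f4128121a0105221a) [nat_lit 0, nat_lit 5, nat_lit 4, nat_lit 10] (BT.pln (nat_lit 0) (nat_lit 7) (BT.img (nat_lit 1) (nat_lit 2) (BT.and (nat_lit 1) (nat_lit 0) (BT.cnt (nat_lit 0)))))) (BT.kid (nat_lit 322) (nat_lit 1) (BT.pln (nat_lit 3) (nat_lit 14) (BT.frm (nat_lit 2) (nat_lit 0x3f4428121a0105221a) (nat_lit 0x3f4428121a0105221a) [nat_lit 1, nat_lit 6, nat_lit 5, nat_lit 11] (BT.pln (nat_lit 0) (nat_lit 7) (BT.dif (nat_lit 2) (nat_lit 0)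 (BT.pln (nat_lit 2) (nat_lit 4) (BT.dif (nat_lit 1) (nat_lit 0) (BT.img (nat_lit 1) (nat_lit 0) (BT.and (nat_lit 6) (nat_lit 0) (BT.img (nat_lit 1) (nat_lit 0) (BT.and (nat_lit 8) (nat_lit 0) (BT.img (nat_lit 1) (nat_lit 0) (BT.and (nat_lit 10) (nat_lit 0) (BT.pln (nat_lit 15) (nat_lit 6) (BT.and (nat_lit 0) (nat_lit 8) (BT.pln (nat_lit 12) (nat_lit 5) (BT.dif (nat_lit 2) (nat_lit 0) (BT.dif (nat_lit 0) (nat_lit 11) (BT.img (nat_lit 1) (nat_lit 0) (BT.and (nat_lit 4) (nat_lit 0) (BT.img (nat_lit 1) (nat_lit 0) (BT.and (nat_lit 6) (nat_lit 0) (BT.img (nat_lit 1) (nat_lit 0) (BT.and (nat_lit 9) (nat_lit 0) (BT.one (nat_lit 3) (nat_lit 0x4641413f4428121a0105221a) (nat_lit 0x4641413f4428121a0105221a) [nat_lit 11, nat_lit 0, nat_lit 23, nat_lit 28, nat_lit 27, nat_lit 33])))))))))))))))))))))))) BT.nil))))))))) BT.nil)))))) BT.nil)))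

theorem ot_c15_cnt : Cnt 351 (grp 351 o_O) [o_g290] [o_g290] 0 0 0 0 120 :=
  BT.sound ot_c15_cnt_P Known.nil (t := ot_c15_cnt_t) (d := 0) (by decide +kernel)

theorem ot_c15_ge : 120 ≤ Nat.card (grp 351 ot_c15_K) :=
  Ch.le_card_grp (k := 9) (L := (lab 351 9)) o_hn ot_c15_K_ok (c := (Ch.cons (nat_lit 46) [nat_lit 1] (Ch.cons (nat_lit 172) [nat_lit 3, nat_lit 5] (Ch.cons (nat_lit 322) [nat_lit 7] Ch.nil)))) (by decide +kernel)

theorem ot_c15_eq : (grp 351 o_O) ⊓ Subgroup.centralizer {Net.toPerm 351 o_g290} = grp 351 ot_c15_K :=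
  cent_eq ot_c15_sym ot_c15_cnt ot_c15_ge

theorem ot_c15_card : Nat.card ↥((grp 351 o_O) ⊓ Subgroup.centralizer {Net.toPerm 351 o_g290}) = 120 :=
  card_cent ot_c15_sym ot_c15_cnt ot_c15_ge

theorem ot_c15_ord : orderOf (Net.toPerm 351 o_g290) = 5 :=
  orderOf_net o_hn o_hk o_g290_ok (by decide) (ps := [5]) (by set_option linter.unusedSimpArgs false in simp [Nat.primeFactorsList_ofNat]) (by decide +kernel)

theorem o_le312 : grp 351 ot_c16_K ≤ grp 351 o_lb_E :=
  grp_le_of_memB o_hn o_hk o_lb_E_ok ot_c16_K_ok (ws := [nat_lit 0x453b2f252d1f2311192a011d0f, nat_lit 0x433739251d26173101050d2c, nat_lit 0x3b3725221d241e1a2b01050d2a, nat_lit 0x433b392721241d2120011d25, nat_lit 0x43392825241f211119050d26, nat_lit 0x45433927252d1f211222050d26, nat_lit 0x453128253f1f2d111920]) (by decide +kernel)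

theorem ot_c16_le : grp 351 ot_c16_K ≤ (grp 351 o_O) :=
  (o_le312.trans o_T76_s0.le)

theorem ot_c16_mem : Net.toPerm 351 o_g304 ∈ (grp 351 o_O) :=
  ot_c16_le (mem_grp_of_memB o_hn o_hk ot_c16_K_ok o_g304_ok (w := (nat_lit 0xd07050505080101)) (by decide +kernel))

theorem ot_c16_sym : Sym 351 (grp 351 o_O) [o_g304] ot_c16_K 0 :=
  Sym.of_lab o_hn o_hk (okE_cons.2 ⟨o_g304_ok, okE_nil _⟩) ot_c16_K_ok ot_c16_le (kT := 0) (by decide +kernel)

theorem o_le314 : grp 351 o_V313 ≤ grp 351 o_V242 :=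
  grp_le_of_memB o_hn o_hk o_V242_ok o_V313_ok (ws := [nat_lit 3]) (by decide +kernel)

theorem o_T76_s55 : Stab 351 (grp 351 o_O) [nat_lit 126, nat_lit 238, nat_lit 104, nat_lit 252, nat_lit 187, nat_lit 0] o_V313 2 :=
  Stab.step (k := 9) (L := (lab 351 9)) o_hn o_T76_s41 o_V313_ok o_le314 (c := (Ch.cons (nat_lit 318) [nat_lit 1] Ch.nil)) (by decide +kernel)

theorem o_T76_s56 : Stab 351 (grp 351 o_O) [nat_lit 318, nat_lit 126, nat_lit 238, nat_lit 104, nat_lit 252, nat_lit 187, nat_lit 0] o_V315 1 :=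
  Stab.step (k := 9) (L := (lab 351 9)) o_hn o_T76_s55 o_V315_ok (grp_mono (List.subset_append_right [o_g241] _)) (c := Ch.nil) (by decide +kernel)

noncomputable def o_T76_s56_O : ℕ := (nat_lit 0xfffffffffffffffffffffffe0000000000000000000000000000000000000000000000000000000000000000000000000000000000000003fffffffffffffffffffffffffffffffc00000000000000000000000000000003fffffff80000000000000007fffffffffffffff80000000000000007fffffffffffffff800000000000000000000000ffffffff00000000ffffffff00000000ffffffff00000000ffffffff00000000ffffffff00000000fffe0001fffe0001fffe0001fffe0001fffe0001fffe0001fffe0001fffe0001fffe0001fffe0001fffe0001fc03fc03fc03fc03fc03fc03fc03fc03fc03fc03fc03fc03fc03fc03fc03fc03fc03fc03fc03fc03fc03fc038787878787878787878787878787878787878787878787878787878787878787878787878787878787878784ccccccccccccccccccccccccccccccccccccccccccccccccccccccccccccccccccccccccccccccccccccccc55555555555555555555555555555555555555555555555555555555555555555555555555555555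5555555400000000000000000000000000000000000000000000000000000000000000000000000000000000000000040000000000000000000000000000000000000000400000000000000000000000000000000000000000000000000000000000000000000001000000000000000000000000000000000000000000000000000000000000000000000000000000000000000000000000000000000000000000000000000020000000000000000000000000000000000000000000000000000010000000000000000000000000000000000000000000000000000000000000000000000000000000000000000000000000000000000000000000200000000000000000000000000000000000000040000000000000000000000000000000000000000000000000000000000000000000000000000000)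

theorem o_T76_s56_F : Frame 351 (grp 351 o_O) 7 16 o_T76_s56_O 1 1 :=
  IsBase.frame o_T76_s56.isBase (by decide +kernel)

noncomputable def ot_c16_cnt_L : List ℕ := [2, 7, o_T76_s2_O, 0, 0, 3, 8, o_T76_s3_O, 0, 0, 4, 10, o_T76_s35_O, 0, 0, 5, 13, o_T76_s41_O, 0, 0, 7, 16, o_T76_s56_O, 1, 0]

theorem ot_c16_cnt_P : Prob 351 9 (grp 351 o_O) ot_c16_cnt_EG [o_g304] [o_g304] ot_c16_K ot_c16_cnt_L 0 0 :=
  Sym.prob o_hn o_hk ot_c16_sym ot_c16_cnt_EG_ok (grp_cons_le o_g1_o_T76 (grp_cons_le o_g_o_T76 (grp_cons_le o_g2_o_T76 (grp_cons_le o_g3_o_T76 (grp_cons_le o_g4_o_T76 (grp_cons_le o_g5_o_T76 (grp_cons_le o_g8_o_T76 (grp_cons_le o_g9_o_T76 (grp_cons_le o_g12_o_T76 (grp_cons_le o_g13_o_T76 (grp_cons_le o_g14_o_T76 (grp_cons_le o_g17_o_T76 (grp_cons_le o_g18_o_T76 (grp_cons_le o_g19_o_T76 (grp_cons_le o_g20_o_T76 (grp_cons_le o_g23_o_T76 (grp_cons_le o_g24_o_T76 (grp_cons_le o_g25_o_T76 (grp_cons_le o_g26_o_T76 (grp_cons_le o_c_o_T76 (grp_cons_le o_g27_o_T76 (grp_cons_le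 o_g30_o_T76 (grp_cons_le o_g31_o_T76 (grp_cons_le o_g32_o_T76 (grp_cons_le o_g35_o_T76 (grp_cons_le o_b_o_T76 (grp_cons_le o_d_o_T76 (grp_cons_le o_e_o_T76 (grp_cons_le o_f_o_T76 (grp_cons_le o_h_o_T76 (grp_cons_le o_i_o_T76 (grp_cons_le o_g88_o_T76 (grp_cons_le o_g89_o_T76 (grp_cons_le o_g90_o_T76 (grp_cons_le o_g91_o_T76 (grp_cons_le o_g92_o_T76 (grp_cons_le o_g93_o_T76 (grp_cons_le o_g94_o_T76 (grp_cons_le o_g208_o_T76 (grp_cons_le o_g209_o_T76 (grp_cons_le o_g210_o_T76 (grp_cons_le o_g241_o_T76 (grp_cons_le o_g240_o_T76 (grp_nil_le _)))))))))))))))))))))))))))))))))))))))))))) (Frames.cons o_T76_s2_F (Frames.cons o_T76_s3_F (Frames.cons o_T76_s35_F (Frames.cons o_T76_s41_F (Frames.cons o_T76_s56_F Frames.nil))))) (okE_cons.2 ⟨o_g304_ok, okE_nil _⟩) _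

noncomputable def ot_c16_cnt_t : BT := (BT.fix (nat_lit 257) (BT.fix (nat_lit 1) (BT.dif (nat_lit 1) (nat_lit 0) (BT.br (nat_lit 0) (nat_lit 71) [nat_lit 1, nat_lit 3] (BT.kid (nat_lit 71) (nat_lit 2916) (BT.img (nat_lit 1) (nat_lit 0) (BT.frm (nat_lit 0) (nat_lit 0x611330610) (nat_lit 0x611330610) [nat_lit 0, nat_lit 1] (BT.pln (nat_lit 0) (nat_lit 4) (BT.and (nat_lit 4) (nat_lit 0) (BT.br (nat_lit 0) (nat_lit 72) [nat_lit 3] (BT.dead (nat_lit 76) (BT.frm (nat_lit 1) (nat_lit 0x3f41410611330610) (nat_lit 0x3f3f430611330610) [nat_lit 0, nat_lit 4, nat_lit 5] (BT.pln (nat_lit 0) (nat_lit 3) (BT.dif (nat_lit 4) (nat_lit 0) (BT.dif (nat_lit 0) (nat_lit 11) (BT.br (nat_lit 0) (nat_lit 4) [nat_lit 1545, nat_lit 0xd0c08050505] (BT.dead (nat_lit 1) (BT.frm (nat_lit 2) (nat_lit 0x41484a3f41410611330610) (nat_lit 0x41453f3f430611330610) [nat_lit 0, nat_lit 5, nat_lit 9, nat_lit 10] (BT.pln (nat_lit 0) (nat_lit 5) (BT.img (nat_lit 1) (nat_lit 2) (BT.and (nat_lit 1) (nat_lit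 0) (BT.cnt (nat_lit 0)))))) BT.nil)))))) (BT.kid (nat_lit 72) (nat_lit 972) (BT.frm (nat_lit 1) (nat_lit 0x3f41410611330610) (nat_lit 0x3f41410611330610) [nat_lit 0, nat_lit 4, nat_lit 5] (BT.pln (nat_lit 0) (nat_lit 3) (BT.dif (nat_lit 4) (nat_lit 0) (BT.dif (nat_lit 0) (nat_lit 11) (BT.br (nat_lit 0) (nat_lit 4) [nat_lit 5, nat_lit 9] (BT.kid (nat_lit 4) (nat_lit 36) (BT.and (nat_lit 7) (nat_lit 3) (BT.frm (nat_lit 2) (nat_lit 0x41484a3f41410611330610) (nat_lit 0x41484a3f41410611330610) [nat_lit 1, nat_lit 6, nat_lit 10, nat_lit 11] (BT.pln (nat_lit 0) (nat_lit 6) (BT.and (nat_lit 2) (nat_lit 0) (BT.dif (nat_lit 0) (nat_lit 17) (BT.pln (nat_lit 3) (nat_lit 7) (BT.dif (nat_lit 1) (nat_lit 0) (BT.br (nat_lit 0) (nat_lit 144) [nat_lit 7, nat_lit 9] (BT.kid (nat_lit 144) (nat_lit 6) (BT.dif (nat_lit 2) (nat_lit 11) (BT.pln (nat_lit 7) (nat_lit 5) (BT.dif (nat_lit 1) (nat_lit 0) (BT.pln (nat_lit 15) (nat_lit 5) (BT.and (nat_lit 1) (nat_lit 0) (BT.dif (nat_lit 0) (nat_lit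 26) (BT.frm (nat_lit 3) (nat_lit 0x4f41484a3f41410611330610) (nat_lit 0x4f41484a3f41410611330610) [nat_lit 6, nat_lit 14, nat_lit 19, nat_lit 23, nat_lit 24] (BT.pln (nat_lit 0) (nat_lit 8) (BT.dif (nat_lit 2) (nat_lit 0) (BT.br (nat_lit 0) (nat_lit 60) [nat_lit 11] (BT.kid (nat_lit 60) (nat_lit 2) (BT.dif (nat_lit 6) (nat_lit 2) (BT.pln (nat_lit 4) (nat_lit 11) (BT.and (nat_lit 1) (nat_lit 0) (BT.dif (nat_lit 0) (nat_lit 24) (BT.dif (nat_lit 0) (nat_lit 35) (BT.dif (nat_lit 0) (nat_lit 5) (BT.br (nat_lit 0) (nat_lit 74) [nat_lit 13] (BT.kid (nat_lit 74) (nat_lit 1) (BT.one (nat_lit 4) (nat_lit 0x564f41484a3f41410611330610) (nat_lit 0x564f41484a3f41410611330610) [nat_lit 0, nat_lit 7, nat_lit 17, nat_lit 25, nat_lit 30, nat_lit 34, nat_lit 35]) BT.nil)))))))) BT.nil))))))))))) BT.nil))))))))) BT.nil)))))) BT.nil))))))) BT.nil)))))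

theorem ot_c16_cnt : Cnt 351 (grp 351 o_O) [o_g304] [o_g304] 0 0 0 0 23328 :=
  BT.sound ot_c16_cnt_P Known.nil (t := ot_c16_cnt_t) (d := 0) (by decide +kernel)

theorem ot_c16_ge : 23328 ≤ Nat.card (grp 351 ot_c16_K) :=
  Ch.le_card_grp (k := 9) (L := (lab 351 9)) o_hn ot_c16_K_ok (c := (Ch.cons (nat_lit 71) [nat_lit 1] (Ch.cons (nat_lit 72) [nat_lit 3] (Ch.cons (nat_lit 4) [nat_lit 5] (Ch.cons (nat_lit 144) [nat_lit 7, nat_lit 9] (Ch.cons (nat_lit 60) [nat_lit 11] (Ch.cons (nat_lit 74) [nat_lit 13] Ch.nil))))))) (by decide +kernel)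

theorem ot_c16_eq : (grp 351 o_O) ⊓ Subgroup.centralizer {Net.toPerm 351 o_g304} = grp 351 ot_c16_K :=
  cent_eq ot_c16_sym ot_c16_cnt ot_c16_ge

theorem ot_c16_card : Nat.card ↥((grp 351 o_O) ⊓ Subgroup.centralizer {Net.toPerm 351 o_g304}) = 23328 :=
  card_cent ot_c16_sym ot_c16_cnt ot_c16_ge

theorem ot_c16_ord : orderOf (Net.toPerm 351 o_g304) = 6 :=
  orderOf_net o_hn o_hk o_g304_ok (by decide) (ps := [2, 3]) (by set_option linter.unusedSimpArgs false in simp [Nat.primeFactorsList_ofNat]) (by decide +kernel)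

theorem o_le321 : grp 351 ot_c17_K ≤ grp 351 o_lb_E :=
  grp_le_of_memB o_hn o_hk o_lb_E_ok ot_c17_K_ok (ws := [nat_lit 0x27252d1d1f1e111923011d05, nat_lit 0x433921241f23122611011925, nat_lit 0x433739281f22111929012a0d, nat_lit 0x3b31392825281d2911192205250f]) (by decide +kernel)

theorem ot_c17_le : grp 351 ot_c17_K ≤ (grp 351 o_O) :=
  (o_le321.trans o_T76_s0.le)

theorem ot_c17_mem : Net.toPerm 351 o_g316 ∈ (grp 351 o_O) :=
  ot_c17_le (mem_grp_of_memB o_hn o_hk ot_c17_K_ok o_g316_ok (w := (nat_lit 0x7030703010101)) (by decide +kernel))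

theorem ot_c17_sym : Sym 351 (grp 351 o_O) [o_g316] ot_c17_K 0 :=
  Sym.of_lab o_hn o_hk (okE_cons.2 ⟨o_g316_ok, okE_nil _⟩) ot_c17_K_ok ot_c17_le (kT := 0) (by decide +kernel)

noncomputable def ot_c17_cnt_L : List ℕ := [1, 2, o_T76_s1_O, 0, 0, 2, 7, o_T76_s2_O, 0, 0, 3, 8, o_T76_s3_O, 0, 0, 4, 10, o_T76_s35_O, 0, 0, 5, 13, o_T76_s41_O, 0, 0, 7, 16, o_T76_s56_O, 1, 0]

theorem ot_c17_cnt_P : Prob 351 9 (grp 351 o_O) ot_c17_cnt_EG [o_g316] [o_g316] ot_c17_K ot_c17_cnt_L 0 0 :=
  Sym.prob o_hn o_hk ot_c17_sym ot_c17_cnt_EG_ok (grp_cons_le o_b_o_T76 (grp_cons_le o_c_o_T76 (grp_cons_le o_d_o_T76 (grp_cons_le o_e_o_T76 (grp_cons_le o_f_o_T76 (grp_cons_le o_g_o_T76 (grp_cons_le o_h_o_T76 (grp_cons_le o_i_o_T76 (grp_cons_le o_g1_o_T76 (grp_cons_le o_g2_o_T76 (grp_cons_le o_g3_o_T76 (grp_cons_le o_g4_o_T76 (grp_cons_le o_g5_o_T76 (grp_cons_le o_g8_o_T76 (grp_cons_le o_g9_o_T76 (grp_cons_le o_g12_o_T76 (grp_cons_le o_g13_o_T76 (grp_cons_le o_g14_o_T76 (grp_cons_le o_g17_o_T76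 (grp_cons_le o_g18_o_T76 (grp_cons_le o_g19_o_T76 (grp_cons_le o_g20_o_T76 (grp_cons_le o_g23_o_T76 (grp_cons_le o_g24_o_T76 (grp_cons_le o_g25_o_T76 (grp_cons_le o_g26_o_T76 (grp_cons_le o_g27_o_T76 (grp_cons_le o_g30_o_T76 (grp_cons_le o_g31_o_T76 (grp_cons_le o_g32_o_T76 (grp_cons_le o_g35_o_T76 (grp_cons_le o_g88_o_T76 (grp_cons_le o_g89_o_T76 (grp_cons_le o_g90_o_T76 (grp_cons_le o_g91_o_T76 (grp_cons_le o_g92_o_T76 (grp_cons_le o_g93_o_T76 (grp_cons_le o_g94_o_T76 (grp_cons_le o_g208_o_T76 (grp_cons_le o_g209_o_T76 (grp_cons_le o_g210_o_T76 (grp_cons_le o_g241_o_T76 (grp_cons_le o_g240_o_T76 (grp_nil_le _)))))))))))))))))))))))))))))))))))))))))))) (Frames.cons o_T76_s1_F (Frames.cons o_T76_s2_F (Frames.cons o_T76_s3_F (Frames.cons o_T76_s35_F (Frames.cons o_T76_s41_F (Frames.cons o_T76_s56_F Frames.nil)))))) (okE_cons.2 ⟨o_g316_ok, okE_nil _⟩) _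

noncomputable def ot_c17_cnt_t : BT := (BT.fix (nat_lit 257) (BT.fix (nat_lit 1) (BT.dif (nat_lit 1) (nat_lit 0) (BT.br (nat_lit 0) (nat_lit 7) [nat_lit 1, nat_lit 3, nat_lit 5] (BT.dead (nat_lit 157) (BT.frm (nat_lit 0) (nat_lit 1298) (nat_lit 66331) [nat_lit 0] (BT.pln (nat_lit 0) (nat_lit 1) (BT.and (nat_lit 0) (nat_lit 4) (BT.cnt (nat_lit 0))))) (BT.kid (nat_lit 7) (nat_lit 162) (BT.img (nat_lit 1) (nat_lit 0) (BT.frm (nat_lit 1) (nat_lit 0x2b120512) (nat_lit 0x2b120512) [nat_lit 0, nat_lit 1] (BT.pln (nat_lit 0) (nat_lit 4) (BT.and (nat_lit 6) (nat_lit 0) (BT.br (nat_lit 0) (nat_lit 157) [] (BT.dead (nat_lit 164) (BT.frm (nat_lit 2) (nat_lit 0x3f3f47432b120512) (nat_lit 0x3f41492b120512) [nat_lit 0, nat_lit 4, nat_lit 5] (BT.pln (nat_lit 0) (nat_lit 3) (BT.frm (nat_lit 0) (nat_lit 1298) (nat_lit 1298) [nat_lit 7] (BT.pln (nat_lit 0) (nat_lit 1) (BT.and (nat_lit 12) (nat_lit 0) (BT.dif (nat_lit 0) (nat_lit 12) (BT.img (nat_lit 1) (nat_lit 0) (BT.and (nat_lit 5)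 (nat_lit 0) (BT.cnt (nat_lit 0)))))))))) (BT.dead (nat_lit 336) (BT.frm (nat_lit 2) (nat_lit 0x3f3f47432b120512) (nat_lit 0x3f41412b120512) [nat_lit 0, nat_lit 4, nat_lit 5] (BT.pln (nat_lit 0) (nat_lit 3) (BT.and (nat_lit 0) (nat_lit 9) (BT.pln (nat_lit 6) (nat_lit 3) (BT.and (nat_lit 1) (nat_lit 0) (BT.cnt (nat_lit 0))))))) (BT.dead (nat_lit 247) (BT.frm (nat_lit 2) (nat_lit 0x3f3f47432b120512) (nat_lit 0x4040432b120512) [nat_lit 0, nat_lit 4, nat_lit 5] (BT.pln (nat_lit 0) (nat_lit 3) (BT.and (nat_lit 0) (nat_lit 9) (BT.cnt (nat_lit 0))))) (BT.dead (nat_lit 217) (BT.frm (nat_lit 2) (nat_lit 0x3f3f47432b120512) (nat_lit 0x3f3f432b120512) [nat_lit 0, nat_lit 4, nat_lit 5] (BT.pln (nat_lit 0) (nat_lit 3) (BT.and (nat_lit 0) (nat_lit 9) (BT.cnt (nat_lit 0))))) (BT.dead (nat_lit 258) (BT.frm (nat_lit 2) (nat_lit 0x3f3f47432b120512) (nat_lit 0x3f2b120512) [nat_lit 0, nat_lit 4, nat_lit 5] (BT.pln (nat_lit 0) (nat_lit 3) (BT.and (nat_lit 0) (nat_lit 9) (BT.cnt (nat_lit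 0))))) (BT.kid (nat_lit 157) (nat_lit 162) (BT.frm (nat_lit 2) (nat_lit 0x3f3f47432b120512) (nat_lit 0x3f3f47432b120512) [nat_lit 0, nat_lit 4, nat_lit 5] (BT.pln (nat_lit 0) (nat_lit 3) (BT.dif (nat_lit 4) (nat_lit 0) (BT.dif (nat_lit 0) (nat_lit 11) (BT.br (nat_lit 0) (nat_lit 33) [nat_lit 3, nat_lit 5, nat_lit 7] (BT.kid (nat_lit 33) (nat_lit 6) (BT.dif (nat_lit 16) (nat_lit 3) (BT.pln (nat_lit 5) (nat_lit 5) (BT.and (nat_lit 1) (nat_lit 0) (BT.pln (nat_lit 7) (nat_lit 4) (BT.dif (nat_lit 1) (nat_lit 0) (BT.dif (nat_lit 0) (nat_lit 18) (BT.pln (nat_lit 10) (nat_lit 6) (BT.dif (nat_lit 1) (nat_lit 0) (BT.frm (nat_lit 3) (nat_lit 0x44413f3f47432b120512) (nat_lit 0x44413f3f47432b120512) [nat_lit 8, nat_lit 13, nat_lit 17, nat_lit 18] (BT.pln (nat_lit 0) (nat_lit 4) (BT.dif (nat_lit 2) (nat_lit 0) (BT.img (nat_lit 1) (nat_lit 11) (BT.frm (nat_lit 4) (nat_lit 0x44413f3f47432b120512) (nat_lit 0x44413f3f47432b120512) [nat_lit 0, nat_lit 12, nat_lit 17, nat_lit 21, nat_lit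 22] (BT.pln (nat_lit 0) (nat_lit 5) (BT.and (nat_lit 3) (nat_lit 0) (BT.br (nat_lit 0) (nat_lit 9) [nat_lit 5] (BT.kid (nat_lit 9) (nat_lit 2) (BT.dif (nat_lit 14) (nat_lit 6) (BT.pln (nat_lit 8) (nat_lit 5) (BT.dif (nat_lit 1) (nat_lit 0) (BT.dif (nat_lit 0) (nat_lit 22) (BT.dif (nat_lit 0) (nat_lit 33) (BT.and (nat_lit 0) (nat_lit 7) (BT.dif (nat_lit 0) (nat_lit 6) (BT.br (nat_lit 0) (nat_lit 148) [nat_lit 7] (BT.kid (nat_lit 148) (nat_lit 1) (BT.one (nat_lit 5) (nat_lit 0x5644413f3f47432b120512) (nat_lit 0x5644413f3f47432b120512) [nat_lit 0, nat_lit 8, nat_lit 12, nat_lit 24, nat_lit 29, nat_lit 33, nat_lit 34]) BT.nil))))))))) BT.nil))))))))))))))))) BT.nil)))))) BT.nil))))))))))) BT.nil))))))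

theorem ot_c17_cnt : Cnt 351 (grp 351 o_O) [o_g316] [o_g316] 0 0 0 0 3888 :=
  BT.sound ot_c17_cnt_P Known.nil (t := ot_c17_cnt_t) (d := 0) (by decide +kernel)

theorem ot_c17_ge : 3888 ≤ Nat.card (grp 351 ot_c17_K) :=
  Ch.le_card_grp (k := 9) (L := (lab 351 9)) o_hn ot_c17_K_ok (c := (Ch.cons (nat_lit 7) [nat_lit 1] (Ch.cons (nat_lit 33) [nat_lit 3] (Ch.cons (nat_lit 9) [nat_lit 5] (Ch.cons (nat_lit 148) [nat_lit 7] Ch.nil))))) (by decide +kernel)

theorem ot_c17_eq : (grp 351 o_O) ⊓ Subgroup.centralizer {Net.toPerm 351 o_g316} = grp 351 ot_c17_K :=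
  cent_eq ot_c17_sym ot_c17_cnt ot_c17_ge

theorem ot_c17_card : Nat.card ↥((grp 351 o_O) ⊓ Subgroup.centralizer {Net.toPerm 351 o_g316}) = 3888 :=
  card_cent ot_c17_sym ot_c17_cnt ot_c17_ge

theorem ot_c17_ord : orderOf (Net.toPerm 351 o_g316) = 6 :=
  orderOf_net o_hn o_hk o_g316_ok (by decide) (ps := [2, 3]) (by set_option linter.unusedSimpArgs false in simp [Nat.primeFactorsList_ofNat]) (by decide +kernel)

theorem o_le330 : grp 351 ot_c18_K ≤ grp 351 o_lb_E :=
  grp_le_of_memB o_hn o_hk o_lb_E_ok ot_c18_K_ok (ws := [nat_lit 0x433b2821241e2f1121011e07, nat_lit 0x43313928253f1d2d111929010320, nat_lit 0x3b313925221d2822171f01050d29, nat_lit 0x452f3928211d1a25011e05, nat_lit 0x433b2725241d201122011e05, nat_lit 0x433b31391d41171f012017, nat_lit 0x37391e011d07]) (by decide +kernel)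

theorem ot_c18_le : grp 351 ot_c18_K ≤ (grp 351 o_O) :=
  (o_le330.trans o_T76_s0.le)

theorem ot_c18_mem : Net.toPerm 351 o_g322 ∈ (grp 351 o_O) :=
  ot_c18_le (mem_grp_of_memB o_hn o_hk ot_c18_K_ok o_g322_ok (w := (nat_lit 0x905050503)) (by decide +kernel))

theorem ot_c18_sym : Sym 351 (grp 351 o_O) [o_g322] ot_c18_K 0 :=
  Sym.of_lab o_hn o_hk (okE_cons.2 ⟨o_g322_ok, okE_nil _⟩) ot_c18_K_ok ot_c18_le (kT := 0) (by decide +kernel)

theorem o_le337 : grp 351 o_V336 ≤ grp 351 o_V113 :=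
  grp_le_of_memB o_hn o_hk o_V113_ok o_V336_ok (ws := [nat_lit 0x271f150b050109, nat_lit 0x29271f150b090c, nat_lit 0x29271f151d0b090c010802, nat_lit 0x1f1b0a010802, nat_lit 0x271f151d0b09230301]) (by decide +kernel)

theorem o_T76_s57 : Stab 351 (grp 351 o_O) [nat_lit 273, nat_lit 3, nat_lit 0] o_V336 1296 :=
  Stab.step (k := 9) (L := (lab 351 9)) o_hn o_T76_s8 o_V336_ok o_le337 (c := (Ch.cons (nat_lit 308) [nat_lit 1] (Ch.cons (nat_lit 88) [nat_lit 3, nat_lit 5] (Ch.cons (nat_lit 232) [nat_lit 7] (Ch.cons (nat_lit 22) [nat_lit 9] Ch.nil))))) (by decide +kernel)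

theorem o_T76_s58 : Stab 351 (grp 351 o_O) [nat_lit 308, nat_lit 273, nat_lit 3, nat_lit 0] o_V338 36 :=
  Stab.step (k := 9) (L := (lab 351 9)) o_hn o_T76_s57 o_V338_ok (grp_mono (List.subset_append_right [o_g331] _)) (c := (Ch.cons (nat_lit 88) [nat_lit 1, nat_lit 3] (Ch.cons (nat_lit 232) [nat_lit 5] (Ch.cons (nat_lit 22) [nat_lit 7] Ch.nil)))) (by decide +kernel)

theorem o_T76_s59 : Stab 351 (grp 351 o_O) [nat_lit 88, nat_lit 308, nat_lit 273, nat_lit 3, nat_lit 0] o_V339 6 :=
  Stab.step (k := 9) (L := (lab 351 9)) o_hn o_T76_s58 o_V339_ok (grp_mono (List.subset_append_right [o_g332, o_g333] _)) (c := (Ch.cons (nat_lit 232) [nat_lit 1] (Ch.cons (nat_lit 22) [nat_lit 3] Ch.nil))) (by decide +kernel)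

theorem o_T76_s60 : Stab 351 (grp 351 o_O) [nat_lit 232, nat_lit 88, nat_lit 308, nat_lit 273, nat_lit 3, nat_lit 0] o_V340 2 :=
  Stab.step (k := 9) (L := (lab 351 9)) o_hn o_T76_s59 o_V340_ok (grp_mono (List.subset_append_right [o_g334] _)) (c := (Ch.cons (nat_lit 22) [nat_lit 1] Ch.nil)) (by decide +kernel)

theorem o_T76_s61 : Stab 351 (grp 351 o_O) [nat_lit 22, nat_lit 232, nat_lit 88, nat_lit 308, nat_lit 273, nat_lit 3, nat_lit 0] o_V341 1 :=
  Stab.step (k := 9) (L := (lab 351 9)) o_hn o_T76_s60 o_V341_ok (grp_mono (List.subset_append_right [o_g335] _)) (c := Ch.nil) (by decide +kernel)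

theorem o_g331_o_T76 : Net.toPerm 351 o_g331 ∈ (grp 351 o_O) :=
  o_T76_s57.le (toPerm_mem_grp (E := o_V336) (List.Mem.head _))

theorem o_g332_o_T76 : Net.toPerm 351 o_g332 ∈ (grp 351 o_O) :=
  o_T76_s57.le (toPerm_mem_grp (E := o_V336) (List.Mem.tail _ (List.Mem.head _)))

theorem o_g333_o_T76 : Net.toPerm 351 o_g333 ∈ (grp 351 o_O) :=
  o_T76_s57.le (toPerm_mem_grp (E := o_V336) (List.Mem.tail _ (List.Mem.tail _ (List.Mem.head _))))

theorem o_g334_o_T76 : Net.toPerm 351 o_g334 ∈ (grp 351 o_O) :=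
  o_T76_s57.le (toPerm_mem_grp (E := o_V336) (List.Mem.tail _ (List.Mem.tail _ (List.Mem.tail _ (List.Mem.head _)))))

theorem o_g335_o_T76 : Net.toPerm 351 o_g335 ∈ (grp 351 o_O) :=
  o_T76_s57.le (toPerm_mem_grp (E := o_V336) (List.Mem.tail _ (List.Mem.tail _ (List.Mem.tail _ (List.Mem.tail _ (List.Mem.head _))))))

noncomputable def o_T76_s61_O : ℕ := (nat_lit 0xfffffffffffffffffffffffe0000000000000000000000000000000000000000000000000000000000000000000000000000000000000003fffffffffffffffffffffffffffffffc00000000000000000000000000000003fffffff80000000000000007fffffffffffffff80000000000000007fffffffffffffff800000000000000000000000ffffffff00000000ffffffff00000000ffffffff00000000ffffffff00000000ffffffff00000000fffe0001fffe0001fffe0001fffe0001fffe0001fffe0001fffe0001fffe0001fffe0001fffe0001fffe0001fc03fc03fc03fc03fc03fc03fc03fc03fc03fc03fc03fc03fc03fc03fc03fc03fc03fc03fc03fc03fc03fc03878787878787878787878787878787878787878787878787878787878787878787878787878787878787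8784ccccccccccccccccccccccccccccccccccccccccccccccccccccccccccccccccccccccccccccccccccccccc555555555555555555555555555555555555555555555555555555555555555555555555555555555555555400000000000000000000000000000000000000000000000000000000000000000000000000000000000000040000000000000000000000000000000000000000000000000000000000000000000000000000000000000040000000000000000000200000000000000000000000000000000000000000000000000000000000000000000000000000020000000000000000000000000000000000000000000000000000000000000000000000000000000000000000000000000000000000000000000000000000000000000000000000400000000000000000000000000000000000000000000000000080000000000000000000000000000000000000000000000000000000000000000000000000000000000000000000000000000000000000000000000000000000000000000000400000)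

theorem o_T76_s61_F : Frame 351 (grp 351 o_O) 7 16 o_T76_s61_O 1 1 :=
  IsBase.frame o_T76_s61.isBase (by decide +kernel)

noncomputable def o_T76_s59_O : ℕ := (nat_lit 0xb0800000000000000000000000000000000000000000000000000000000000000000000000000355000f6c2000d22a5823d0738f2551e14fbc749e2dd5a79c2f8c10dc9298000154000000000014080020d41110ec20201001a454b047a0e49e15002d600416010454b00620c49e06ca0fdfbabffffff99e002810004000247edf9cfdc00348a9608f400580962c02c20e37fdf17792c351823408b19f4ef02ff28004c3ff80ce00035065a5ffa2d5002791722880139a7a45c0f0bb61675a7d52d2615ce58c922b39bef40000ff0807f81822f446a0228980160d892db419aa20972c0bd25cab2ae5831d3ded12683dae86cb56797615da31e1ef0f0e8e05f15d402eeda82e2f3959250720b5ad2b8e568501938b193c6f23bd2c6cab898d78fe1e292b4b3361999b9ac7191d03692aaa570b48af598d8b51572aab5029a94d2031cebb11de54bdb0ba6b858cbae6b47554eaaaac2755742ca0000000000000000000000000000000000000000000000000000000000000000000000000000000000000001000000000000000000000000000000000000000000000000000000000000000000000000000000000000001000000000000000000008000000000000000000000000000000000000000000000000000000000000000000000000000000800000000000000000000000000000000000000000000000000000000000000000000000000000000000000000000000000000000000000000000000000000000000000000000010000000000000000000000)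

theorem o_T76_s59_F : Frame 351 (grp 351 o_O) 5 13 o_T76_s59_O 0 1 :=
  Stab.frame o_hn o_T76_s59 (by decide +kernel)

noncomputable def o_T76_s58_O : ℕ := (nat_lit 0x10000000000787c9397c8f21c0374010000000000000000000000000800000000fd00000000000712004e2405eebb01181084e114000018018907c8a30f41387c111ffac79e378faf9ad373ee05bcefa2e70c00001000260a5b37fd3350080020002030733220c871ffb2d70996d10aacc0ed0c847a98d9f90dfe30a83187e43b20004c0f4313f0dd12d240488a4260e43c9ad4ffcd3ae60ed27e297c163fc22c26bc784d610a5ee983cf0001fc50982281ff9d71423b648124c7ed0b49fe963fc1b03c587733e5441f84052b943c2e753351b308b419ef10e2a13061a47a6313c8c5922f752f214e842e44052d63f4482da29a4edebe7ffd688fd0fe5c4e4884dd2aa1a3afa940000000000000000000000000000000000000000000000000000000000000000000000000000000000000000200000000000000000000000000000000000000000000000000000000000000000000000000000000000000200000000000000000001000000000000000000000000000000000000000000000000000000000000000000000000000000100000000000000000000000000000000000000000000000000000000000000000000000000000)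

theorem o_T76_s58_F : Frame 351 (grp 351 o_O) 4 10 o_T76_s58_O 0 1 :=
  Stab.frame o_hn o_T76_s58 (by decide +kernel)

noncomputable def o_T76_s57_O : ℕ := (nat_lit 0x200000000000000000000000000000000000000000000000000000000000000000000000000003000000000000000000000000000000000000000000000000000000000000000000000000000000000000030002001000000064000000000000000000000000000100000000018000000000000000088000000000000000810000800e000100000000000000000000000000100000000000040000000000010002000080000000000000c12008222060000800000008000000000000000000000000000000000000400000700005000100000000002008098500860080c4010000000000000000000000000000000000a00000000000021000003500100400260000000000000000000010040006000304802088818000240200010000002000040000000c000000108000000800000000000001000000000100000800000200c010cc800800c00001080010102000304400000000000200000000000000000180402100000010c0208010804000200180420000000001024030400801000000000002001c441a6682b013b000000000000000000000000000000000000000041000000000001020011c8b16480a81000000000000000000004003b57492900010c8056000600020943043000500a3000824000000000080076ae1250000000000000000002c901502005110480a00004e00000201811980854200004834000000000000000000000000000000000000000000000000000000000000000000000000000000000000000000000000040000000000000000000000000000000000000000000000000000000000000000000000000000000000000040000000000000000000200000000000000000000000000000000000000000000000000000000000000000000)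

theorem o_T76_s57_F : Frame 351 (grp 351 o_O) 3 15 o_T76_s57_O 0 1 :=
  Stab.frame o_hn o_T76_s57 (by decide +kernel)

noncomputable def ot_c18_cnt_L : List ℕ := [1, 2, o_T76_s1_O, 0, 0, 2, 5, o_T76_s8_O, 0, 0, 3, 15, o_T76_s57_O, 0, 0, 4, 10, o_T76_s58_O, 0, 0, 5, 13, o_T76_s59_O, 0, 0, 7, 16, o_T76_s61_O, 1, 0]

theorem ot_c18_cnt_P : Prob 351 9 (grp 351 o_O) ot_c18_cnt_EG [o_g322] [o_g322] ot_c18_K ot_c18_cnt_L 0 0 :=
  Sym.prob o_hn o_hk ot_c18_sym ot_c18_cnt_EG_ok (grp_cons_le o_b_o_T76 (grp_cons_le o_c_o_T76 (grp_cons_le o_d_o_T76 (grp_cons_le o_e_o_T76 (grp_cons_le o_f_o_T76 (grp_cons_le o_g_o_T76 (grp_cons_le o_h_o_T76 (grp_cons_le o_i_o_T76 (grp_cons_le o_g1_o_T76 (grp_cons_le o_g2_o_T76 (grp_cons_le o_g3_o_T76 (grp_cons_le o_g4_o_T76 (grp_cons_le o_g5_o_T76 (grp_cons_le o_g8_o_T76 (grp_cons_le o_g9_o_T76 (grp_cons_le o_g12_o_T76 (grp_cons_le o_g13_o_T76 (grp_cons_le o_g14_o_T76 (grp_cons_le o_g17_o_T76 (grp_cons_le o_g18_o_T76 (grp_cons_le o_g19_o_T76 (grp_cons_le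 o_g20_o_T76 (grp_cons_le o_g23_o_T76 (grp_cons_le o_g24_o_T76 (grp_cons_le o_g25_o_T76 (grp_cons_le o_g26_o_T76 (grp_cons_le o_g27_o_T76 (grp_cons_le o_g30_o_T76 (grp_cons_le o_g31_o_T76 (grp_cons_le o_g32_o_T76 (grp_cons_le o_g35_o_T76 (grp_cons_le o_g331_o_T76 (grp_cons_le o_g332_o_T76 (grp_cons_le o_g333_o_T76 (grp_cons_le o_g334_o_T76 (grp_cons_le o_g335_o_T76 (grp_nil_le _))))))))))))))))))))))))))))))))))))) (Frames.cons o_T76_s1_F (Frames.cons o_T76_s8_F (Frames.cons o_T76_s57_F (Frames.cons o_T76_s58_F (Frames.cons o_T76_s59_F (Frames.cons o_T76_s61_F Frames.nil)))))) (okE_cons.2 ⟨o_g322_ok, okE_nil _⟩) _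

noncomputable def ot_c18_cnt_t : BT := (BT.fix (nat_lit 1) (BT.br (nat_lit 0) (nat_lit 28) [nat_lit 1, nat_lit 3] (BT.dead (nat_lit 217) (BT.frm (nat_lit 0) (nat_lit 74005) (nat_lit 72483) [nat_lit 0] (BT.pln (nat_lit 0) (nat_lit 1) (BT.and (nat_lit 0) (nat_lit 3) (BT.cnt (nat_lit 0))))) (BT.kid (nat_lit 28) (nat_lit 432) (BT.fix (nat_lit 257) (BT.frm (nat_lit 0) (nat_lit 74005) (nat_lit 74005) [nat_lit 1] (BT.pln (nat_lit 0) (nat_lit 1) (BT.and (nat_lit 2) (nat_lit 0) (BT.dif (nat_lit 0) (nat_lit 5) (BT.br (nat_lit 0) (nat_lit 15) [nat_lit 3] (BT.kid (nat_lit 15) (nat_lit 216) (BT.dif (nat_lit 10) (nat_lit 3) (BT.frm (nat_lit 1) (nat_lit 0x1722012115) (nat_lit 0x1722012115) [nat_lit 1, nat_lit 7] (BT.pln (nat_lit 0) (nat_lit 3) (BT.and (nat_lit 8) (nat_lit 0) (BT.dif (nat_lit 0) (nat_lit 11) (BT.frm (nat_lit 2) (nat_lit 0x1b1e211722012115) (nat_lit 0x1b1e211722012115) [nat_lit 0, nat_lit 5, nat_lit 11] (BT.pln (nat_lit 0) (nat_lit 5) (BT.and (nat_lit 6) (nat_lit 0)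 (BT.dif (nat_lit 0) (nat_lit 13) (BT.br (nat_lit 0) (nat_lit 34) [nat_lit 5] (BT.dead (nat_lit 88) (BT.frm (nat_lit 3) (nat_lit 0x3f463f1b1e211722012115) (nat_lit 0x3f423f413f1b1e211722012115) [nat_lit 0, nat_lit 5, nat_lit 10, nat_lit 16] (BT.pln (nat_lit 0) (nat_lit 4) (BT.img (nat_lit 1) (nat_lit 2) (BT.img (nat_lit 1) (nat_lit 0) (BT.and (nat_lit 2) (nat_lit 0) (BT.cnt (nat_lit 0))))))) (BT.kid (nat_lit 34) (nat_lit 36) (BT.pln (nat_lit 4) (nat_lit 12) (BT.and (nat_lit 8) (nat_lit 0) (BT.frm (nat_lit 3) (nat_lit 0x3f463f1b1e211722012115) (nat_lit 0x3f463f1b1e211722012115) [nat_lit 2, nat_lit 7, nat_lit 12, nat_lit 18] (BT.pln (nat_lit 0) (nat_lit 4) (BT.dif (nat_lit 2) (nat_lit 0) (BT.br (nat_lit 0) (nat_lit 263) [nat_lit 7, nat_lit 9] (BT.kid (nat_lit 263) (nat_lit 6) (BT.dif (nat_lit 19) (nat_lit 13) (BT.dif (nat_lit 0) (nat_lit 3) (BT.pln (nat_lit 5) (nat_lit 6) (BT.and (nat_lit 1) (nat_lit 0) (BT.dif (nat_lit 0) (nat_lit 27) (BT.frm (nat_lit 4) (nat_lit 0x433f463f1b1e211722012115)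 (nat_lit 0x433f463f1b1e211722012115) [nat_lit 5, nat_lit 11, nat_lit 16, nat_lit 21, nat_lit 27] (BT.pln (nat_lit 0) (nat_lit 5) (BT.dif (nat_lit 2) (nat_lit 0) (BT.br (nat_lit 0) (nat_lit 281) [nat_lit 11] (BT.kid (nat_lit 281) (nat_lit 2) (BT.dif (nat_lit 8) (nat_lit 2) (BT.pln (nat_lit 4) (nat_lit 7) (BT.and (nat_lit 1) (nat_lit 0) (BT.dif (nat_lit 0) (nat_lit 14) (BT.dif (nat_lit 0) (nat_lit 4) (BT.br (nat_lit 0) (nat_lit 207) [nat_lit 13] (BT.kid (nat_lit 207) (nat_lit 1) (BT.one (nat_lit 5) (nat_lit 0x4745433f463f1b1e211722012115) (nat_lit 0x4745433f463f1b1e211722012115) [nat_lit 0, nat_lit 6, nat_lit 15, nat_lit 21, nat_lit 26, nat_lit 31, nat_lit 37]) BT.nil))))))) BT.nil)))))))))) BT.nil))))))) BT.nil)))))))))))) BT.nil))))))) BT.nil))))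

theorem ot_c18_cnt : Cnt 351 (grp 351 o_O) [o_g322] [o_g322] 0 0 0 0 3888 :=
  BT.sound ot_c18_cnt_P Known.nil (t := ot_c18_cnt_t) (d := 0) (by decide +kernel)

theorem ot_c18_ge : 3888 ≤ Nat.card (grp 351 ot_c18_K) :=
  Ch.le_card_grp (k := 9) (L := (lab 351 9)) o_hn ot_c18_K_ok (c := (Ch.cons (nat_lit 28) [nat_lit 1] (Ch.cons (nat_lit 15) [nat_lit 3] (Ch.cons (nat_lit 34) [nat_lit 5] (Ch.cons (nat_lit 263) [nat_lit 7, nat_lit 9] (Ch.cons (nat_lit 281) [nat_lit 11] (Ch.cons (nat_lit 207) [nat_lit 13] Ch.nil))))))) (by decide +kernel)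

theorem ot_c18_eq : (grp 351 o_O) ⊓ Subgroup.centralizer {Net.toPerm 351 o_g322} = grp 351 ot_c18_K :=
  cent_eq ot_c18_sym ot_c18_cnt ot_c18_ge

theorem ot_c18_card : Nat.card ↥((grp 351 o_O) ⊓ Subgroup.centralizer {Net.toPerm 351 o_g322}) = 3888 :=
  card_cent ot_c18_sym ot_c18_cnt ot_c18_ge

theorem ot_c18_ord : orderOf (Net.toPerm 351 o_g322) = 6 :=
  orderOf_net o_hn o_hk o_g322_ok (by decide) (ps := [2, 3]) (by set_option linter.unusedSimpArgs false in simp [Nat.primeFactorsList_ofNat]) (by decide +kernel)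

theorem o_le349 : grp 351 ot_c19_K ≤ grp 351 o_lb_E :=
  grp_le_of_memB o_hn o_hk o_lb_E_ok ot_c19_K_ok (ws := [nat_lit 0x452f2721231d25112e012212, nat_lit 0x453b392721231d2e1115011929, nat_lit 0x453925281115190105071d, nat_lit 0x45313927253f1d241a011926, nat_lit 0x452f2721240126, nat_lit 0x250126]) (by decide +kernel)

theorem ot_c19_le : grp 351 ot_c19_K ≤ (grp 351 o_O) :=
  (o_le349.trans o_T76_s0.le)

theorem ot_c19_mem : Net.toPerm 351 o_g342 ∈ (grp 351 o_O) :=
  ot_c19_le (mem_grp_of_memB o_hn o_hk ot_c19_K_ok o_g342_ok (w := (nat_lit 0xa0b080101)) (by decide +kernel))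

theorem ot_c19_sym : Sym 351 (grp 351 o_O) [o_g342] ot_c19_K 0 :=
  Sym.of_lab o_hn o_hk (okE_cons.2 ⟨o_g342_ok, okE_nil _⟩) ot_c19_K_ok ot_c19_le (kT := 0) (by decide +kernel)

noncomputable def ot_c19_cnt_L : List ℕ := [2, 7, o_T76_s2_O, 0, 0, 3, 8, o_T76_s3_O, 0, 0, 4, 10, o_T76_s4_O, 0, 0, 6, 14, o_T76_s6_O, 0, 0, 7, 16, o_T76_s7_O, 1, 0]

theorem ot_c19_cnt_P : Prob 351 9 (grp 351 o_O) ot_c19_cnt_EG [o_g342] [o_g342] ot_c19_K ot_c19_cnt_L 0 0 :=
  Sym.prob o_hn o_hk ot_c19_sym ot_c19_cnt_EG_ok (grp_cons_le o_g1_o_T76 (grp_cons_le o_g_o_T76 (grp_cons_le o_g2_o_T76 (grp_cons_le o_g3_o_T76 (grp_cons_le o_g4_o_T76 (grp_cons_le o_g5_o_T76 (grp_cons_le o_g8_o_T76 (grp_cons_le o_g9_o_T76 (grp_cons_le o_g12_o_T76 (grp_cons_le o_g13_o_T76 (grp_cons_le o_g14_o_T76 (grp_cons_le o_g17_o_T76 (grp_cons_le o_g18_o_T76 (grp_cons_le o_g19_o_T76 (grp_cons_le o_g20_o_T76 (grp_cons_le o_g23_o_T76 (grp_cons_le o_g24_o_T76 (grp_cons_le o_g25_o_T76 (grp_cons_le o_g26_o_T76 (grp_cons_le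 o_c_o_T76 (grp_cons_le o_g27_o_T76 (grp_cons_le o_g30_o_T76 (grp_cons_le o_g31_o_T76 (grp_cons_le o_g32_o_T76 (grp_cons_le o_g35_o_T76 (grp_cons_le o_b_o_T76 (grp_cons_le o_d_o_T76 (grp_cons_le o_e_o_T76 (grp_cons_le o_f_o_T76 (grp_cons_le o_h_o_T76 (grp_cons_le o_i_o_T76 (grp_cons_le o_g88_o_T76 (grp_cons_le o_g89_o_T76 (grp_cons_le o_g90_o_T76 (grp_cons_le o_g91_o_T76 (grp_cons_le o_g92_o_T76 (grp_cons_le o_g93_o_T76 (grp_cons_le o_g94_o_T76 (grp_nil_le _))))))))))))))))))))))))))))))))))))))) (Frames.cons o_T76_s2_F (Frames.cons o_T76_s3_F (Frames.cons o_T76_s4_F (Frames.cons o_T76_s6_F (Frames.cons o_T76_s7_F Frames.nil))))) (okE_cons.2 ⟨o_g342_ok, okE_nil _⟩) _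

noncomputable def ot_c19_cnt_t : BT := (BT.fix (nat_lit 257) (BT.fix (nat_lit 1) (BT.dif (nat_lit 1) (nat_lit 0) (BT.br (nat_lit 0) (nat_lit 20) [nat_lit 1, nat_lit 3] (BT.dead (nat_lit 32) (BT.img (nat_lit 1) (nat_lit 0) (BT.frm (nat_lit 0) (nat_lit 0x61133130c) (nat_lit 0xd0a3335370e01) [nat_lit 0, nat_lit 1] (BT.pln (nat_lit 0) (nat_lit 4) (BT.and (nat_lit 6) (nat_lit 0) (BT.br (nat_lit 0) (nat_lit 67) [nat_lit 0xa0b0104] (BT.dead (nat_lit 48) (BT.dif (nat_lit 6) (nat_lit 2) (BT.pln (nat_lit 4) (nat_lit 5) (BT.and (nat_lit 1) (nat_lit 0) (BT.frm (nat_lit 1) (nat_lit 0x3f3f42061133130c) (nat_lit 0x3f3f420d0a3335370e01) [nat_lit 3, nat_lit 7, nat_lit 8] (BT.pln (nat_lit 0) (nat_lit 3) (BT.and (nat_lit 12) (nat_lit 0) (BT.frm (nat_lit 2) (nat_lit 0x42433f3f42061133130c) (nat_lit 0x3f3f420d0a3335370e01) [nat_lit 0, nat_lit 6, nat_lit 10, nat_lit 11] (BT.pln (nat_lit 0) (nat_lit 6) (BT.and (nat_lit 5) (nat_lit 0) (BT.br (nat_lit 0) (nat_lit 186) [nat_lit 0x9070a050101]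 (BT.dead (nat_lit 204) (BT.pln (nat_lit 3) (nat_lit 7) (BT.and (nat_lit 3) (nat_lit 0) (BT.pln (nat_lit 5) (nat_lit 4) (BT.dif (nat_lit 1) (nat_lit 0) (BT.pln (nat_lit 7) (nat_lit 5) (BT.dif (nat_lit 1) (nat_lit 0) (BT.dif (nat_lit 0) (nat_lit 24) (BT.br (nat_lit 0) (nat_lit 30) [nat_lit 658184, nat_lit 9] (BT.dead (nat_lit 2) (BT.frm (nat_lit 3) (nat_lit 0x47494b4542433f3f42061133130c) (nat_lit 0x4848453f3f420d0a3335370e01) [nat_lit 0, nat_lit 8, nat_lit 12, nat_lit 18, nat_lit 22, nat_lit 23] (BT.pln (nat_lit 0) (nat_lit 6) (BT.img (nat_lit 1) (nat_lit 2) (BT.and (nat_lit 1) (nat_lit 0) (BT.cnt (nat_lit 0)))))) BT.nil))))))))) BT.nil))))))))))) (BT.dead (nat_lit 106) (BT.frm (nat_lit 1) (nat_lit 0x3f3f42061133130c) (nat_lit 0x3f44490d0a3335370e01) [nat_lit 0, nat_lit 4, nat_lit 5] (BT.pln (nat_lit 0) (nat_lit 3) (BT.and (nat_lit 0) (nat_lit 9) (BT.cnt (nat_lit 0))))) BT.nil))))))) (BT.kid (nat_lit 20) (nat_lit 324) (BT.img (nat_lit 1) (nat_lit 0) (BT.frm (nat_lit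 0) (nat_lit 0x61133130c) (nat_lit 0x61133130c) [nat_lit 0, nat_lit 1] (BT.pln (nat_lit 0) (nat_lit 4) (BT.and (nat_lit 6) (nat_lit 0) (BT.br (nat_lit 0) (nat_lit 67) [nat_lit 3] (BT.dead (nat_lit 115) (BT.frm (nat_lit 1) (nat_lit 0x3f3f42061133130c) (nat_lit 0x3f4449061133130c) [nat_lit 0, nat_lit 4, nat_lit 5] (BT.pln (nat_lit 0) (nat_lit 3) (BT.and (nat_lit 0) (nat_lit 9) (BT.cnt (nat_lit 0))))) (BT.kid (nat_lit 67) (nat_lit 108) (BT.dif (nat_lit 6) (nat_lit 2) (BT.pln (nat_lit 4) (nat_lit 5) (BT.and (nat_lit 1) (nat_lit 0) (BT.frm (nat_lit 1) (nat_lit 0x3f3f42061133130c) (nat_lit 0x3f3f42061133130c) [nat_lit 3, nat_lit 7, nat_lit 8] (BT.pln (nat_lit 0) (nat_lit 3) (BT.and (nat_lit 12) (nat_lit 0) (BT.frm (nat_lit 2) (nat_lit 0x42433f3f42061133130c) (nat_lit 0x42433f3f42061133130c) [nat_lit 0, nat_lit 6, nat_lit 10, nat_lit 11] (BT.pln (nat_lit 0) (nat_lit 6) (BT.and (nat_lit 5) (nat_lit 0) (BT.br (nat_lit 0) (nat_lit 186) [nat_lit 5] (BT.kid (nat_lit 186) (nat_lit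 54) (BT.pln (nat_lit 3) (nat_lit 7) (BT.and (nat_lit 3) (nat_lit 0) (BT.pln (nat_lit 5) (nat_lit 4) (BT.dif (nat_lit 1) (nat_lit 0) (BT.pln (nat_lit 7) (nat_lit 5) (BT.dif (nat_lit 1) (nat_lit 0) (BT.dif (nat_lit 0) (nat_lit 24) (BT.br (nat_lit 0) (nat_lit 30) [nat_lit 7, nat_lit 9] (BT.kid (nat_lit 30) (nat_lit 6) (BT.and (nat_lit 10) (nat_lit 5) (BT.and (nat_lit 0) (nat_lit 4) (BT.dif (nat_lit 0) (nat_lit 9) (BT.dif (nat_lit 0) (nat_lit 23) (BT.frm (nat_lit 3) (nat_lit 0x47494b4542433f3f42061133130c) (nat_lit 0x47494b4542433f3f42061133130c) [nat_lit 4, nat_lit 12, nat_lit 16, nat_lit 22, nat_lit 26, nat_lit 27] (BT.pln (nat_lit 0) (nat_lit 7) (BT.and (nat_lit 2) (nat_lit 0) (BT.pln (nat_lit 2) (nat_lit 9) (BT.dif (nat_lit 1) (nat_lit 0) (BT.br (nat_lit 0) (nat_lit 312) [nat_lit 9, nat_lit 11] (BT.kid (nat_lit 312) (nat_lit 1) (BT.one (nat_lit 4) (nat_lit 0x4a4b47494b4542433f3f42061133130c) (nat_lit 0x4a4b47494b4542433f3f42061133130c) [nat_lit 0, nat_lit 10, nat_lit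 18, nat_lit 22, nat_lit 28, nat_lit 32, nat_lit 33]) BT.nil))))))))))) BT.nil))))))))) BT.nil))))))))))) BT.nil))))))) BT.nil))))))

theorem ot_c19_cnt : Cnt 351 (grp 351 o_O) [o_g342] [o_g342] 0 0 0 0 2592 :=
  BT.sound ot_c19_cnt_P Known.nil (t := ot_c19_cnt_t) (d := 0) (by decide +kernel)

theorem ot_c19_ge : 2592 ≤ Nat.card (grp 351 ot_c19_K) :=
  Ch.le_card_grp (k := 9) (L := (lab 351 9)) o_hn ot_c19_K_ok (c := (Ch.cons (nat_lit 20) [nat_lit 1] (Ch.cons (nat_lit 67) [nat_lit 3] (Ch.cons (nat_lit 186) [nat_lit 5] (Ch.cons (nat_lit 30) [nat_lit 7] (Ch.cons (nat_lit 312) [nat_lit 9, nat_lit 11] Ch.nil)))))) (by decide +kernel)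

theorem ot_c19_eq : (grp 351 o_O) ⊓ Subgroup.centralizer {Net.toPerm 351 o_g342} = grp 351 ot_c19_K :=
  cent_eq ot_c19_sym ot_c19_cnt ot_c19_ge

theorem ot_c19_card : Nat.card ↥((grp 351 o_O) ⊓ Subgroup.centralizer {Net.toPerm 351 o_g342}) = 2592 :=
  card_cent ot_c19_sym ot_c19_cnt ot_c19_ge

theorem ot_c19_ord : orderOf (Net.toPerm 351 o_g342) = 6 :=
  orderOf_net o_hn o_hk o_g342_ok (by decide) (ps := [2, 3]) (by set_option linter.unusedSimpArgs false in simp [Nat.primeFactorsList_ofNat]) (by decide +kernel)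

theorem o_le356 : grp 351 ot_c20_K ≤ grp 351 o_lb_E :=
  grp_le_of_memB o_hn o_hk o_lb_E_ok ot_c20_K_ok (ws := [nat_lit 0x3b31392825241d24191f012128, nat_lit 0x4543372821241d29211113250105151f, nat_lit 0x45391d1f1e1724011d0f, nat_lit 0x3b3127253f1e2612011612, nat_lit 0x452f27251d25112e12]) (by decide +kernel)

theorem ot_c20_le : grp 351 ot_c20_K ≤ (grp 351 o_O) :=
  (o_le356.trans o_T76_s0.le)

theorem ot_c20_mem : Net.toPerm 351 o_g350 ∈ (grp 351 o_O) :=
  ot_c20_le (mem_grp_of_memB o_hn o_hk ot_c20_K_ok o_g350_ok (w := (nat_lit 0x90604060402)) (by decide +kernel))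

theorem ot_c20_sym : Sym 351 (grp 351 o_O) [o_g350] ot_c20_K 0 :=
  Sym.of_lab o_hn o_hk (okE_cons.2 ⟨o_g350_ok, okE_nil _⟩) ot_c20_K_ok ot_c20_le (kT := 0) (by decide +kernel)

theorem o_le361 : grp 351 o_V360 ≤ grp 351 o_V174 :=
  grp_le_of_memB o_hn o_hk o_V174_ok o_V360_ok (ws := [nat_lit 3, nat_lit 6, nat_lit 0x9070501, nat_lit 0x7050301]) (by decide +kernel)

theorem o_T76_s62 : Stab 351 (grp 351 o_O) [nat_lit 10, nat_lit 60, nat_lit 14, nat_lit 3, nat_lit 0] o_V360 36 :=
  Stab.step (k := 9) (L := (lab 351 9)) o_hn o_T76_s24 o_V360_ok o_le361 (c := (Ch.cons (nat_lit 39) [nat_lit 1] (Ch.cons (nat_lit 31) [nat_lit 3] (Ch.cons (nat_lit 158) [nat_lit 5] (Ch.cons (nat_lit 270) [nat_lit 7] Ch.nil))))) (by decide +kernel)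

theorem o_T76_s63 : Stab 351 (grp 351 o_O) [nat_lit 39, nat_lit 10, nat_lit 60, nat_lit 14, nat_lit 3, nat_lit 0] o_V362 18 :=
  Stab.step (k := 9) (L := (lab 351 9)) o_hn o_T76_s62 o_V362_ok (grp_mono (List.subset_append_right [o_g171] _)) (c := (Ch.cons (nat_lit 31) [nat_lit 1] (Ch.cons (nat_lit 158) [nat_lit 3] (Ch.cons (nat_lit 270) [nat_lit 5] Ch.nil)))) (by decide +kernel)

theorem o_T76_s64 : Stab 351 (grp 351 o_O) [nat_lit 31, nat_lit 39, nat_lit 10, nat_lit 60, nat_lit 14, nat_lit 3, nat_lit 0] o_V363 6 :=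
  Stab.step (k := 9) (L := (lab 351 9)) o_hn o_T76_s63 o_V363_ok (grp_mono (List.subset_append_right [o_g357] _)) (c := (Ch.cons (nat_lit 158) [nat_lit 1] (Ch.cons (nat_lit 270) [nat_lit 3] Ch.nil))) (by decide +kernel)

theorem o_T76_s65 : Stab 351 (grp 351 o_O) [nat_lit 158, nat_lit 31, nat_lit 39, nat_lit 10, nat_lit 60, nat_lit 14, nat_lit 3, nat_lit 0] o_V364 2 :=
  Stab.step (k := 9) (L := (lab 351 9)) o_hn o_T76_s64 o_V364_ok (grp_mono (List.subset_append_right [o_g358] _)) (c := (Ch.cons (nat_lit 270) [nat_lit 1] Ch.nil)) (by decide +kernel)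

theorem o_T76_s66 : Stab 351 (grp 351 o_O) [nat_lit 270, nat_lit 158, nat_lit 31, nat_lit 39, nat_lit 10, nat_lit 60, nat_lit 14, nat_lit 3, nat_lit 0] o_V365 1 :=
  Stab.step (k := 9) (L := (lab 351 9)) o_hn o_T76_s65 o_V365_ok (grp_mono (List.subset_append_right [o_g359] _)) (c := Ch.nil) (by decide +kernel)

theorem o_g357_o_T76 : Net.toPerm 351 o_g357 ∈ (grp 351 o_O) :=
  o_T76_s62.le (toPerm_mem_grp (E := o_V360) (List.Mem.tail _ (List.Mem.head _)))

theorem o_g358_o_T76 : Net.toPerm 351 o_g358 ∈ (grp 351 o_O) :=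
  o_T76_s62.le (toPerm_mem_grp (E := o_V360) (List.Mem.tail _ (List.Mem.tail _ (List.Mem.head _))))

theorem o_g359_o_T76 : Net.toPerm 351 o_g359 ∈ (grp 351 o_O) :=
  o_T76_s62.le (toPerm_mem_grp (E := o_V360) (List.Mem.tail _ (List.Mem.tail _ (List.Mem.tail _ (List.Mem.head _)))))

noncomputable def o_T76_s66_O : ℕ := (nat_lit 0x3fffffffffffffffffffffff8000000000000000000000000000000000000000000000000000000000000000000000000000000000000000ffffffffffffffffffffffffffffffff00000000000000000000000000000000fffffffe0000000000000001fffffffffffffffe0000000000000001fffffffffffffffe000000000000000000000003fffffffc00000003fffffffc00000003fffffffc00000003fffffffc00000003fffffffc00000003fff80007fff80007fff80007fff80007fff80007fff80007fff80007fff80007fff80007fff80007fff80007f00ff00ff00ff00ff00ff00ff00ff00ff00ff00ff00ff00ff00ff00ff00ff00ff00ff00ff00ff00ff00ff00e1e1e1e1e1e1e1e1e1e1e1e1e1e1e1e1e1e1e1e1e1e1e1e1e1e1e1e1e1e1e1e1e1e1e1e1e1e1e1e1e1e1e1e133333333333333333333333333333333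333333333333333333333333333333333333333333333333333333315555555555555555555555555555555555555555555555555555555555555555555555555555555555555550000000000000000000000000000000000000000000000000000000000000000000000000000000000000001000000000000000000000000000000000000000000000000000000000000000000000000000000000000001000000000000000000000000000000000000000000000000000000000000000000000000000000000000100000000000000000000000000000000000000000000000000000000000000000000000000008000000000000000000000000000000000000000000000000000000000000000000000000000000000000000000000000000400000000000000000000000000000000000000000000000000000000000000000000000000000001000000000000000000000000000000000000000000000000000000000000000000000000000000000000000002000000000000000000000000000000000000000000000000000000020000000000000000000000000000000000000000000000000000000000040000000000000000000000000000000000000000000000000000000000000000000)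

theorem o_T76_s66_F : Frame 351 (grp 351 o_O) 9 18 o_T76_s66_O 1 1 :=
  IsBase.frame o_T76_s66.isBase (by decide +kernel)

noncomputable def o_T76_s64_O : ℕ := (nat_lit 0xc000000000000000000000000000000005000142218541a2480e2009492805000142218541a2480e2009492a7ffffffffe6880da4992d821112010021104017080d4102a47421764080a1104017080d4102a4742176408088c20528a0bfffffefffff7f20000000445a208bc058d205cd82f1a2bc48445a208bc058d205cd82f1a2bc489fffca51417fffe940000000bfff7601e12a2a1d450604d8aad3f2116a87e12a2a1d450604d8aad3f2116a873f087ff800cbb02d3ff600017fd00bd8716139995eb1c5056d51a1daac0c716139995eb1c5056d51a1daac0c47f0d40fc5d41e5a3613e302f17c17847897d0547d86c26b3a586368674c7897d0547d86c26b3a586368674ccb19d51e635632e0f0e671853aa30c630f3d813de16476e8ac4142dbf9a30f3d813de16476e8ac4142dbf9ad4d2accb2b4cb553195664ac969a514800000000000000000000000000000000000000000000000000000000000000000000000000000000000000040000000000000000000000000000000000000000000000000000000000000000000000000000000000000040000000000000000000000000000000000000000000000000000000000000000000000000000000000004000000000000000000000000000000000000000000000000000000000000000000000000000200000000000000000000000000000000000000000000000000000000000000000000000000000000000000000000000000010000000000000000000000000000000000000000000000000000000000000000000000000000000040000000000000000000000000000000000000000000000000000000000000000000000000000000000000000080000000)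

theorem o_T76_s64_F : Frame 351 (grp 351 o_O) 7 15 o_T76_s64_O 0 1 :=
  Stab.frame o_hn o_T76_s64 (by decide +kernel)

noncomputable def o_T76_s63_O : ℕ := (nat_lit 0x28854b00a504010000040000000028854b00a5040100000400000000f1840a51411a20369264b6094448040086c100ed3074dd25c1a6196e05ea86c100ed3074dd25c1a6196e05eb10bb2441fec03982990481f8000008001468800900c6fadd92e171643ef81468800900c6fadd92e171643ef9c488517691aec9fe45f4f8030e5d800326880688d415e115db8332acef9b26880688d415e115db8332acef9aed846a50d8f94974791e441d72e09c0501ccdb16c02b2f45e539533a7cc501ccdb16c02b2f45e539533a7cc6bab293a2a3e9d1e0946106997e31660b42c26cfd6e2f1617af4622cd04cb42c26cfd6e2f1617af4622cd04de0d38a1b31b012e9151bc8b37b74a2900000000000000000000000000000000000000000000000000000000000000000000000000000000000000008000000000000000000000000000000000000000000000000000000000000000000000000000000000000008000000000000000000000000000000000000000000000000000000000000000000000000000000000000800000000000000000000000000000000000000000000000000000000000000000000000000040000000000000000000000000000000000000000000000000000000000000000000000000000000000000000000000000002000000000000000000000000000000000000000000000000000000000000000000000000000000008000000000)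

theorem o_T76_s63_F : Frame 351 (grp 351 o_O) 6 12 o_T76_s63_O 0 1 :=
  Stab.frame o_hn o_T76_s63 (by decide +kernel)

noncomputable def ot_c20_cnt_L : List ℕ := [1, 2, o_T76_s1_O, 0, 0, 2, 5, o_T76_s8_O, 0, 0, 4, 9, o_T76_s24_O, 0, 0, 6, 12, o_T76_s63_O, 0, 0, 7, 15, o_T76_s64_O, 0, 0, 9, 18, o_T76_s66_O, 1, 0]

theorem ot_c20_cnt_P : Prob 351 9 (grp 351 o_O) ot_c20_cnt_EG [o_g350] [o_g350] ot_c20_K ot_c20_cnt_L 0 0 :=
  Sym.prob o_hn o_hk ot_c20_sym ot_c20_cnt_EG_ok (grp_cons_le o_b_o_T76 (grp_cons_le o_c_o_T76 (grp_cons_le o_d_o_T76 (grp_cons_le o_e_o_T76 (grp_cons_le o_f_o_T76 (grp_cons_le o_g_o_T76 (grp_cons_le o_h_o_T76 (grp_cons_le o_i_o_T76 (grp_cons_le o_g1_o_T76 (grp_cons_le o_g2_o_T76 (grp_cons_le o_g3_o_T76 (grp_cons_le o_g4_o_T76 (grp_cons_le o_g5_o_T76 (grp_cons_le o_g8_o_T76 (grp_cons_le o_g9_o_T76 (grp_cons_le o_g12_o_T76 (grp_cons_le o_g13_o_T76 (grp_cons_le o_g14_o_T76 (grp_cons_le o_g17_o_T76 (grp_cons_le o_g18_o_T76 (grp_cons_le o_g19_o_T76 (grp_cons_le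 o_g20_o_T76 (grp_cons_le o_g23_o_T76 (grp_cons_le o_g24_o_T76 (grp_cons_le o_g25_o_T76 (grp_cons_le o_g26_o_T76 (grp_cons_le o_g27_o_T76 (grp_cons_le o_g30_o_T76 (grp_cons_le o_g31_o_T76 (grp_cons_le o_g32_o_T76 (grp_cons_le o_g35_o_T76 (grp_cons_le o_g171_o_T76 (grp_cons_le o_g357_o_T76 (grp_cons_le o_g358_o_T76 (grp_cons_le o_g359_o_T76 (grp_cons_le o_g170_o_T76 (grp_cons_le o_g172_o_T76 (grp_cons_le o_g173_o_T76 (grp_cons_le o_g111_o_T76 (grp_nil_le _)))))))))))))))))))))))))))))))))))))))) (Frames.cons o_T76_s1_F (Frames.cons o_T76_s8_F (Frames.cons o_T76_s24_F (Frames.cons o_T76_s63_F (Frames.cons o_T76_s64_F (Frames.cons o_T76_s66_F Frames.nil)))))) (okE_cons.2 ⟨o_g350_ok, okE_nil _⟩) _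

noncomputable def ot_c20_cnt_t : BT := (BT.fix (nat_lit 65793) (BT.fix (nat_lit 1) (BT.dif (nat_lit 1) (nat_lit 0) (BT.br (nat_lit 0) (nat_lit 7) [nat_lit 1] (BT.kid (nat_lit 7) (nat_lit 576) (BT.img (nat_lit 1) (nat_lit 0) (BT.frm (nat_lit 1) (nat_lit 0x150512) (nat_lit 0x150512) [nat_lit 0, nat_lit 1] (BT.pln (nat_lit 0) (nat_lit 4) (BT.dif (nat_lit 0) (nat_lit 6) (BT.br (nat_lit 0) (nat_lit 213) [nat_lit 3, nat_lit 5] (BT.kid (nat_lit 213) (nat_lit 18) (BT.frm (nat_lit 0) (nat_lit 1298) (nat_lit 1298) [nat_lit 5] (BT.pln (nat_lit 0) (nat_lit 1) (BT.dif (nat_lit 0) (nat_lit 4) (BT.dif (nat_lit 9) (nat_lit 8) (BT.dif (nat_lit 0) (nat_lit 8) (BT.frm (nat_lit 2) (nat_lit 0x1f1d1f150512) (nat_lit 0x1f1d1f150512) [nat_lit 5, nat_lit 0, nat_lit 9, nat_lit 10] (BT.pln (nat_lit 0) (nat_lit 8) (BT.and (nat_lit 4) (nat_lit 0) (BT.pln (nat_lit 2) (nat_lit 4) (BT.dif (nat_lit 1) (nat_lit 0) (BT.pln (nat_lit 4) (nat_lit 7) (BT.dif (nat_lit 1) (nat_lit 0) (BT.img (nat_lit 1) (nat_lit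 12) (BT.img (nat_lit 1) (nat_lit 0) (BT.frm (nat_lit 3) (nat_lit 0x1f1d1f150512) (nat_lit 0x1f1d1f150512) [nat_lit 0, nat_lit 1, nat_lit 14, nat_lit 9, nat_lit 18, nat_lit 19] (BT.pln (nat_lit 0) (nat_lit 7) (BT.and (nat_lit 4) (nat_lit 0) (BT.br (nat_lit 0) (nat_lit 301) [nat_lit 5] (BT.kid (nat_lit 301) (nat_lit 6) (BT.pln (nat_lit 3) (nat_lit 6) (BT.dif (nat_lit 3) (nat_lit 0) (BT.dif (nat_lit 0) (nat_lit 11) (BT.pln (nat_lit 6) (nat_lit 9) (BT.dif (nat_lit 1) (nat_lit 0) (BT.frm (nat_lit 4) (nat_lit 0x421f1d1f150512) (nat_lit 0x421f1d1f150512) [nat_lit 5, nat_lit 9, nat_lit 10, nat_lit 23, nat_lit 18, nat_lit 27, nat_lit 28] (BT.pln (nat_lit 0) (nat_lit 9) (BT.dif (nat_lit 2) (nat_lit 0) (BT.br (nat_lit 0) (nat_lit 169) [nat_lit 7] (BT.kid (nat_lit 169) (nat_lit 2) (BT.dif (nat_lit 1) (nat_lit 0) (BT.br (nat_lit 0) (nat_lit 175) [nat_lit 9] (BT.kid (nat_lit 175) (nat_lit 1) (BT.one (nat_lit 5) (nat_lit 0x45421f1d1f150512) (nat_lit 0x45421f1d1f150512) [nat_lit 0,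 nat_lit 2, nat_lit 11, nat_lit 15, nat_lit 16, nat_lit 29, nat_lit 24, nat_lit 33, nat_lit 34]) BT.nil))) BT.nil)))))))))) BT.nil))))))))))))))))))) BT.nil)))))) BT.nil)))))

theorem ot_c20_cnt : Cnt 351 (grp 351 o_O) [o_g350] [o_g350] 0 0 0 0 1728 :=
  BT.sound ot_c20_cnt_P Known.nil (t := ot_c20_cnt_t) (d := 0) (by decide +kernel)

theorem ot_c20_ge : 1728 ≤ Nat.card (grp 351 ot_c20_K) :=
  Ch.le_card_grp (k := 9) (L := (lab 351 9)) o_hn ot_c20_K_ok (c := (Ch.cons (nat_lit 7) [nat_lit 1] (Ch.cons (nat_lit 213) [nat_lit 3] (Ch.cons (nat_lit 301) [nat_lit 5] (Ch.cons (nat_lit 169) [nat_lit 7] (Ch.cons (nat_lit 175) [nat_lit 9] Ch.nil)))))) (by decide +kernel)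

theorem ot_c20_eq : (grp 351 o_O) ⊓ Subgroup.centralizer {Net.toPerm 351 o_g350} = grp 351 ot_c20_K :=
  cent_eq ot_c20_sym ot_c20_cnt ot_c20_ge

theorem ot_c20_card : Nat.card ↥((grp 351 o_O) ⊓ Subgroup.centralizer {Net.toPerm 351 o_g350}) = 1728 :=
  card_cent ot_c20_sym ot_c20_cnt ot_c20_ge

theorem ot_c20_ord : orderOf (Net.toPerm 351 o_g350) = 6 :=
  orderOf_net o_hn o_hk o_g350_ok (by decide) (ps := [2, 3]) (by set_option linter.unusedSimpArgs false in simp [Nat.primeFactorsList_ofNat]) (by decide +kernel)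

theorem o_le374 : grp 351 ot_c21_K ≤ grp 351 o_lb_E :=
  grp_le_of_memB o_hn o_hk o_lb_E_ok ot_c21_K_ok (ws := [nat_lit 0x373927252d1f2811281a011925, nat_lit 0x453b2f2825241d25172d01053d0d, nat_lit 0x45433128261d201d172c012212, nat_lit 0x312825281724012509, nat_lit 0x3b2721231f22111520010525, nat_lit 0x3b39261d1f1e192301032d1a, nat_lit 0x3b2f39211d1f1e]) (by decide +kernel)

theorem ot_c21_le : grp 351 ot_c21_K ≤ (grp 351 o_O) :=
  (o_le374.trans o_T76_s0.le)

theorem ot_c21_mem : Net.toPerm 351 o_g366 ∈ (grp 351 o_O) :=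
  ot_c21_le (mem_grp_of_memB o_hn o_hk ot_c21_K_ok o_g366_ok (w := (nat_lit 0xd07060603)) (by decide +kernel))

theorem ot_c21_sym : Sym 351 (grp 351 o_O) [o_g366] ot_c21_K 0 :=
  Sym.of_lab o_hn o_hk (okE_cons.2 ⟨o_g366_ok, okE_nil _⟩) ot_c21_K_ok ot_c21_le (kT := 0) (by decide +kernel)

noncomputable def ot_c21_cnt_L : List ℕ := [1, 2, o_T76_s1_O, 0, 0, 2, 5, o_T76_s8_O, 0, 0, 3, 15, o_T76_s57_O, 0, 0, 4, 10, o_T76_s58_O, 0, 0, 5, 13, o_T76_s59_O, 0, 0, 7, 16, o_T76_s61_O, 1, 0]

theorem ot_c21_cnt_P : Prob 351 9 (grp 351 o_O) ot_c21_cnt_EG [o_g366] [o_g366] ot_c21_K ot_c21_cnt_L 0 0 :=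
  Sym.prob o_hn o_hk ot_c21_sym ot_c21_cnt_EG_ok (grp_cons_le o_b_o_T76 (grp_cons_le o_c_o_T76 (grp_cons_le o_d_o_T76 (grp_cons_le o_e_o_T76 (grp_cons_le o_f_o_T76 (grp_cons_le o_g_o_T76 (grp_cons_le o_h_o_T76 (grp_cons_le o_i_o_T76 (grp_cons_le o_g1_o_T76 (grp_cons_le o_g2_o_T76 (grp_cons_le o_g3_o_T76 (grp_cons_le o_g4_o_T76 (grp_cons_le o_g5_o_T76 (grp_cons_le o_g8_o_T76 (grp_cons_le o_g9_o_T76 (grp_cons_le o_g12_o_T76 (grp_cons_le o_g13_o_T76 (grp_cons_le o_g14_o_T76 (grp_cons_le o_g17_o_T76 (grp_cons_le o_g18_o_T76 (grp_cons_le o_g19_o_T76 (grp_cons_le o_g20_o_T76 (grp_cons_le o_g23_o_T76 (grp_cons_le o_g24_o_T76 (grp_cons_le o_g25_o_T76 (grp_cons_le o_g26_o_T76 (grp_cons_le o_g27_o_T76 (grp_cons_le o_g30_o_T76 (grp_cons_le o_g31_o_T76 (grp_cons_le o_g32_o_T76 (grp_cons_le o_g35_o_T76 (grp_cons_le o_g331_o_T76 (grp_cons_le o_g332_o_T76 (grp_cons_le o_g333_o_T76 (grp_cons_le o_g334_o_T76 (grp_cons_le o_g335_o_T76 (grp_nil_le _)))))))))))))))))))))))))))))))))))))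 (Frames.cons o_T76_s1_F (Frames.cons o_T76_s8_F (Frames.cons o_T76_s57_F (Frames.cons o_T76_s58_F (Frames.cons o_T76_s59_F (Frames.cons o_T76_s61_F Frames.nil)))))) (okE_cons.2 ⟨o_g366_ok, okE_nil _⟩) _

noncomputable def ot_c21_cnt_t : BT := (BT.fix (nat_lit 1) (BT.br (nat_lit 0) (nat_lit 43) [nat_lit 1, nat_lit 3] (BT.dead (nat_lit 67) (BT.frm (nat_lit 0) (nat_lit 73506) (nat_lit 76568) [nat_lit 0] (BT.pln (nat_lit 0) (nat_lit 1) (BT.and (nat_lit 0) (nat_lit 3) (BT.cnt (nat_lit 0))))) (BT.kid (nat_lit 43) (nat_lit 432) (BT.fix (nat_lit 257) (BT.frm (nat_lit 0) (nat_lit 73506) (nat_lit 73506) [nat_lit 1] (BT.pln (nat_lit 0) (nat_lit 1) (BT.and (nat_lit 2) (nat_lit 0) (BT.dif (nat_lit 0) (nat_lit 5) (BT.br (nat_lit 0) (nat_lit 338) [nat_lit 3] (BT.kid (nat_lit 338) (nat_lit 216) (BT.dif (nat_lit 10) (nat_lit 3) (BT.frm (nat_lit 1) (nat_lit 0x151e14011f22) (nat_lit 0x151e14011f22) [nat_lit 1, nat_lit 7] (BT.pln (nat_lit 0) (nat_lit 3) (BT.and (nat_lit 10) (nat_lit 0)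 (BT.frm (nat_lit 2) (nat_lit 0x2035151e14011f22) (nat_lit 0x2035151e14011f22) [nat_lit 0, nat_lit 4, nat_lit 10] (BT.pln (nat_lit 0) (nat_lit 5) (BT.and (nat_lit 5) (nat_lit 0) (BT.dif (nat_lit 0) (nat_lit 12) (BT.br (nat_lit 0) (nat_lit 3) [nat_lit 5] (BT.dead (nat_lit 230) (BT.frm (nat_lit 3) (nat_lit 0x40423f412035151e14011f22) (nat_lit 0x402035151e14011f22) [nat_lit 0, nat_lit 5, nat_lit 9, nat_lit 15] (BT.pln (nat_lit 0) (nat_lit 4) (BT.img (nat_lit 1) (nat_lit 2) (BT.img (nat_lit 1) (nat_lit 0) (BT.and (nat_lit 2) (nat_lit 0) (BT.cnt (nat_lit 0))))))) (BT.kid (nat_lit 3) (nat_lit 36) (BT.pln (nat_lit 4) (nat_lit 12) (BT.and (nat_lit 7) (nat_lit 0) (BT.frm (nat_lit 3) (nat_lit 0x40423f412035151e14011f22) (nat_lit 0x40423f412035151e14011f22) [nat_lit 2, nat_lit 7, nat_lit 11, nat_lit 17] (BT.pln (nat_lit 0) (nat_lit 4) (BT.dif (nat_lit 2) (nat_lit 0) (BT.br (nat_lit 0) (nat_lit 234) [nat_lit 7, nat_lit 9] (BT.kid (nat_lit 234) (nat_lit 6) (BT.dif (nat_lit 18) (nat_lit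 12) (BT.dif (nat_lit 0) (nat_lit 3) (BT.pln (nat_lit 5) (nat_lit 6) (BT.and (nat_lit 1) (nat_lit 0) (BT.dif (nat_lit 0) (nat_lit 26) (BT.frm (nat_lit 4) (nat_lit 0x414340423f412035151e14011f22) (nat_lit 0x414340423f412035151e14011f22) [nat_lit 5, nat_lit 11, nat_lit 16, nat_lit 20, nat_lit 26] (BT.pln (nat_lit 0) (nat_lit 5) (BT.dif (nat_lit 2) (nat_lit 0) (BT.br (nat_lit 0) (nat_lit 166) [nat_lit 11] (BT.kid (nat_lit 166) (nat_lit 2) (BT.dif (nat_lit 8) (nat_lit 2) (BT.pln (nat_lit 4) (nat_lit 7) (BT.and (nat_lit 1) (nat_lit 0) (BT.dif (nat_lit 0) (nat_lit 14) (BT.dif (nat_lit 0) (nat_lit 4) (BT.br (nat_lit 0) (nat_lit 199) [nat_lit 13] (BT.kid (nat_lit 199) (nat_lit 1) (BT.one (nat_lit 5) (nat_lit 0x414340423f412035151e14011f22) (nat_lit 0x414340423f412035151e14011f22) [nat_lit 0, nat_lit 6, nat_lit 15, nat_lit 21, nat_lit 26, nat_lit 30, nat_lit 36]) BT.nil))))))) BT.nil)))))))))) BT.nil))))))) BT.nil))))))))))) BT.nil))))))) BT.nil))))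

theorem ot_c21_cnt : Cnt 351 (grp 351 o_O) [o_g366] [o_g366] 0 0 0 0 864 :=
  BT.sound ot_c21_cnt_P Known.nil (t := ot_c21_cnt_t) (d := 0) (by decide +kernel)

theorem ot_c21_ge : 864 ≤ Nat.card (grp 351 ot_c21_K) :=
  Ch.le_card_grp (k := 9) (L := (lab 351 9)) o_hn ot_c21_K_ok (c := (Ch.cons (nat_lit 43) [nat_lit 1] (Ch.cons (nat_lit 338) [nat_lit 3] (Ch.cons (nat_lit 3) [nat_lit 5] (Ch.cons (nat_lit 234) [nat_lit 7, nat_lit 9] (Ch.cons (nat_lit 166) [nat_lit 11] (Ch.cons (nat_lit 199) [nat_lit 13] Ch.nil))))))) (by decide +kernel)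

theorem ot_c21_eq : (grp 351 o_O) ⊓ Subgroup.centralizer {Net.toPerm 351 o_g366} = grp 351 ot_c21_K :=
  cent_eq ot_c21_sym ot_c21_cnt ot_c21_ge

theorem ot_c21_card : Nat.card ↥((grp 351 o_O) ⊓ Subgroup.centralizer {Net.toPerm 351 o_g366}) = 864 :=
  card_cent ot_c21_sym ot_c21_cnt ot_c21_ge

theorem ot_c21_ord : orderOf (Net.toPerm 351 o_g366) = 6 :=
  orderOf_net o_hn o_hk o_g366_ok (by decide) (ps := [2, 3]) (by set_option linter.unusedSimpArgs false in simp [Nat.primeFactorsList_ofNat]) (by decide +kernel)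

theorem o_le381 : grp 351 ot_c22_K ≤ grp 351 o_lb_E :=
  grp_le_of_memB o_hn o_hk o_lb_E_ok ot_c22_K_ok (ws := [nat_lit 0x4527211e26172e01051128, nat_lit 0x454328211d241e191e01031e, nat_lit 0x2f3921231d2511113b051f0d, nat_lit 0x453b392825241f1d1217, nat_lit 0x433b28253f1d26]) (by decide +kernel)

theorem ot_c22_le : grp 351 ot_c22_K ≤ (grp 351 o_O) :=
  (o_le381.trans o_T76_s0.le)

theorem ot_c22_mem : Net.toPerm 351 o_g375 ∈ (grp 351 o_O) :=
  ot_c22_le (mem_grp_of_memB o_hn o_hk ot_c22_K_ok o_g375_ok (w := (nat_lit 0x5040504)) (by decide +kernel))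

theorem ot_c22_sym : Sym 351 (grp 351 o_O) [o_g375] ot_c22_K 0 :=
  Sym.of_lab o_hn o_hk (okE_cons.2 ⟨o_g375_ok, okE_nil _⟩) ot_c22_K_ok ot_c22_le (kT := 0) (by decide +kernel)

theorem o_le385 : grp 351 o_V384 ≤ grp 351 o_V174 :=
  grp_le_of_memB o_hn o_hk o_V174_ok o_V384_ok (ws := [nat_lit 9, nat_lit 1282, nat_lit 0x9070502]) (by decide +kernel)

theorem o_T76_s67 : Stab 351 (grp 351 o_O) [nat_lit 300, nat_lit 60, nat_lit 14, nat_lit 3, nat_lit 0] o_V384 12 :=
  Stab.step (k := 9) (L := (lab 351 9)) o_hn o_T76_s24 o_V384_ok o_le385 (c := (Ch.cons (nat_lit 87) [nat_lit 1] (Ch.cons (nat_lit 9) [nat_lit 3] (Ch.cons (nat_lit 290) [nat_lit 5] Ch.nil)))) (by decide +kernel)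

theorem o_T76_s68 : Stab 351 (grp 351 o_O) [nat_lit 87, nat_lit 300, nat_lit 60, nat_lit 14, nat_lit 3, nat_lit 0] o_V386 6 :=
  Stab.step (k := 9) (L := (lab 351 9)) o_hn o_T76_s67 o_V386_ok (grp_mono (List.subset_append_right [o_g111] _)) (c := (Ch.cons (nat_lit 9) [nat_lit 1] (Ch.cons (nat_lit 290) [nat_lit 3] Ch.nil))) (by decide +kernel)

theorem o_T76_s69 : Stab 351 (grp 351 o_O) [nat_lit 9, nat_lit 87, nat_lit 300, nat_lit 60, nat_lit 14, nat_lit 3, nat_lit 0] o_V387 3 :=
  Stab.step (k := 9) (L := (lab 351 9)) o_hn o_T76_s68 o_V387_ok (grp_mono (List.subset_append_right [o_g382] _)) (c := (Ch.cons (nat_lit 290) [nat_lit 1] Ch.nil)) (by decide +kernel)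

theorem o_T76_s70 : Stab 351 (grp 351 o_O) [nat_lit 290, nat_lit 9, nat_lit 87, nat_lit 300, nat_lit 60, nat_lit 14, nat_lit 3, nat_lit 0] o_V388 1 :=
  Stab.step (k := 9) (L := (lab 351 9)) o_hn o_T76_s69 o_V388_ok (grp_mono (List.subset_append_right [o_g383] _)) (c := Ch.nil) (by decide +kernel)

theorem o_g382_o_T76 : Net.toPerm 351 o_g382 ∈ (grp 351 o_O) :=
  o_T76_s67.le (toPerm_mem_grp (E := o_V384) (List.Mem.tail _ (List.Mem.head _)))

theorem o_g383_o_T76 : Net.toPerm 351 o_g383 ∈ (grp 351 o_O) :=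
  o_T76_s67.le (toPerm_mem_grp (E := o_V384) (List.Mem.tail _ (List.Mem.tail _ (List.Mem.head _))))

noncomputable def o_T76_s70_O : ℕ := (nat_lit 0x7fffffffffffffffffffffff0000000000000000000000000000000000000000000000000000000000000000000000000000000000000001fffffffffffffffffffffffffffffffe00000000000000000000000000000001fffffffc0000000000000003fffffffffffffffc0000000000000003fffffffffffffffc000000000000000000000007fffffff800000007fffffff800000007fffffff800000007fffffff800000007fffffff800000007fff0000ffff0000ffff0000ffff0000ffff0000ffff0000ffff0000ffff0000ffff0000ffff0000ffff0000fe01fe01fe01fe01fe01fe01fe01fe01fe01fe01fe01fe01fe01fe01fe01fe01fe01fe01fe01fe01fe01fe01c3c3c3c3c3c3c3c3c3c3c3c3c3c3c3c3c3c3c3c3c3c3c3c3c3c3c3c3c3c3c3c3c3c3c3c3c3c3c3c3c3c3c3c26666666666666666666666666666666666666666666666666666666666666666666666666666666666666662aaaaaaaaaaaaaaaaaaaaaaaaaaaaaaaaaaaaaaaaaaaaaaaaaaaaaaaaaaaaaaaaaaaaaaaaaaaaaaaaaaaaaaa0000000000000000000000000000000000000000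00000000000000000000000000000000000000000000000200000000000000000000000000000000000000000000000000000000000000000000000000000000000000200000000000000000000000000000000000000000000000000000000000000000000000000000000000020000000000000000000000000000000000000000000000000000000000000000000000000001000000000000000000000000000200000000000000000000000000000000000000000000000000000000000000000000000000000000000000000000000000000000000000000000000000000000000000000000200000000000000000000000000000000000000000000000000000000000000000000000000000000000000000000000000000000001000000000000000004000000000000000000000000000000000000000000000000000000000000000000000000)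

theorem o_T76_s70_F : Frame 351 (grp 351 o_O) 8 17 o_T76_s70_O 1 1 :=
  IsBase.frame o_T76_s70.isBase (by decide +kernel)

noncomputable def o_T76_s69_O : ℕ := (nat_lit 0x1a2557dd694d83e4b8350305403d2ae7f7eaad758f7d8a2fa18df22d639ffdebbfb00000000000420000020057f7f5c11e8206c9100a0208875b3652b5a89696f584f92aa66c83f4388000288017ffffe6ffbe84000004009118b4f6c28cddb2201704b317b107680425daa206fe57c3bbce431dcffbf800003fdfcf100002f7ffc0000145f3952b3b1abb6e4856a1d4241bfda7491d1135adf694d204c15c3d3cc00bdd004bf841bf6107fd807ed00161b886cee8113c036ddd99da281f51b32cf6dcac1a586c8887a8e17ee07c1e81e0d60fc3383e07e4f0f06e049133de0b3c7456a2f5b4cc1dbe68c2b02b09846fbed6d1f198e378bbb0e638e3316299e60e628e31999893084076c44ae4d94a29d993da56725f6f859d8dec5970e8564e6cdadd19556a6ca54a36aaa8b2ac8acaaaa514800000000000000000000000000000000000000000000000000000000000000000000000000000000000000040000000000000000000000000000000000000000000000000000000000000000000000000000000000000040000000000000000000000000000000000000000000000000000000000000000000000000000000000004000000000000000000000000000000000000000000000000000000000000000000000000000200000000000000000000000000040000000000000000000000000000000000000000000000000000000000000000000000000000000000000000000000000000000000000000000000000000000000000000000040000000000000000000000000000000000000000000000000000000000000000000000000000000000000000000000000000000000200)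

theorem o_T76_s69_F : Frame 351 (grp 351 o_O) 7 14 o_T76_s69_O 0 1 :=
  Stab.frame o_hn o_T76_s69 (by decide +kernel)

noncomputable def o_T76_s68_O : ℕ := (nat_lit 0xa400206c9100a0208805a01000000404310c8000a03088042462000000000000000000084000006002b8dcb006582c00404a11a201d4a298dcb146500c00404a118201d4a00821c20061084091383823347db008106f121c6300c8320012a18621c858a75693e30f1bcdef5d211cd9ef2866fafdd8d5ffb9e9b66006000000003102ad385023a380b8388221847d4156253896144713abb8f41bb20ecca6ff4eefa5738c24131ff3d1f403000b891a310158c8da820c09040bc6489c4075811affdb58db76dffeda3895fa55403d01ffc9c66585ff15b04051676af0fdb21de225c4fd403ec7ede81519c24f2f46779419de0370ba0390910ee513b9de4fb682d98e01614176f1078de03a69070e526de9716112b1f309db1a5df44c6c13dff1095c9fa6a9a9e69086d5eac74ad206900000000000000000000000000000000000000000000000000000000000000000000000000000000000000008000000000000000000000000000000000000000000000000000000000000000000000000000000000000008000000000000000000000000000000000000000000000000000000000000000000000000000000000000800000000000000000000000000000000000000000000000000000000000000000000000000040000000000000000000000000008000000000000000000000000000000000000000000000000000000000000000000000000000000000000000000000000000000000000000000000000000000000000000000008000000000000000000000)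

theorem o_T76_s68_F : Frame 351 (grp 351 o_O) 6 13 o_T76_s68_O 0 1 :=
  Stab.frame o_hn o_T76_s68 (by decide +kernel)

noncomputable def ot_c22_cnt_L : List ℕ := [1, 2, o_T76_s1_O, 0, 0, 2, 5, o_T76_s8_O, 0, 0, 4, 9, o_T76_s24_O, 0, 0, 6, 13, o_T76_s68_O, 0, 0, 7, 14, o_T76_s69_O, 0, 0, 8, 17, o_T76_s70_O, 1, 0]

theorem ot_c22_cnt_P : Prob 351 9 (grp 351 o_O) ot_c22_cnt_EG [o_g375] [o_g375] ot_c22_K ot_c22_cnt_L 0 0 :=
  Sym.prob o_hn o_hk ot_c22_sym ot_c22_cnt_EG_ok (grp_cons_le o_b_o_T76 (grp_cons_le o_c_o_T76 (grp_cons_le o_d_o_T76 (grp_cons_le o_e_o_T76 (grp_cons_le o_f_o_T76 (grp_cons_le o_g_o_T76 (grp_cons_le o_h_o_T76 (grp_cons_le o_i_o_T76 (grp_cons_le o_g1_o_T76 (grp_cons_le o_g2_o_T76 (grp_cons_le o_g3_o_T76 (grp_cons_le o_g4_o_T76 (grp_cons_le o_g5_o_T76 (grp_cons_le o_g8_o_T76 (grp_cons_le o_g9_o_T76 (grp_cons_le o_g12_o_T76 (grp_cons_le o_g13_o_T76 (grp_cons_le o_g14_o_T76 (grp_cons_le o_g17_o_T76 (grp_cons_le o_g18_o_T76 (grp_cons_le o_g19_o_T76 (grp_cons_le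 o_g20_o_T76 (grp_cons_le o_g23_o_T76 (grp_cons_le o_g24_o_T76 (grp_cons_le o_g25_o_T76 (grp_cons_le o_g26_o_T76 (grp_cons_le o_g27_o_T76 (grp_cons_le o_g30_o_T76 (grp_cons_le o_g31_o_T76 (grp_cons_le o_g32_o_T76 (grp_cons_le o_g35_o_T76 (grp_cons_le o_g111_o_T76 (grp_cons_le o_g382_o_T76 (grp_cons_le o_g383_o_T76 (grp_cons_le o_g170_o_T76 (grp_cons_le o_g171_o_T76 (grp_cons_le o_g172_o_T76 (grp_cons_le o_g173_o_T76 (grp_nil_le _))))))))))))))))))))))))))))))))))))))) (Frames.cons o_T76_s1_F (Frames.cons o_T76_s8_F (Frames.cons o_T76_s24_F (Frames.cons o_T76_s68_F (Frames.cons o_T76_s69_F (Frames.cons o_T76_s70_F Frames.nil)))))) (okE_cons.2 ⟨o_g375_ok, okE_nil _⟩) _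

noncomputable def ot_c22_cnt_t : BT := (BT.fix (nat_lit 1) (BT.br (nat_lit 0) (nat_lit 25) [nat_lit 1] (BT.kid (nat_lit 25) (nat_lit 288) (BT.dif (nat_lit 1) (nat_lit 0) (BT.br (nat_lit 0) (nat_lit 113) [] (BT.dead (nat_lit 206) (BT.frm (nat_lit 1) (nat_lit 0x120105111e) (nat_lit 0x170105111e) [nat_lit 0, nat_lit 2] (BT.pln (nat_lit 0) (nat_lit 4) (BT.fix (nat_lit 65793) (BT.dif (nat_lit 1) (nat_lit 0) (BT.fix (nat_lit 257) (BT.dif (nat_lit 1) (nat_lit 0) (BT.br (nat_lit 0) (nat_lit 291) [nat_lit 3, nat_lit 5] (BT.dead (nat_lit 101) (BT.dif (nat_lit 8) (nat_lit 7) (BT.frm (nat_lit 2) (nat_lit 0x281f120105111e) (nat_lit 0x1f221b27170105111e) [nat_lit 1, nat_lit 0, nat_lit 8, nat_lit 10] (BT.pln (nat_lit 0) (nat_lit 4) (BT.img (nat_lit 1) (nat_lit 3) (BT.and (nat_lit 1) (nat_lit 0) (BT.cnt (nat_lit 0))))))) BT.nil)))))))) (BT.kid (nat_lit 113) (nat_lit 288) (BT.frm (nat_lit 1) (nat_lit 0x120105111e) (nat_lit 0x120105111e) [nat_lit 0, nat_lit 2] (BT.pln (nat_lit 0) (nat_lit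 4) (BT.fix (nat_lit 65793) (BT.dif (nat_lit 1) (nat_lit 0) (BT.fix (nat_lit 257) (BT.dif (nat_lit 1) (nat_lit 0) (BT.br (nat_lit 0) (nat_lit 291) [nat_lit 3, nat_lit 5] (BT.kid (nat_lit 291) (nat_lit 12) (BT.frm (nat_lit 0) (nat_lit 0x105111e) (nat_lit 0x105111e) [nat_lit 9] (BT.pln (nat_lit 0) (nat_lit 1) (BT.dif (nat_lit 0) (nat_lit 7) (BT.dif (nat_lit 11) (nat_lit 10) (BT.frm (nat_lit 2) (nat_lit 0x281f120105111e) (nat_lit 0x281f120105111e) [nat_lit 4, nat_lit 0, nat_lit 11, nat_lit 13] (BT.pln (nat_lit 0) (nat_lit 8) (BT.and (nat_lit 3) (nat_lit 0) (BT.pln (nat_lit 2) (nat_lit 7) (BT.and (nat_lit 1) (nat_lit 0) (BT.br (nat_lit 0) (nat_lit 76) [nat_lit 5] (BT.kid (nat_lit 76) (nat_lit 6) (BT.dif (nat_lit 4) (nat_lit 8) (BT.pln (nat_lit 6) (nat_lit 6) (BT.and (nat_lit 1) (nat_lit 0) (BT.br (nat_lit 0) (nat_lit 3) [nat_lit 7] (BT.kid (nat_lit 3) (nat_lit 3) (BT.dif (nat_lit 27) (nat_lit 2) (BT.pln (nat_lit 10) (nat_lit 4) (BT.dif (nat_lit 1) (nat_lit 0) (BT.pln (nat_lit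 12) (nat_lit 5) (BT.dif (nat_lit 1) (nat_lit 0) (BT.dif (nat_lit 0) (nat_lit 11) (BT.dif (nat_lit 0) (nat_lit 18) (BT.img (nat_lit 1) (nat_lit 21) (BT.frm (nat_lit 3) (nat_lit 0x3f281f120105111e) (nat_lit 0x3f281f120105111e) [nat_lit 12, nat_lit 0, nat_lit 22, nat_lit 18, nat_lit 29, nat_lit 31] (BT.pln (nat_lit 0) (nat_lit 7) (BT.dif (nat_lit 3) (nat_lit 0) (BT.pln (nat_lit 2) (nat_lit 9) (BT.dif (nat_lit 1) (nat_lit 0) (BT.dif (nat_lit 0) (nat_lit 37) (BT.frm (nat_lit 4) (nat_lit 0x3f281f120105111e) (nat_lit 0x3f281f120105111e) [nat_lit 14, nat_lit 18, nat_lit 6, nat_lit 28, nat_lit 24, nat_lit 35, nat_lit 37] (BT.pln (nat_lit 0) (nat_lit 7) (BT.dif (nat_lit 2) (nat_lit 0) (BT.br (nat_lit 0) (nat_lit 246) [nat_lit 9] (BT.kid (nat_lit 246) (nat_lit 1) (BT.one (nat_lit 5) (nat_lit 0x443f281f120105111e) (nat_lit 0x443f281f120105111e) [nat_lit 0, nat_lit 18, nat_lit 22, nat_lit 10, nat_lit 32, nat_lit 28, nat_lit 39, nat_lit 41]) BT.nil))))))))))))))))))) BT.nil)))))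 BT.nil))))))))))) BT.nil)))))))) BT.nil)))) BT.nil)))

theorem ot_c22_cnt : Cnt 351 (grp 351 o_O) [o_g375] [o_g375] 0 0 0 0 864 :=
  BT.sound ot_c22_cnt_P Known.nil (t := ot_c22_cnt_t) (d := 0) (by decide +kernel)

theorem ot_c22_ge : 864 ≤ Nat.card (grp 351 ot_c22_K) :=
  Ch.le_card_grp (k := 9) (L := (lab 351 9)) o_hn ot_c22_K_ok (c := (Ch.cons (nat_lit 25) [nat_lit 1] (Ch.cons (nat_lit 291) [nat_lit 3] (Ch.cons (nat_lit 76) [nat_lit 5] (Ch.cons (nat_lit 3) [nat_lit 7] (Ch.cons (nat_lit 246) [nat_lit 9] Ch.nil)))))) (by decide +kernel)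

theorem ot_c22_eq : (grp 351 o_O) ⊓ Subgroup.centralizer {Net.toPerm 351 o_g375} = grp 351 ot_c22_K :=
  cent_eq ot_c22_sym ot_c22_cnt ot_c22_ge

theorem ot_c22_card : Nat.card ↥((grp 351 o_O) ⊓ Subgroup.centralizer {Net.toPerm 351 o_g375}) = 864 :=
  card_cent ot_c22_sym ot_c22_cnt ot_c22_ge

theorem ot_c22_ord : orderOf (Net.toPerm 351 o_g375) = 6 :=
  orderOf_net o_hn o_hk o_g375_ok (by decide) (ps := [2, 3]) (by set_option linter.unusedSimpArgs false in simp [Nat.primeFactorsList_ofNat]) (by decide +kernel)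

theorem o_le396 : grp 351 ot_c23_K ≤ grp 351 o_lb_E :=
  grp_le_of_memB o_hn o_hk o_lb_E_ok ot_c23_K_ok (ws := [nat_lit 0x45432f27172c011612, nat_lit 0x4543373927211d2011131605, nat_lit 0x3b31252d1f11113101190f1f, nat_lit 0x453b3727251f172201191f2a, nat_lit 0x453139253f1d2326112001050d2f, nat_lit 0x453b2f28252d1f2111211701051222]) (by decide +kernel)

theorem ot_c23_le : grp 351 ot_c23_K ≤ (grp 351 o_O) :=
  (o_le396.trans o_T76_s0.le)

theorem ot_c23_mem : Net.toPerm 351 o_g389 ∈ (grp 351 o_O) :=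
  ot_c23_le (mem_grp_of_memB o_hn o_hk ot_c23_K_ok o_g389_ok (w := (nat_lit 1797)) (by decide +kernel))

theorem ot_c23_sym : Sym 351 (grp 351 o_O) [o_g389] ot_c23_K 0 :=
  Sym.of_lab o_hn o_hk (okE_cons.2 ⟨o_g389_ok, okE_nil _⟩) ot_c23_K_ok ot_c23_le (kT := 0) (by decide +kernel)

theorem o_le403 : grp 351 o_V402 ≤ grp 351 o_V95 :=
  grp_le_of_memB o_hn o_hk o_V95_ok o_V402_ok (ws := [nat_lit 0xb0d0a0a0706010106, nat_lit 0xc0d0a0d010a01, nat_lit 0xc090d05010307, nat_lit 0xb0d090b0d070405020a0a, nat_lit 0xa0a070305010109]) (by decide +kernel)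

theorem o_T76_s71 : Stab 351 (grp 351 o_O) [nat_lit 205, nat_lit 187, nat_lit 0] o_V402 1296 :=
  Stab.step (k := 9) (L := (lab 351 9)) o_hn o_T76_s2 o_V402_ok o_le403 (c := (Ch.cons (nat_lit 305) [nat_lit 1] (Ch.cons (nat_lit 326) [nat_lit 3] (Ch.cons (nat_lit 224) [nat_lit 5] (Ch.cons (nat_lit 268) [nat_lit 7, nat_lit 9] Ch.nil))))) (by decide +kernel)

theorem o_T76_s72 : Stab 351 (grp 351 o_O) [nat_lit 305, nat_lit 205, nat_lit 187, nat_lit 0] o_V404 648 :=
  Stab.step (k := 9) (L := (lab 351 9)) o_hn o_T76_s71 o_V404_ok (grp_mono (List.subset_append_right [o_g397] _)) (c := (Ch.cons (nat_lit 326) [nat_lit 1] (Ch.cons (nat_lit 224) [nat_lit 3] (Ch.cons (nat_lit 268) [nat_lit 5, nat_lit 7] Ch.nil)))) (by decide +kernel)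

theorem o_T76_s73 : Stab 351 (grp 351 o_O) [nat_lit 326, nat_lit 305, nat_lit 205, nat_lit 187, nat_lit 0] o_V405 24 :=
  Stab.step (k := 9) (L := (lab 351 9)) o_hn o_T76_s72 o_V405_ok (grp_mono (List.subset_append_right [o_g398] _)) (c := (Ch.cons (nat_lit 224) [nat_lit 1] (Ch.cons (nat_lit 268) [nat_lit 3, nat_lit 5] Ch.nil))) (by decide +kernel)

theorem o_T76_s74 : Stab 351 (grp 351 o_O) [nat_lit 224, nat_lit 326, nat_lit 305, nat_lit 205, nat_lit 187, nat_lit 0] o_V406 4 :=
  Stab.step (k := 9) (L := (lab 351 9)) o_hn o_T76_s73 o_V406_ok (grp_mono (List.subset_append_right [o_g399] _)) (c := (Ch.cons (nat_lit 268) [nat_lit 1, nat_lit 3] Ch.nil)) (by decide +kernel)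

theorem o_T76_s75 : Stab 351 (grp 351 o_O) [nat_lit 268, nat_lit 224, nat_lit 326, nat_lit 305, nat_lit 205, nat_lit 187, nat_lit 0] o_V407 1 :=
  Stab.step (k := 9) (L := (lab 351 9)) o_hn o_T76_s74 o_V407_ok (grp_mono (List.subset_append_right [o_g400, o_g401] _)) (c := Ch.nil) (by decide +kernel)

theorem o_g397_o_T76 : Net.toPerm 351 o_g397 ∈ (grp 351 o_O) :=
  o_T76_s71.le (toPerm_mem_grp (E := o_V402) (List.Mem.head _))

theorem o_g398_o_T76 : Net.toPerm 351 o_g398 ∈ (grp 351 o_O) :=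
  o_T76_s71.le (toPerm_mem_grp (E := o_V402) (List.Mem.tail _ (List.Mem.head _)))

theorem o_g399_o_T76 : Net.toPerm 351 o_g399 ∈ (grp 351 o_O) :=
  o_T76_s71.le (toPerm_mem_grp (E := o_V402) (List.Mem.tail _ (List.Mem.tail _ (List.Mem.head _))))

theorem o_g400_o_T76 : Net.toPerm 351 o_g400 ∈ (grp 351 o_O) :=
  o_T76_s71.le (toPerm_mem_grp (E := o_V402) (List.Mem.tail _ (List.Mem.tail _ (List.Mem.tail _ (List.Mem.head _)))))

theorem o_g401_o_T76 : Net.toPerm 351 o_g401 ∈ (grp 351 o_O) :=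
  o_T76_s71.le (toPerm_mem_grp (E := o_V402) (List.Mem.tail _ (List.Mem.tail _ (List.Mem.tail _ (List.Mem.tail _ (List.Mem.head _))))))

noncomputable def o_T76_s75_O : ℕ := (nat_lit 0xfffffffffffffffffffffffe0000000000000000000000000000000000000000000000000000000000000000000000000000000000000003fffffffffffffffffffffffffffffffc00000000000000000000000000000003fffffff80000000000000007fffffffffffffff80000000000000007fffffffffffffff800000000000000000000000ffffffff00000000ffffffff00000000ffffffff00000000ffffffff00000000ffffffff00000000fffe0001fffe0001fffe0001fffe0001fffe0001fffe0001fffe0001fffe0001fffe0001fffe0001fffe0001fc03fc03fc03fc03fc03fc03fc03fc03fc03fc03fc03fc03fc03fc03fc03fc03fc03fc03fc03fc03fc03fc038787878787878787878787878787878787878787878787878787878787878787878787878787878787878784ccccccccccccccccccccccccccccccccccccccccccccccccccccccccccccccccccccccccccccccccccccccc55555555555555555555555555555555555555555555555555555555555555555555555555555555555555540000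0000000000000000000000000000000000000000000000000000000000000000000000000000000000040000000000000000000000000000000000000000400000000000000000000000000000000000000000000000000000000000000000000000000000000002000000000000000000000000000000000000000000000000000000000000004000000000000000000000000000000000000000000000000000000000000000000000000000000000100000000000000000000000000000000000000000000000000000000000000000000000000000000000000000000000000000000000000000800000000000000000000000000000000000000000000000000000000000000000000000000010000000000000000000000000000000000000000000000000000000000000000000)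

theorem o_T76_s75_F : Frame 351 (grp 351 o_O) 7 16 o_T76_s75_O 1 1 :=
  IsBase.frame o_T76_s75.isBase (by decide +kernel)

noncomputable def o_T76_s73_O : ℕ := (nat_lit 0x80000000000000000004000000000000000000000000000000000000000000000000000000003210060045148214d02b800f88102622a00d772442028971946000988218881540406112be858a1a017e0002223505a5740109144132b35f90c6c84ae81e0ce4b2acb2a508e00112e900094e835458dc8a20000280007292000ed201d5c89d73c00260401004070e9740cbe4167dd2582680018f9bed20600101760e7aea6093c203efa1c11952e9f1250832d7479a6f6c12e53759311920d3dafd58726cd02550872ad4b4587b05c393bad18d07d81bd13827e670063a29100a7cf92fc02703f0f639bc24cd25d283b338e6114bd521a8a411ca2f2362cded9b0eb10ee554927471ee4e74c05519073b6c4fcb07be9a5309629b63f43846e62be1de1f00fb6e687c624cd28d980000000000000000000000000000000000000000000000000000000000000000000000000000000000000001000000000000000000000000000000000000000010000000000000000000000000000000000000000000000000000000000000000000000000000000000080000000000000000000000000000000000000000000000000000000000000100000000000000000000000000000000000000000000000000000000000000000000000000000000004000000000000000000000000000000000000000000000000000000000000000000000000000000000)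

theorem o_T76_s73_F : Frame 351 (grp 351 o_O) 5 12 o_T76_s73_O 0 1 :=
  Stab.frame o_hn o_T76_s73 (by decide +kernel)

noncomputable def o_T76_s72_O : ℕ := (nat_lit 0x80000000000000000000000000000000000000000000000000000000000000000000000000000000000000000000000000000000000000000000000010000000000000000000002000000000040010008800020220000000000000000000000000200000100002000100000000000000020000000080000080001000a00000001000800000000000000000001000000200000000110000000000000000000000000020000000800002000000000000400080024004000000000000000000000008004080000100000100000000020000000000010000000000008000000000300000000c00000000000000000002000000910000000000500a000002000041000002000400020000084000000000000000000402008a002000000000000000000010010000000800412000008002800080000080200000000000000008000140020000800000000200000000100400000001040000001000481000400000000000200000a00000000010000020000000000800002204000000800040000000400041420004002008004000020800004022009428040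1020010000000200020000000000080200040000200000000200000000002b00040000004200800900002000010450000000006030001000a000028800044100110000080000008100000000940400012000800000000000040040200008002000000090280000005000014000400000004010000200020040001004924002000080012800000100400000222000000008000000010400080100090081000040000000000024000000100011080088008000010040020800009030000808000000040020040900000000000014000502080008200040100004200310000000041810080000000000080000000020200040010800000422004000040001200400000004010001000100008020020040000c900200045020100004000400410000200008000205000004000400000004110000000000000121020000002010000214000000000000000000000000000000000000000000000000000000000000000000000000000000000000000200000000000000000000000000000000000000002000000000000000000000000000000000000000000000000000000000000000000000000000000000010000000000000000000000000000000000000000000000000000000000000020000000000000000000000000000000000000000000000000000000000000000000000000000)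

theorem o_T76_s72_F : Frame 351 (grp 351 o_O) 4 21 o_T76_s72_O 0 1 :=
  Stab.frame o_hn o_T76_s72 (by decide +kernel)

noncomputable def o_T76_s71_O : ℕ := (nat_lit 0x200000000000000000000000000000000000000000000000000000000000100000000000000000000000000000000000000000000000000000000000040000000000000000000008000000000100040022000080880000000000000000000000000800000400008000400000000000000080000000200000200004002800000004002000000000000000000004000000800000000440000000000000004010000000041000000040012040010000000000008000028000000000400000800000000020000088100000400000000090000000400041000000000020200040012c0200000300000000000000000400a0400024c0000000050000140004000000040100002000200400010049240020000800128000001004000002220000000080400000002001002048000000000000a000281040004100020080002100188000000020c080400000000000400000000101000200084000002110020000200009002000000020080008000800040100100200006480100020001001a014000804412082008006800880040080308000000000000008000944031400c00000000200000000251800188200a2000010080001020000ac013808000348030024000080000c11c040001001c0c0004122d00000800144000801400941c30004402008004000260800005022119c288c0182001100400228002090300008000000000000000000000000000000000000000000000000000000000000000000000000000000000000000040000000000000000000000000000000000000000400000000000000000000000000000000000000000000000000000000000000000000000000000000002000000000000000000000000000000000000000000000000000)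

theorem o_T76_s71_F : Frame 351 (grp 351 o_O) 3 15 o_T76_s71_O 0 1 :=
  Stab.frame o_hn o_T76_s71 (by decide +kernel)

noncomputable def ot_c23_cnt_L : List ℕ := [1, 2, o_T76_s1_O, 0, 0, 2, 7, o_T76_s2_O, 0, 0, 3, 15, o_T76_s71_O, 0, 0, 4, 21, o_T76_s72_O, 0, 0, 5, 12, o_T76_s73_O, 0, 0, 7, 16, o_T76_s75_O, 1, 0]

theorem ot_c23_cnt_P : Prob 351 9 (grp 351 o_O) ot_c23_cnt_EG [o_g389] [o_g389] ot_c23_K ot_c23_cnt_L 0 0 :=
  Sym.prob o_hn o_hk ot_c23_sym ot_c23_cnt_EG_ok (grp_cons_le o_b_o_T76 (grp_cons_le o_c_o_T76 (grp_cons_le o_d_o_T76 (grp_cons_le o_e_o_T76 (grp_cons_le o_f_o_T76 (grp_cons_le o_g_o_T76 (grp_cons_le o_h_o_T76 (grp_cons_le o_i_o_T76 (grp_cons_le o_g1_o_T76 (grp_cons_le o_g2_o_T76 (grp_cons_le o_g3_o_T76 (grp_cons_le o_g4_o_T76 (grp_cons_le o_g5_o_T76 (grp_cons_le o_g8_o_T76 (grp_cons_le o_g9_o_T76 (grp_cons_le o_g12_o_T76 (grp_cons_le o_g13_o_T76 (grp_cons_le o_g14_o_T76 (grp_cons_le o_g17_o_T76 (grp_cons_le o_g18_o_T76 (grp_cons_le o_g19_o_T76 (grp_cons_le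 o_g20_o_T76 (grp_cons_le o_g23_o_T76 (grp_cons_le o_g24_o_T76 (grp_cons_le o_g25_o_T76 (grp_cons_le o_g26_o_T76 (grp_cons_le o_g27_o_T76 (grp_cons_le o_g30_o_T76 (grp_cons_le o_g31_o_T76 (grp_cons_le o_g32_o_T76 (grp_cons_le o_g35_o_T76 (grp_cons_le o_g88_o_T76 (grp_cons_le o_g89_o_T76 (grp_cons_le o_g90_o_T76 (grp_cons_le o_g91_o_T76 (grp_cons_le o_g92_o_T76 (grp_cons_le o_g93_o_T76 (grp_cons_le o_g94_o_T76 (grp_cons_le o_g397_o_T76 (grp_cons_le o_g398_o_T76 (grp_cons_le o_g399_o_T76 (grp_cons_le o_g400_o_T76 (grp_cons_le o_g401_o_T76 (grp_nil_le _)))))))))))))))))))))))))))))))))))))))))))) (Frames.cons o_T76_s1_F (Frames.cons o_T76_s2_F (Frames.cons o_T76_s71_F (Frames.cons o_T76_s72_F (Frames.cons o_T76_s73_F (Frames.cons o_T76_s75_F Frames.nil)))))) (okE_cons.2 ⟨o_g389_ok, okE_nil _⟩) _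

noncomputable def ot_c23_cnt_t : BT := (BT.fix (nat_lit 1) (BT.br (nat_lit 0) (nat_lit 127) [nat_lit 1] (BT.dead (nat_lit 231) (BT.frm (nat_lit 0) (nat_lit 75789) (nat_lit 0x1051126) [nat_lit 0] (BT.pln (nat_lit 0) (nat_lit 1) (BT.and (nat_lit 0) (nat_lit 3) (BT.cnt (nat_lit 0))))) (BT.kid (nat_lit 127) (nat_lit 144) (BT.dif (nat_lit 1) (nat_lit 0) (BT.frm (nat_lit 0) (nat_lit 75789) (nat_lit 75789) [nat_lit 1] (BT.pln (nat_lit 0) (nat_lit 1) (BT.dif (nat_lit 2) (nat_lit 0) (BT.br (nat_lit 0) (nat_lit 334) [nat_lit 3] (BT.kid (nat_lit 334) (nat_lit 72) (BT.fix (nat_lit 65793) (BT.and (nat_lit 3) (nat_lit 0) (BT.frm (nat_lit 1) (nat_lit 0x112601280d) (nat_lit 0x112601280d) [nat_lit 2, nat_lit 7] (BT.pln (nat_lit 0) (nat_lit 2) (BT.dif (nat_lit 2) (nat_lit 0) (BT.dif (nat_lit 0) (nat_lit 11) (BT.br (nat_lit 0) (nat_lit 170) [nat_lit 5] (BT.kid (nat_lit 170) (nat_lit 24) (BT.dif (nat_lit 6) (nat_lit 9) (BT.pln (nat_lit 5) (nat_lit 4) (BT.dif (nat_lit 1) (nat_lit 0) (BT.pln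 (nat_lit 7) (nat_lit 3) (BT.dif (nat_lit 1) (nat_lit 0) (BT.dif (nat_lit 0) (nat_lit 18) (BT.frm (nat_lit 2) (nat_lit 0x434140112601280d) (nat_lit 0x434140112601280d) [nat_lit 6, nat_lit 13, nat_lit 18] (BT.pln (nat_lit 0) (nat_lit 7) (BT.dif (nat_lit 2) (nat_lit 0) (BT.img (nat_lit 1) (nat_lit 9) (BT.frm (nat_lit 3) (nat_lit 0x434140112601280d) (nat_lit 0x434140112601280d) [nat_lit 0, nat_lit 10, nat_lit 17, nat_lit 22] (BT.pln (nat_lit 0) (nat_lit 4) (BT.dif (nat_lit 3) (nat_lit 0) (BT.br (nat_lit 0) (nat_lit 172) [nat_lit 7] (BT.kid (nat_lit 172) (nat_lit 8) (BT.dif (nat_lit 12) (nat_lit 20) (BT.fix (nat_lit 257) (BT.dif (nat_lit 1) (nat_lit 0) (BT.pln (nat_lit 6) (nat_lit 13) (BT.dif (nat_lit 1) (nat_lit 0) (BT.frm (nat_lit 4) (nat_lit 0x434140112601280d) (nat_lit 0x434140112601280d) [nat_lit 5, nat_lit 9, nat_lit 19, nat_lit 26, nat_lit 31] (BT.pln (nat_lit 0) (nat_lit 6) (BT.dif (nat_lit 2) (nat_lit 0) (BT.br (nat_lit 0) (nat_lit 57) [nat_lit 9] (BT.kid (nat_lit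 57) (nat_lit 2) (BT.dif (nat_lit 21) (nat_lit 7) (BT.dif (nat_lit 0) (nat_lit 6) (BT.dif (nat_lit 0) (nat_lit 4) (BT.dif (nat_lit 0) (nat_lit 32) (BT.dif (nat_lit 0) (nat_lit 4) (BT.img (nat_lit 1) (nat_lit 5) (BT.img (nat_lit 1) (nat_lit 0) (BT.img (nat_lit 1) (nat_lit 0) (BT.dif (nat_lit 3) (nat_lit 0) (BT.br (nat_lit 0) (nat_lit 210) [nat_lit 11] (BT.kid (nat_lit 210) (nat_lit 1) (BT.one (nat_lit 5) (nat_lit 0x53555153434140112601280d) (nat_lit 0x53555153434140112601280d) [nat_lit 0, nat_lit 10, nat_lit 19, nat_lit 23, nat_lit 33, nat_lit 40, nat_lit 45]) BT.nil))))))))))) BT.nil)))))))))) BT.nil))))))))))))))) BT.nil)))))))) BT.nil)))))) BT.nil))))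

theorem ot_c23_cnt : Cnt 351 (grp 351 o_O) [o_g389] [o_g389] 0 0 0 0 432 :=
  BT.sound ot_c23_cnt_P Known.nil (t := ot_c23_cnt_t) (d := 0) (by decide +kernel)

theorem ot_c23_ge : 432 ≤ Nat.card (grp 351 ot_c23_K) :=
  Ch.le_card_grp (k := 9) (L := (lab 351 9)) o_hn ot_c23_K_ok (c := (Ch.cons (nat_lit 127) [nat_lit 1] (Ch.cons (nat_lit 334) [nat_lit 3] (Ch.cons (nat_lit 170) [nat_lit 5] (Ch.cons (nat_lit 172) [nat_lit 7] (Ch.cons (nat_lit 57) [nat_lit 9] (Ch.cons (nat_lit 210) [nat_lit 11] Ch.nil))))))) (by decide +kernel)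

theorem ot_c23_eq : (grp 351 o_O) ⊓ Subgroup.centralizer {Net.toPerm 351 o_g389} = grp 351 ot_c23_K :=
  cent_eq ot_c23_sym ot_c23_cnt ot_c23_ge

theorem ot_c23_card : Nat.card ↥((grp 351 o_O) ⊓ Subgroup.centralizer {Net.toPerm 351 o_g389}) = 432 :=
  card_cent ot_c23_sym ot_c23_cnt ot_c23_ge

theorem ot_c23_ord : orderOf (Net.toPerm 351 o_g389) = 6 :=
  orderOf_net o_hn o_hk o_g389_ok (by decide) (ps := [2, 3]) (by set_option linter.unusedSimpArgs false in simp [Nat.primeFactorsList_ofNat]) (by decide +kernel)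

theorem o_le416 : grp 351 ot_c24_K ≤ grp 351 o_lb_E :=
  grp_le_of_memB o_hn o_hk o_lb_E_ok ot_c24_K_ok (ws := [nat_lit 0x45433728211d202d1922012205, nat_lit 0x2f2725221d1f3b1a1f01031e, nat_lit 0x433b27252d1d201a25011d27, nat_lit 0x28252d1d2917242201051e1a, nat_lit 0x3b2f2821241e29111a01031a21, nat_lit 0x453127253f1f2411192a011a21, nat_lit 0x45433b2f2725281e291916011a21]) (by decide +kernel)

theorem ot_c24_le : grp 351 ot_c24_K ≤ (grp 351 o_O) :=
  (o_le416.trans o_T76_s0.le)

theorem ot_c24_mem : Net.toPerm 351 o_g408 ∈ (grp 351 o_O) :=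
  ot_c24_le (mem_grp_of_memB o_hn o_hk ot_c24_K_ok o_g408_ok (w := (nat_lit 722949)) (by decide +kernel))

theorem ot_c24_sym : Sym 351 (grp 351 o_O) [o_g408] ot_c24_K 0 :=
  Sym.of_lab o_hn o_hk (okE_cons.2 ⟨o_g408_ok, okE_nil _⟩) ot_c24_K_ok ot_c24_le (kT := 0) (by decide +kernel)

theorem o_le419 : grp 351 o_V418 ≤ grp 351 o_V384 :=
  grp_le_of_memB o_hn o_hk o_V384_ok o_V418_ok (ws := [nat_lit 3, nat_lit 6]) (by decide +kernel)

theorem o_T76_s76 : Stab 351 (grp 351 o_O) [nat_lit 255, nat_lit 300, nat_lit 60, nat_lit 14, nat_lit 3, nat_lit 0] o_V418 6 :=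
  Stab.step (k := 9) (L := (lab 351 9)) o_hn o_T76_s67 o_V418_ok o_le419 (c := (Ch.cons (nat_lit 297) [nat_lit 1] (Ch.cons (nat_lit 290) [nat_lit 3] Ch.nil))) (by decide +kernel)

theorem o_T76_s77 : Stab 351 (grp 351 o_O) [nat_lit 297, nat_lit 255, nat_lit 300, nat_lit 60, nat_lit 14, nat_lit 3, nat_lit 0] o_V420 3 :=
  Stab.step (k := 9) (L := (lab 351 9)) o_hn o_T76_s76 o_V420_ok (grp_mono (List.subset_append_right [o_g382] _)) (c := (Ch.cons (nat_lit 290) [nat_lit 1] Ch.nil)) (by decide +kernel)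

theorem o_T76_s78 : Stab 351 (grp 351 o_O) [nat_lit 290, nat_lit 297, nat_lit 255, nat_lit 300, nat_lit 60, nat_lit 14, nat_lit 3, nat_lit 0] o_V421 1 :=
  Stab.step (k := 9) (L := (lab 351 9)) o_hn o_T76_s77 o_V421_ok (grp_mono (List.subset_append_right [o_g417] _)) (c := Ch.nil) (by decide +kernel)

theorem o_g417_o_T76 : Net.toPerm 351 o_g417 ∈ (grp 351 o_O) :=
  o_T76_s76.le (toPerm_mem_grp (E := o_V418) (List.Mem.tail _ (List.Mem.head _)))

noncomputable def o_T76_s78_O : ℕ := (nat_lit 0x7fffffffffffffffffffffff0000000000000000000000000000000000000000000000000000000000000000000000000000000000000001fffffffffffffffffffffffffffffffe00000000000000000000000000000001fffffffc0000000000000003fffffffffffffffc0000000000000003fffffffffffffffc000000000000000000000007fffffff800000007fffffff800000007fffffff800000007fffffff800000007fffffff800000007fff0000ffff0000ffff0000ffff0000ffff0000ffff0000ffff0000ffff0000ffff0000ffff0000ffff0000fe01fe01fe01fe01fe01fe01fe01fe01fe01fe01f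e01fe01fe01fe01fe01fe01fe01fe01fe01fe01fe01fe01c3c3c3c3c3c3c3c3c3c3c3c3c3c3c3c3c3c3c3c3c3c3c3c3c3c3c3c3c3c3c3c3c3c3c3c3c3c3c3c3c3c3c3c26666666666666666666666666666666666666666666666666666666666666666666666666666666666666662aaaaaaaaaaaaaaaaaaaaaaaaaaaaaaaaaaaaaaaaaaaaaaaaaaaaaaaaaaaaaaaaaaaaaaaaaaaaaaaaaaaaaaa000000000000000000000000000000000000000000000000000000000000000000000000000000000000000200000000000000000000000000000000000000000000000000000000000000000000000000000000000000200000000000000000000000000000000000000000000000000000000000000000000000000000000000020000000000000000000000000000000000000000000000000000000000000000000000000001000000000000000000000000000200000000000000000000000000000000000000000000000000000000000000000000000000000000000000000000000000200000000000000000000000000000000000000000000000000000000000000000000000000001000000000000000000000000000000000000000000000000000000000000000000000000000000000000000004000000000000000000000000000000000000000000000000000000000000000000000000)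

theorem o_T76_s78_F : Frame 351 (grp 351 o_O) 8 17 o_T76_s78_O 1 1 :=
  IsBase.frame o_T76_s78.isBase (by decide +kernel)

noncomputable def o_T76_s77_O : ℕ := (nat_lit 0x1a2557dd694d82e4b8350305003d2ae7f7eaad758f7d8a2fa18df22d639ffdebbff00000000000420000030057f7f5c11e8204c9100a0208075b3652b5a89696f584f92aa66c83f4388000288097ffffe6ffbe84000006009118b4f6c28cd9b2201704b217b507680425daa206fe57c3bbce431dcffbf800013fdfcf100002f7ffc0000145f3952b3b1ab36e4876a1d42413fda7491d1135adf694d204c15c3d3cc00bdd004bf841bf6107fd807ed80161b886cee8112e036d9d99da2a0f51b32cf6dcac1a586c8887a8e17ee07c1e81e0d60fc3383e07e4f0f07e049133de0b3c7452b2f534ec15bbc8c2b02b09846fbed6d1f198e378bbb0e638e3316299e60e628e71999893084076c44ae4d9130bd8d39b46725f6f859d8dec5970e8564e6cdadd19556a6ca54a36aaa8b2ac9a4aaaa594800000000000000000000000000000000000000000000000000000000000000000000000000000000000000040000000000000000000000000000000000000000000000000000000000000000000000000000000000000040000000000000000000000000000000000000000000000000000000000000000000000000000000000004000000000000000000000000000000000000000000000000000000000000000000000000000200000000000000000000000000040000000000000000000000000000000000000000000000000000000000000000000000000000000000000000000000000040000000000000000000000000000000000000000000000000000000000000000000000000000200000000000000000000000000000000000000000000000000000000000000000000000000)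

theorem o_T76_s77_F : Frame 351 (grp 351 o_O) 7 14 o_T76_s77_O 0 1 :=
  Stab.frame o_hn o_T76_s77 (by decide +kernel)

noncomputable def o_T76_s76_O : ℕ := (nat_lit 0xa400206c9100a0208005a01000000404310c8000a03088042462000000080000000000084000006002b8dcb006582c00404a11a201d4a298dcb146500c00404a118201d4a00821c20061084091383823347db008106f121c6300c8320012a18601d858a75693e30f1bcdef5d211cd9ef2866fafdd8d5ffb9e9b66006000000003102ad385023a380b8388221845d4156253896144713abb8f41bb20ecca6ff4eefe5738c24131ff3d1f403000b891a310158c8da820c09040b86489c4075811affdb58db76dffeda3895fa5540bd01ffc9c66585ff15b04051676af0fdb21de225c4fd403e47ede81519c24f2f46779419de0370ba0390910fe513b9de4fb682d98e01614176f1078de03a69070e526de8796112b1f309db1a5df44c6c13dff1095c9fa6a9a9e69086d5eac74ad206900000000000000000000000000000000000000000000000000000000000000000000000000000000000000008000000000000000000000000000000000000000000000000000000000000000000000000000000000000008000000000000000000000000000000000000000000000000000000000000000000000000000000000000800000000000000000000000000000000000000000000000000000000000000000000000000040000000000000000000000000008000000000000000000000000000000000000000000000000000000000000000000000000000000000000000000000000008000000000000000000000000000000000000000000000000000000000000000)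

theorem o_T76_s76_F : Frame 351 (grp 351 o_O) 6 13 o_T76_s76_O 0 1 :=
  Stab.frame o_hn o_T76_s76 (by decide +kernel)

noncomputable def o_T76_s67_O : ℕ := (nat_lit 0x4010009800c9b24492a386201e8040100098108db24486a2c621169088008400e000800010002700304180145a000406a303e49815012447add45a00040682a08110700a6009d24e2586901a482e2e7749c0e39e18030015fee5bb5e80404a0098919813867756e784de95717a2828847b0b87c53bc1702018dee4a7d04014830c80e0c50a3495c00cce96656437812709037230f6d85332998edad898d14fb858710ea8b4cab9821ec895079b01c071cff700fb61ba4d4024002c3774d34ff7287e9a5f26c7ba2b7385eae220a06e21fc3d6d9cbf68a73e1200018ab00a028715360409e01823721e316ff5bf7373c51759f819c47e2fde6832f6267e64fb4f57de4d13618a20000000000000000000000000000000000000000000000000000000000000000000000000000000000000001000000000000000000000000000000000000000000000000000000000000000000000000000000000000001000000000000000000000000000000000000000000000000000000000000000000000000000000000000100000000000000000000000000000000000000000000000000000000000000000000000000008000000000000000000000000001000000000000000000000000000000000000000000000000000000000000000000000000000)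

theorem o_T76_s67_F : Frame 351 (grp 351 o_O) 5 11 o_T76_s67_O 0 1 :=
  Stab.frame o_hn o_T76_s67 (by decide +kernel)

noncomputable def ot_c24_cnt_L : List ℕ := [2, 5, o_T76_s8_O, 0, 0, 4, 9, o_T76_s24_O, 0, 0, 5, 11, o_T76_s67_O, 0, 0, 6, 13, o_T76_s76_O, 0, 0, 7, 14, o_T76_s77_O, 0, 0, 8, 17, o_T76_s78_O, 1, 0]

theorem ot_c24_cnt_P : Prob 351 9 (grp 351 o_O) ot_c24_cnt_EG [o_g408] [o_g408] ot_c24_K ot_c24_cnt_L 0 0 :=
  Sym.prob o_hn o_hk ot_c24_sym ot_c24_cnt_EG_ok (grp_cons_le o_g1_o_T76 (grp_cons_le o_g_o_T76 (grp_cons_le o_g2_o_T76 (grp_cons_le o_g3_o_T76 (grp_cons_le o_g4_o_T76 (grp_cons_le o_g5_o_T76 (grp_cons_le o_g8_o_T76 (grp_cons_le o_g9_o_T76 (grp_cons_le o_g12_o_T76 (grp_cons_le o_g13_o_T76 (grp_cons_le o_g14_o_T76 (grp_cons_le o_g17_o_T76 (grp_cons_le o_g18_o_T76 (grp_cons_le o_g19_o_T76 (grp_cons_le o_g20_o_T76 (grp_cons_le o_g23_o_T76 (grp_cons_le o_g24_o_T76 (grp_cons_le o_g25_o_T76 (grp_cons_le o_g26_o_T76 (grp_cons_le o_c_o_T76 (grp_cons_le o_g27_o_T76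 (grp_cons_le o_g30_o_T76 (grp_cons_le o_g31_o_T76 (grp_cons_le o_g32_o_T76 (grp_cons_le o_g35_o_T76 (grp_cons_le o_b_o_T76 (grp_cons_le o_d_o_T76 (grp_cons_le o_e_o_T76 (grp_cons_le o_f_o_T76 (grp_cons_le o_h_o_T76 (grp_cons_le o_i_o_T76 (grp_cons_le o_g170_o_T76 (grp_cons_le o_g171_o_T76 (grp_cons_le o_g172_o_T76 (grp_cons_le o_g173_o_T76 (grp_cons_le o_g111_o_T76 (grp_cons_le o_g382_o_T76 (grp_cons_le o_g383_o_T76 (grp_cons_le o_g417_o_T76 (grp_nil_le _)))))))))))))))))))))))))))))))))))))))) (Frames.cons o_T76_s8_F (Frames.cons o_T76_s24_F (Frames.cons o_T76_s67_F (Frames.cons o_T76_s76_F (Frames.cons o_T76_s77_F (Frames.cons o_T76_s78_F Frames.nil)))))) (okE_cons.2 ⟨o_g408_ok, okE_nil _⟩) _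

noncomputable def ot_c24_cnt_t : BT := (BT.fix (nat_lit 1) (BT.br (nat_lit 0) (nat_lit 66) [nat_lit 1] (BT.kid (nat_lit 66) (nat_lit 144) (BT.dif (nat_lit 1) (nat_lit 0) (BT.br (nat_lit 0) (nat_lit 205) [nat_lit 3] (BT.kid (nat_lit 205) (nat_lit 72) (BT.fix (nat_lit 257) (BT.frm (nat_lit 0) (nat_lit 0x11233352d3b) (nat_lit 0x11233352d3b) [nat_lit 1, nat_lit 3] (BT.pln (nat_lit 0) (nat_lit 4) (BT.and (nat_lit 2) (nat_lit 0) (BT.dif (nat_lit 0) (nat_lit 7) (BT.br (nat_lit 0) (nat_lit 177) [nat_lit 5] (BT.kid (nat_lit 177) (nat_lit 36) (BT.dif (nat_lit 7) (nat_lit 6) (BT.frm (nat_lit 1) (nat_lit 0x210d21011233352d3b) (nat_lit 0x210d21011233352d3b) [nat_lit 1, nat_lit 0, nat_lit 7, nat_lit 9] (BT.pln (nat_lit 0) (nat_lit 8) (BT.and (nat_lit 6) (nat_lit 0) (BT.pln (nat_lit 2) (nat_lit 4) (BT.and (nat_lit 1) (nat_lit 0) (BT.dif (nat_lit 0) (nat_lit 11) (BT.br (nat_lit 0) (nat_lit 55) [nat_lit 7] (BT.dead (nat_lit 110) (BT.frm (nat_lit 2) (nat_lit 0x40210d21011233352d3b)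 (nat_lit 0x41210d21011233352d3b) [nat_lit 0, nat_lit 8, nat_lit 7, nat_lit 14, nat_lit 16] (BT.pln (nat_lit 0) (nat_lit 5) (BT.img (nat_lit 1) (nat_lit 2) (BT.and (nat_lit 1) (nat_lit 0) (BT.cnt (nat_lit 0)))))) (BT.kid (nat_lit 55) (nat_lit 12) (BT.dif (nat_lit 20) (nat_lit 3) (BT.pln (nat_lit 7) (nat_lit 7) (BT.and (nat_lit 1) (nat_lit 0) (BT.pln (nat_lit 9) (nat_lit 6) (BT.and (nat_lit 1) (nat_lit 0) (BT.dif (nat_lit 0) (nat_lit 16) (BT.frm (nat_lit 2) (nat_lit 0x40210d21011233352d3b) (nat_lit 0x40210d21011233352d3b) [nat_lit 6, nat_lit 14, nat_lit 13, nat_lit 20, nat_lit 22] (BT.pln (nat_lit 0) (nat_lit 5) (BT.dif (nat_lit 2) (nat_lit 0) (BT.br (nat_lit 0) (nat_lit 342) [nat_lit 9] (BT.kid (nat_lit 342) (nat_lit 6) (BT.pln (nat_lit 16) (nat_lit 5) (BT.and (nat_lit 9) (nat_lit 0) (BT.and (nat_lit 0) (nat_lit 15) (BT.and (nat_lit 0) (nat_lit 5) (BT.dif (nat_lit 0) (nat_lit 25) (BT.br (nat_lit 0) (nat_lit 181) [nat_lit 11] (BT.kid (nat_lit 181) (nat_lit 3) (BT.dif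 (nat_lit 36) (nat_lit 8) (BT.dif (nat_lit 0) (nat_lit 20) (BT.pln (nat_lit 11) (nat_lit 8) (BT.dif (nat_lit 1) (nat_lit 0) (BT.pln (nat_lit 13) (nat_lit 6) (BT.dif (nat_lit 1) (nat_lit 0) (BT.pln (nat_lit 15) (nat_lit 7) (BT.dif (nat_lit 1) (nat_lit 0) (BT.dif (nat_lit 0) (nat_lit 20) (BT.dif (nat_lit 0) (nat_lit 38) (BT.frm (nat_lit 3) (nat_lit 0x40210d21011233352d3b) (nat_lit 0x40210d21011233352d3b) [nat_lit 16, nat_lit 26, nat_lit 34, nat_lit 33, nat_lit 40, nat_lit 42] (BT.pln (nat_lit 0) (nat_lit 7) (BT.dif (nat_lit 2) (nat_lit 0) (BT.frm (nat_lit 4) (nat_lit 0x4940210d21011233352d3b) (nat_lit 0x4940210d21011233352d3b) [nat_lit 13, nat_lit 19, nat_lit 29, nat_lit 37, nat_lit 36, nat_lit 43, nat_lit 45] (BT.pln (nat_lit 0) (nat_lit 7) (BT.dif (nat_lit 2) (nat_lit 0) (BT.br (nat_lit 0) (nat_lit 56) [nat_lit 13] (BT.kid (nat_lit 56) (nat_lit 1) (BT.one (nat_lit 5) (nat_lit 0x4d4940210d21011233352d3b) (nat_lit 0x4d4940210d21011233352d3b) [nat_lit 0, nat_lit 17, nat_lit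 23, nat_lit 33, nat_lit 41, nat_lit 40, nat_lit 47, nat_lit 49]) BT.nil)))))))))))))))))) BT.nil))))))) BT.nil))))))))))) BT.nil)))))))))) BT.nil))))))) BT.nil))) BT.nil)))

theorem ot_c24_cnt : Cnt 351 (grp 351 o_O) [o_g408] [o_g408] 0 0 0 0 432 :=
  BT.sound ot_c24_cnt_P Known.nil (t := ot_c24_cnt_t) (d := 0) (by decide +kernel)

theorem ot_c24_ge : 432 ≤ Nat.card (grp 351 ot_c24_K) :=
  Ch.le_card_grp (k := 9) (L := (lab 351 9)) o_hn ot_c24_K_ok (c := (Ch.cons (nat_lit 66) [nat_lit 1] (Ch.cons (nat_lit 205) [nat_lit 3] (Ch.cons (nat_lit 177) [nat_lit 5] (Ch.cons (nat_lit 55) [nat_lit 7] (Ch.cons (nat_lit 342) [nat_lit 9] (Ch.cons (nat_lit 181) [nat_lit 11] (Ch.cons (nat_lit 56) [nat_lit 13] Ch.nil)))))))) (by decide +kernel)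

theorem ot_c24_eq : (grp 351 o_O) ⊓ Subgroup.centralizer {Net.toPerm 351 o_g408} = grp 351 ot_c24_K :=
  cent_eq ot_c24_sym ot_c24_cnt ot_c24_ge

theorem ot_c24_card : Nat.card ↥((grp 351 o_O) ⊓ Subgroup.centralizer {Net.toPerm 351 o_g408}) = 432 :=
  card_cent ot_c24_sym ot_c24_cnt ot_c24_ge

theorem ot_c24_ord : orderOf (Net.toPerm 351 o_g408) = 6 :=
  orderOf_net o_hn o_hk o_g408_ok (by decide) (ps := [2, 3]) (by set_option linter.unusedSimpArgs false in simp [Nat.primeFactorsList_ofNat]) (by decide +kernel)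

theorem o_le428 : grp 351 ot_c25_K ≤ grp 351 o_lb_E :=
  grp_le_of_memB o_hn o_hk o_lb_E_ok ot_c25_K_ok (ws := [nat_lit 0x3725221d2921172d012b01, nat_lit 0x433b3139271d111929, nat_lit 0x4325221d241f111929, nat_lit 0x453b3139271e28, nat_lit 0x433b3139271d2419]) (by decide +kernel)

theorem ot_c25_le : grp 351 ot_c25_K ≤ (grp 351 o_O) :=
  (o_le428.trans o_T76_s0.le)

theorem ot_c25_mem : Net.toPerm 351 o_g422 ∈ (grp 351 o_O) :=
  ot_c25_le (mem_grp_of_memB o_hn o_hk ot_c25_K_ok o_g422_ok (w := (nat_lit 0x505050101)) (by decide +kernel))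

theorem ot_c25_sym : Sym 351 (grp 351 o_O) [o_g422] ot_c25_K 0 :=
  Sym.of_lab o_hn o_hk (okE_cons.2 ⟨o_g422_ok, okE_nil _⟩) ot_c25_K_ok ot_c25_le (kT := 0) (by decide +kernel)

theorem o_le432 : grp 351 o_V431 ≤ grp 351 o_V114 :=
  grp_le_of_memB o_hn o_hk o_V114_ok o_V431_ok (ws := [nat_lit 0x25230f190103, nat_lit 0x230f01, nat_lit 0x231719070504]) (by decide +kernel)

theorem o_T76_s79 : Stab 351 (grp 351 o_O) [nat_lit 333, nat_lit 14, nat_lit 3, nat_lit 0] o_V431 24 :=
  Stab.step (k := 9) (L := (lab 351 9)) o_hn o_T76_s9 o_V431_ok o_le432 (c := (Ch.cons (nat_lit 309) [nat_lit 1] (Ch.cons (nat_lit 178) [nat_lit 3] (Ch.cons (nat_lit 159) [nat_lit 5] Ch.nil)))) (by decide +kernel)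

theorem o_T76_s80 : Stab 351 (grp 351 o_O) [nat_lit 309, nat_lit 333, nat_lit 14, nat_lit 3, nat_lit 0] o_V433 4 :=
  Stab.step (k := 9) (L := (lab 351 9)) o_hn o_T76_s79 o_V433_ok (grp_mono (List.subset_append_right [o_g172] _)) (c := (Ch.cons (nat_lit 178) [nat_lit 1] (Ch.cons (nat_lit 159) [nat_lit 3] Ch.nil))) (by decide +kernel)

theorem o_T76_s81 : Stab 351 (grp 351 o_O) [nat_lit 178, nat_lit 309, nat_lit 333, nat_lit 14, nat_lit 3, nat_lit 0] o_V434 2 :=
  Stab.step (k := 9) (L := (lab 351 9)) o_hn o_T76_s80 o_V434_ok (grp_mono (List.subset_append_right [o_g429] _)) (c := (Ch.cons (nat_lit 159) [nat_lit 1] Ch.nil)) (by decide +kernel)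

theorem o_T76_s82 : Stab 351 (grp 351 o_O) [nat_lit 159, nat_lit 178, nat_lit 309, nat_lit 333, nat_lit 14, nat_lit 3, nat_lit 0] o_V435 1 :=
  Stab.step (k := 9) (L := (lab 351 9)) o_hn o_T76_s81 o_V435_ok (grp_mono (List.subset_append_right [o_g430] _)) (c := Ch.nil) (by decide +kernel)

theorem o_g429_o_T76 : Net.toPerm 351 o_g429 ∈ (grp 351 o_O) :=
  o_T76_s79.le (toPerm_mem_grp (E := o_V431) (List.Mem.tail _ (List.Mem.head _)))

theorem o_g430_o_T76 : Net.toPerm 351 o_g430 ∈ (grp 351 o_O) :=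
  o_T76_s79.le (toPerm_mem_grp (E := o_V431) (List.Mem.tail _ (List.Mem.tail _ (List.Mem.head _))))

noncomputable def o_T76_s82_O : ℕ := (nat_lit 0xfffffffffffffffffffffffe0000000000000000000000000000000000000000000000000000000000000000000000000000000000000003fffffffffffffffffffffffffffffffc00000000000000000000000000000003fffffff80000000000000007fffffffffffffff80000000000000007fffffffffffffff800000000000000000000000ffffffff00000000ffffffff00000000ffffffff00000000ffffffff00000000ffffffff00000000fffe0001fffe0001fffe0001fffe0001fffe0001fffe0001fffe0001fffe0001fffe0001fffe0001fffe0001fc03fc03fc03fc03fc03fc03fc03fc03fc03fc03fc03fc03fc03fc03fc03fc03fc03fc03fc03fc03fc03fc038787878787878787878787878787878787878787878787878787878787878787878787878787878787878784ccccccccccccccccccccccccccccccccccccccccccccccccccccccccccccccccccccccccccccccccccccccc55555555555555555555555555555555555555555555555555555555555555555555555555555555555555540000000000000000000000000000000000000000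0000000000000000000000000000000000000000000000040000000000000000000000000000000000000000000000000000000000000000000000000000000000000040000000000000000000000000000000000000000000000000000000000000000000000000000000000004000000040000000000000000000000000000000000000000000000000000000000000000000000000000000000000000000008000000000000000000000000000000000000000000000000000000000000000000000000000000000000000000000000000000000000000000000002000000000000000000000000000000000000000000000000000000000000000000000000000000000000000000008000000000000000000000000000000000000000)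

theorem o_T76_s82_F : Frame 351 (grp 351 o_O) 7 16 o_T76_s82_O 1 1 :=
  IsBase.frame o_T76_s82.isBase (by decide +kernel)

noncomputable def o_T76_s81_O : ℕ := (nat_lit 0x47e401e9605249564928534010c528022c028aa48689b083083b6e2914fe10221882e3232000000000000005aff9a7fae8f6f3ee9ef9efcd2fbf2031a42a2a1270880ca96f890225d603dfa0000000002a2a219222400a0f5ffb4c50520218008b1c1064008ae66bfdbb7bff9e67e68c20ed0010000000379df473737ffc4324448014004000074b07ffcae1208544ef48816e116fdf5524b09233e724257fdca7f0006f3be88000a8afffffe900280d80a70ff76cc2023fd3e50a0cf12bfde6c6ac050508fbfdeb0403e2d7b01d02ffe828cdc9515ffa002dd80030f31adf1392eb417fa2d57a5a850d20d6708f744313f9e9239697c08ddc07c5f22e0df80bf21d0bf25a0f00a59e0431f6a6c058fd8ae2c3223e2b2c67c60b93b6768f0f47b28a7e19664e6b1a731b0e9719719718eb18a15aa62151d20e33c99e39713f90567bb54ce7966a8ac39148c3369ab3a6aa5aa5a695a55aa9a65aa9a5a4ab100000000000000000000000000000000000000000000000000000000000000000000000000000000000000008000000000000000000000000000000000000000000000000000000000000000000000000000000000000008000000000000000000000000000000000000000000000000000000000000000000000000000000000000800000008000000000000000000000000000000000000000000000000000000000000000000000000000000000000000000001000000000000000000000000000000000000000000000000000000000000000000000000000000000000000000000000000000000000000000000000400000000000000000000000000000000000000000000)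

theorem o_T76_s81_F : Frame 351 (grp 351 o_O) 6 14 o_T76_s81_O 0 1 :=
  Stab.frame o_hn o_T76_s81 (by decide +kernel)

noncomputable def o_T76_s80_O : ℕ := (nat_lit 0x60800420000020890408200000240005805014001022100103008400000000000000000000000000000000110000f01816b01481420db000b38622b44712111f0c0854c089d287453f9e48be70bcfec90140020000000122704124010c073442081a703c690c35684a1f035915512f8833980810b4c011004011000f8eededccf20381d7de51ed54f74f956aeb515f4f49add002c8601b8e42000822800101d6fe7deff4a92a049fbfffda0000000017e8876ec981ffb76c981836654c263dfe8f155661a400518201e586a9fc89fe1bdfe600b631804bfff200042dc8c67268ace975a1ba221ba0a945ebfc08095c2566774e3a830f3753a0f6a4250833d37f146cb7e013dc00e5a1bbc794d262e696bbccb2a5e480795a6e44de1a2fdba082f05839dba1a4366da66672e3f0c72c1ca6642febe379f7a55aaa43b17648a984b90b86665e62c6b3346c1d095164f245b2c4aae58b8a99671b2b1574caa20000000000000000000000000000000000000000000000000000000000000000000000000000000000000001000000000000000000000000000000000000000000000000000000000000000000000000000000000000001000000000000000000000000000000000000000000000000000000000000000000000000000000000000100000001000000000000000000000000000000000000000000000000000000000000000000000000000000000000000000000200000000000000000000000000000000000000000000000000000000000000000000000000000)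

theorem o_T76_s80_F : Frame 351 (grp 351 o_O) 5 13 o_T76_s80_O 0 1 :=
  Stab.frame o_hn o_T76_s80 (by decide +kernel)

noncomputable def o_T76_s79_O : ℕ := (nat_lit 0x3040221014001064820430000063088fd0ec0a4002030030033000000020002e1806100200100000000000134346025340e9020261f000552038cc80582401003021940db10a85421d82860080c1c4328c84e741cbbe40c9213311598e930c48461c094a80485c4b28ad44032154e4068317cb3e3f76ca4684e0b9c52700c6821102ad542767df02c2e5f23db600fc84899e2ffc7a9aa6e173b037b075800986f2c176031e890cc9807bf9030c04581966b5dc508b498722a7193c7f2cb7599542525e4d97409b21b03d0d4e74f85f95f849bedd66df2519618887e3f80d8944593150d6c23e9cd6cb3d384ce9cc7acca3d3725605833108928bb16dbdecdaeb60dd2b702a984000000000000000000000000000000000000000000000000000000000000000000000000000000000000000200000000000000000000000000000000000000000000000000000000000000000000000000000000000000200000000000000000000000000000000000000000000000000000000000000000000000000000000000020000000200000000000000000000000000000000000000000000000000000000000000000000000000000000000)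

theorem o_T76_s79_F : Frame 351 (grp 351 o_O) 4 10 o_T76_s79_O 0 1 :=
  Stab.frame o_hn o_T76_s79 (by decide +kernel)

noncomputable def ot_c25_cnt_L : List ℕ := [1, 2, o_T76_s1_O, 0, 0, 4, 10, o_T76_s79_O, 0, 0, 5, 13, o_T76_s80_O, 0, 0, 6, 14, o_T76_s81_O, 0, 0, 7, 16, o_T76_s82_O, 1, 0]

theorem ot_c25_cnt_P : Prob 351 9 (grp 351 o_O) ot_c25_cnt_EG [o_g422] [o_g422] ot_c25_K ot_c25_cnt_L 0 0 :=
  Sym.prob o_hn o_hk ot_c25_sym ot_c25_cnt_EG_ok (grp_cons_le o_b_o_T76 (grp_cons_le o_c_o_T76 (grp_cons_le o_d_o_T76 (grp_cons_le o_e_o_T76 (grp_cons_le o_f_o_T76 (grp_cons_le o_g_o_T76 (grp_cons_le o_h_o_T76 (grp_cons_le o_i_o_T76 (grp_cons_le o_g1_o_T76 (grp_cons_le o_g2_o_T76 (grp_cons_le o_g3_o_T76 (grp_cons_le o_g4_o_T76 (grp_cons_le o_g5_o_T76 (grp_cons_le o_g8_o_T76 (grp_cons_le o_g9_o_T76 (grp_cons_le o_g12_o_T76 (grp_cons_le o_g13_o_T76 (grp_cons_le o_g14_o_T76 (grp_cons_le o_g17_o_T76 (grp_cons_le o_g18_o_T76 (grp_cons_le o_g19_o_T76 (grp_cons_le o_g20_o_T76 (grp_cons_le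 o_g23_o_T76 (grp_cons_le o_g24_o_T76 (grp_cons_le o_g25_o_T76 (grp_cons_le o_g26_o_T76 (grp_cons_le o_g27_o_T76 (grp_cons_le o_g30_o_T76 (grp_cons_le o_g31_o_T76 (grp_cons_le o_g32_o_T76 (grp_cons_le o_g35_o_T76 (grp_cons_le o_g172_o_T76 (grp_cons_le o_g429_o_T76 (grp_cons_le o_g430_o_T76 (grp_nil_le _))))))))))))))))))))))))))))))))))) (Frames.cons o_T76_s1_F (Frames.cons o_T76_s79_F (Frames.cons o_T76_s80_F (Frames.cons o_T76_s81_F (Frames.cons o_T76_s82_F Frames.nil))))) (okE_cons.2 ⟨o_g422_ok, okE_nil _⟩) _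

noncomputable def ot_c25_cnt_t : BT := (BT.fix (nat_lit 65793) (BT.fix (nat_lit 1) (BT.dif (nat_lit 1) (nat_lit 0) (BT.br (nat_lit 0) (nat_lit 18) [nat_lit 1, nat_lit 3] (BT.kid (nat_lit 18) (nat_lit 48) (BT.dif (nat_lit 1) (nat_lit 0) (BT.frm (nat_lit 0) (nat_lit 0x1052115) (nat_lit 0x1052115) [nat_lit 1] (BT.pln (nat_lit 0) (nat_lit 1) (BT.dif (nat_lit 2) (nat_lit 0) (BT.br (nat_lit 0) (nat_lit 69) [nat_lit 3] (BT.dead (nat_lit 201) (BT.img (nat_lit 1) (nat_lit 5) (BT.img (nat_lit 1) (nat_lit 0) (BT.frm (nat_lit 1) (nat_lit 0x2b1b1e1b152901052115) (nat_lit 0x2f1b1e1b152901052115) [nat_lit 2, nat_lit 0, nat_lit 1, nat_lit 7] (BT.pln (nat_lit 0) (nat_lit 4) (BT.and (nat_lit 0) (nat_lit 11) (BT.cnt (nat_lit 0))))))) (BT.dead (nat_lit 70) (BT.img (nat_lit 1) (nat_lit 5) (BT.img (nat_lit 1) (nat_lit 0) (BT.frm (nat_lit 1) (nat_lit 0x2b1b1e1b152901052115) (nat_lit 0x351b1e1b152901052115) [nat_lit 2, nat_lit 0, nat_lit 1, nat_lit 7] (BT.pln (nat_lit 0) (nat_lit 4) (BT.and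 (nat_lit 0) (nat_lit 11) (BT.cnt (nat_lit 0))))))) (BT.kid (nat_lit 69) (nat_lit 24) (BT.dif (nat_lit 11) (nat_lit 2) (BT.img (nat_lit 1) (nat_lit 6) (BT.img (nat_lit 1) (nat_lit 0) (BT.frm (nat_lit 1) (nat_lit 0x2b1b1e1b152901052115) (nat_lit 0x2b1b1e1b152901052115) [nat_lit 3, nat_lit 0, nat_lit 1, nat_lit 8] (BT.pln (nat_lit 0) (nat_lit 9) (BT.and (nat_lit 4) (nat_lit 0) (BT.pln (nat_lit 2) (nat_lit 4) (BT.dif (nat_lit 1) (nat_lit 0) (BT.pln (nat_lit 4) (nat_lit 5) (BT.dif (nat_lit 1) (nat_lit 0) (BT.pln (nat_lit 6) (nat_lit 6) (BT.and (nat_lit 1) (nat_lit 0) (BT.dif (nat_lit 0) (nat_lit 20) (BT.br (nat_lit 0) (nat_lit 31) [nat_lit 5] (BT.kid (nat_lit 31) (nat_lit 4) (BT.and (nat_lit 9) (nat_lit 3) (BT.dif (nat_lit 0) (nat_lit 8) (BT.dif (nat_lit 0) (nat_lit 7) (BT.dif (nat_lit 0) (nat_lit 3) (BT.frm (nat_lit 2) (nat_lit 0x3f412b1b1e1b152901052115) (nat_lit 0x3f412b1b1e1b152901052115) [nat_lit 4, nat_lit 18, nat_lit 15, nat_lit 16, nat_lit 23] (BT.pln (nat_lit 0)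 (nat_lit 8) (BT.dif (nat_lit 2) (nat_lit 0) (BT.br (nat_lit 0) (nat_lit 40) [nat_lit 7] (BT.kid (nat_lit 40) (nat_lit 2) (BT.and (nat_lit 24) (nat_lit 11) (BT.dif (nat_lit 0) (nat_lit 3) (BT.pln (nat_lit 5) (nat_lit 9) (BT.dif (nat_lit 1) (nat_lit 0) (BT.pln (nat_lit 7) (nat_lit 11) (BT.dif (nat_lit 1) (nat_lit 0) (BT.frm (nat_lit 3) (nat_lit 0x413f412b1b1e1b152901052115) (nat_lit 0x413f412b1b1e1b152901052115) [nat_lit 6, nat_lit 14, nat_lit 28, nat_lit 25, nat_lit 26, nat_lit 33] (BT.pln (nat_lit 0) (nat_lit 6) (BT.dif (nat_lit 2) (nat_lit 0) (BT.br (nat_lit 0) (nat_lit 346) [nat_lit 9] (BT.kid (nat_lit 346) (nat_lit 1) (BT.one (nat_lit 4) (nat_lit 0x43413f412b1b1e1b152901052115) (nat_lit 0x43413f412b1b1e1b152901052115) [nat_lit 0, nat_lit 10, nat_lit 18, nat_lit 32, nat_lit 29, nat_lit 30, nat_lit 37]) BT.nil))))))))))) BT.nil))))))))) BT.nil))))))))))))))) BT.nil)))))))) BT.nil)))))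

theorem ot_c25_cnt : Cnt 351 (grp 351 o_O) [o_g422] [o_g422] 0 0 0 0 432 :=
  BT.sound ot_c25_cnt_P Known.nil (t := ot_c25_cnt_t) (d := 0) (by decide +kernel)

theorem ot_c25_ge : 432 ≤ Nat.card (grp 351 ot_c25_K) :=
  Ch.le_card_grp (k := 9) (L := (lab 351 9)) o_hn ot_c25_K_ok (c := (Ch.cons (nat_lit 18) [nat_lit 1] (Ch.cons (nat_lit 69) [nat_lit 3] (Ch.cons (nat_lit 31) [nat_lit 5] (Ch.cons (nat_lit 40) [nat_lit 7] (Ch.cons (nat_lit 346) [nat_lit 9] Ch.nil)))))) (by decide +kernel)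

theorem ot_c25_eq : (grp 351 o_O) ⊓ Subgroup.centralizer {Net.toPerm 351 o_g422} = grp 351 ot_c25_K :=
  cent_eq ot_c25_sym ot_c25_cnt ot_c25_ge

theorem ot_c25_card : Nat.card ↥((grp 351 o_O) ⊓ Subgroup.centralizer {Net.toPerm 351 o_g422}) = 432 :=
  card_cent ot_c25_sym ot_c25_cnt ot_c25_ge

theorem ot_c25_ord : orderOf (Net.toPerm 351 o_g422) = 6 :=
  orderOf_net o_hn o_hk o_g422_ok (by decide) (ps := [2, 3]) (by set_option linter.unusedSimpArgs false in simp [Nat.primeFactorsList_ofNat]) (by decide +kernel)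

theorem o_le443 : grp 351 ot_c26_K ≤ grp 351 o_lb_E :=
  grp_le_of_memB o_hn o_hk o_lb_E_ok ot_c26_K_ok (ws := [nat_lit 0x4331392725221e29111929012111, nat_lit 0x3b28253f1d24192601050720, nat_lit 0x453b28211d2520192701031a1f, nat_lit 0x45433739211f3f112e01050721, nat_lit 0x45313927211d20171e01032d, nat_lit 0x453b2821231f1901031a1f]) (by decide +kernel)

theorem ot_c26_le : grp 351 ot_c26_K ≤ (grp 351 o_O) :=
  (o_le443.trans o_T76_s0.le)

theorem ot_c26_mem : Net.toPerm 351 o_g436 ∈ (grp 351 o_O) :=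
  ot_c26_le (mem_grp_of_memB o_hn o_hk ot_c26_K_ok o_g436_ok (w := (nat_lit 395011)) (by decide +kernel))

theorem ot_c26_sym : Sym 351 (grp 351 o_O) [o_g436] ot_c26_K 0 :=
  Sym.of_lab o_hn o_hk (okE_cons.2 ⟨o_g436_ok, okE_nil _⟩) ot_c26_K_ok ot_c26_le (kT := 0) (by decide +kernel)

noncomputable def ot_c26_cnt_L : List ℕ := [2, 7, o_T76_s2_O, 0, 0, 3, 8, o_T76_s3_O, 0, 0, 4, 10, o_T76_s4_O, 0, 0, 6, 14, o_T76_s6_O, 0, 0, 7, 16, o_T76_s7_O, 1, 0]

theorem ot_c26_cnt_P : Prob 351 9 (grp 351 o_O) ot_c26_cnt_EG [o_g436] [o_g436] ot_c26_K ot_c26_cnt_L 0 0 :=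
  Sym.prob o_hn o_hk ot_c26_sym ot_c26_cnt_EG_ok (grp_cons_le o_g1_o_T76 (grp_cons_le o_g_o_T76 (grp_cons_le o_g2_o_T76 (grp_cons_le o_g3_o_T76 (grp_cons_le o_g4_o_T76 (grp_cons_le o_g5_o_T76 (grp_cons_le o_g8_o_T76 (grp_cons_le o_g9_o_T76 (grp_cons_le o_g12_o_T76 (grp_cons_le o_g13_o_T76 (grp_cons_le o_g14_o_T76 (grp_cons_le o_g17_o_T76 (grp_cons_le o_g18_o_T76 (grp_cons_le o_g19_o_T76 (grp_cons_le o_g20_o_T76 (grp_cons_le o_g23_o_T76 (grp_cons_le o_g24_o_T76 (grp_cons_le o_g25_o_T76 (grp_cons_le o_g26_o_T76 (grp_cons_le o_c_o_T76 (grp_cons_le o_g27_o_T76 (grp_cons_le o_g30_o_T76 (grp_cons_le o_g31_o_T76 (grp_cons_le o_g32_o_T76 (grp_cons_le o_g35_o_T76 (grp_cons_le o_b_o_T76 (grp_cons_le o_d_o_T76 (grp_cons_le o_e_o_T76 (grp_cons_le o_f_o_T76 (grp_cons_le o_h_o_T76 (grp_cons_le o_i_o_T76 (grp_cons_le o_g88_o_T76 (grp_cons_le o_g89_o_T76 (grp_cons_le o_g90_o_T76 (grp_cons_le o_g91_o_T76 (grp_cons_le o_g92_o_T76 (grp_cons_le o_g93_o_T76 (grp_cons_le o_g94_o_T76 (grp_nil_le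 _))))))))))))))))))))))))))))))))))))))) (Frames.cons o_T76_s2_F (Frames.cons o_T76_s3_F (Frames.cons o_T76_s4_F (Frames.cons o_T76_s6_F (Frames.cons o_T76_s7_F Frames.nil))))) (okE_cons.2 ⟨o_g436_ok, okE_nil _⟩) _

noncomputable def ot_c26_cnt_t : BT := (BT.fix (nat_lit 257) (BT.fix (nat_lit 1) (BT.dif (nat_lit 1) (nat_lit 0) (BT.br (nat_lit 0) (nat_lit 15) [nat_lit 1, nat_lit 3] (BT.dead (nat_lit 38) (BT.frm (nat_lit 0) (nat_lit 0xf0e330d31) (nat_lit 0x1e0b330d31) [nat_lit 0, nat_lit 2] (BT.pln (nat_lit 0) (nat_lit 4) (BT.and (nat_lit 5) (nat_lit 0) (BT.br (nat_lit 0) (nat_lit 37) [nat_lit 1281] (BT.dead (nat_lit 227) (BT.pln (nat_lit 3) (nat_lit 5) (BT.frm (nat_lit 1) (nat_lit 0x40400f0e330d31) (nat_lit 0x4040431e0b330d31) [nat_lit 1, nat_lit 5, nat_lit 7] (BT.pln (nat_lit 0) (nat_lit 3) (BT.and (nat_lit 2) (nat_lit 0) (BT.br (nat_lit 0) (nat_lit 152) [nat_lit 5, nat_lit 2567] (BT.dead (nat_lit 296) (BT.dif (nat_lit 15) (nat_lit 2) (BT.pln (nat_lit 4) (nat_lit 4)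 (BT.dif (nat_lit 1) (nat_lit 0) (BT.dif (nat_lit 0) (nat_lit 7) (BT.pln (nat_lit 12) (nat_lit 2) (BT.dif (nat_lit 1) (nat_lit 0) (BT.dif (nat_lit 0) (nat_lit 18) (BT.frm (nat_lit 2) (nat_lit 0x4240400f0e330d31) (nat_lit 0x444040431e0b330d31) [nat_lit 7, nat_lit 12, nat_lit 16, nat_lit 18] (BT.pln (nat_lit 0) (nat_lit 4) (BT.dif (nat_lit 2) (nat_lit 0) (BT.br (nat_lit 0) (nat_lit 4) [nat_lit 2571] (BT.dead (nat_lit 118) (BT.pln (nat_lit 3) (nat_lit 6) (BT.and (nat_lit 13) (nat_lit 0) (BT.dif (nat_lit 14) (nat_lit 13) (BT.img (nat_lit 1) (nat_lit 14) (BT.dif (nat_lit 1) (nat_lit 0) (BT.pln (nat_lit 8) (nat_lit 5) (BT.and (nat_lit 1) (nat_lit 0) (BT.dif (nat_lit 0) (nat_lit 9) (BT.img (nat_lit 1) (nat_lit 0) (BT.dif (nat_lit 7) (nat_lit 0) (BT.frm (nat_lit 3) (nat_lit 0x48484240400f0e330d31) (nat_lit 0x47494b45444040431e0b330d31) [nat_lit 10, nat_lit 0, nat_lit 21, nat_lit 26, nat_lit 30, nat_lit 32] (BT.pln (nat_lit 0) (nat_lit 6) (BT.img (nat_lit 1) (nat_lit 12) (BT.img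 (nat_lit 1) (nat_lit 0) (BT.and (nat_lit 2) (nat_lit 0) (BT.cnt (nat_lit 0))))))))))))))))) (BT.dead (nat_lit 102) (BT.pln (nat_lit 3) (nat_lit 6) (BT.and (nat_lit 13) (nat_lit 0) (BT.dif (nat_lit 14) (nat_lit 13) (BT.img (nat_lit 1) (nat_lit 14) (BT.dif (nat_lit 1) (nat_lit 0) (BT.pln (nat_lit 8) (nat_lit 5) (BT.and (nat_lit 1) (nat_lit 0) (BT.dif (nat_lit 0) (nat_lit 9) (BT.img (nat_lit 1) (nat_lit 0) (BT.dif (nat_lit 7) (nat_lit 0) (BT.frm (nat_lit 3) (nat_lit 0x48484240400f0e330d31) (nat_lit 0x474945444040431e0b330d31) [nat_lit 10, nat_lit 0, nat_lit 21, nat_lit 26, nat_lit 30, nat_lit 32] (BT.pln (nat_lit 0) (nat_lit 6) (BT.img (nat_lit 1) (nat_lit 12) (BT.img (nat_lit 1) (nat_lit 0) (BT.and (nat_lit 2) (nat_lit 0) (BT.cnt (nat_lit 0))))))))))))))))) (BT.dead (nat_lit 11) (BT.pln (nat_lit 3) (nat_lit 6) (BT.and (nat_lit 13) (nat_lit 0) (BT.dif (nat_lit 14) (nat_lit 13) (BT.img (nat_lit 1) (nat_lit 14) (BT.dif (nat_lit 1) (nat_lit 0) (BT.pln (nat_lit 8) (nat_lit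 5) (BT.and (nat_lit 1) (nat_lit 0) (BT.dif (nat_lit 0) (nat_lit 9) (BT.img (nat_lit 1) (nat_lit 0) (BT.dif (nat_lit 7) (nat_lit 0) (BT.frm (nat_lit 3) (nat_lit 0x48484240400f0e330d31) (nat_lit 0x484845444040431e0b330d31) [nat_lit 10, nat_lit 0, nat_lit 21, nat_lit 26, nat_lit 30, nat_lit 32] (BT.pln (nat_lit 0) (nat_lit 6) (BT.img (nat_lit 1) (nat_lit 12) (BT.and (nat_lit 1) (nat_lit 0) (BT.cnt (nat_lit 0)))))))))))))))) BT.nil)))))))))))))) BT.nil)))))) (BT.dead (nat_lit 217) (BT.pln (nat_lit 3) (nat_lit 5) (BT.frm (nat_lit 1) (nat_lit 0x40400f0e330d31) (nat_lit 0x3f41491e0b330d31) [nat_lit 1, nat_lit 5, nat_lit 7] (BT.pln (nat_lit 0) (nat_lit 3) (BT.and (nat_lit 2) (nat_lit 0) (BT.br (nat_lit 0) (nat_lit 152) [nat_lit 2824, nat_lit 2310] (BT.dead (nat_lit 173) (BT.frm (nat_lit 2) (nat_lit 0x4240400f0e330d31) (nat_lit 0x42433f41491e0b330d31) [nat_lit 0, nat_lit 5, nat_lit 9, nat_lit 11] (BT.pln (nat_lit 0) (nat_lit 4) (BT.img (nat_lit 1) (nat_lit 2) (BT.and (nat_lit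 1) (nat_lit 0) (BT.cnt (nat_lit 0)))))) BT.nil)))))) (BT.dead (nat_lit 15) (BT.pln (nat_lit 3) (nat_lit 5) (BT.frm (nat_lit 1) (nat_lit 0x40400f0e330d31) (nat_lit 0x3f1e0b330d31) [nat_lit 1, nat_lit 5, nat_lit 7] (BT.pln (nat_lit 0) (nat_lit 3) (BT.and (nat_lit 2) (nat_lit 0) (BT.br (nat_lit 0) (nat_lit 152) [nat_lit 3080, nat_lit 1543] (BT.dead (nat_lit 115) (BT.frm (nat_lit 2) (nat_lit 0x4240400f0e330d31) (nat_lit 0x423f1e0b330d31) [nat_lit 0, nat_lit 5, nat_lit 9, nat_lit 11] (BT.pln (nat_lit 0) (nat_lit 5) (BT.img (nat_lit 1) (nat_lit 2) (BT.and (nat_lit 1) (nat_lit 0) (BT.cnt (nat_lit 0)))))) BT.nil)))))) BT.nil))))))) (BT.dead (nat_lit 217) (BT.frm (nat_lit 0) (nat_lit 0xf0e330d31) (nat_lit 0x529330d31) [nat_lit 0, nat_lit 2] (BT.pln (nat_lit 0) (nat_lit 4) (BT.and (nat_lit 5) (nat_lit 0) (BT.br (nat_lit 0) (nat_lit 37) [nat_lit 655619] (BT.dead (nat_lit 15) (BT.pln (nat_lit 3) (nat_lit 5) (BT.frm (nat_lit 1) (nat_lit 0x40400f0e330d31) (nat_lit 0x3f3f430529330d31)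 [nat_lit 1, nat_lit 5, nat_lit 7] (BT.pln (nat_lit 0) (nat_lit 3) (BT.and (nat_lit 2) (nat_lit 0) (BT.br (nat_lit 0) (nat_lit 152) [nat_lit 10, nat_lit 656904] (BT.dead (nat_lit 146) (BT.dif (nat_lit 15) (nat_lit 2) (BT.pln (nat_lit 4) (nat_lit 4) (BT.dif (nat_lit 1) (nat_lit 0) (BT.dif (nat_lit 0) (nat_lit 7) (BT.pln (nat_lit 12) (nat_lit 2) (BT.dif (nat_lit 1) (nat_lit 0) (BT.dif (nat_lit 0) (nat_lit 18) (BT.frm (nat_lit 2) (nat_lit 0x4240400f0e330d31) (nat_lit 0x42433f3f430529330d31) [nat_lit 7, nat_lit 12, nat_lit 16, nat_lit 18] (BT.pln (nat_lit 0) (nat_lit 4) (BT.dif (nat_lit 2) (nat_lit 0) (BT.br (nat_lit 0) (nat_lit 4) [nat_lit 2316, nat_lit 2565] (BT.dead (nat_lit 17) (BT.fix (nat_lit 65793) (BT.dif (nat_lit 27) (nat_lit 0) (BT.dif (nat_lit 0) (nat_lit 11) (BT.and (nat_lit 0) (nat_lit 16) (BT.pln (nat_lit 18) (nat_lit 5) (BT.dif (nat_lit 1) (nat_lit 0) (BT.pln (nat_lit 9) (nat_lit 5) (BT.and (nat_lit 1) (nat_lit 0) (BT.pln (nat_lit 27) (nat_lit 3) (BT.dif (nat_lit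 0) (nat_lit 22) (BT.pln (nat_lit 13) (nat_lit 7) (BT.and (nat_lit 9) (nat_lit 0) (BT.pln (nat_lit 15) (nat_lit 6) (BT.and (nat_lit 1) (nat_lit 0) (BT.dif (nat_lit 0) (nat_lit 7) (BT.and (nat_lit 0) (nat_lit 17) (BT.pln (nat_lit 19) (nat_lit 8) (BT.dif (nat_lit 1) (nat_lit 0) (BT.img (nat_lit 1) (nat_lit 0) (BT.and (nat_lit 9) (nat_lit 0) (BT.img (nat_lit 1) (nat_lit 0) (BT.and (nat_lit 13) (nat_lit 0) (BT.and (nat_lit 34) (nat_lit 9) (BT.dif (nat_lit 35) (nat_lit 34) (BT.img (nat_lit 1) (nat_lit 35) (BT.dif (nat_lit 1) (nat_lit 0) (BT.and (nat_lit 0) (nat_lit 19) (BT.dif (nat_lit 0) (nat_lit 29) (BT.img (nat_lit 1) (nat_lit 0) (BT.dif (nat_lit 6) (nat_lit 0) (BT.frm (nat_lit 3) (nat_lit 0x48484240400f0e330d31) (nat_lit 0x484b42433f3f430529330d31) [nat_lit 30, nat_lit 0, nat_lit 41, nat_lit 46, nat_lit 50, nat_lit 52] (BT.pln (nat_lit 0) (nat_lit 6) (BT.dif (nat_lit 10) (nat_lit 0) (BT.dif (nat_lit 23) (nat_lit 35) (BT.and (nat_lit 0) (nat_lit 15) (BT.pln (nat_lit 4)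 (nat_lit 11) (BT.and (nat_lit 1) (nat_lit 0) (BT.img (nat_lit 1) (nat_lit 0) (BT.and (nat_lit 5) (nat_lit 0) (BT.img (nat_lit 1) (nat_lit 0) (BT.and (nat_lit 0) (nat_lit 8) (BT.cnt (nat_lit 0))))))))))))))))))))))))))))))))))))))))))) BT.nil)))))))))))) BT.nil)))))) (BT.dead (nat_lit 38) (BT.pln (nat_lit 3) (nat_lit 5) (BT.frm (nat_lit 1) (nat_lit 0x40400f0e330d31) (nat_lit 0x3f3f47430529330d31) [nat_lit 1, nat_lit 5, nat_lit 7] (BT.pln (nat_lit 0) (nat_lit 3) (BT.and (nat_lit 2) (nat_lit 0) (BT.br (nat_lit 0) (nat_lit 152) [nat_lit 7, nat_lit 1287] (BT.dead (nat_lit 296) (BT.frm (nat_lit 2) (nat_lit 0x4240400f0e330d31) (nat_lit 0x433f3f47430529330d31) [nat_lit 0, nat_lit 5, nat_lit 9, nat_lit 11] (BT.pln (nat_lit 0) (nat_lit 5) (BT.img (nat_lit 1) (nat_lit 2) (BT.and (nat_lit 1) (nat_lit 0) (BT.cnt (nat_lit 0)))))) BT.nil)))))) (BT.dead (nat_lit 37) (BT.pln (nat_lit 3) (nat_lit 5) (BT.frm (nat_lit 1) (nat_lit 0x40400f0e330d31) (nat_lit 0x4040430529330d31) [nat_lit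 1, nat_lit 5, nat_lit 7] (BT.pln (nat_lit 0) (nat_lit 3) (BT.and (nat_lit 2) (nat_lit 0) (BT.br (nat_lit 0) (nat_lit 152) [nat_lit 1287, nat_lit 7] (BT.dead (nat_lit 78) (BT.frm (nat_lit 2) (nat_lit 0x4240400f0e330d31) (nat_lit 0x41444040430529330d31) [nat_lit 0, nat_lit 5, nat_lit 9, nat_lit 11] (BT.pln (nat_lit 0) (nat_lit 4) (BT.img (nat_lit 1) (nat_lit 2) (BT.and (nat_lit 1) (nat_lit 0) (BT.cnt (nat_lit 0)))))) BT.nil)))))) BT.nil))))))) (BT.kid (nat_lit 15) (nat_lit 81) (BT.frm (nat_lit 0) (nat_lit 0xf0e330d31) (nat_lit 0xf0e330d31) [nat_lit 0, nat_lit 2] (BT.pln (nat_lit 0) (nat_lit 4) (BT.and (nat_lit 5) (nat_lit 0) (BT.br (nat_lit 0) (nat_lit 37) [] (BT.dead (nat_lit 317) (BT.pln (nat_lit 3) (nat_lit 5) (BT.frm (nat_lit 1) (nat_lit 0x40400f0e330d31) (nat_lit 0x3f44470f0e330d31) [nat_lit 1, nat_lit 5, nat_lit 7] (BT.pln (nat_lit 0) (nat_lit 3) (BT.and (nat_lit 2) (nat_lit 0) (BT.br (nat_lit 0) (nat_lit 152) [nat_lit 5, nat_lit 7] (BT.dead (nat_lit 296) (BT.frm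 (nat_lit 2) (nat_lit 0x4240400f0e330d31) (nat_lit 0x413f44470f0e330d31) [nat_lit 0, nat_lit 5, nat_lit 9, nat_lit 11] (BT.pln (nat_lit 0) (nat_lit 4) (BT.img (nat_lit 1) (nat_lit 2) (BT.and (nat_lit 1) (nat_lit 0) (BT.cnt (nat_lit 0)))))) BT.nil)))))) (BT.dead (nat_lit 310) (BT.pln (nat_lit 3) (nat_lit 5) (BT.frm (nat_lit 1) (nat_lit 0x40400f0e330d31) (nat_lit 0x3f3f470f0e330d31) [nat_lit 1, nat_lit 5, nat_lit 7] (BT.pln (nat_lit 0) (nat_lit 3) (BT.and (nat_lit 2) (nat_lit 0) (BT.br (nat_lit 0) (nat_lit 152) [nat_lit 5, nat_lit 7] (BT.dead (nat_lit 152) (BT.frm (nat_lit 2) (nat_lit 0x4240400f0e330d31) (nat_lit 0x433f3f470f0e330d31) [nat_lit 0, nat_lit 5, nat_lit 9, nat_lit 11] (BT.pln (nat_lit 0) (nat_lit 4) (BT.img (nat_lit 1) (nat_lit 2) (BT.and (nat_lit 1) (nat_lit 0) (BT.cnt (nat_lit 0)))))) BT.nil)))))) (BT.dead (nat_lit 38) (BT.pln (nat_lit 3) (nat_lit 5) (BT.frm (nat_lit 1) (nat_lit 0x40400f0e330d31) (nat_lit 0x3f44480f0e330d31) [nat_lit 1, nat_lit 5, nat_lit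 7] (BT.pln (nat_lit 0) (nat_lit 3) (BT.and (nat_lit 2) (nat_lit 0) (BT.br (nat_lit 0) (nat_lit 152) [nat_lit 5, nat_lit 7] (BT.dead (nat_lit 296) (BT.frm (nat_lit 2) (nat_lit 0x4240400f0e330d31) (nat_lit 0x3f44480f0e330d31) [nat_lit 0, nat_lit 5, nat_lit 9, nat_lit 11] (BT.pln (nat_lit 0) (nat_lit 4) (BT.img (nat_lit 1) (nat_lit 2) (BT.and (nat_lit 1) (nat_lit 0) (BT.cnt (nat_lit 0)))))) BT.nil)))))) (BT.dead (nat_lit 217) (BT.pln (nat_lit 3) (nat_lit 5) (BT.frm (nat_lit 1) (nat_lit 0x40400f0e330d31) (nat_lit 0x3f3f0f0e330d31) [nat_lit 1, nat_lit 5, nat_lit 7] (BT.pln (nat_lit 0) (nat_lit 3) (BT.and (nat_lit 2) (nat_lit 0) (BT.br (nat_lit 0) (nat_lit 152) [nat_lit 5, nat_lit 7] (BT.dead (nat_lit 152) (BT.frm (nat_lit 2) (nat_lit 0x4240400f0e330d31) (nat_lit 0x413f3f0f0e330d31) [nat_lit 0, nat_lit 5, nat_lit 9, nat_lit 11] (BT.pln (nat_lit 0) (nat_lit 5) (BT.img (nat_lit 1) (nat_lit 2) (BT.and (nat_lit 1) (nat_lit 0) (BT.cnt (nat_lit 0)))))) BT.nil)))))) (BT.dead (nat_lit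 248) (BT.pln (nat_lit 3) (nat_lit 5) (BT.frm (nat_lit 1) (nat_lit 0x40400f0e330d31) (nat_lit 0x3f440f0e330d31) [nat_lit 1, nat_lit 5, nat_lit 7] (BT.pln (nat_lit 0) (nat_lit 3) (BT.and (nat_lit 2) (nat_lit 0) (BT.br (nat_lit 0) (nat_lit 152) [nat_lit 5, nat_lit 7] (BT.dead (nat_lit 57) (BT.frm (nat_lit 2) (nat_lit 0x4240400f0e330d31) (nat_lit 0x3f440f0e330d31) [nat_lit 0, nat_lit 5, nat_lit 9, nat_lit 11] (BT.pln (nat_lit 0) (nat_lit 4) (BT.img (nat_lit 1) (nat_lit 2) (BT.and (nat_lit 1) (nat_lit 0) (BT.cnt (nat_lit 0)))))) BT.nil)))))) (BT.kid (nat_lit 37) (nat_lit 81) (BT.pln (nat_lit 3) (nat_lit 5) (BT.frm (nat_lit 1) (nat_lit 0x40400f0e330d31) (nat_lit 0x40400f0e330d31) [nat_lit 1, nat_lit 5, nat_lit 7] (BT.pln (nat_lit 0) (nat_lit 3) (BT.and (nat_lit 2) (nat_lit 0) (BT.br (nat_lit 0) (nat_lit 152) [nat_lit 5, nat_lit 7] (BT.kid (nat_lit 152) (nat_lit 9) (BT.dif (nat_lit 15) (nat_lit 2) (BT.pln (nat_lit 4) (nat_lit 4) (BT.dif (nat_lit 1) (nat_lit 0) (BT.dif (nat_lit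 0) (nat_lit 7) (BT.pln (nat_lit 12) (nat_lit 2) (BT.dif (nat_lit 1) (nat_lit 0) (BT.dif (nat_lit 0) (nat_lit 18) (BT.frm (nat_lit 2) (nat_lit 0x4240400f0e330d31) (nat_lit 0x4240400f0e330d31) [nat_lit 7, nat_lit 12, nat_lit 16, nat_lit 18] (BT.pln (nat_lit 0) (nat_lit 4) (BT.dif (nat_lit 2) (nat_lit 0) (BT.br (nat_lit 0) (nat_lit 4) [nat_lit 9, nat_lit 11] (BT.kid (nat_lit 4) (nat_lit 1) (BT.img (nat_lit 1) (nat_lit 0) (BT.img (nat_lit 1) (nat_lit 0) (BT.pln (nat_lit 5) (nat_lit 6) (BT.and (nat_lit 15) (nat_lit 0) (BT.dif (nat_lit 16) (nat_lit 15) (BT.img (nat_lit 1) (nat_lit 16) (BT.dif (nat_lit 1) (nat_lit 0) (BT.pln (nat_lit 10) (nat_lit 5) (BT.and (nat_lit 1) (nat_lit 0) (BT.dif (nat_lit 0) (nat_lit 11) (BT.img (nat_lit 1) (nat_lit 0) (BT.dif (nat_lit 7) (nat_lit 0) (BT.one (nat_lit 4) (nat_lit 0x4a4b48484240400f0e330d31) (nat_lit 0x4a4b48484240400f0e330d31) [nat_lit 10, nat_lit 12, nat_lit 0, nat_lit 23, nat_lit 28, nat_lit 32, nat_lit 34]))))))))))))) BT.nil))))))))))))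 BT.nil)))))) BT.nil)))))))))) BT.nil)))))))

theorem ot_c26_cnt : Cnt 351 (grp 351 o_O) [o_g436] [o_g436] 0 0 0 0 324 :=
  BT.sound ot_c26_cnt_P Known.nil (t := ot_c26_cnt_t) (d := 0) (by decide +kernel)

theorem ot_c26_ge : 324 ≤ Nat.card (grp 351 ot_c26_K) :=
  Ch.le_card_grp (k := 9) (L := (lab 351 9)) o_hn ot_c26_K_ok (c := (Ch.cons (nat_lit 15) [nat_lit 1, nat_lit 3] (Ch.cons (nat_lit 152) [nat_lit 5, nat_lit 7] (Ch.cons (nat_lit 4) [nat_lit 9, nat_lit 11] Ch.nil)))) (by decide +kernel)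

theorem ot_c26_eq : (grp 351 o_O) ⊓ Subgroup.centralizer {Net.toPerm 351 o_g436} = grp 351 ot_c26_K :=
  cent_eq ot_c26_sym ot_c26_cnt ot_c26_ge

theorem ot_c26_card : Nat.card ↥((grp 351 o_O) ⊓ Subgroup.centralizer {Net.toPerm 351 o_g436}) = 324 :=
  card_cent ot_c26_sym ot_c26_cnt ot_c26_ge

theorem ot_c26_ord : orderOf (Net.toPerm 351 o_g436) = 6 :=
  orderOf_net o_hn o_hk o_g436_ok (by decide) (ps := [2, 3]) (by set_option linter.unusedSimpArgs false in simp [Nat.primeFactorsList_ofNat]) (by decide +kernel)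

theorem o_le448 : grp 351 ot_c27_K ≤ grp 351 o_lb_E :=
  grp_le_of_memB o_hn o_hk o_lb_E_ok ot_c27_K_ok (ws := [nat_lit 0x45432825241d212019160105071e, nat_lit 0x45432f3928252d1f28172d01190f1f, nat_lit 0x4543392825281f211916011a1d20, nat_lit 0x43312821241d3f11112105030d]) (by decide +kernel)

theorem ot_c27_le : grp 351 ot_c27_K ≤ (grp 351 o_O) :=
  (o_le448.trans o_T76_s0.le)

theorem ot_c27_mem : Net.toPerm 351 o_g444 ∈ (grp 351 o_O) :=
  ot_c27_le (toPerm_mem_grp (E := ot_c27_K) (List.Mem.head _))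

theorem ot_c27_sym : Sym 351 (grp 351 o_O) [o_g444] ot_c27_K 0 :=
  Sym.of_lab o_hn o_hk (okE_cons.2 ⟨o_g444_ok, okE_nil _⟩) ot_c27_K_ok ot_c27_le (kT := 0) (by decide +kernel)

noncomputable def ot_c27_cnt_L : List ℕ := [1, 2, o_T76_s1_O, 0, 0, 3, 10, o_T76_s9_O, 0, 0, 4, 20, o_T76_s10_O, 0, 0, 5, 11, o_T76_s15_O, 0, 0, 6, 12, o_T76_s38_O, 0, 0, 7, 15, o_T76_s39_O, 0, 0, 8, 17, o_T76_s40_O, 1, 0]

theorem ot_c27_cnt_P : Prob 351 9 (grp 351 o_O) ot_c27_cnt_EG [o_g444] [o_g444] ot_c27_K ot_c27_cnt_L 0 0 :=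
  Sym.prob o_hn o_hk ot_c27_sym ot_c27_cnt_EG_ok (grp_cons_le o_b_o_T76 (grp_cons_le o_c_o_T76 (grp_cons_le o_d_o_T76 (grp_cons_le o_e_o_T76 (grp_cons_le o_f_o_T76 (grp_cons_le o_g_o_T76 (grp_cons_le o_h_o_T76 (grp_cons_le o_i_o_T76 (grp_cons_le o_g1_o_T76 (grp_cons_le o_g2_o_T76 (grp_cons_le o_g3_o_T76 (grp_cons_le o_g4_o_T76 (grp_cons_le o_g5_o_T76 (grp_cons_le o_g8_o_T76 (grp_cons_le o_g9_o_T76 (grp_cons_le o_g12_o_T76 (grp_cons_le o_g13_o_T76 (grp_cons_le o_g14_o_T76 (grp_cons_le o_g17_o_T76 (grp_cons_le o_g18_o_T76 (grp_cons_le o_g19_o_T76 (grp_cons_le o_g20_o_T76 (grp_cons_le o_g23_o_T76 (grp_cons_le o_g24_o_T76 (grp_cons_le o_g25_o_T76 (grp_cons_le o_g26_o_T76 (grp_cons_le o_g27_o_T76 (grp_cons_le o_g30_o_T76 (grp_cons_le o_g31_o_T76 (grp_cons_le o_g32_o_T76 (grp_cons_le o_g35_o_T76 (grp_cons_le o_g132_o_T76 (grp_cons_le o_g133_o_T76 (grp_cons_le o_g134_o_T76 (grp_cons_le o_g135_o_T76 (grp_cons_le o_g221_o_T76 (grp_nil_le _)))))))))))))))))))))))))))))))))))))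 (Frames.cons o_T76_s1_F (Frames.cons o_T76_s9_F (Frames.cons o_T76_s10_F (Frames.cons o_T76_s15_F (Frames.cons o_T76_s38_F (Frames.cons o_T76_s39_F (Frames.cons o_T76_s40_F Frames.nil))))))) (okE_cons.2 ⟨o_g444_ok, okE_nil _⟩) _

noncomputable def ot_c27_cnt_t : BT := (BT.fix (nat_lit 65793) (BT.br (nat_lit 0) (nat_lit 25) [nat_lit 1, nat_lit 3, nat_lit 5] (BT.dead (nat_lit 65) (BT.frm (nat_lit 0) (nat_lit 0x105111e) (nat_lit 73769) [nat_lit 0] (BT.pln (nat_lit 0) (nat_lit 1) (BT.and (nat_lit 0) (nat_lit 3) (BT.cnt (nat_lit 0))))) (BT.kid (nat_lit 25) (nat_lit 72) (BT.img (nat_lit 1) (nat_lit 0) (BT.img (nat_lit 1) (nat_lit 0) (BT.frm (nat_lit 1) (nat_lit 0x120105111e) (nat_lit 0x120105111e) [nat_lit 0, nat_lit 1, nat_lit 2] (BT.pln (nat_lit 0) (nat_lit 9) (BT.and (nat_lit 5) (nat_lit 0) (BT.br (nat_lit 0) (nat_lit 65) [nat_lit 3, nat_lit 5] (BT.kid (nat_lit 65) (nat_lit 6) (BT.frm (nat_lit 0) (nat_lit 0x105111e) (nat_lit 0x105111e) [nat_lit 6] (BT.pln (nat_lit 0) (nat_lit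 1) (BT.frm (nat_lit 2) (nat_lit 0x1f120105111e) (nat_lit 0x1f120105111e) [nat_lit 2, nat_lit 6, nat_lit 7, nat_lit 8] (BT.pln (nat_lit 0) (nat_lit 16) (BT.and (nat_lit 2) (nat_lit 0) (BT.img (nat_lit 1) (nat_lit 5) (BT.frm (nat_lit 3) (nat_lit 0x331f120105111e) (nat_lit 0x331f120105111e) [nat_lit 0, nat_lit 6, nat_lit 10, nat_lit 11, nat_lit 12] (BT.pln (nat_lit 0) (nat_lit 6) (BT.dif (nat_lit 3) (nat_lit 0) (BT.br (nat_lit 0) (nat_lit 93) [nat_lit 5] (BT.kid (nat_lit 93) (nat_lit 3) (BT.dif (nat_lit 20) (nat_lit 2) (BT.pln (nat_lit 4) (nat_lit 5) (BT.and (nat_lit 1) (nat_lit 0) (BT.pln (nat_lit 6) (nat_lit 7) (BT.dif (nat_lit 1) (nat_lit 0) (BT.pln (nat_lit 8) (nat_lit 8) (BT.dif (nat_lit 1) (nat_lit 0) (BT.pln (nat_lit 10) (nat_lit 9) (BT.dif (nat_lit 1) (nat_lit 0) (BT.dif (nat_lit 0) (nat_lit 26) (BT.frm (nat_lit 4) (nat_lit 0x331f120105111e) (nat_lit 0x331f120105111e) [nat_lit 10, nat_lit 14, nat_lit 20, nat_lit 24, nat_lit 25, nat_lit 26] (BT.pln (nat_lit 0) (nat_lit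 7) (BT.dif (nat_lit 2) (nat_lit 0) (BT.pln (nat_lit 20) (nat_lit 11) (BT.img (nat_lit 1) (nat_lit 0) (BT.and (nat_lit 0) (nat_lit 3) (BT.img (nat_lit 1) (nat_lit 0) (BT.and (nat_lit 4) (nat_lit 0) (BT.pln (nat_lit 25) (nat_lit 14) (BT.pln (nat_lit 8) (nat_lit 6) (BT.and (nat_lit 1) (nat_lit 0) (BT.img (nat_lit 1) (nat_lit 2) (BT.img (nat_lit 1) (nat_lit 0) (BT.and (nat_lit 0) (nat_lit 3) (BT.and (nat_lit 2) (nat_lit 4) (BT.img (nat_lit 1) (nat_lit 0) (BT.and (nat_lit 2) (nat_lit 0) (BT.img (nat_lit 1) (nat_lit 0) (BT.and (nat_lit 7) (nat_lit 0) (BT.frm (nat_lit 5) (nat_lit 0x21331f120105111e) (nat_lit 0x21331f120105111e) [nat_lit 0, nat_lit 29, nat_lit 33, nat_lit 39, nat_lit 43, nat_lit 44, nat_lit 45] (BT.pln (nat_lit 0) (nat_lit 9) (BT.and (nat_lit 13) (nat_lit 0) (BT.br (nat_lit 0) (nat_lit 266) [nat_lit 7] (BT.kid (nat_lit 266) (nat_lit 1) (BT.one (nat_lit 6) (nat_lit 0x4621331f120105111e) (nat_lit 0x4621331f120105111e) [nat_lit 0, nat_lit 4, nat_lit 33, nat_lit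 37, nat_lit 43, nat_lit 47, nat_lit 48, nat_lit 49]) BT.nil)))))))))))))))))))))))))))))))))) BT.nil))))))))))) BT.nil))))))) BT.nil))))

theorem ot_c27_cnt : Cnt 351 (grp 351 o_O) [o_g444] [o_g444] 0 0 0 0 216 :=
  BT.sound ot_c27_cnt_P Known.nil (t := ot_c27_cnt_t) (d := 0) (by decide +kernel)

theorem ot_c27_ge : 216 ≤ Nat.card (grp 351 ot_c27_K) :=
  Ch.le_card_grp (k := 9) (L := (lab 351 9)) o_hn ot_c27_K_ok (c := (Ch.cons (nat_lit 25) [nat_lit 1] (Ch.cons (nat_lit 65) [nat_lit 3] (Ch.cons (nat_lit 93) [nat_lit 5] (Ch.cons (nat_lit 266) [nat_lit 7] Ch.nil))))) (by decide +kernel)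

theorem ot_c27_eq : (grp 351 o_O) ⊓ Subgroup.centralizer {Net.toPerm 351 o_g444} = grp 351 ot_c27_K :=
  cent_eq ot_c27_sym ot_c27_cnt ot_c27_ge

theorem ot_c27_card : Nat.card ↥((grp 351 o_O) ⊓ Subgroup.centralizer {Net.toPerm 351 o_g444}) = 216 :=
  card_cent ot_c27_sym ot_c27_cnt ot_c27_ge

theorem ot_c27_ord : orderOf (Net.toPerm 351 o_g444) = 6 :=
  orderOf_net o_hn o_hk o_g444_ok (by decide) (ps := [2, 3]) (by set_option linter.unusedSimpArgs false in simp [Nat.primeFactorsList_ofNat]) (by decide +kernel)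

theorem o_le453 : grp 351 ot_c28_K ≤ grp 351 o_lb_E :=
  grp_le_of_memB o_hn o_hk o_lb_E_ok ot_c28_K_ok (ws := [nat_lit 0x454331392725211f24112417011e2101, nat_lit 0x453b2f25211f3f111927011e23, nat_lit 0x453b312725281f3f172e01031e, nat_lit 0x433b39281d281d111922011a2105]) (by decide +kernel)

theorem ot_c28_le : grp 351 ot_c28_K ≤ (grp 351 o_O) :=
  (o_le453.trans o_T76_s0.le)

theorem ot_c28_mem : Net.toPerm 351 o_g449 ∈ (grp 351 o_O) :=
  ot_c28_le (toPerm_mem_grp (E := ot_c28_K) (List.Mem.head _))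

theorem ot_c28_sym : Sym 351 (grp 351 o_O) [o_g449] ot_c28_K 0 :=
  Sym.of_lab o_hn o_hk (okE_cons.2 ⟨o_g449_ok, okE_nil _⟩) ot_c28_K_ok ot_c28_le (kT := 0) (by decide +kernel)

theorem o_le459 : grp 351 o_V458 ≤ grp 351 o_V95 :=
  grp_le_of_memB o_hn o_hk o_V95_ok o_V458_ok (ws := [nat_lit 0xc09070401060101, nat_lit 0xb0d0a06010401, nat_lit 0xd090d070305, nat_lit 0xd090b070305]) (by decide +kernel)

theorem o_T76_s83 : Stab 351 (grp 351 o_O) [nat_lit 50, nat_lit 187, nat_lit 0] o_V458 720 :=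
  Stab.step (k := 9) (L := (lab 351 9)) o_hn o_T76_s2 o_V458_ok o_le459 (c := (Ch.cons (nat_lit 74) [nat_lit 1] (Ch.cons (nat_lit 65) [nat_lit 3] (Ch.cons (nat_lit 140) [nat_lit 5] (Ch.cons (nat_lit 217) [nat_lit 7] Ch.nil))))) (by decide +kernel)

theorem o_T76_s84 : Stab 351 (grp 351 o_O) [nat_lit 74, nat_lit 50, nat_lit 187, nat_lit 0] o_V460 24 :=
  Stab.step (k := 9) (L := (lab 351 9)) o_hn o_T76_s83 o_V460_ok (grp_mono (List.subset_append_right [o_g454] _)) (c := (Ch.cons (nat_lit 65) [nat_lit 1] (Ch.cons (nat_lit 140) [nat_lit 3] (Ch.cons (nat_lit 217) [nat_lit 5] Ch.nil)))) (by decide +kernel)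

theorem o_T76_s85 : Stab 351 (grp 351 o_O) [nat_lit 65, nat_lit 74, nat_lit 50, nat_lit 187, nat_lit 0] o_V461 4 :=
  Stab.step (k := 9) (L := (lab 351 9)) o_hn o_T76_s84 o_V461_ok (grp_mono (List.subset_append_right [o_g455] _)) (c := (Ch.cons (nat_lit 140) [nat_lit 1] (Ch.cons (nat_lit 217) [nat_lit 3] Ch.nil))) (by decide +kernel)

theorem o_T76_s86 : Stab 351 (grp 351 o_O) [nat_lit 140, nat_lit 65, nat_lit 74, nat_lit 50, nat_lit 187, nat_lit 0] o_V462 2 :=
  Stab.step (k := 9) (L := (lab 351 9)) o_hn o_T76_s85 o_V462_ok (grp_mono (List.subset_append_right [o_g456] _)) (c := (Ch.cons (nat_lit 217) [nat_lit 1] Ch.nil)) (by decide +kernel)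

theorem o_T76_s87 : Stab 351 (grp 351 o_O) [nat_lit 217, nat_lit 140, nat_lit 65, nat_lit 74, nat_lit 50, nat_lit 187, nat_lit 0] o_V463 1 :=
  Stab.step (k := 9) (L := (lab 351 9)) o_hn o_T76_s86 o_V463_ok (grp_mono (List.subset_append_right [o_g457] _)) (c := Ch.nil) (by decide +kernel)

theorem o_g455_o_T76 : Net.toPerm 351 o_g455 ∈ (grp 351 o_O) :=
  o_T76_s84.le (toPerm_mem_grp (E := o_V460) (List.Mem.head _))

theorem o_g456_o_T76 : Net.toPerm 351 o_g456 ∈ (grp 351 o_O) :=
  o_T76_s84.le (toPerm_mem_grp (E := o_V460) (List.Mem.tail _ (List.Mem.head _)))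

theorem o_g457_o_T76 : Net.toPerm 351 o_g457 ∈ (grp 351 o_O) :=
  o_T76_s84.le (toPerm_mem_grp (E := o_V460) (List.Mem.tail _ (List.Mem.tail _ (List.Mem.head _))))

theorem o_g454_o_T76 : Net.toPerm 351 o_g454 ∈ (grp 351 o_O) :=
  o_T76_s83.le (toPerm_mem_grp (E := o_V458) (List.Mem.head _))

noncomputable def o_T76_s87_O : ℕ := (nat_lit 0xfffffffffffffffffffffffe0000000000000000000000000000000000000000000000000000000000000000000000000000000000000003fffffffffffffffffffffffffffffffc00000000000000000000000000000003fffffff80000000000000007fffffffffffffff80000000000000007fffffffffffffff800000000000000000000000ffffffff00000000ffffffff00000000ffffffff00000000ffffffff00000000ffffffff00000000fffe0001fffe0001fffe0001fffe0001fffe0001fffe0001fffe0001fffe0001fffe0001fffe0001fffe0001fc03fc03fc03fc03fc03fc03fc03fc03fc03fc03fc03fc03fc03fc03fc03fc03fc03fc03fc03fc03fc03fc038787878787878787878787878787878787878787878787878787878787878787878787878787878787878784ccccccccccccccccccccc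cccccccccccccccccccccccccccccccccccccccccccccccccccccccccccccccccc555555555555555555555555555555555555555555555555555555555555555555555555555555555555555400000000000000000000000000000000000000000000000000000000000000000000000000000000000000040000000000000000000000000000000000000000400000000000000000000000000000000000000000000000000000000000000000000000000000000000000000000000000000000000000000000000004000000000000000000000000000000000000000000000000000000000000000000000000000000000800000000000000000000000000000000000000000000000000000000000000000000000000000000000000000800000000000000000000000000000000000000000000000000000000000000000000800000000000000000000000000000000000000000000000000000000000000000002000000000000000000000000000000000000000000000000000000)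

theorem o_T76_s87_F : Frame 351 (grp 351 o_O) 7 16 o_T76_s87_O 1 1 :=
  IsBase.frame o_T76_s87.isBase (by decide +kernel)

noncomputable def o_T76_s85_O : ℕ := (nat_lit 0x400a0b0201000120008700010000000000a00482020008000a002060008000a00000000000000000000000003cc100c19cf1dc0d6630329d8bf4403ac8080440e0b2a2d34b6c0c2a20cbbc1057102020c10002000100209471824327e369301aa8604921c677865dbc788c00048002180004000308600020a01e707b92d947307bb06d063c505c941d79cddd7f3a39b47010000080088bebaffaaef7afe8cc1578500af1611dfcf7fd338c400400822d38e0b5004f536cc5c58f7cf49ba024212e315a77bc0fff440039f1f4877a04e28579c5e60998857ff780005e7f180641aa60a62ba41f7fedc00c82f33c3b868c3d00857de176cb8a810de13d8677381206e02ef390fb694140bb0df6732db5873d3ef569e1cbc69b247439d3285c2aaeb8a288a9bd1a1249c1c9d6728a34dd9cb1cb02a6a97359f05b87e49c5d0ad5d7a979c72136ac50939e6386ae49765cf618a24ead79526a548261caa5935940000000000000000000000000000000000000000000000000000000000000000000000000000000000000001000000000000000000000000000000000000000010000000000000000000000000000000000000000000000000000000000000000000000000000000000000000000000000000000000000000000000000100000000000000000000000000000000000000000000000000000000000000000000000000000000020000000000000000000000000000000000000000000000000000000000000000000000000000000000000000020000000000000000)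

theorem o_T76_s85_F : Frame 351 (grp 351 o_O) 5 13 o_T76_s85_O 0 1 :=
  Stab.frame o_hn o_T76_s85 (by decide +kernel)

noncomputable def o_T76_s83_O : ℕ := (nat_lit 0x2000000000000000000000000000000000000000000000000000000000000000000000000000000000000000000000000000000000004000000000000000000000000000000000000000000000000000000000000000000000000000000000000000000000000000000000000000000000100000000000000000000008000000600000000000100000008000000800004002000000004000200000400000010000100004200001000008004000002208101010001400000040000104000000000000002000403000220000000000000000000000004a0100008000021000100044040000400801000000000000001080001600000000100000000000000000020000008000011000100310000001b000000000000000000000000000000000620018060000004000000000030000000800400000000800000000000001010000600020440000002400800800000200000400000012000000000180010020000000000010020000080000c00000080000038400000000002100004000004000100100000180000004000100000100000000100000002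0010800000028800000000000000085100100020000000030004000800400002001000180802000040080003000000000018880044000810000000040140000d818000000300000000006080000102000d0200000000c000010004901c000008000000000000000100038000049180000040100400800010000000000000008009805400000122800001002000020004401010000040a00010488000120008044080500000080400088100004400100008002821000000004000040040800000005020000000240502002401408041040800000000804100400002000048000404000001000100200002040400000200000022050101000000000000a000000000004800228100000000002010042210018c00040020000000020043000202000000000000000000000000000000000000000000000000000000000000000000000000000000000000000040000000000000000000000000000000000000000400000000000000000000000000000000000000000000000000000000000000000000000000000000000000000000000000000000000000000000000004000000000000)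

theorem o_T76_s83_F : Frame 351 (grp 351 o_O) 3 19 o_T76_s83_O 0 1 :=
  Stab.frame o_hn o_T76_s83 (by decide +kernel)

noncomputable def ot_c28_cnt_L : List ℕ := [1, 2, o_T76_s1_O, 0, 0, 2, 7, o_T76_s2_O, 0, 0, 3, 19, o_T76_s83_O, 0, 0, 5, 13, o_T76_s85_O, 0, 0, 7, 16, o_T76_s87_O, 1, 0]

theorem ot_c28_cnt_P : Prob 351 9 (grp 351 o_O) ot_c28_cnt_EG [o_g449] [o_g449] ot_c28_K ot_c28_cnt_L 0 0 :=
  Sym.prob o_hn o_hk ot_c28_sym ot_c28_cnt_EG_ok (grp_cons_le o_b_o_T76 (grp_cons_le o_c_o_T76 (grp_cons_le o_d_o_T76 (grp_cons_le o_e_o_T76 (grp_cons_le o_f_o_T76 (grp_cons_le o_g_o_T76 (grp_cons_le o_h_o_T76 (grp_cons_le o_i_o_T76 (grp_cons_le o_g1_o_T76 (grp_cons_le o_g2_o_T76 (grp_cons_le o_g3_o_T76 (grp_cons_le o_g4_o_T76 (grp_cons_le o_g5_o_T76 (grp_cons_le o_g8_o_T76 (grp_cons_le o_g9_o_T76 (grp_cons_le o_g12_o_T76 (grp_cons_le o_g13_o_T76 (grp_cons_le o_g14_o_T76 (grp_cons_le o_g17_o_T76 (grp_cons_le o_g18_o_T76 (grp_cons_le o_g19_o_T76 (grp_cons_le o_g20_o_T76 (grp_cons_le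 o_g23_o_T76 (grp_cons_le o_g24_o_T76 (grp_cons_le o_g25_o_T76 (grp_cons_le o_g26_o_T76 (grp_cons_le o_g27_o_T76 (grp_cons_le o_g30_o_T76 (grp_cons_le o_g31_o_T76 (grp_cons_le o_g32_o_T76 (grp_cons_le o_g35_o_T76 (grp_cons_le o_g88_o_T76 (grp_cons_le o_g89_o_T76 (grp_cons_le o_g90_o_T76 (grp_cons_le o_g91_o_T76 (grp_cons_le o_g92_o_T76 (grp_cons_le o_g93_o_T76 (grp_cons_le o_g94_o_T76 (grp_cons_le o_g455_o_T76 (grp_cons_le o_g456_o_T76 (grp_cons_le o_g457_o_T76 (grp_cons_le o_g454_o_T76 (grp_nil_le _))))))))))))))))))))))))))))))))))))))))))) (Frames.cons o_T76_s1_F (Frames.cons o_T76_s2_F (Frames.cons o_T76_s83_F (Frames.cons o_T76_s85_F (Frames.cons o_T76_s87_F Frames.nil))))) (okE_cons.2 ⟨o_g449_ok, okE_nil _⟩) _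

noncomputable def ot_c28_cnt_t : BT := (BT.fix (nat_lit 65793) (BT.br (nat_lit 0) (nat_lit 60) [nat_lit 3, nat_lit 5] (BT.dead (nat_lit 66) (BT.frm (nat_lit 0) (nat_lit 66836) (nat_lit 0x105390d) [nat_lit 0] (BT.pln (nat_lit 0) (nat_lit 1) (BT.and (nat_lit 0) (nat_lit 3) (BT.cnt (nat_lit 0))))) (BT.kid (nat_lit 60) (nat_lit 18) (BT.img (nat_lit 1) (nat_lit 0) (BT.frm (nat_lit 1) (nat_lit 0x111329010514) (nat_lit 0x111329010514) [nat_lit 0, nat_lit 1] (BT.pln (nat_lit 0) (nat_lit 3) (BT.and (nat_lit 4) (nat_lit 0) (BT.br (nat_lit 0) (nat_lit 124) [nat_lit 5] (BT.kid (nat_lit 124) (nat_lit 6) (BT.frm (nat_lit 2) (nat_lit 0x40493f111329010514) (nat_lit 0x40493f111329010514) [nat_lit 0, nat_lit 4, nat_lit 5] (BT.pln (nat_lit 0) (nat_lit 9) (BT.pln (nat_lit 1) (nat_lit 10) (BT.img (nat_lit 1) (nat_lit 0) (BT.and (nat_lit 2) (nat_lit 0) (BT.br (nat_lit 0) (nat_lit 154) [nat_lit 7] (BT.kid (nat_lit 154) (nat_lit 1) (BT.pln (nat_lit 5) (nat_lit 6) (BT.dif (nat_lit 8) (nat_lit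 7) (BT.pln (nat_lit 7) (nat_lit 3) (BT.and (nat_lit 15) (nat_lit 0) (BT.img (nat_lit 1) (nat_lit 10) (BT.img (nat_lit 1) (nat_lit 0) (BT.dif (nat_lit 2) (nat_lit 0) (BT.img (nat_lit 1) (nat_lit 0) (BT.and (nat_lit 6) (nat_lit 0) (BT.frm (nat_lit 3) (nat_lit 0x4d4d5440493f111329010514) (nat_lit 0x4d4d5440493f111329010514) [nat_lit 9, nat_lit 0, nat_lit 15, nat_lit 19, nat_lit 20] (BT.pln (nat_lit 0) (nat_lit 11) (BT.and (nat_lit 10) (nat_lit 0) (BT.pln (nat_lit 2) (nat_lit 6) (BT.and (nat_lit 1) (nat_lit 0) (BT.pln (nat_lit 19) (nat_lit 4) (BT.pln (nat_lit 20) (nat_lit 8) (BT.img (nat_lit 1) (nat_lit 0) (BT.and (nat_lit 2) (nat_lit 0) (BT.and (nat_lit 0) (nat_lit 5) (BT.pln (nat_lit 9) (nat_lit 5) (BT.and (nat_lit 1) (nat_lit 0) (BT.frm (nat_lit 0) (nat_lit 66836) (nat_lit 66836) [nat_lit 32] (BT.pln (nat_lit 0) (nat_lit 1) (BT.and (nat_lit 0) (nat_lit 7) (BT.and (nat_lit 0) (nat_lit 13) (BT.dif (nat_lit 0) (nat_lit 5) (BT.pln (nat_lit 16) (nat_lit 7) (BT.and (nat_lit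 1) (nat_lit 0) (BT.pln (nat_lit 18) (nat_lit 8) (BT.and (nat_lit 1) (nat_lit 0) (BT.img (nat_lit 1) (nat_lit 0) (BT.and (nat_lit 10) (nat_lit 0) (BT.img (nat_lit 1) (nat_lit 0) (BT.dif (nat_lit 19) (nat_lit 0) (BT.dif (nat_lit 35) (nat_lit 34) (BT.img (nat_lit 1) (nat_lit 35) (BT.img (nat_lit 1) (nat_lit 0) (BT.img (nat_lit 1) (nat_lit 0) (BT.dif (nat_lit 3) (nat_lit 0) (BT.pln (nat_lit 29) (nat_lit 10) (BT.and (nat_lit 43) (nat_lit 0) (BT.and (nat_lit 0) (nat_lit 21) (BT.img (nat_lit 1) (nat_lit 0) (BT.and (nat_lit 4) (nat_lit 0) (BT.one (nat_lit 4) (nat_lit 0x514f4d4d5440493f111329010514) (nat_lit 0x514f4d4d5440493f111329010514) [nat_lit 10, nat_lit 0, nat_lit 44, nat_lit 35, nat_lit 50, nat_lit 54, nat_lit 55]))))))))))))))))))))))))))))))))))))))))))))) BT.nil))))))) BT.nil)))))) BT.nil))))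

theorem ot_c28_cnt : Cnt 351 (grp 351 o_O) [o_g449] [o_g449] 0 0 0 0 216 :=
  BT.sound ot_c28_cnt_P Known.nil (t := ot_c28_cnt_t) (d := 0) (by decide +kernel)

theorem ot_c28_ge : 216 ≤ Nat.card (grp 351 ot_c28_K) :=
  Ch.le_card_grp (k := 9) (L := (lab 351 9)) o_hn ot_c28_K_ok (c := (Ch.cons (nat_lit 60) [nat_lit 1, nat_lit 3] (Ch.cons (nat_lit 124) [nat_lit 5] (Ch.cons (nat_lit 154) [nat_lit 7] Ch.nil)))) (by decide +kernel)

theorem ot_c28_eq : (grp 351 o_O) ⊓ Subgroup.centralizer {Net.toPerm 351 o_g449} = grp 351 ot_c28_K :=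
  cent_eq ot_c28_sym ot_c28_cnt ot_c28_ge

theorem ot_c28_card : Nat.card ↥((grp 351 o_O) ⊓ Subgroup.centralizer {Net.toPerm 351 o_g449}) = 216 :=
  card_cent ot_c28_sym ot_c28_cnt ot_c28_ge

theorem ot_c28_ord : orderOf (Net.toPerm 351 o_g449) = 6 :=
  orderOf_net o_hn o_hk o_g449_ok (by decide) (ps := [2, 3]) (by set_option linter.unusedSimpArgs false in simp [Nat.primeFactorsList_ofNat]) (by decide +kernel)

theorem o_le468 : grp 351 ot_c29_K ≤ grp 351 o_lb_E :=
  grp_le_of_memB o_hn o_hk o_lb_E_ok ot_c29_K_ok (ws := [nat_lit 0x3b2821231d2822192601031a22, nat_lit 0x45433b373921241e2f192605122d, nat_lit 0x3b3139252d1f3f112a01032d, nat_lit 0x453b2f392721241d29111a011a24]) (by decide +kernel)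

theorem ot_c29_le : grp 351 ot_c29_K ≤ (grp 351 o_O) :=
  (o_le468.trans o_T76_s0.le)

theorem ot_c29_mem : Net.toPerm 351 o_g464 ∈ (grp 351 o_O) :=
  ot_c29_le (toPerm_mem_grp (E := ot_c29_K) (List.Mem.head _))

theorem ot_c29_sym : Sym 351 (grp 351 o_O) [o_g464] ot_c29_K 0 :=
  Sym.of_lab o_hn o_hk (okE_cons.2 ⟨o_g464_ok, okE_nil _⟩) ot_c29_K_ok ot_c29_le (kT := 0) (by decide +kernel)

theorem o_le471 : grp 351 o_V470 ≤ grp 351 o_V460 :=
  grp_le_of_memB o_hn o_hk o_V460_ok o_V470_ok (ws := [nat_lit 328450]) (by decide +kernel)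

theorem o_T76_s88 : Stab 351 (grp 351 o_O) [nat_lit 67, nat_lit 74, nat_lit 50, nat_lit 187, nat_lit 0] o_V470 3 :=
  Stab.step (k := 9) (L := (lab 351 9)) o_hn o_T76_s84 o_V470_ok o_le471 (c := (Ch.cons (nat_lit 125) [nat_lit 1] Ch.nil)) (by decide +kernel)

theorem o_T76_s89 : Stab 351 (grp 351 o_O) [nat_lit 125, nat_lit 67, nat_lit 74, nat_lit 50, nat_lit 187, nat_lit 0] o_V472 1 :=
  Stab.step (k := 9) (L := (lab 351 9)) o_hn o_T76_s88 o_V472_ok (grp_mono (List.subset_append_right [o_g469] _)) (c := Ch.nil) (by decide +kernel)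

theorem o_g469_o_T76 : Net.toPerm 351 o_g469 ∈ (grp 351 o_O) :=
  o_T76_s88.le (toPerm_mem_grp (E := o_V470) (List.Mem.head _))

noncomputable def o_T76_s89_O : ℕ := (nat_lit 0x1fffffffffffffffffffffffc0000000000000000000000000000000000000000000000000000000000000000000000000000000000000007fffffffffffffffffffffffffffffff800000000000000000000000000000007fffffff0000000000000000ffffffffffffffff0000000000000000ffffffffffffffff000000000000000000000001fffffffe00000001fffffffe00000001fffffffe00000001fffffffe00000001fffffffe00000001fffc0003fffc0003fffc0003fffc0003fffc0003fffc0003fffc0003fffc0003fffc0003fffc0003fffc0003f807f807f807f807f807f807f807f807f807f807f807f807f807f807f807f807f807f807f807f807f807f8070f0f0f0f0f0f0f0f0f0f0f0f0f0f0f0f0f0f0f0f0f0f0f0f0f0f0f0f0f0f0f0f0f0f0f0f0f0f0f0f0f0f0f09999999999999999999999999999999999999999999999999999999999999999999999999999999999999998aaaaaaaaaaaaaaaaaaaaaaaaaaaaaaaaaaaaaaaaaaaaaaaaaaaaaaaaaaaaaaaaaaaaaaaaaaaaaaaaaaaaaaa80000000000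000000000000000000000000000000000000000000000000000000000000000000000000000008000000000000000000000000000000000000000080000000000000000000000000000000000000000000000000000000000000000000000000000000000000000000000000000000000000000000000000800000000000000000000000000000000000000000000000000000000000000000000000000000000100000000000000000000000000000000000000000000000000000000000000000000000000000000000000000400000000000000000000000000000000000000000000000000000000000000000000000020000000000000000000000000000000)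

theorem o_T76_s89_F : Frame 351 (grp 351 o_O) 6 15 o_T76_s89_O 1 1 :=
  IsBase.frame o_T76_s89.isBase (by decide +kernel)

noncomputable def o_T76_s84_O : ℕ := (nat_lit 0x201505a0002400014143802300240004800002c1308004108400911008400b4415444c19100000800000000285804012f902137944e0e7310205c29258b9502406918200b23014522c202065046521804c85800ec1c21a4a0ca2211f9b0d07401200170320449a6c91c159f224b690815ff158f883411240d22e2c82ad0849fa31833cc1605c0c18e8fc52ee193954fda05633c89bfa23b5b698b603e114b368e460497110f22ea73c78b0b49bf610bd34e1fa4ddf87916243b56a789c7c2e95f6c55d43837aca383120845cedc9f6a648d120b62d1b517c118fc007128911c6646b3f1927ba9f2d332ee89e7cbb0a139057053aaa689ce94eeae7a8730b1d1253ec07b74a9570000000000000000000000000000000000000000000000000000000000000000000000000000000000000000200000000000000000000000000000000000000002000000000000000000000000000000000000000000000000000000000000000000000000000000000000000000000000000000000000000000000000020000000000000000000000000000000000000000000000000000000000000000000000000000000004000000000000000000)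

theorem o_T76_s84_F : Frame 351 (grp 351 o_O) 4 10 o_T76_s84_O 0 1 :=
  Stab.frame o_hn o_T76_s84 (by decide +kernel)

noncomputable def ot_c29_cnt_L : List ℕ := [2, 7, o_T76_s2_O, 0, 0, 3, 19, o_T76_s83_O, 0, 0, 4, 10, o_T76_s84_O, 0, 0, 6, 15, o_T76_s89_O, 1, 0]

theorem ot_c29_cnt_P : Prob 351 9 (grp 351 o_O) ot_c29_cnt_EG [o_g464] [o_g464] ot_c29_K ot_c29_cnt_L 0 0 :=
  Sym.prob o_hn o_hk ot_c29_sym ot_c29_cnt_EG_ok (grp_cons_le o_g1_o_T76 (grp_cons_le o_g_o_T76 (grp_cons_le o_g2_o_T76 (grp_cons_le o_g3_o_T76 (grp_cons_le o_g4_o_T76 (grp_cons_le o_g5_o_T76 (grp_cons_le o_g8_o_T76 (grp_cons_le o_g9_o_T76 (grp_cons_le o_g12_o_T76 (grp_cons_le o_g13_o_T76 (grp_cons_le o_g14_o_T76 (grp_cons_le o_g17_o_T76 (grp_cons_le o_g18_o_T76 (grp_cons_le o_g19_o_T76 (grp_cons_le o_g20_o_T76 (grp_cons_le o_g23_o_T76 (grp_cons_le o_g24_o_T76 (grp_cons_le o_g25_o_T76 (grp_cons_le o_g26_o_T76 (grp_cons_le o_c_o_T76 (grp_cons_le o_g27_o_T76 (grp_cons_le o_g30_o_T76 (grp_cons_le o_g31_o_T76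 (grp_cons_le o_g32_o_T76 (grp_cons_le o_g35_o_T76 (grp_cons_le o_b_o_T76 (grp_cons_le o_d_o_T76 (grp_cons_le o_e_o_T76 (grp_cons_le o_f_o_T76 (grp_cons_le o_h_o_T76 (grp_cons_le o_i_o_T76 (grp_cons_le o_g88_o_T76 (grp_cons_le o_g89_o_T76 (grp_cons_le o_g90_o_T76 (grp_cons_le o_g91_o_T76 (grp_cons_le o_g92_o_T76 (grp_cons_le o_g93_o_T76 (grp_cons_le o_g94_o_T76 (grp_cons_le o_g454_o_T76 (grp_cons_le o_g455_o_T76 (grp_cons_le o_g456_o_T76 (grp_cons_le o_g457_o_T76 (grp_cons_le o_g469_o_T76 (grp_nil_le _)))))))))))))))))))))))))))))))))))))))))))) (Frames.cons o_T76_s2_F (Frames.cons o_T76_s83_F (Frames.cons o_T76_s84_F (Frames.cons o_T76_s89_F Frames.nil)))) (okE_cons.2 ⟨o_g464_ok, okE_nil _⟩) _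

noncomputable def ot_c29_cnt_t : BT := (BT.fix (nat_lit 257) (BT.fix (nat_lit 1) (BT.dif (nat_lit 1) (nat_lit 0) (BT.br (nat_lit 0) (nat_lit 15) [nat_lit 1, nat_lit 3] (BT.kid (nat_lit 15) (nat_lit 18) (BT.fix (nat_lit 65793) (BT.img (nat_lit 1) (nat_lit 1) (BT.frm (nat_lit 0) (nat_lit 0x61733353b05) (nat_lit 0x61733353b05) [nat_lit 0, nat_lit 2] (BT.pln (nat_lit 0) (nat_lit 3) (BT.and (nat_lit 3) (nat_lit 0) (BT.br (nat_lit 0) (nat_lit 113) [nat_lit 5] (BT.kid (nat_lit 113) (nat_lit 6) (BT.frm (nat_lit 1) (nat_lit 0x4149061733353b05) (nat_lit 0x4149061733353b05) [nat_lit 0, nat_lit 4, nat_lit 6] (BT.pln (nat_lit 0) (nat_lit 12) (BT.dif (nat_lit 0) (nat_lit 11) (BT.img (nat_lit 1) (nat_lit 3) (BT.frm (nat_lit 2) (nat_lit 0x4d4d4d4f4149061733353b05) (nat_lit 0x4d4d4d4f4149061733353b05) [nat_lit 0, nat_lit 4, nat_lit 8, nat_lit 10] (BT.pln (nat_lit 0) (nat_lit 4) (BT.and (nat_lit 3) (nat_lit 0) (BT.pln (nat_lit 2) (nat_lit 6) (BT.and (nat_lit 1) (nat_lit 0) (BT.br (nat_lit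 0) (nat_lit 243) [nat_lit 7] (BT.kid (nat_lit 243) (nat_lit 1) (BT.img (nat_lit 1) (nat_lit 0) (BT.one (nat_lit 3) (nat_lit 0x56514d4d4d4f4149061733353b05) (nat_lit 0x56514d4d4d4f4149061733353b05) [nat_lit 0, nat_lit 1, nat_lit 7, nat_lit 11, nat_lit 15, nat_lit 17])) BT.nil))))))))))) BT.nil))))))) BT.nil)))))

theorem ot_c29_cnt : Cnt 351 (grp 351 o_O) [o_g464] [o_g464] 0 0 0 0 108 :=
  BT.sound ot_c29_cnt_P Known.nil (t := ot_c29_cnt_t) (d := 0) (by decide +kernel)

theorem ot_c29_ge : 108 ≤ Nat.card (grp 351 ot_c29_K) :=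
  Ch.le_card_grp (k := 9) (L := (lab 351 9)) o_hn ot_c29_K_ok (c := (Ch.cons (nat_lit 15) [nat_lit 1, nat_lit 3] (Ch.cons (nat_lit 113) [nat_lit 5] (Ch.cons (nat_lit 243) [nat_lit 7] Ch.nil)))) (by decide +kernel)

theorem ot_c29_eq : (grp 351 o_O) ⊓ Subgroup.centralizer {Net.toPerm 351 o_g464} = grp 351 ot_c29_K :=
  cent_eq ot_c29_sym ot_c29_cnt ot_c29_ge

theorem ot_c29_card : Nat.card ↥((grp 351 o_O) ⊓ Subgroup.centralizer {Net.toPerm 351 o_g464}) = 108 :=
  card_cent ot_c29_sym ot_c29_cnt ot_c29_ge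

theorem ot_c29_ord : orderOf (Net.toPerm 351 o_g464) = 6 :=
  orderOf_net o_hn o_hk o_g464_ok (by decide) (ps := [2, 3]) (by set_option linter.unusedSimpArgs false in simp [Nat.primeFactorsList_ofNat]) (by decide +kernel)

theorem o_le477 : grp 351 ot_c30_K ≤ grp 351 o_lb_E :=
  grp_le_of_memB o_hn o_hk o_lb_E_ok ot_c30_K_ok (ws := [nat_lit 0x2f3927252d1d21201a25011a25, nat_lit 0x433b37253f1d241d11201201050d20, nat_lit 0x3b3927211d1f3b1222011922, nat_lit 0x433b392725281d25172d0105071e]) (by decide +kernel)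

theorem ot_c30_le : grp 351 ot_c30_K ≤ (grp 351 o_O) :=
  (o_le477.trans o_T76_s0.le)

theorem ot_c30_mem : Net.toPerm 351 o_g473 ∈ (grp 351 o_O) :=
  ot_c30_le (toPerm_mem_grp (E := ot_c30_K) (List.Mem.head _))

theorem ot_c30_sym : Sym 351 (grp 351 o_O) [o_g473] ot_c30_K 0 :=
  Sym.of_lab o_hn o_hk (okE_cons.2 ⟨o_g473_ok, okE_nil _⟩) ot_c30_K_ok ot_c30_le (kT := 0) (by decide +kernel)

noncomputable def ot_c30_cnt_L : List ℕ := [2, 7, o_T76_s2_O, 0, 0, 3, 19, o_T76_s83_O, 0, 0, 4, 10, o_T76_s84_O, 0, 0, 6, 15, o_T76_s89_O, 1, 0]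

theorem ot_c30_cnt_P : Prob 351 9 (grp 351 o_O) ot_c30_cnt_EG [o_g473] [o_g473] ot_c30_K ot_c30_cnt_L 0 0 :=
  Sym.prob o_hn o_hk ot_c30_sym ot_c30_cnt_EG_ok (grp_cons_le o_g1_o_T76 (grp_cons_le o_g_o_T76 (grp_cons_le o_g2_o_T76 (grp_cons_le o_g3_o_T76 (grp_cons_le o_g4_o_T76 (grp_cons_le o_g5_o_T76 (grp_cons_le o_g8_o_T76 (grp_cons_le o_g9_o_T76 (grp_cons_le o_g12_o_T76 (grp_cons_le o_g13_o_T76 (grp_cons_le o_g14_o_T76 (grp_cons_le o_g17_o_T76 (grp_cons_le o_g18_o_T76 (grp_cons_le o_g19_o_T76 (grp_cons_le o_g20_o_T76 (grp_cons_le o_g23_o_T76 (grp_cons_le o_g24_o_T76 (grp_cons_le o_g25_o_T76 (grp_cons_le o_g26_o_T76 (grp_cons_le o_c_o_T76 (grp_cons_le o_g27_o_T76 (grp_cons_le o_g30_o_T76 (grp_cons_le o_g31_o_T76 (grp_cons_le o_g32_o_T76 (grp_cons_le o_g35_o_T76 (grp_cons_le o_b_o_T76 (grp_cons_le o_d_o_T76 (grp_cons_le o_e_o_T76 (grp_cons_le o_f_o_T76 (grp_cons_le o_h_o_T76 (grp_cons_le o_i_o_T76 (grp_cons_le o_g88_o_T76 (grp_cons_le o_g89_o_T76 (grp_cons_le o_g90_o_T76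 (grp_cons_le o_g91_o_T76 (grp_cons_le o_g92_o_T76 (grp_cons_le o_g93_o_T76 (grp_cons_le o_g94_o_T76 (grp_cons_le o_g454_o_T76 (grp_cons_le o_g455_o_T76 (grp_cons_le o_g456_o_T76 (grp_cons_le o_g457_o_T76 (grp_cons_le o_g469_o_T76 (grp_nil_le _)))))))))))))))))))))))))))))))))))))))))))) (Frames.cons o_T76_s2_F (Frames.cons o_T76_s83_F (Frames.cons o_T76_s84_F (Frames.cons o_T76_s89_F Frames.nil)))) (okE_cons.2 ⟨o_g473_ok, okE_nil _⟩) _

noncomputable def ot_c30_cnt_t : BT := (BT.fix (nat_lit 257) (BT.fix (nat_lit 1) (BT.dif (nat_lit 1) (nat_lit 0) (BT.br (nat_lit 0) (nat_lit 82) [nat_lit 1, nat_lit 3] (BT.kid (nat_lit 82) (nat_lit 18) (BT.fix (nat_lit 65793) (BT.img (nat_lit 1) (nat_lit 1) (BT.frm (nat_lit 0) (nat_lit 0x91833111a) (nat_lit 0x91833111a) [nat_lit 0, nat_lit 2] (BT.pln (nat_lit 0) (nat_lit 3) (BT.and (nat_lit 3) (nat_lit 0) (BT.br (nat_lit 0) (nat_lit 224) [nat_lit 5] (BT.kid (nat_lit 224) (nat_lit 6) (BT.frm (nat_lit 1) (nat_lit 0x4740091833111a) (nat_lit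 0x4740091833111a) [nat_lit 0, nat_lit 4, nat_lit 6] (BT.pln (nat_lit 0) (nat_lit 12) (BT.dif (nat_lit 0) (nat_lit 11) (BT.img (nat_lit 1) (nat_lit 3) (BT.frm (nat_lit 2) (nat_lit 0x4d4f4740091833111a) (nat_lit 0x4d4f4740091833111a) [nat_lit 0, nat_lit 4, nat_lit 8, nat_lit 10] (BT.pln (nat_lit 0) (nat_lit 4) (BT.and (nat_lit 3) (nat_lit 0) (BT.pln (nat_lit 2) (nat_lit 6) (BT.and (nat_lit 1) (nat_lit 0) (BT.br (nat_lit 0) (nat_lit 52) [nat_lit 7] (BT.kid (nat_lit 52) (nat_lit 1) (BT.img (nat_lit 1) (nat_lit 0) (BT.one (nat_lit 3) (nat_lit 0x564f4d4f4740091833111a) (nat_lit 0x564f4d4f4740091833111a) [nat_lit 0, nat_lit 1, nat_lit 7, nat_lit 11, nat_lit 15, nat_lit 17])) BT.nil))))))))))) BT.nil))))))) BT.nil)))))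

theorem ot_c30_cnt : Cnt 351 (grp 351 o_O) [o_g473] [o_g473] 0 0 0 0 108 :=
  BT.sound ot_c30_cnt_P Known.nil (t := ot_c30_cnt_t) (d := 0) (by decide +kernel)

theorem ot_c30_ge : 108 ≤ Nat.card (grp 351 ot_c30_K) :=
  Ch.le_card_grp (k := 9) (L := (lab 351 9)) o_hn ot_c30_K_ok (c := (Ch.cons (nat_lit 82) [nat_lit 1, nat_lit 3] (Ch.cons (nat_lit 224) [nat_lit 5] (Ch.cons (nat_lit 52) [nat_lit 7] Ch.nil)))) (by decide +kernel)

theorem ot_c30_eq : (grp 351 o_O) ⊓ Subgroup.centralizer {Net.toPerm 351 o_g473} = grp 351 ot_c30_K :=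
  cent_eq ot_c30_sym ot_c30_cnt ot_c30_ge

theorem ot_c30_card : Nat.card ↥((grp 351 o_O) ⊓ Subgroup.centralizer {Net.toPerm 351 o_g473}) = 108 :=
  card_cent ot_c30_sym ot_c30_cnt ot_c30_ge

theorem ot_c30_ord : orderOf (Net.toPerm 351 o_g473) = 6 :=
  orderOf_net o_hn o_hk o_g473_ok (by decide) (ps := [2, 3]) (by set_option linter.unusedSimpArgs false in simp [Nat.primeFactorsList_ofNat]) (by decide +kernel)

theorem o_le481 : grp 351 ot_c31_K ≤ grp 351 o_lb_E :=
  grp_le_of_memB o_hn o_hk o_lb_E_ok ot_c31_K_ok (ws := [nat_lit 0x433b37392821241e1a011626, nat_lit 0x3b372821241d2611203f011a1f29, nat_lit 0x45433b3725211d21201201050d29]) (by decide +kernel)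

theorem ot_c31_le : grp 351 ot_c31_K ≤ (grp 351 o_O) :=
  (o_le481.trans o_T76_s0.le)

theorem ot_c31_mem : Net.toPerm 351 o_g478 ∈ (grp 351 o_O) :=
  ot_c31_le (toPerm_mem_grp (E := ot_c31_K) (List.Mem.head _))

theorem ot_c31_sym : Sym 351 (grp 351 o_O) [o_g478] ot_c31_K 0 :=
  Sym.of_lab o_hn o_hk (okE_cons.2 ⟨o_g478_ok, okE_nil _⟩) ot_c31_K_ok ot_c31_le (kT := 0) (by decide +kernel)

noncomputable def o_T76_s88_O : ℕ := (nat_lit 0x2010000040000000800c04000000400000000000000000000000000000000000000000000000000000000000864996a50e5e3b00a767d392c6a17e78042381f3a6a1873b4b754e24cffe27ddff80026000000004602010057c98cab0e0a70115b3464a18268880d7cbb23cbcd0b33e4067054fb00160000042ffefdedfe1e008c0402008a05b038d8615f81958009ad0f3781950482ff043b721647e3ffdfb833ff8c08085ffdf30400037ee7f40000008385aca6c45b430342799ef38caf6bf806ce18350a2cefd59c8ae1ec0083ef003fc011b7838676f017fc02c8ff372bb238b4d19764b48989f0276413f7ec5ee6e5781be08a0b4227f11783d0787423e0f30cc67e0f0780c6ecd8464580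69c582bbe4398a1640c6fc3b6bdb0bd1dbb875ada47d4d1b8ce75accc347198198783359acc177734d7291909c996dd9eab5703053db7bdb045f2a920e58e62109ad94a835a5a9554cab6a82aec555aa9550000000000000000000000000000000000000000000000000000000000000000000000000000000000000001000000000000000000000000000000000000000010000000000000000000000000000000000000000000000000000000000000000000000000000000000000000000000000000000000000000000000000100000000000000000000000000000000000000000000000000000000000000000000000000000000020000000000000000000000000000000000000000000000000000000000000000000000000000000000000000080000000000000000)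

theorem o_T76_s88_F : Frame 351 (grp 351 o_O) 5 13 o_T76_s88_O 0 1 :=
  Stab.frame o_hn o_T76_s88 (by decide +kernel)

noncomputable def ot_c31_cnt_L : List ℕ := [1, 2, o_T76_s1_O, 0, 0, 2, 7, o_T76_s2_O, 0, 0, 3, 19, o_T76_s83_O, 0, 0, 4, 10, o_T76_s84_O, 0, 0, 5, 13, o_T76_s88_O, 0, 0, 6, 15, o_T76_s89_O, 1, 0]

theorem ot_c31_cnt_P : Prob 351 9 (grp 351 o_O) ot_c31_cnt_EG [o_g478] [o_g478] ot_c31_K ot_c31_cnt_L 0 0 :=
  Sym.prob o_hn o_hk ot_c31_sym ot_c31_cnt_EG_ok (grp_cons_le o_b_o_T76 (grp_cons_le o_c_o_T76 (grp_cons_le o_d_o_T76 (grp_cons_le o_e_o_T76 (grp_cons_le o_f_o_T76 (grp_cons_le o_g_o_T76 (grp_cons_le o_h_o_T76 (grp_cons_le o_i_o_T76 (grp_cons_le o_g1_o_T76 (grp_cons_le o_g2_o_T76 (grp_cons_le o_g3_o_T76 (grp_cons_le o_g4_o_T76 (grp_cons_le o_g5_o_T76 (grp_cons_le o_g8_o_T76 (grp_cons_le o_g9_o_T76 (grp_cons_le o_g12_o_T76 (grp_cons_le o_g13_o_T76 (grp_cons_le o_g14_o_T76 (grp_cons_le o_g17_o_T76 (grp_cons_le o_g18_o_T76 (grp_cons_le o_g19_o_T76 (grp_cons_le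 o_g20_o_T76 (grp_cons_le o_g23_o_T76 (grp_cons_le o_g24_o_T76 (grp_cons_le o_g25_o_T76 (grp_cons_le o_g26_o_T76 (grp_cons_le o_g27_o_T76 (grp_cons_le o_g30_o_T76 (grp_cons_le o_g31_o_T76 (grp_cons_le o_g32_o_T76 (grp_cons_le o_g35_o_T76 (grp_cons_le o_g88_o_T76 (grp_cons_le o_g89_o_T76 (grp_cons_le o_g90_o_T76 (grp_cons_le o_g91_o_T76 (grp_cons_le o_g92_o_T76 (grp_cons_le o_g93_o_T76 (grp_cons_le o_g94_o_T76 (grp_cons_le o_g454_o_T76 (grp_cons_le o_g455_o_T76 (grp_cons_le o_g456_o_T76 (grp_cons_le o_g457_o_T76 (grp_cons_le o_g469_o_T76 (grp_nil_le _)))))))))))))))))))))))))))))))))))))))))))) (Frames.cons o_T76_s1_F (Frames.cons o_T76_s2_F (Frames.cons o_T76_s83_F (Frames.cons o_T76_s84_F (Frames.cons o_T76_s88_F (Frames.cons o_T76_s89_F Frames.nil)))))) (okE_cons.2 ⟨o_g478_ok, okE_nil _⟩) _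

noncomputable def ot_c31_cnt_t : BT := (BT.fix (nat_lit 65793) (BT.br (nat_lit 0) (nat_lit 2) [nat_lit 1, nat_lit 3] (BT.dead (nat_lit 96) (BT.frm (nat_lit 0) (nat_lit 1287) (nat_lit 72986) [nat_lit 0] (BT.pln (nat_lit 0) (nat_lit 1) (BT.dif (nat_lit 6) (nat_lit 0) (BT.dif (nat_lit 1) (nat_lit 4) (BT.img (nat_lit 1) (nat_lit 0) (BT.and (nat_lit 2) (nat_lit 0) (BT.img (nat_lit 1) (nat_lit 0) (BT.and (nat_lit 0) (nat_lit 5) (BT.cnt (nat_lit 0)))))))))) (BT.dead (nat_lit 87) (BT.frm (nat_lit 0) (nat_lit 1287) (nat_lit 66834) [nat_lit 0] (BT.pln (nat_lit 0) (nat_lit 1) (BT.and (nat_lit 0) (nat_lit 3) (BT.cnt (nat_lit 0))))) (BT.kid (nat_lit 2) (nat_lit 6) (BT.img (nat_lit 1) (nat_lit 0) (BT.img (nat_lit 1) (nat_lit 0) (BT.frm (nat_lit 2) (nat_lit 0x474014120507) (nat_lit 0x474014120507) [nat_lit 0, nat_lit 1, nat_lit 2] (BT.pln (nat_lit 0) (nat_lit 6) (BT.and (nat_lit 5) (nat_lit 0) (BT.br (nat_lit 0) (nat_lit 174) [] (BT.dead (nat_lit 137) (BT.pln (nat_lit 3) (nat_lit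 12) (BT.frm (nat_lit 3) (nat_lit 0x4d4d474014120507) (nat_lit 0x4e4e4f4e474014120507) [nat_lit 1, nat_lit 5, nat_lit 6, nat_lit 7] (BT.pln (nat_lit 0) (nat_lit 4) (BT.and (nat_lit 2) (nat_lit 0) (BT.pln (nat_lit 2) (nat_lit 6) (BT.and (nat_lit 1) (nat_lit 0) (BT.br (nat_lit 0) (nat_lit 227) [nat_lit 5] (BT.dead (nat_lit 227) (BT.frm (nat_lit 1) (nat_lit 0x14120507) (nat_lit 0x14120507) [nat_lit 12, nat_lit 13] (BT.pln (nat_lit 0) (nat_lit 5) (BT.frm (nat_lit 4) (nat_lit 0x4d4d474014120507) (nat_lit 0x514e4e4f4e474014120507) [nat_lit 2, nat_lit 9, nat_lit 13, nat_lit 14, nat_lit 15] (BT.pln (nat_lit 0) (nat_lit 8) (BT.and (nat_lit 2) (nat_lit 0) (BT.pln (nat_lit 2) (nat_lit 7) (BT.dif (nat_lit 1) (nat_lit 0) (BT.pln (nat_lit 4) (nat_lit 9) (BT.dif (nat_lit 1) (nat_lit 0) (BT.frm (nat_lit 0) (nat_lit 1287) (nat_lit 1287) [nat_lit 22] (BT.pln (nat_lit 0) (nat_lit 1) (BT.pln (nat_lit 21) (nat_lit 8) (BT.and (nat_lit 1) (nat_lit 0) (BT.pln (nat_lit 10) (nat_lit 11) (BT.and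 (nat_lit 1) (nat_lit 0) (BT.pln (nat_lit 12) (nat_lit 6) (BT.and (nat_lit 1) (nat_lit 0) (BT.img (nat_lit 1) (nat_lit 0) (BT.and (nat_lit 9) (nat_lit 0) (BT.img (nat_lit 1) (nat_lit 0) (BT.and (nat_lit 0) (nat_lit 12) (BT.cnt (nat_lit 0))))))))))))))))))))))) (BT.dead (nat_lit 207) (BT.frm (nat_lit 4) (nat_lit 0x4d4d474014120507) (nat_lit 0x4e4e4f4e474014120507) [nat_lit 0, nat_lit 7, nat_lit 11, nat_lit 12, nat_lit 13] (BT.pln (nat_lit 0) (nat_lit 5) (BT.img (nat_lit 1) (nat_lit 2) (BT.and (nat_lit 1) (nat_lit 0) (BT.cnt (nat_lit 0)))))) BT.nil))))))))) (BT.kid (nat_lit 174) (nat_lit 6) (BT.pln (nat_lit 3) (nat_lit 12) (BT.frm (nat_lit 3) (nat_lit 0x4d4d474014120507) (nat_lit 0x4d4d474014120507) [nat_lit 1, nat_lit 5, nat_lit 6, nat_lit 7] (BT.pln (nat_lit 0) (nat_lit 4) (BT.and (nat_lit 2) (nat_lit 0) (BT.pln (nat_lit 2) (nat_lit 6) (BT.and (nat_lit 1) (nat_lit 0) (BT.br (nat_lit 0) (nat_lit 227) [nat_lit 5] (BT.dead (nat_lit 207) (BT.frm (nat_lit 4) (nat_lit 0x4d4d474014120507)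 (nat_lit 0x50504d4d474014120507) [nat_lit 0, nat_lit 7, nat_lit 11, nat_lit 12, nat_lit 13] (BT.pln (nat_lit 0) (nat_lit 5) (BT.img (nat_lit 1) (nat_lit 2) (BT.and (nat_lit 1) (nat_lit 0) (BT.cnt (nat_lit 0)))))) (BT.kid (nat_lit 227) (nat_lit 1) (BT.img (nat_lit 1) (nat_lit 0) (BT.one (nat_lit 5) (nat_lit 0x564d4d474014120507) (nat_lit 0x564d4d474014120507) [nat_lit 0, nat_lit 1, nat_lit 8, nat_lit 12, nat_lit 13, nat_lit 14])) BT.nil))))))))) BT.nil)))))))) BT.nil)))))

theorem ot_c31_cnt : Cnt 351 (grp 351 o_O) [o_g478] [o_g478] 0 0 0 0 54 :=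
  BT.sound ot_c31_cnt_P Known.nil (t := ot_c31_cnt_t) (d := 0) (by decide +kernel)

theorem ot_c31_ge : 54 ≤ Nat.card (grp 351 ot_c31_K) :=
  Ch.le_card_grp (k := 9) (L := (lab 351 9)) o_hn ot_c31_K_ok (c := (Ch.cons (nat_lit 2) [nat_lit 1, nat_lit 3] (Ch.cons (nat_lit 227) [nat_lit 5] Ch.nil))) (by decide +kernel)

theorem ot_c31_eq : (grp 351 o_O) ⊓ Subgroup.centralizer {Net.toPerm 351 o_g478} = grp 351 ot_c31_K :=
  cent_eq ot_c31_sym ot_c31_cnt ot_c31_ge

theorem ot_c31_card : Nat.card ↥((grp 351 o_O) ⊓ Subgroup.centralizer {Net.toPerm 351 o_g478}) = 54 :=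
  card_cent ot_c31_sym ot_c31_cnt ot_c31_ge

theorem ot_c31_ord : orderOf (Net.toPerm 351 o_g478) = 6 :=
  orderOf_net o_hn o_hk o_g478_ok (by decide) (ps := [2, 3]) (by set_option linter.unusedSimpArgs false in simp [Nat.primeFactorsList_ofNat]) (by decide +kernel)

theorem o_le484 : grp 351 ot_c32_K ≤ grp 351 o_lb_E :=
  grp_le_of_memB o_hn o_hk o_lb_E_ok ot_c32_K_ok (ws := [nat_lit 0x45312825241d41192101051f0d, nat_lit 0x45433b31391d241923]) (by decide +kernel)

theorem ot_c32_le : grp 351 ot_c32_K ≤ (grp 351 o_O) :=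
  (o_le484.trans o_T76_s0.le)

theorem ot_c32_mem : Net.toPerm 351 o_g482 ∈ (grp 351 o_O) :=
  ot_c32_le (toPerm_mem_grp (E := ot_c32_K) (List.Mem.head _))

theorem ot_c32_sym : Sym 351 (grp 351 o_O) [o_g482] ot_c32_K 0 :=
  Sym.of_lab o_hn o_hk (okE_cons.2 ⟨o_g482_ok, okE_nil _⟩) ot_c32_K_ok ot_c32_le (kT := 0) (by decide +kernel)

theorem o_le486 : grp 351 o_V485 ≤ grp 351 o_V116 :=
  grp_le_of_memB o_hn o_hk o_V116_ok o_V485_ok (ws := [nat_lit 0x171501, nat_lit 779, nat_lit 9]) (by decide +kernel)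

theorem o_T76_s90 : Stab 351 (grp 351 o_O) [nat_lit 205, nat_lit 22, nat_lit 16, nat_lit 14, nat_lit 3, nat_lit 0] o_V485 8 :=
  Stab.step (k := 9) (L := (lab 351 9)) o_hn o_T76_s11 o_V485_ok o_le486 (c := (Ch.cons (nat_lit 163) [nat_lit 1] (Ch.cons (nat_lit 193) [nat_lit 3] (Ch.cons (nat_lit 218) [nat_lit 5] Ch.nil)))) (by decide +kernel)

theorem o_T76_s91 : Stab 351 (grp 351 o_O) [nat_lit 163, nat_lit 205, nat_lit 22, nat_lit 16, nat_lit 14, nat_lit 3, nat_lit 0] o_V487 4 :=
  Stab.step (k := 9) (L := (lab 351 9)) o_hn o_T76_s90 o_V487_ok (grp_mono (List.subset_append_right [o_g25] _)) (c := (Ch.cons (nat_lit 193) [nat_lit 1] (Ch.cons (nat_lit 218) [nat_lit 3] Ch.nil))) (by decide +kernel)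

theorem o_T76_s92 : Stab 351 (grp 351 o_O) [nat_lit 193, nat_lit 163, nat_lit 205, nat_lit 22, nat_lit 16, nat_lit 14, nat_lit 3, nat_lit 0] o_V488 2 :=
  Stab.step (k := 9) (L := (lab 351 9)) o_hn o_T76_s91 o_V488_ok (grp_mono (List.subset_append_right [o_g111] _)) (c := (Ch.cons (nat_lit 218) [nat_lit 1] Ch.nil)) (by decide +kernel)

theorem o_T76_s93 : Stab 351 (grp 351 o_O) [nat_lit 218, nat_lit 193, nat_lit 163, nat_lit 205, nat_lit 22, nat_lit 16, nat_lit 14, nat_lit 3, nat_lit 0] o_V489 1 :=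
  Stab.step (k := 9) (L := (lab 351 9)) o_hn o_T76_s92 o_V489_ok (grp_mono (List.subset_append_right [o_c] _)) (c := Ch.nil) (by decide +kernel)

noncomputable def o_T76_s93_O : ℕ := (nat_lit 0x3fffffffffffffffffffffff8000000000000000000000000000000000000000000000000000000000000000000000000000000000000000ffffffffffffffffffffffffffffffff00000000000000000000000000000000fffffffe0000000000000001fffffffffffffffe0000000000000001fffffffffffffffe000000000000000000000003fffffffc00000003fffffffc00000003fffffffc00000003fffffffc00000003fffffffc00000003fff80007fff80007fff80007fff80007fff80007fff80007fff80007fff80007fff80007fff80007fff80007f00ff00ff00ff00ff00ff00ff00ff00ff00ff00ff00ff00ff00ff00ff00ff00ff00ff00ff00ff00ff00ff00e1e1e1e1e1e1e1e1e1e1e1e1e1e1e1e1e1e1e1e1e1e1e1e1e1e1e1e1e1e1e1e1e1e1e1e1e1e1e1e1e1e1e1e133333333333333333333333333333333333333333333333333333333333333333333333333333333333333315555555555555555555555555555555555555555555555555555555555555555555555555555555555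555550000000000000000000000000000000000000000000000000000000000000000000000000000000000000001000000000000000000000000000000000000000000000000000000000000000000000000000000000000001000000000000000000000000000000000000000000000000000000000000000000000000000000000000100000000000000000000000000000000000000000000000000000000000000000000000000000000000000080000000000000000000000000000000000000000000000000000000000000000000000000000000000000400000000000000000000000000000000000000000400000000000000000000000000000000000000000000000000000000000000000000000000000000000000000000000002000000000000000000000000000000000000000000000000000000000000000000000000000000010000000000000000000000000000000000000000000000000000000000000000000000000000000004000000000000000000000000000000000000000000000000000000)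

theorem o_T76_s93_F : Frame 351 (grp 351 o_O) 9 18 o_T76_s93_O 1 1 :=
  IsBase.frame o_T76_s93.isBase (by decide +kernel)

noncomputable def ot_c32_cnt_L : List ℕ := [1, 2, o_T76_s1_O, 0, 0, 2, 5, o_T76_s8_O, 0, 0, 3, 10, o_T76_s9_O, 0, 0, 4, 20, o_T76_s10_O, 0, 0, 5, 11, o_T76_s11_O, 0, 0, 9, 18, o_T76_s93_O, 1, 0]

theorem ot_c32_cnt_P : Prob 351 9 (grp 351 o_O) ot_c32_cnt_EG [o_g482] [o_g482] ot_c32_K ot_c32_cnt_L 0 0 :=
  Sym.prob o_hn o_hk ot_c32_sym ot_c32_cnt_EG_ok (grp_cons_le o_b_o_T76 (grp_cons_le o_c_o_T76 (grp_cons_le o_d_o_T76 (grp_cons_le o_e_o_T76 (grp_cons_le o_f_o_T76 (grp_cons_le o_g_o_T76 (grp_cons_le o_h_o_T76 (grp_cons_le o_i_o_T76 (grp_cons_le o_g1_o_T76 (grp_cons_le o_g2_o_T76 (grp_cons_le o_g3_o_T76 (grp_cons_le o_g4_o_T76 (grp_cons_le o_g5_o_T76 (grp_cons_le o_g8_o_T76 (grp_cons_le o_g9_o_T76 (grp_cons_le o_g12_o_T76 (grp_cons_le o_g13_o_T76 (grp_cons_le o_g14_o_T76 (grp_cons_le o_g17_o_T76 (grp_cons_le o_g18_o_T76 (grp_cons_le o_g19_o_T76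 (grp_cons_le o_g20_o_T76 (grp_cons_le o_g23_o_T76 (grp_cons_le o_g24_o_T76 (grp_cons_le o_g25_o_T76 (grp_cons_le o_g26_o_T76 (grp_cons_le o_g27_o_T76 (grp_cons_le o_g30_o_T76 (grp_cons_le o_g31_o_T76 (grp_cons_le o_g32_o_T76 (grp_cons_le o_g35_o_T76 (grp_cons_le o_g111_o_T76 (grp_nil_le _))))))))))))))))))))))))))))))))) (Frames.cons o_T76_s1_F (Frames.cons o_T76_s8_F (Frames.cons o_T76_s9_F (Frames.cons o_T76_s10_F (Frames.cons o_T76_s11_F (Frames.cons o_T76_s93_F Frames.nil)))))) (okE_cons.2 ⟨o_g482_ok, okE_nil _⟩) _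

noncomputable def ot_c32_cnt_t : BT := (BT.fix (nat_lit 1) (BT.frm (nat_lit 0) (nat_lit 0x105110f) (nat_lit 0x105110f) [nat_lit 0] (BT.pln (nat_lit 0) (nat_lit 1) (BT.br (nat_lit 0) (nat_lit 215) [nat_lit 1] (BT.dead (nat_lit 63) (BT.img (nat_lit 1) (nat_lit 0) (BT.img (nat_lit 1) (nat_lit 0) (BT.img (nat_lit 1) (nat_lit 0) (BT.frm (nat_lit 2) (nat_lit 0x1b2f112c170105110f) (nat_lit 0x1c201126180105110f) [nat_lit 0, nat_lit 3, nat_lit 6] (BT.pln (nat_lit 0) (nat_lit 9) (BT.frm (nat_lit 1) (nat_lit 0x112c170105110f) (nat_lit 0x1126180105110f) [nat_lit 5, nat_lit 8] (BT.pln (nat_lit 0) (nat_lit 4) (BT.dif (nat_lit 0) (nat_lit 4) (BT.img (nat_lit 1) (nat_lit 5) (BT.dif (nat_lit 1) (nat_lit 0) (BT.img (nat_lit 1) (nat_lit 0) (BT.and (nat_lit 6) (nat_lit 0) (BT.pln (nat_lit 6) (nat_lit 3) (BT.and (nat_lit 14) (nat_lit 0) (BT.and (nat_lit 0) (nat_lit 3) (BT.and (nat_lit 8) (nat_lit 4) (BT.img (nat_lit 1) (nat_lit 0) (BT.and (nat_lit 10) (nat_lit 0) (BT.img (nat_lit 1) (nat_lit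 0) (BT.and (nat_lit 4) (nat_lit 0) (BT.and (nat_lit 13) (nat_lit 1) (BT.img (nat_lit 1) (nat_lit 0) (BT.and (nat_lit 2) (nat_lit 0) (BT.img (nat_lit 1) (nat_lit 0) (BT.and (nat_lit 17) (nat_lit 0) (BT.img (nat_lit 1) (nat_lit 0) (BT.and (nat_lit 11) (nat_lit 0) (BT.img (nat_lit 1) (nat_lit 0) (BT.and (nat_lit 21) (nat_lit 0) (BT.img (nat_lit 1) (nat_lit 0) (BT.and (nat_lit 18) (nat_lit 0) (BT.frm (nat_lit 4) (nat_lit 0x25241b2f112c170105110f) (nat_lit 0x2623261c201126180105110f) [nat_lit 0, nat_lit 6, nat_lit 28, nat_lit 31, nat_lit 34] (BT.pln (nat_lit 0) (nat_lit 5) (BT.pln (nat_lit 27) (nat_lit 2) (BT.img (nat_lit 1) (nat_lit 0) (BT.and (nat_lit 1) (nat_lit 0) (BT.img (nat_lit 1) (nat_lit 0) (BT.and (nat_lit 4) (nat_lit 0) (BT.cnt (nat_lit 0)))))))))))))))))))))))))))))))))))))))) (BT.dead (nat_lit 17) (BT.frm (nat_lit 1) (nat_lit 0x112c170105110f) (nat_lit 0x1117210105110f) [nat_lit 0, nat_lit 3] (BT.pln (nat_lit 0) (nat_lit 3) (BT.img (nat_lit 1) (nat_lit 2) (BT.img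 (nat_lit 1) (nat_lit 0) (BT.img (nat_lit 1) (nat_lit 0) (BT.and (nat_lit 3) (nat_lit 0) (BT.cnt (nat_lit 0)))))))) (BT.dead (nat_lit 120) (BT.frm (nat_lit 1) (nat_lit 0x112c170105110f) (nat_lit 0x11251d0105110f) [nat_lit 0, nat_lit 3] (BT.pln (nat_lit 0) (nat_lit 3) (BT.img (nat_lit 1) (nat_lit 2) (BT.img (nat_lit 1) (nat_lit 0) (BT.img (nat_lit 1) (nat_lit 0) (BT.and (nat_lit 3) (nat_lit 0) (BT.cnt (nat_lit 0)))))))) (BT.dead (nat_lit 317) (BT.frm (nat_lit 1) (nat_lit 0x112c170105110f) (nat_lit 0x1114250105110f) [nat_lit 0, nat_lit 3] (BT.pln (nat_lit 0) (nat_lit 3) (BT.img (nat_lit 1) (nat_lit 2) (BT.img (nat_lit 1) (nat_lit 0) (BT.img (nat_lit 1) (nat_lit 0) (BT.and (nat_lit 3) (nat_lit 0) (BT.cnt (nat_lit 0)))))))) (BT.dead (nat_lit 76) (BT.frm (nat_lit 1) (nat_lit 0x112c170105110f) (nat_lit 0x1114200105110f) [nat_lit 0, nat_lit 3] (BT.pln (nat_lit 0) (nat_lit 3) (BT.img (nat_lit 1) (nat_lit 2) (BT.img (nat_lit 1) (nat_lit 0) (BT.img (nat_lit 1) (nat_lit 0) (BT.and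 (nat_lit 3) (nat_lit 0) (BT.cnt (nat_lit 0)))))))) (BT.dead (nat_lit 175) (BT.frm (nat_lit 1) (nat_lit 0x112c170105110f) (nat_lit 0x111e3b0105110f) [nat_lit 0, nat_lit 3] (BT.pln (nat_lit 0) (nat_lit 3) (BT.img (nat_lit 1) (nat_lit 2) (BT.img (nat_lit 1) (nat_lit 0) (BT.and (nat_lit 2) (nat_lit 0) (BT.cnt (nat_lit 0))))))) (BT.dead (nat_lit 16) (BT.frm (nat_lit 1) (nat_lit 0x112c170105110f) (nat_lit 0x11112f0105110f) [nat_lit 0, nat_lit 3] (BT.pln (nat_lit 0) (nat_lit 3) (BT.img (nat_lit 1) (nat_lit 2) (BT.and (nat_lit 1) (nat_lit 0) (BT.cnt (nat_lit 0)))))) (BT.dead (nat_lit 174) (BT.frm (nat_lit 1) (nat_lit 0x112c170105110f) (nat_lit 0x110b230105110f) [nat_lit 0, nat_lit 3] (BT.pln (nat_lit 0) (nat_lit 3) (BT.img (nat_lit 1) (nat_lit 2) (BT.and (nat_lit 1) (nat_lit 0) (BT.cnt (nat_lit 0)))))) (BT.dead (nat_lit 199) (BT.frm (nat_lit 1) (nat_lit 0x112c170105110f) (nat_lit 0x1126110105110f) [nat_lit 0, nat_lit 3] (BT.pln (nat_lit 0) (nat_lit 3) (BT.img (nat_lit 1) (nat_lit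 2) (BT.and (nat_lit 1) (nat_lit 0) (BT.cnt (nat_lit 0)))))) (BT.dead (nat_lit 230) (BT.frm (nat_lit 1) (nat_lit 0x112c170105110f) (nat_lit 0x121f0105110f) [nat_lit 0, nat_lit 3] (BT.pln (nat_lit 0) (nat_lit 3) (BT.img (nat_lit 1) (nat_lit 2) (BT.img (nat_lit 1) (nat_lit 0) (BT.img (nat_lit 1) (nat_lit 0) (BT.and (nat_lit 3) (nat_lit 0) (BT.cnt (nat_lit 0)))))))) (BT.dead (nat_lit 90) (BT.frm (nat_lit 1) (nat_lit 0x112c170105110f) (nat_lit 0x11110105110f) [nat_lit 0, nat_lit 3] (BT.pln (nat_lit 0) (nat_lit 3) (BT.img (nat_lit 1) (nat_lit 2) (BT.img (nat_lit 1) (nat_lit 0) (BT.img (nat_lit 1) (nat_lit 0) (BT.and (nat_lit 3) (nat_lit 0) (BT.cnt (nat_lit 0)))))))) (BT.dead (nat_lit 109) (BT.frm (nat_lit 1) (nat_lit 0x112c170105110f) (nat_lit 0x110b0105110f) [nat_lit 0, nat_lit 3] (BT.pln (nat_lit 0) (nat_lit 3) (BT.img (nat_lit 1) (nat_lit 2) (BT.img (nat_lit 1) (nat_lit 0) (BT.and (nat_lit 2) (nat_lit 0) (BT.cnt (nat_lit 0))))))) (BT.dead (nat_lit 139) (BT.frm (nat_lit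 1) (nat_lit 0x112c170105110f) (nat_lit 0x12240105110f) [nat_lit 0, nat_lit 3] (BT.pln (nat_lit 0) (nat_lit 3) (BT.img (nat_lit 1) (nat_lit 2) (BT.img (nat_lit 1) (nat_lit 0) (BT.and (nat_lit 2) (nat_lit 0) (BT.cnt (nat_lit 0))))))) (BT.dead (nat_lit 243) (BT.frm (nat_lit 1) (nat_lit 0x112c170105110f) (nat_lit 0x12150105110f) [nat_lit 0, nat_lit 3] (BT.pln (nat_lit 0) (nat_lit 3) (BT.img (nat_lit 1) (nat_lit 2) (BT.img (nat_lit 1) (nat_lit 0) (BT.and (nat_lit 2) (nat_lit 0) (BT.cnt (nat_lit 0))))))) (BT.dead (nat_lit 0) (BT.frm (nat_lit 1) (nat_lit 0x112c170105110f) (nat_lit 0x11270105110f) [nat_lit 0, nat_lit 3] (BT.pln (nat_lit 0) (nat_lit 3) (BT.img (nat_lit 1) (nat_lit 2) (BT.and (nat_lit 1) (nat_lit 0) (BT.cnt (nat_lit 0)))))) (BT.dead (nat_lit 224) (BT.frm (nat_lit 1) (nat_lit 0x112c170105110f) (nat_lit 0x181c0105110f) [nat_lit 0, nat_lit 3] (BT.pln (nat_lit 0) (nat_lit 3) (BT.img (nat_lit 1) (nat_lit 2) (BT.and (nat_lit 1) (nat_lit 0) (BT.cnt (nat_lit 0))))))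 (BT.dead (nat_lit 188) (BT.frm (nat_lit 1) (nat_lit 0x112c170105110f) (nat_lit 0x17270105110f) [nat_lit 0, nat_lit 3] (BT.pln (nat_lit 0) (nat_lit 3) (BT.img (nat_lit 1) (nat_lit 2) (BT.and (nat_lit 1) (nat_lit 0) (BT.cnt (nat_lit 0)))))) (BT.kid (nat_lit 215) (nat_lit 2) (BT.dif (nat_lit 6) (nat_lit 1) (BT.frm (nat_lit 1) (nat_lit 0x112c170105110f) (nat_lit 0x112c170105110f) [nat_lit 1, nat_lit 4] (BT.pln (nat_lit 0) (nat_lit 2) (BT.dif (nat_lit 2) (nat_lit 0) (BT.img (nat_lit 1) (nat_lit 1) (BT.dif (nat_lit 1) (nat_lit 0) (BT.img (nat_lit 1) (nat_lit 6) (BT.img (nat_lit 1) (nat_lit 0) (BT.img (nat_lit 1) (nat_lit 0) (BT.frm (nat_lit 2) (nat_lit 0x1b2f112c170105110f) (nat_lit 0x1b2f112c170105110f) [nat_lit 0, nat_lit 9, nat_lit 12] (BT.pln (nat_lit 0) (nat_lit 4) (BT.dif (nat_lit 5) (nat_lit 0) (BT.dif (nat_lit 0) (nat_lit 15) (BT.dif (nat_lit 8) (nat_lit 10) (BT.and (nat_lit 11) (nat_lit 9) (BT.img (nat_lit 1) (nat_lit 0) (BT.dif (nat_lit 2) (nat_lit 0) (BT.dif (nat_lit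 14) (nat_lit 12) (BT.and (nat_lit 13) (nat_lit 2) (BT.dif (nat_lit 0) (nat_lit 16) (BT.and (nat_lit 17) (nat_lit 4) (BT.img (nat_lit 1) (nat_lit 0) (BT.dif (nat_lit 2) (nat_lit 0) (BT.and (nat_lit 18) (nat_lit 1) (BT.img (nat_lit 1) (nat_lit 0) (BT.and (nat_lit 22) (nat_lit 0) (BT.img (nat_lit 1) (nat_lit 0) (BT.and (nat_lit 12) (nat_lit 0) (BT.img (nat_lit 1) (nat_lit 0) (BT.dif (nat_lit 6) (nat_lit 0) (BT.img (nat_lit 1) (nat_lit 0) (BT.and (nat_lit 25) (nat_lit 0) (BT.img (nat_lit 1) (nat_lit 0) (BT.and (nat_lit 15) (nat_lit 0) (BT.img (nat_lit 1) (nat_lit 0) (BT.and (nat_lit 18) (nat_lit 0) (BT.img (nat_lit 1) (nat_lit 0) (BT.and (nat_lit 24) (nat_lit 0) (BT.pln (nat_lit 28) (nat_lit 9) (BT.pln (nat_lit 37) (nat_lit 4) (BT.dif (nat_lit 0) (nat_lit 31) (BT.img (nat_lit 1) (nat_lit 32) (BT.dif (nat_lit 1) (nat_lit 0) (BT.img (nat_lit 1) (nat_lit 0) (BT.dif (nat_lit 5) (nat_lit 0) (BT.pln (nat_lit 43) (nat_lit 3) (BT.and (nat_lit 47) (nat_lit 0) (BT.and (nat_lit 0)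 (nat_lit 3) (BT.and (nat_lit 8) (nat_lit 4) (BT.img (nat_lit 1) (nat_lit 0) (BT.and (nat_lit 10) (nat_lit 0) (BT.img (nat_lit 1) (nat_lit 0) (BT.and (nat_lit 4) (nat_lit 0) (BT.and (nat_lit 13) (nat_lit 1) (BT.img (nat_lit 1) (nat_lit 0) (BT.and (nat_lit 2) (nat_lit 0) (BT.img (nat_lit 1) (nat_lit 0) (BT.and (nat_lit 12) (nat_lit 0) (BT.frm (nat_lit 3) (nat_lit 0x241b2f112c170105110f) (nat_lit 0x241b2f112c170105110f) [nat_lit 0, nat_lit 49, nat_lit 58, nat_lit 61] (BT.pln (nat_lit 0) (nat_lit 14) (BT.dif (nat_lit 22) (nat_lit 0) (BT.br (nat_lit 0) (nat_lit 194) [nat_lit 3] (BT.kid (nat_lit 194) (nat_lit 1) (BT.and (nat_lit 22) (nat_lit 5) (BT.img (nat_lit 1) (nat_lit 0) (BT.and (nat_lit 16) (nat_lit 0) (BT.pln (nat_lit 55) (nat_lit 7) (BT.and (nat_lit 15) (nat_lit 0) (BT.img (nat_lit 1) (nat_lit 2) (BT.and (nat_lit 28) (nat_lit 0) (BT.img (nat_lit 1) (nat_lit 0) (BT.and (nat_lit 21) (nat_lit 0) (BT.img (nat_lit 1) (nat_lit 0) (BT.and (nat_lit 5) (nat_lit 0) (BT.and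 (nat_lit 34) (nat_lit 23) (BT.and (nat_lit 23) (nat_lit 2) (BT.img (nat_lit 1) (nat_lit 0) (BT.and (nat_lit 2) (nat_lit 0) (BT.one (nat_lit 5) (nat_lit 0x325241b2f112c170105110f) (nat_lit 0x325241b2f112c170105110f) [nat_lit 15, nat_lit 12, nat_lit 4, nat_lit 0, nat_lit 6, nat_lit 14, nat_lit 68, nat_lit 77, nat_lit 80])))))))))))))))) BT.nil))))))))))))))))))))))))))))))))))))))))))))))))))))))))))))))) BT.nil))))))))))))))))))))))

theorem ot_c32_cnt : Cnt 351 (grp 351 o_O) [o_g482] [o_g482] 0 0 0 0 14 :=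
  BT.sound ot_c32_cnt_P Known.nil (t := ot_c32_cnt_t) (d := 0) (by decide +kernel)

theorem ot_c32_ge : 14 ≤ Nat.card (grp 351 ot_c32_K) :=
  Ch.le_card_grp (k := 9) (L := (lab 351 9)) o_hn ot_c32_K_ok (c := (Ch.cons (nat_lit 215) [nat_lit 1] (Ch.cons (nat_lit 194) [nat_lit 3] Ch.nil))) (by decide +kernel)

theorem ot_c32_eq : (grp 351 o_O) ⊓ Subgroup.centralizer {Net.toPerm 351 o_g482} = grp 351 ot_c32_K :=
  cent_eq ot_c32_sym ot_c32_cnt ot_c32_ge

theorem ot_c32_card : Nat.card ↥((grp 351 o_O) ⊓ Subgroup.centralizer {Net.toPerm 351 o_g482}) = 14 :=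
  card_cent ot_c32_sym ot_c32_cnt ot_c32_ge

theorem ot_c32_ord : orderOf (Net.toPerm 351 o_g482) = 7 :=
  orderOf_net o_hn o_hk o_g482_ok (by decide) (ps := [7]) (by set_option linter.unusedSimpArgs false in simp [Nat.primeFactorsList_ofNat]) (by decide +kernel)

theorem o_le493 : grp 351 ot_c33_K ≤ grp 351 o_lb_E :=
  grp_le_of_memB o_hn o_hk o_lb_E_ok ot_c33_K_ok (ws := [nat_lit 0x433b372821241d3f111325011620, nat_lit 0x45432825281d2024171e1101052619, nat_lit 0x3b2f211d201d111117012f01, nat_lit 0x2f1e011d2f]) (by decide +kernel)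

theorem ot_c33_le : grp 351 ot_c33_K ≤ (grp 351 o_O) :=
  (o_le493.trans o_T76_s0.le)

theorem ot_c33_mem : Net.toPerm 351 o_g490 ∈ (grp 351 o_O) :=
  ot_c33_le (toPerm_mem_grp (E := ot_c33_K) (List.Mem.head _))

theorem ot_c33_sym : Sym 351 (grp 351 o_O) [o_g490] ot_c33_K 0 :=
  Sym.of_lab o_hn o_hk (okE_cons.2 ⟨o_g490_ok, okE_nil _⟩) ot_c33_K_ok ot_c33_le (kT := 0) (by decide +kernel)

noncomputable def o_T76_s92_O : ℕ := (nat_lit 0x3088014c086e19404b51e311dce030880148082e19404a51e311dce8cc21c200710840933838000000000019fbffffffffffffffffffffffffbf9e6ffc6700000000000000000000000000000000000000006768eb20102fcff9dfee4e07089c000000000080c3200721fefffffffbffffff8c5c407096e0210000000000ced1d64020182000002263f1eec7ff70e77019b186400e43fd7fddfd8560c000e7477b0ed22015bdfb661e019da3ac8040fcb36fe362c6e3498b0bdff1020213eff81487391c6664e5384ee3ff8a3c21803f7bedc900407fffc0000000fe1efa00b7ae393b1c16781dfe043fd80bd00fa7a09a3d500cfd8390ef9f46800e36e06cfe80fe607ec0d800c8dfa1c96fa70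2e12f874cb863ce7a4f946c1a8cb5b2701f9924ce19de61625d782e34d8c2c9cf28f8f005872a0ea72ad1ad957944ce54c6a5d2aaaeb4712e4566269c31ab394ba5a2cfa8576956d5c3154a5568e88b1a4000000000000000000000000000000000000000000000000000000000000000000000000000000000000000200000000000000000000000000000000000000000000000000000000000000000000000000000000000000200000000000000000000000000000000000000000000000000000000000000000000000000000000000020000000000000000000000000000000000000000000000000000000000000000000000000000000000000010000000000000000000000000000000000000000000000000000000000000000000000000000000000000080000000000000000000000000000000000000000080000000000000000000000000000000000000000000000000000000000000000000000000000000000000000000000000400000000000000000000000000000000000000000000000000000000000000000000000000000002000000000000000000000000000000000000000000000000)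

theorem o_T76_s92_F : Frame 351 (grp 351 o_O) 8 16 o_T76_s92_O 0 1 :=
  Stab.frame o_hn o_T76_s92 (by decide +kernel)

noncomputable def o_T76_s91_O : ℕ := (nat_lit 0x40100098000c120082220600008040100090000c1200802204000000000000000000000000000000000000145a000406a3a3c198790be04ffed45a000406a3a3c198790be44fffed100198018001000820000e00400000428c02398c6f4f83f1d717c09efd0000000000000000000000080002446b0c1034985e5cffd3c1dfbfbc86e07bc7fb9cff21ecfc1c51c04ec201fdf77ff33f5e9c07e32a0f10000488d618204130bcb9ffa6033801000000b5c11719445e04d4f2c9bfff840ab7d7f239354206d03109c1bfdd8915eb016a515f7bf2e123010ef8d00001012dc0210abd87a9e103f1fbb21751401bac82a7bbf9e113837fe4fe0179842ba0c1aad83ca7e2fc0c4437057bb5fbdbec4202d3ef079b01538b1dee07d028377260e02e668839e3f8e2a5ddc2dd784c727227a6d2086002b1e39f6436a2e394af8fa96274996aa34851c6a4fa94e28fa9634b2f127ca73082ab2ceed4d36aa3a31628800000000000000000000000000000000000000000000000000000000000000000000000000000000000000040000000000000000000000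000000000000000000000000000000000000000000000000000000000000000040000000000000000000000000000000000000000000000000000000000000000000000000000000000004000000000000000000000000000000000000000000000000000000000000000000000000000000000000002000000000000000000000000000000000000000000000000000000000000000000000000000000000000010000000000000000000000000000000000000000010000000000000000000000000000000000000000000000000000000000000000000000000000000000000000000000000080000000000000000000000000000000000000000)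

theorem o_T76_s91_F : Frame 351 (grp 351 o_O) 7 15 o_T76_s91_O 0 1 :=
  Stab.frame o_hn o_T76_s91 (by decide +kernel)

noncomputable def o_T76_s90_O : ℕ := (nat_lit 0x980400a610336c912ca9e98907a0980400a4103364912829e9890004000000000000000000000000080000040780062d8b81220c46212861f0b4078006298b89124c4b212060ffc88401020070004012082013839200d4006010020000ddb2c432a5a2241e8000000000000060001a0010021eefaff3cf3de7579ffdfceef7c70401a837c4afdee89fffbbfe9af3bbb0c244fc703d86800be088340020043dc33c619c459aa73e572020107196402011eae07923985e5a4293199b98857f835f8ed2bf69b2e9ed86e3087b984e080ce8b51443581378bce32c804053d9c0fe42d9d35fffcbc1d8dcc3de4abf01228bcf1c4cc1d8b8dcc373e59ae457d5217092768741b8200000747917dcfec51ece6698338e29676b2ee8e60f2be319180f8853b565fbd3ea77d015849220d5996ab89018000000000000000000000000000000000000000000000000000000000000000000000000000000000000000008000000000000000000000000000000000000000000000000000000000000000000000000000000000000008000000000000000000000000000000000000000000000000000000000000000000000000000000000000800000000000000000000000000000000000000000000000000000000000000000000000000000000000000400000000000000000000000000000000000000000000000000000000000000000000000000000000000002000000000000000000000000000000000000000002000000000000000000000000000000000000000000000000000)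

theorem o_T76_s90_F : Frame 351 (grp 351 o_O) 6 13 o_T76_s90_O 0 1 :=
  Stab.frame o_hn o_T76_s90 (by decide +kernel)

noncomputable def ot_c33_cnt_L : List ℕ := [2, 5, o_T76_s8_O, 0, 0, 4, 20, o_T76_s10_O, 0, 0, 5, 11, o_T76_s11_O, 0, 0, 6, 13, o_T76_s90_O, 0, 0, 7, 15, o_T76_s91_O, 0, 0, 8, 16, o_T76_s92_O, 0, 0, 9, 18, o_T76_s93_O, 1, 0]

theorem ot_c33_cnt_P : Prob 351 9 (grp 351 o_O) ot_c33_cnt_EG [o_g490] [o_g490] ot_c33_K ot_c33_cnt_L 0 0 :=
  Sym.prob o_hn o_hk ot_c33_sym ot_c33_cnt_EG_ok (grp_cons_le o_g1_o_T76 (grp_cons_le o_g_o_T76 (grp_cons_le o_g2_o_T76 (grp_cons_le o_g3_o_T76 (grp_cons_le o_g4_o_T76 (grp_cons_le o_g5_o_T76 (grp_cons_le o_g8_o_T76 (grp_cons_le o_g9_o_T76 (grp_cons_le o_g12_o_T76 (grp_cons_le o_g13_o_T76 (grp_cons_le o_g14_o_T76 (grp_cons_le o_g17_o_T76 (grp_cons_le o_g18_o_T76 (grp_cons_le o_g19_o_T76 (grp_cons_le o_g20_o_T76 (grp_cons_le o_g23_o_T76 (grp_cons_le o_g24_o_T76 (grp_cons_le o_g25_o_T76 (grp_cons_le o_g26_o_T76 (grp_cons_le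 o_c_o_T76 (grp_cons_le o_g27_o_T76 (grp_cons_le o_g30_o_T76 (grp_cons_le o_g31_o_T76 (grp_cons_le o_g32_o_T76 (grp_cons_le o_g35_o_T76 (grp_cons_le o_b_o_T76 (grp_cons_le o_d_o_T76 (grp_cons_le o_e_o_T76 (grp_cons_le o_f_o_T76 (grp_cons_le o_h_o_T76 (grp_cons_le o_i_o_T76 (grp_cons_le o_g111_o_T76 (grp_nil_le _))))))))))))))))))))))))))))))))) (Frames.cons o_T76_s8_F (Frames.cons o_T76_s10_F (Frames.cons o_T76_s11_F (Frames.cons o_T76_s90_F (Frames.cons o_T76_s91_F (Frames.cons o_T76_s92_F (Frames.cons o_T76_s93_F Frames.nil))))))) (okE_cons.2 ⟨o_g490_ok, okE_nil _⟩) _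

noncomputable def ot_c33_cnt_t : BT := (BT.fix (nat_lit 257) (BT.fix (nat_lit 1) (BT.dif (nat_lit 1) (nat_lit 0) (BT.br (nat_lit 0) (nat_lit 76) [nat_lit 1] (BT.kid (nat_lit 76) (nat_lit 8) (BT.fix (nat_lit 0x1010101) (BT.dif (nat_lit 0) (nat_lit 4) (BT.br (nat_lit 0) (nat_lit 47) [nat_lit 3] (BT.dead (nat_lit 159) (BT.frm (nat_lit 0) (nat_lit 0x711330e1b) (nat_lit 0x711330e1b) [nat_lit 3, nat_lit 5] (BT.pln (nat_lit 0) (nat_lit 4) (BT.dif (nat_lit 0) (nat_lit 4) (BT.dif (nat_lit 9) (nat_lit 6) (BT.dif (nat_lit 0) (nat_lit 9) (BT.frm (nat_lit 1) (nat_lit 0x15180d18120711330e1b) (nat_lit 0x151d0d18120711330e1b) [nat_lit 5, nat_lit 0, nat_lit 8, nat_lit 10] (BT.pln (nat_lit 0) (nat_lit 9) (BT.dif (nat_lit 4) (nat_lit 0) (BT.img (nat_lit 1) (nat_lit 8) (BT.img (nat_lit 1) (nat_lit 0) (BT.frm (nat_lit 3) (nat_lit 0x31715180d18120711330e1b) (nat_lit 0x1f17151d0d18120711330e1b) [nat_lit 1, nat_lit 0, nat_lit 10, nat_lit 5, nat_lit 13, nat_lit 15] (BT.pln (nat_lit 0) (nat_lit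 11) (BT.and (nat_lit 4) (nat_lit 0) (BT.br (nat_lit 0) (nat_lit 129) [nat_lit 5] (BT.dead (nat_lit 18) (BT.dif (nat_lit 23) (nat_lit 2) (BT.pln (nat_lit 4) (nat_lit 8) (BT.and (nat_lit 1) (nat_lit 0) (BT.pln (nat_lit 6) (nat_lit 6) (BT.dif (nat_lit 1) (nat_lit 0) (BT.pln (nat_lit 8) (nat_lit 7) (BT.and (nat_lit 1) (nat_lit 0) (BT.pln (nat_lit 10) (nat_lit 9) (BT.dif (nat_lit 1) (nat_lit 0) (BT.pln (nat_lit 12) (nat_lit 10) (BT.dif (nat_lit 1) (nat_lit 0) (BT.pln (nat_lit 14) (nat_lit 12) (BT.dif (nat_lit 1) (nat_lit 0) (BT.frm (nat_lit 4) (nat_lit 0x31715180d18120711330e1b) (nat_lit 0x231f17151d0d18120711330e1b) [nat_lit 13, nat_lit 18, nat_lit 17, nat_lit 27, nat_lit 22, nat_lit 30, nat_lit 32] (BT.pln (nat_lit 0) (nat_lit 9) (BT.dif (nat_lit 2) (nat_lit 0) (BT.img (nat_lit 1) (nat_lit 16) (BT.frm (nat_lit 5) (nat_lit 0x31715180d18120711330e1b) (nat_lit 0x3f231f17151d0d18120711330e1b) [nat_lit 0, nat_lit 17, nat_lit 22, nat_lit 21, nat_lit 31, nat_lit 26, nat_lit 34,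 nat_lit 36] (BT.pln (nat_lit 0) (nat_lit 9) (BT.dif (nat_lit 3) (nat_lit 0) (BT.br (nat_lit 0) (nat_lit 149) [nat_lit 7] (BT.dead (nat_lit 183) (BT.frm (nat_lit 6) (nat_lit 0x27031715180d18120711330e1b) (nat_lit 0x273f231f17151d0d18120711330e1b) [nat_lit 0, nat_lit 4, nat_lit 21, nat_lit 26, nat_lit 25, nat_lit 35, nat_lit 30, nat_lit 38, nat_lit 40] (BT.pln (nat_lit 0) (nat_lit 9) (BT.img (nat_lit 1) (nat_lit 2) (BT.and (nat_lit 1) (nat_lit 0) (BT.cnt (nat_lit 0)))))) BT.nil)))))))))))))))))))))) BT.nil))))))))))))))) (BT.dead (nat_lit 49) (BT.img (nat_lit 1) (nat_lit 0) (BT.img (nat_lit 1) (nat_lit 0) (BT.dif (nat_lit 8) (nat_lit 5) (BT.dif (nat_lit 0) (nat_lit 8) (BT.frm (nat_lit 2) (nat_lit 0x1715180d18120711330e1b) (nat_lit 0x17110d18120711330e1b) [nat_lit 2, nat_lit 4, nat_lit 0, nat_lit 7, nat_lit 9] (BT.pln (nat_lit 0) (nat_lit 5) (BT.frm (nat_lit 0) (nat_lit 0x711330e1b) (nat_lit 0x711330e1b) [nat_lit 9, nat_lit 11] (BT.pln (nat_lit 0) (nat_lit 2) (BT.frm (nat_lit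 1) (nat_lit 0x15180d18120711330e1b) (nat_lit 0x110d18120711330e1b) [nat_lit 8, nat_lit 4, nat_lit 11, nat_lit 13] (BT.pln (nat_lit 0) (nat_lit 8) (BT.and (nat_lit 2) (nat_lit 0) (BT.img (nat_lit 1) (nat_lit 3) (BT.dif (nat_lit 0) (nat_lit 4) (BT.pln (nat_lit 4) (nat_lit 6) (BT.and (nat_lit 1) (nat_lit 0) (BT.img (nat_lit 1) (nat_lit 4) (BT.and (nat_lit 1) (nat_lit 0) (BT.img (nat_lit 1) (nat_lit 0) (BT.and (nat_lit 7) (nat_lit 0) (BT.img (nat_lit 1) (nat_lit 0) (BT.and (nat_lit 14) (nat_lit 0) (BT.cnt (nat_lit 0))))))))))))))))))))))) (BT.dead (nat_lit 233) (BT.img (nat_lit 1) (nat_lit 0) (BT.img (nat_lit 1) (nat_lit 0) (BT.dif (nat_lit 8) (nat_lit 5) (BT.dif (nat_lit 0) (nat_lit 8) (BT.frm (nat_lit 2) (nat_lit 0x1715180d18120711330e1b) (nat_lit 0x170d18120711330e1b) [nat_lit 2, nat_lit 4, nat_lit 0, nat_lit 7, nat_lit 9] (BT.pln (nat_lit 0) (nat_lit 5) (BT.frm (nat_lit 0) (nat_lit 0x711330e1b) (nat_lit 0x711330e1b) [nat_lit 9, nat_lit 11] (BT.pln (nat_lit 0) (nat_lit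 2) (BT.frm (nat_lit 1) (nat_lit 0x15180d18120711330e1b) (nat_lit 0xd18120711330e1b) [nat_lit 8, nat_lit 4, nat_lit 11, nat_lit 13] (BT.pln (nat_lit 0) (nat_lit 8) (BT.and (nat_lit 2) (nat_lit 0) (BT.img (nat_lit 1) (nat_lit 3) (BT.dif (nat_lit 0) (nat_lit 4) (BT.pln (nat_lit 4) (nat_lit 6) (BT.and (nat_lit 1) (nat_lit 0) (BT.img (nat_lit 1) (nat_lit 4) (BT.and (nat_lit 1) (nat_lit 0) (BT.img (nat_lit 1) (nat_lit 0) (BT.and (nat_lit 7) (nat_lit 0) (BT.img (nat_lit 1) (nat_lit 0) (BT.and (nat_lit 14) (nat_lit 0) (BT.cnt (nat_lit 0))))))))))))))))))))))) (BT.dead (nat_lit 256) (BT.dif (nat_lit 6) (nat_lit 3) (BT.dif (nat_lit 0) (nat_lit 6) (BT.frm (nat_lit 1) (nat_lit 0x15180d18120711330e1b) (nat_lit 0x15140d18120711330e1b) [nat_lit 2, nat_lit 0, nat_lit 5, nat_lit 7] (BT.pln (nat_lit 0) (nat_lit 17) (BT.img (nat_lit 1) (nat_lit 4) (BT.and (nat_lit 1) (nat_lit 0) (BT.cnt (nat_lit 0)))))))) (BT.dead (nat_lit 116) (BT.dif (nat_lit 6) (nat_lit 3) (BT.dif (nat_lit 0) (nat_lit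 6) (BT.frm (nat_lit 1) (nat_lit 0x15180d18120711330e1b) (nat_lit 0x150d18120711330e1b) [nat_lit 2, nat_lit 0, nat_lit 5, nat_lit 7] (BT.pln (nat_lit 0) (nat_lit 17) (BT.img (nat_lit 1) (nat_lit 4) (BT.and (nat_lit 1) (nat_lit 0) (BT.cnt (nat_lit 0)))))))) (BT.kid (nat_lit 47) (nat_lit 4) (BT.frm (nat_lit 0) (nat_lit 0x711330e1b) (nat_lit 0x711330e1b) [nat_lit 3, nat_lit 5] (BT.pln (nat_lit 0) (nat_lit 4) (BT.dif (nat_lit 0) (nat_lit 4) (BT.dif (nat_lit 9) (nat_lit 6) (BT.dif (nat_lit 0) (nat_lit 9) (BT.frm (nat_lit 1) (nat_lit 0x15180d18120711330e1b) (nat_lit 0x15180d18120711330e1b) [nat_lit 5, nat_lit 0, nat_lit 8, nat_lit 10] (BT.pln (nat_lit 0) (nat_lit 9) (BT.dif (nat_lit 4) (nat_lit 0) (BT.img (nat_lit 1) (nat_lit 8) (BT.img (nat_lit 1) (nat_lit 0) (BT.frm (nat_lit 3) (nat_lit 0x31715180d18120711330e1b) (nat_lit 0x31715180d18120711330e1b) [nat_lit 1, nat_lit 0, nat_lit 10, nat_lit 5, nat_lit 13, nat_lit 15] (BT.pln (nat_lit 0) (nat_lit 11) (BT.and (nat_lit 4) (nat_lit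 0) (BT.br (nat_lit 0) (nat_lit 129) [nat_lit 5] (BT.kid (nat_lit 129) (nat_lit 2) (BT.dif (nat_lit 23) (nat_lit 2) (BT.pln (nat_lit 4) (nat_lit 8) (BT.and (nat_lit 1) (nat_lit 0) (BT.pln (nat_lit 6) (nat_lit 6) (BT.dif (nat_lit 1) (nat_lit 0) (BT.pln (nat_lit 8) (nat_lit 7) (BT.and (nat_lit 1) (nat_lit 0) (BT.pln (nat_lit 10) (nat_lit 9) (BT.dif (nat_lit 1) (nat_lit 0) (BT.pln (nat_lit 12) (nat_lit 10) (BT.dif (nat_lit 1) (nat_lit 0) (BT.pln (nat_lit 14) (nat_lit 12) (BT.dif (nat_lit 1) (nat_lit 0) (BT.frm (nat_lit 4) (nat_lit 0x31715180d18120711330e1b) (nat_lit 0x31715180d18120711330e1b) [nat_lit 13, nat_lit 18, nat_lit 17, nat_lit 27, nat_lit 22, nat_lit 30, nat_lit 32] (BT.pln (nat_lit 0) (nat_lit 9) (BT.dif (nat_lit 2) (nat_lit 0) (BT.img (nat_lit 1) (nat_lit 16) (BT.frm (nat_lit 5) (nat_lit 0x31715180d18120711330e1b) (nat_lit 0x31715180d18120711330e1b) [nat_lit 0, nat_lit 17, nat_lit 22, nat_lit 21, nat_lit 31, nat_lit 26, nat_lit 34, nat_lit 36] (BT.pln (nat_lit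 0) (nat_lit 9) (BT.dif (nat_lit 3) (nat_lit 0) (BT.br (nat_lit 0) (nat_lit 149) [nat_lit 7] (BT.kid (nat_lit 149) (nat_lit 1) (BT.one (nat_lit 6) (nat_lit 0x27031715180d18120711330e1b) (nat_lit 0x27031715180d18120711330e1b) [nat_lit 0, nat_lit 4, nat_lit 21, nat_lit 26, nat_lit 25, nat_lit 35, nat_lit 30, nat_lit 38, nat_lit 40]) BT.nil)))))))))))))))))))))) BT.nil))))))))))))))) BT.nil))))))))) BT.nil)))))

theorem ot_c33_cnt : Cnt 351 (grp 351 o_O) [o_g490] [o_g490] 0 0 0 0 16 :=
  BT.sound ot_c33_cnt_P Known.nil (t := ot_c33_cnt_t) (d := 0) (by decide +kernel)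

theorem ot_c33_ge : 16 ≤ Nat.card (grp 351 ot_c33_K) :=
  Ch.le_card_grp (k := 9) (L := (lab 351 9)) o_hn ot_c33_K_ok (c := (Ch.cons (nat_lit 76) [nat_lit 1] (Ch.cons (nat_lit 47) [nat_lit 3] (Ch.cons (nat_lit 129) [nat_lit 5] (Ch.cons (nat_lit 149) [nat_lit 7] Ch.nil))))) (by decide +kernel)

theorem ot_c33_eq : (grp 351 o_O) ⊓ Subgroup.centralizer {Net.toPerm 351 o_g490} = grp 351 ot_c33_K :=
  cent_eq ot_c33_sym ot_c33_cnt ot_c33_ge

theorem ot_c33_card : Nat.card ↥((grp 351 o_O) ⊓ Subgroup.centralizer {Net.toPerm 351 o_g490}) = 16 :=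
  card_cent ot_c33_sym ot_c33_cnt ot_c33_ge

theorem ot_c33_ord : orderOf (Net.toPerm 351 o_g490) = 8 :=
  orderOf_net o_hn o_hk o_g490_ok (by decide) (ps := [2]) (by set_option linter.unusedSimpArgs false in simp [Nat.primeFactorsList_ofNat]) (by decide +kernel)

theorem o_le498 : grp 351 ot_c34_K ≤ grp 351 o_lb_E :=
  grp_le_of_memB o_hn o_hk o_lb_E_ok ot_c34_K_ok (ws := [nat_lit 0x433b372825221d3f111524051e05, nat_lit 0x433b312721241d2520172016011a1d, nat_lit 0x3b313925281d24112501161120, nat_lit 0x4543313927111129]) (by decide +kernel)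

theorem ot_c34_le : grp 351 ot_c34_K ≤ (grp 351 o_O) :=
  (o_le498.trans o_T76_s0.le)

theorem ot_c34_mem : Net.toPerm 351 o_g494 ∈ (grp 351 o_O) :=
  ot_c34_le (toPerm_mem_grp (E := ot_c34_K) (List.Mem.head _))

theorem ot_c34_sym : Sym 351 (grp 351 o_O) [o_g494] ot_c34_K 0 :=
  Sym.of_lab o_hn o_hk (okE_cons.2 ⟨o_g494_ok, okE_nil _⟩) ot_c34_K_ok ot_c34_le (kT := 0) (by decide +kernel)

noncomputable def ot_c34_cnt_L : List ℕ := [1, 2, o_T76_s1_O, 0, 0, 2, 5, o_T76_s8_O, 0, 0, 4, 20, o_T76_s10_O, 0, 0, 5, 11, o_T76_s11_O, 0, 0, 6, 13, o_T76_s12_O, 0, 0, 8, 17, o_T76_s14_O, 1, 0]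

theorem ot_c34_cnt_P : Prob 351 9 (grp 351 o_O) ot_c34_cnt_EG [o_g494] [o_g494] ot_c34_K ot_c34_cnt_L 0 0 :=
  Sym.prob o_hn o_hk ot_c34_sym ot_c34_cnt_EG_ok (grp_cons_le o_b_o_T76 (grp_cons_le o_c_o_T76 (grp_cons_le o_d_o_T76 (grp_cons_le o_e_o_T76 (grp_cons_le o_f_o_T76 (grp_cons_le o_g_o_T76 (grp_cons_le o_h_o_T76 (grp_cons_le o_i_o_T76 (grp_cons_le o_g1_o_T76 (grp_cons_le o_g2_o_T76 (grp_cons_le o_g3_o_T76 (grp_cons_le o_g4_o_T76 (grp_cons_le o_g5_o_T76 (grp_cons_le o_g8_o_T76 (grp_cons_le o_g9_o_T76 (grp_cons_le o_g12_o_T76 (grp_cons_le o_g13_o_T76 (grp_cons_le o_g14_o_T76 (grp_cons_le o_g17_o_T76 (grp_cons_le o_g18_o_T76 (grp_cons_le o_g19_o_T76 (grp_cons_le o_g20_o_T76 (grp_cons_le o_g23_o_T76 (grp_cons_le o_g24_o_T76 (grp_cons_le o_g25_o_T76 (grp_cons_le o_g26_o_T76 (grp_cons_le o_g27_o_T76 (grp_cons_le o_g30_o_T76 (grp_cons_le o_g31_o_T76 (grp_cons_le o_g32_o_T76 (grp_cons_le o_g35_o_T76 (grp_cons_le o_g117_o_T76 (grp_nil_le _)))))))))))))))))))))))))))))))))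 (Frames.cons o_T76_s1_F (Frames.cons o_T76_s8_F (Frames.cons o_T76_s10_F (Frames.cons o_T76_s11_F (Frames.cons o_T76_s12_F (Frames.cons o_T76_s14_F Frames.nil)))))) (okE_cons.2 ⟨o_g494_ok, okE_nil _⟩) _

noncomputable def ot_c34_cnt_t : BT := (BT.fix (nat_lit 257) (BT.fix (nat_lit 1) (BT.dif (nat_lit 1) (nat_lit 0) (BT.br (nat_lit 0) (nat_lit 73) [nat_lit 1] (BT.kid (nat_lit 73) (nat_lit 8) (BT.fix (nat_lit 0x1010101) (BT.dif (nat_lit 0) (nat_lit 4) (BT.br (nat_lit 0) (nat_lit 21) [nat_lit 3] (BT.dead (nat_lit 234) (BT.img (nat_lit 1) (nat_lit 0) (BT.dif (nat_lit 7) (nat_lit 4) (BT.dif (nat_lit 0) (nat_lit 7) (BT.frm (nat_lit 3) (nat_lit 0x232b1b2411261801050d2a) (nat_lit 0x23201b2411261801050d2a) [nat_lit 2, nat_lit 3, nat_lit 0, nat_lit 6, nat_lit 8] (BT.pln (nat_lit 0) (nat_lit 5) (BT.img (nat_lit 1) (nat_lit 4) (BT.and (nat_lit 1) (nat_lit 0) (BT.cnt (nat_lit 0))))))))) (BT.dead (nat_lit 98) (BT.dif (nat_lit 6) (nat_lit 3) (BT.dif (nat_lit 0) (nat_lit 6) (BT.frm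 (nat_lit 2) (nat_lit 0x232b1b2411261801050d2a) (nat_lit 0x1f211b2411261801050d2a) [nat_lit 2, nat_lit 0, nat_lit 5, nat_lit 7] (BT.pln (nat_lit 0) (nat_lit 17) (BT.img (nat_lit 1) (nat_lit 4) (BT.and (nat_lit 1) (nat_lit 0) (BT.cnt (nat_lit 0)))))))) (BT.dead (nat_lit 61) (BT.dif (nat_lit 6) (nat_lit 3) (BT.dif (nat_lit 0) (nat_lit 6) (BT.frm (nat_lit 2) (nat_lit 0x232b1b2411261801050d2a) (nat_lit 0x233b1b2411261801050d2a) [nat_lit 2, nat_lit 0, nat_lit 5, nat_lit 7] (BT.pln (nat_lit 0) (nat_lit 17) (BT.img (nat_lit 1) (nat_lit 4) (BT.and (nat_lit 1) (nat_lit 0) (BT.cnt (nat_lit 0)))))))) (BT.dead (nat_lit 77) (BT.dif (nat_lit 6) (nat_lit 3) (BT.dif (nat_lit 0) (nat_lit 6) (BT.frm (nat_lit 2) (nat_lit 0x232b1b2411261801050d2a) (nat_lit 0x1f1b2411261801050d2a) [nat_lit 2, nat_lit 0, nat_lit 5, nat_lit 7] (BT.pln (nat_lit 0) (nat_lit 17) (BT.img (nat_lit 1) (nat_lit 4) (BT.and (nat_lit 1) (nat_lit 0) (BT.cnt (nat_lit 0)))))))) (BT.dead (nat_lit 37) (BT.dif (nat_lit 6)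 (nat_lit 3) (BT.dif (nat_lit 0) (nat_lit 6) (BT.frm (nat_lit 2) (nat_lit 0x232b1b2411261801050d2a) (nat_lit 0x241b2411261801050d2a) [nat_lit 2, nat_lit 0, nat_lit 5, nat_lit 7] (BT.pln (nat_lit 0) (nat_lit 17) (BT.img (nat_lit 1) (nat_lit 4) (BT.and (nat_lit 1) (nat_lit 0) (BT.cnt (nat_lit 0)))))))) (BT.kid (nat_lit 21) (nat_lit 4) (BT.frm (nat_lit 0) (nat_lit 0x1050d2a) (nat_lit 0x1050d2a) [nat_lit 5] (BT.pln (nat_lit 0) (nat_lit 1) (BT.dif (nat_lit 8) (nat_lit 5) (BT.dif (nat_lit 0) (nat_lit 8) (BT.frm (nat_lit 2) (nat_lit 0x232b1b2411261801050d2a) (nat_lit 0x232b1b2411261801050d2a) [nat_lit 4, nat_lit 0, nat_lit 7, nat_lit 9] (BT.pln (nat_lit 0) (nat_lit 7) (BT.and (nat_lit 4) (nat_lit 0) (BT.pln (nat_lit 2) (nat_lit 5) (BT.and (nat_lit 6) (nat_lit 0) (BT.img (nat_lit 1) (nat_lit 0) (BT.dif (nat_lit 3) (nat_lit 0) (BT.br (nat_lit 0) (nat_lit 149) [nat_lit 5] (BT.dead (nat_lit 141) (BT.dif (nat_lit 21) (nat_lit 10) (BT.frm (nat_lit 1) (nat_lit 0x11261801050d2a) (nat_lit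 0x11261801050d2a) [nat_lit 16, nat_lit 18] (BT.pln (nat_lit 0) (nat_lit 2) (BT.dif (nat_lit 2) (nat_lit 0) (BT.img (nat_lit 1) (nat_lit 1) (BT.dif (nat_lit 1) (nat_lit 0) (BT.img (nat_lit 1) (nat_lit 18) (BT.frm (nat_lit 4) (nat_lit 0x2d232b1b2411261801050d2a) (nat_lit 0x232b1b2411261801050d2a) [nat_lit 7, nat_lit 0, nat_lit 19, nat_lit 15, nat_lit 22, nat_lit 24] (BT.pln (nat_lit 0) (nat_lit 9) (BT.and (nat_lit 3) (nat_lit 0) (BT.pln (nat_lit 2) (nat_lit 7) (BT.dif (nat_lit 1) (nat_lit 0) (BT.pln (nat_lit 4) (nat_lit 6) (BT.dif (nat_lit 1) (nat_lit 0) (BT.pln (nat_lit 6) (nat_lit 8) (BT.and (nat_lit 9) (nat_lit 0) (BT.dif (nat_lit 0) (nat_lit 3) (BT.pln (nat_lit 9) (nat_lit 10) (BT.dif (nat_lit 1) (nat_lit 0) (BT.and (nat_lit 9) (nat_lit 8) (BT.pln (nat_lit 12) (nat_lit 11) (BT.dif (nat_lit 1) (nat_lit 0) (BT.dif (nat_lit 0) (nat_lit 9) (BT.and (nat_lit 17) (nat_lit 10) (BT.and (nat_lit 0) (nat_lit 13) (BT.dif (nat_lit 0) (nat_lit 10) (BT.dif (nat_lit 0) (nat_lit 17)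 (BT.dif (nat_lit 0) (nat_lit 9) (BT.pln (nat_lit 20) (nat_lit 12) (BT.dif (nat_lit 1) (nat_lit 0) (BT.img (nat_lit 1) (nat_lit 7) (BT.and (nat_lit 1) (nat_lit 0) (BT.img (nat_lit 1) (nat_lit 0) (BT.and (nat_lit 10) (nat_lit 0) (BT.img (nat_lit 1) (nat_lit 0) (BT.and (nat_lit 16) (nat_lit 0) (BT.img (nat_lit 1) (nat_lit 0) (BT.and (nat_lit 23) (nat_lit 0) (BT.br (nat_lit 0) (nat_lit 264) [nat_lit 7] (BT.dead (nat_lit 348) (BT.dif (nat_lit 53) (nat_lit 54) (BT.dif (nat_lit 0) (nat_lit 52) (BT.dif (nat_lit 0) (nat_lit 34) (BT.dif (nat_lit 0) (nat_lit 60) (BT.img (nat_lit 1) (nat_lit 36) (BT.dif (nat_lit 1) (nat_lit 0) (BT.img (nat_lit 1) (nat_lit 1) (BT.dif (nat_lit 1) (nat_lit 0) (BT.dif (nat_lit 0) (nat_lit 32) (BT.and (nat_lit 62) (nat_lit 33) (BT.img (nat_lit 1) (nat_lit 0) (BT.dif (nat_lit 2) (nat_lit 0) (BT.and (nat_lit 3) (nat_lit 1) (BT.img (nat_lit 1) (nat_lit 0) (BT.dif (nat_lit 2) (nat_lit 0) (BT.frm (nat_lit 5) (nat_lit 0x30b2d232b1b2411261801050d2a) (nat_lit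 0x3232b1b2411261801050d2a) [nat_lit 15, nat_lit 0, nat_lit 54, nat_lit 47, nat_lit 66, nat_lit 62, nat_lit 69, nat_lit 71] (BT.pln (nat_lit 0) (nat_lit 9) (BT.img (nat_lit 1) (nat_lit 17) (BT.img (nat_lit 1) (nat_lit 0) (BT.img (nat_lit 1) (nat_lit 0) (BT.img (nat_lit 1) (nat_lit 0) (BT.img (nat_lit 1) (nat_lit 0) (BT.and (nat_lit 5) (nat_lit 0) (BT.cnt (nat_lit 0))))))))))))))))))))))))) BT.nil)))))))))))))))))))))))))))))))))))))))) (BT.dead (nat_lit 258) (BT.img (nat_lit 1) (nat_lit 12) (BT.frm (nat_lit 4) (nat_lit 0x2d232b1b2411261801050d2a) (nat_lit 0x2d35232b1b2411261801050d2a) [nat_lit 1, nat_lit 0, nat_lit 13, nat_lit 9, nat_lit 16, nat_lit 18] (BT.pln (nat_lit 0) (nat_lit 6) (BT.img (nat_lit 1) (nat_lit 3) (BT.and (nat_lit 1) (nat_lit 0) (BT.cnt (nat_lit 0))))))) (BT.dead (nat_lit 339) (BT.img (nat_lit 1) (nat_lit 12) (BT.frm (nat_lit 4) (nat_lit 0x2d232b1b2411261801050d2a) (nat_lit 0x35232b1b2411261801050d2a) [nat_lit 1, nat_lit 0, nat_lit 13, nat_lit 9, nat_lit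 16, nat_lit 18] (BT.pln (nat_lit 0) (nat_lit 6) (BT.img (nat_lit 1) (nat_lit 3) (BT.and (nat_lit 1) (nat_lit 0) (BT.cnt (nat_lit 0))))))) (BT.kid (nat_lit 149) (nat_lit 2) (BT.dif (nat_lit 21) (nat_lit 10) (BT.frm (nat_lit 1) (nat_lit 0x11261801050d2a) (nat_lit 0x11261801050d2a) [nat_lit 16, nat_lit 18] (BT.pln (nat_lit 0) (nat_lit 2) (BT.dif (nat_lit 2) (nat_lit 0) (BT.img (nat_lit 1) (nat_lit 1) (BT.dif (nat_lit 1) (nat_lit 0) (BT.img (nat_lit 1) (nat_lit 18) (BT.frm (nat_lit 4) (nat_lit 0x2d232b1b2411261801050d2a) (nat_lit 0x2d232b1b2411261801050d2a) [nat_lit 7, nat_lit 0, nat_lit 19, nat_lit 15, nat_lit 22, nat_lit 24] (BT.pln (nat_lit 0) (nat_lit 9) (BT.and (nat_lit 3) (nat_lit 0) (BT.pln (nat_lit 2) (nat_lit 7) (BT.dif (nat_lit 1) (nat_lit 0) (BT.pln (nat_lit 4) (nat_lit 6) (BT.dif (nat_lit 1) (nat_lit 0) (BT.pln (nat_lit 6) (nat_lit 8) (BT.and (nat_lit 9) (nat_lit 0) (BT.dif (nat_lit 0) (nat_lit 3) (BT.pln (nat_lit 9) (nat_lit 10) (BT.dif (nat_lit 1) (nat_lit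 0) (BT.and (nat_lit 9) (nat_lit 8) (BT.pln (nat_lit 12) (nat_lit 11) (BT.dif (nat_lit 1) (nat_lit 0) (BT.dif (nat_lit 0) (nat_lit 9) (BT.and (nat_lit 17) (nat_lit 10) (BT.and (nat_lit 0) (nat_lit 13) (BT.dif (nat_lit 0) (nat_lit 10) (BT.dif (nat_lit 0) (nat_lit 17) (BT.dif (nat_lit 0) (nat_lit 9) (BT.pln (nat_lit 20) (nat_lit 12) (BT.dif (nat_lit 1) (nat_lit 0) (BT.img (nat_lit 1) (nat_lit 7) (BT.and (nat_lit 1) (nat_lit 0) (BT.img (nat_lit 1) (nat_lit 0) (BT.and (nat_lit 10) (nat_lit 0) (BT.img (nat_lit 1) (nat_lit 0) (BT.and (nat_lit 16) (nat_lit 0) (BT.img (nat_lit 1) (nat_lit 0) (BT.and (nat_lit 23) (nat_lit 0) (BT.br (nat_lit 0) (nat_lit 264) [nat_lit 7] (BT.kid (nat_lit 264) (nat_lit 1) (BT.dif (nat_lit 53) (nat_lit 54) (BT.dif (nat_lit 0) (nat_lit 52) (BT.dif (nat_lit 0) (nat_lit 34) (BT.dif (nat_lit 0) (nat_lit 60) (BT.img (nat_lit 1) (nat_lit 36) (BT.dif (nat_lit 1) (nat_lit 0) (BT.img (nat_lit 1) (nat_lit 1) (BT.dif (nat_lit 1) (nat_lit 0) (BT.dif (nat_lit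 0) (nat_lit 32) (BT.and (nat_lit 62) (nat_lit 33) (BT.img (nat_lit 1) (nat_lit 0) (BT.dif (nat_lit 2) (nat_lit 0) (BT.and (nat_lit 3) (nat_lit 1) (BT.img (nat_lit 1) (nat_lit 0) (BT.dif (nat_lit 2) (nat_lit 0) (BT.one (nat_lit 5) (nat_lit 0x30b2d232b1b2411261801050d2a) (nat_lit 0x30b2d232b1b2411261801050d2a) [nat_lit 15, nat_lit 0, nat_lit 54, nat_lit 47, nat_lit 66, nat_lit 62, nat_lit 69, nat_lit 71])))))))))))))))) BT.nil)))))))))))))))))))))))))))))))))))))))) BT.nil)))))))))))))))) BT.nil))))))))) BT.nil)))))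

theorem ot_c34_cnt : Cnt 351 (grp 351 o_O) [o_g494] [o_g494] 0 0 0 0 16 :=
  BT.sound ot_c34_cnt_P Known.nil (t := ot_c34_cnt_t) (d := 0) (by decide +kernel)

theorem ot_c34_ge : 16 ≤ Nat.card (grp 351 ot_c34_K) :=
  Ch.le_card_grp (k := 9) (L := (lab 351 9)) o_hn ot_c34_K_ok (c := (Ch.cons (nat_lit 73) [nat_lit 1] (Ch.cons (nat_lit 21) [nat_lit 3] (Ch.cons (nat_lit 149) [nat_lit 5] (Ch.cons (nat_lit 264) [nat_lit 7] Ch.nil))))) (by decide +kernel)

theorem ot_c34_eq : (grp 351 o_O) ⊓ Subgroup.centralizer {Net.toPerm 351 o_g494} = grp 351 ot_c34_K :=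
  cent_eq ot_c34_sym ot_c34_cnt ot_c34_ge

theorem ot_c34_card : Nat.card ↥((grp 351 o_O) ⊓ Subgroup.centralizer {Net.toPerm 351 o_g494}) = 16 :=
  card_cent ot_c34_sym ot_c34_cnt ot_c34_ge

theorem ot_c34_ord : orderOf (Net.toPerm 351 o_g494) = 8 :=
  orderOf_net o_hn o_hk o_g494_ok (by decide) (ps := [2]) (by set_option linter.unusedSimpArgs false in simp [Nat.primeFactorsList_ofNat]) (by decide +kernel)

theorem o_le504 : grp 351 ot_c35_K ≤ grp 351 o_lb_E :=
  grp_le_of_memB o_hn o_hk o_lb_E_ok ot_c35_K_ok (ws := [nat_lit 0x453b3927261e22191601031a, nat_lit 0x433b3728251d241e192205250d, nat_lit 0x432f2725221d281d112717053905, nat_lit 0x4531392725221d241f171f011e3f, nat_lit 0x45433b31392725211d281d1901031a]) (by decide +kernel)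

theorem ot_c35_le : grp 351 ot_c35_K ≤ (grp 351 o_O) :=
  (o_le504.trans o_T76_s0.le)

theorem ot_c35_mem : Net.toPerm 351 o_g499 ∈ (grp 351 o_O) :=
  ot_c35_le (toPerm_mem_grp (E := ot_c35_K) (List.Mem.tail _ (List.Mem.head _)))

theorem ot_c35_sym : Sym 351 (grp 351 o_O) [o_g499] ot_c35_K 0 :=
  Sym.of_lab o_hn o_hk (okE_cons.2 ⟨o_g499_ok, okE_nil _⟩) ot_c35_K_ok ot_c35_le (kT := 0) (by decide +kernel)

theorem o_le508 : grp 351 o_V507 ≤ grp 351 o_V155 :=
  grp_le_of_memB o_hn o_hk o_V155_ok o_V507_ok (ws := [nat_lit 1284, nat_lit 459012]) (by decide +kernel)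

theorem o_T76_s94 : Stab 351 (grp 351 o_O) [nat_lit 65, nat_lit 176, nat_lit 252, nat_lit 187, nat_lit 0] o_V507 6 :=
  Stab.step (k := 9) (L := (lab 351 9)) o_hn o_T76_s20 o_V507_ok o_le508 (c := (Ch.cons (nat_lit 247) [nat_lit 1] (Ch.cons (nat_lit 147) [nat_lit 3] Ch.nil))) (by decide +kernel)

theorem o_T76_s95 : Stab 351 (grp 351 o_O) [nat_lit 247, nat_lit 65, nat_lit 176, nat_lit 252, nat_lit 187, nat_lit 0] o_V509 2 :=
  Stab.step (k := 9) (L := (lab 351 9)) o_hn o_T76_s94 o_V509_ok (grp_mono (List.subset_append_right [o_g505] _)) (c := (Ch.cons (nat_lit 147) [nat_lit 1] Ch.nil)) (by decide +kernel)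

theorem o_T76_s96 : Stab 351 (grp 351 o_O) [nat_lit 147, nat_lit 247, nat_lit 65, nat_lit 176, nat_lit 252, nat_lit 187, nat_lit 0] o_V510 1 :=
  Stab.step (k := 9) (L := (lab 351 9)) o_hn o_T76_s95 o_V510_ok (grp_mono (List.subset_append_right [o_g506] _)) (c := Ch.nil) (by decide +kernel)

theorem o_g506_o_T76 : Net.toPerm 351 o_g506 ∈ (grp 351 o_O) :=
  o_T76_s95.le (toPerm_mem_grp (E := o_V509) (List.Mem.head _))

theorem o_g505_o_T76 : Net.toPerm 351 o_g505 ∈ (grp 351 o_O) :=
  o_T76_s94.le (toPerm_mem_grp (E := o_V507) (List.Mem.head _))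

noncomputable def o_T76_s96_O : ℕ := (nat_lit 0xfffffffffffffffffffffffe0000000000000000000000000000000000000000000000000000000000000000000000000000000000000003fffffffffffffffffffffffffffffffc00000000000000000000000000000003fffffff80000000000000007fffffffffffffff80000000000000007fffffffffffffff800000000000000000000000ffffffff00000000ffffffff00000000ffffffff00000000ffffffff00000000ffffffff00000000fffe0001fffe0001fffe0001fffe0001fffe0001fffe0001fffe0001fffe0001fffe0001fffe0001fffe0001fc03fc03fc03fc03fc03fc03fc03fc03fc03fc03fc03fc03fc03fc03fc03fc03fc03fc03fc03fc03fc03fc038787878787878787878787878787878787878787878787878787878787878787878787878787878787878784ccccccccccccccccccccccccccccccccccccccccccccccccccccccccccccccccccccccccccccccccccccccc555555555555555555555555555555555555555555555555555555555555555555555555555555555555555400000000000000000000000000000000000000000000000000000000000000000000000000000000000000040000000000000000000000000000000000000000400000000000000000000000000000000000000000000000000000000000000000000001000000000000000000000000000000000000000000000000000000000000000000000000000000000000000000000000000000000020000000000000000000000000000000000000000000000000000000000000000000000000000000000000000000000000000000000000000000800000000000000000000000000000000000000000400000000000000000000000000000000000000000000000000000000000000000000000000000000000000000000000000000000000000008000000000000000000000000000000000000)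

theorem o_T76_s96_F : Frame 351 (grp 351 o_O) 7 16 o_T76_s96_O 1 1 :=
  IsBase.frame o_T76_s96.isBase (by decide +kernel)

noncomputable def o_T76_s94_O : ℕ := (nat_lit 0x8000302000000000000000000000000000000000000000000000000000000000000000000000000000000010b4000a1fa62fa594daea21d1b4f0122a17a254cc5063a51d5706eac969f0390500000200024000018000008c81020000742245ca0c4b0e0062048301210076065152ac6b1c40aa74370fafafdfbfe69df27e0000000000739056485ccc64aab60bd2af71c6dc6ffa7f8b723904d528020080048a4011134bbf2f80800901e7f7ee3000e1daf8bcf9392d74613154600e4c588f5f40010211cc17b9eff05679d4005407d6d0a08b679203cddc201fc4485541880ea75f1730917f509f37b4a81d722244124569fdf40c504e5af8710d225fa19fc0ff07947ee03c1127a6aa47b6541256d389bab294a612682d78123d332393f243cfe69cc36ee0f898b4b33039699ed48eb067337b8f8aecb94c74fa21a6e554c468601d30bbc2a18c293913856b5e25d338c9ee6b47560aab8ab335d756a40000000000000000000000000000000000000000000000000000000000000000000000000000000000000001000000000000000000000000000000000000000010000000000000000000000000000000000000000000000000000000000000000000000040000000000000000000000000000000000000000000000000000000000000000000000000000000000000000000000000000000000800000000000000000000000000000000000000000000000000000000000000000000000000000000000000000000000000000000000000000020000000000000000)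

theorem o_T76_s94_F : Frame 351 (grp 351 o_O) 5 13 o_T76_s94_O 0 1 :=
  Stab.frame o_hn o_T76_s94 (by decide +kernel)

noncomputable def ot_c35_cnt_L : List ℕ := [1, 2, o_T76_s1_O, 0, 0, 2, 7, o_T76_s2_O, 0, 0, 3, 8, o_T76_s3_O, 0, 0, 4, 10, o_T76_s20_O, 0, 0, 5, 13, o_T76_s94_O, 0, 0, 7, 16, o_T76_s96_O, 1, 0]

theorem ot_c35_cnt_P : Prob 351 9 (grp 351 o_O) ot_c35_cnt_EG [o_g499] [o_g499] ot_c35_K ot_c35_cnt_L 0 0 :=
  Sym.prob o_hn o_hk ot_c35_sym ot_c35_cnt_EG_ok (grp_cons_le o_b_o_T76 (grp_cons_le o_c_o_T76 (grp_cons_le o_d_o_T76 (grp_cons_le o_e_o_T76 (grp_cons_le o_f_o_T76 (grp_cons_le o_g_o_T76 (grp_cons_le o_h_o_T76 (grp_cons_le o_i_o_T76 (grp_cons_le o_g1_o_T76 (grp_cons_le o_g2_o_T76 (grp_cons_le o_g3_o_T76 (grp_cons_le o_g4_o_T76 (grp_cons_le o_g5_o_T76 (grp_cons_le o_g8_o_T76 (grp_cons_le o_g9_o_T76 (grp_cons_le o_g12_o_T76 (grp_cons_le o_g13_o_T76 (grp_cons_le o_g14_o_T76 (grp_cons_le o_g17_o_T76 (grp_cons_le o_g18_o_T76 (grp_cons_le o_g19_o_T76 (grp_cons_le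 o_g20_o_T76 (grp_cons_le o_g23_o_T76 (grp_cons_le o_g24_o_T76 (grp_cons_le o_g25_o_T76 (grp_cons_le o_g26_o_T76 (grp_cons_le o_g27_o_T76 (grp_cons_le o_g30_o_T76 (grp_cons_le o_g31_o_T76 (grp_cons_le o_g32_o_T76 (grp_cons_le o_g35_o_T76 (grp_cons_le o_g88_o_T76 (grp_cons_le o_g89_o_T76 (grp_cons_le o_g90_o_T76 (grp_cons_le o_g91_o_T76 (grp_cons_le o_g92_o_T76 (grp_cons_le o_g93_o_T76 (grp_cons_le o_g94_o_T76 (grp_cons_le o_g152_o_T76 (grp_cons_le o_g153_o_T76 (grp_cons_le o_g154_o_T76 (grp_cons_le o_g506_o_T76 (grp_cons_le o_g505_o_T76 (grp_nil_le _)))))))))))))))))))))))))))))))))))))))))))) (Frames.cons o_T76_s1_F (Frames.cons o_T76_s2_F (Frames.cons o_T76_s3_F (Frames.cons o_T76_s20_F (Frames.cons o_T76_s94_F (Frames.cons o_T76_s96_F Frames.nil)))))) (okE_cons.2 ⟨o_g499_ok, okE_nil _⟩) _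

noncomputable def ot_c35_cnt_t : BT := (BT.fix (nat_lit 1) (BT.br (nat_lit 0) (nat_lit 135) [nat_lit 1, nat_lit 9] (BT.dead (nat_lit 227) (BT.fix (nat_lit 65793) (BT.frm (nat_lit 0) (nat_lit 0x1050709) (nat_lit 72721) [nat_lit 1] (BT.pln (nat_lit 0) (nat_lit 1) (BT.dif (nat_lit 2) (nat_lit 0) (BT.dif (nat_lit 0) (nat_lit 5) (BT.br (nat_lit 0) (nat_lit 20) [nat_lit 657156] (BT.dead (nat_lit 32) (BT.img (nat_lit 1) (nat_lit 0) (BT.frm (nat_lit 2) (nat_lit 0x3f41451b01050709) (nat_lit 0x3f3f47431c29011c11) [nat_lit 0, nat_lit 1, nat_lit 7] (BT.pln (nat_lit 0) (nat_lit 3) (BT.and (nat_lit 0) (nat_lit 10) (BT.cnt (nat_lit 0)))))) BT.nil))))))) (BT.kid (nat_lit 135) (nat_lit 108) (BT.fix (nat_lit 65793) (BT.frm (nat_lit 0) (nat_lit 0x1050709) (nat_lit 0x1050709) [nat_lit 1] (BT.pln (nat_lit 0) (nat_lit 1) (BT.dif (nat_lit 2) (nat_lit 0) (BT.dif (nat_lit 0) (nat_lit 5) (BT.br (nat_lit 0) (nat_lit 20) [nat_lit 5] (BT.kid (nat_lit 20) (nat_lit 18) (BT.dif (nat_lit 10) (nat_lit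 3) (BT.img (nat_lit 1) (nat_lit 1) (BT.frm (nat_lit 2) (nat_lit 0x3f41451b01050709) (nat_lit 0x3f41451b01050709) [nat_lit 0, nat_lit 2, nat_lit 8] (BT.pln (nat_lit 0) (nat_lit 4) (BT.dif (nat_lit 3) (nat_lit 0) (BT.pln (nat_lit 2) (nat_lit 3) (BT.dif (nat_lit 1) (nat_lit 0) (BT.dif (nat_lit 0) (nat_lit 12) (BT.br (nat_lit 0) (nat_lit 3) [nat_lit 7] (BT.dead (nat_lit 53) (BT.frm (nat_lit 1) (nat_lit 0x1b01050709) (nat_lit 0x1b01050709) [nat_lit 9, nat_lit 15] (BT.pln (nat_lit 0) (nat_lit 4) (BT.frm (nat_lit 3) (nat_lit 0x41493f41451b01050709) (nat_lit 0x42493f41451b01050709) [nat_lit 2, nat_lit 9, nat_lit 11, nat_lit 17] (BT.pln (nat_lit 0) (nat_lit 4) (BT.dif (nat_lit 2) (nat_lit 0) (BT.pln (nat_lit 2) (nat_lit 7) (BT.and (nat_lit 1) (nat_lit 0) (BT.pln (nat_lit 4) (nat_lit 5) (BT.dif (nat_lit 1) (nat_lit 0) (BT.and (nat_lit 13) (nat_lit 12) (BT.pln (nat_lit 16) (nat_lit 5) (BT.dif (nat_lit 1) (nat_lit 0) (BT.and (nat_lit 0) (nat_lit 6) (BT.img (nat_lit 1) (nat_lit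 0) (BT.and (nat_lit 5) (nat_lit 0) (BT.img (nat_lit 1) (nat_lit 0) (BT.and (nat_lit 0) (nat_lit 12) (BT.cnt (nat_lit 0))))))))))))))))))) (BT.dead (nat_lit 126) (BT.frm (nat_lit 1) (nat_lit 0x1b01050709) (nat_lit 0x1b01050709) [nat_lit 9, nat_lit 15] (BT.pln (nat_lit 0) (nat_lit 4) (BT.frm (nat_lit 3) (nat_lit 0x41493f41451b01050709) (nat_lit 0x443f41451b01050709) [nat_lit 2, nat_lit 9, nat_lit 11, nat_lit 17] (BT.pln (nat_lit 0) (nat_lit 4) (BT.dif (nat_lit 2) (nat_lit 0) (BT.pln (nat_lit 2) (nat_lit 7) (BT.and (nat_lit 1) (nat_lit 0) (BT.pln (nat_lit 4) (nat_lit 5) (BT.dif (nat_lit 1) (nat_lit 0) (BT.and (nat_lit 13) (nat_lit 12) (BT.pln (nat_lit 16) (nat_lit 5) (BT.dif (nat_lit 1) (nat_lit 0) (BT.and (nat_lit 0) (nat_lit 6) (BT.img (nat_lit 1) (nat_lit 0) (BT.and (nat_lit 5) (nat_lit 0) (BT.img (nat_lit 1) (nat_lit 0) (BT.and (nat_lit 0) (nat_lit 8) (BT.cnt (nat_lit 0))))))))))))))))))) (BT.dead (nat_lit 27) (BT.frm (nat_lit 3) (nat_lit 0x41493f41451b01050709) (nat_lit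 0x4141473f41451b01050709) [nat_lit 0, nat_lit 7, nat_lit 9, nat_lit 15] (BT.pln (nat_lit 0) (nat_lit 4) (BT.and (nat_lit 0) (nat_lit 18) (BT.cnt (nat_lit 0))))) (BT.dead (nat_lit 40) (BT.frm (nat_lit 3) (nat_lit 0x41493f41451b01050709) (nat_lit 0x41443f41451b01050709) [nat_lit 0, nat_lit 7, nat_lit 9, nat_lit 15] (BT.pln (nat_lit 0) (nat_lit 4) (BT.and (nat_lit 0) (nat_lit 18) (BT.cnt (nat_lit 0))))) (BT.dead (nat_lit 296) (BT.frm (nat_lit 3) (nat_lit 0x41493f41451b01050709) (nat_lit 0x473f41451b01050709) [nat_lit 0, nat_lit 7, nat_lit 9, nat_lit 15] (BT.pln (nat_lit 0) (nat_lit 4) (BT.and (nat_lit 0) (nat_lit 18) (BT.cnt (nat_lit 0))))) (BT.kid (nat_lit 3) (nat_lit 3) (BT.dif (nat_lit 12) (nat_lit 3) (BT.pln (nat_lit 7) (nat_lit 6) (BT.and (nat_lit 1) (nat_lit 0) (BT.dif (nat_lit 0) (nat_lit 17) (BT.frm (nat_lit 3) (nat_lit 0x41493f41451b01050709) (nat_lit 0x41493f41451b01050709) [nat_lit 4, nat_lit 11, nat_lit 13, nat_lit 19] (BT.pln (nat_lit 0) (nat_lit 5) (BT.dif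 (nat_lit 2) (nat_lit 0) (BT.img (nat_lit 1) (nat_lit 7) (BT.frm (nat_lit 4) (nat_lit 0x41493f41451b01050709) (nat_lit 0x41493f41451b01050709) [nat_lit 0, nat_lit 8, nat_lit 15, nat_lit 17, nat_lit 23] (BT.pln (nat_lit 0) (nat_lit 5) (BT.and (nat_lit 3) (nat_lit 0) (BT.pln (nat_lit 2) (nat_lit 7) (BT.and (nat_lit 1) (nat_lit 0) (BT.br (nat_lit 0) (nat_lit 11) [nat_lit 9] (BT.kid (nat_lit 11) (nat_lit 1) (BT.img (nat_lit 1) (nat_lit 0) (BT.one (nat_lit 5) (nat_lit 0x5641493f41451b01050709) (nat_lit 0x5641493f41451b01050709) [nat_lit 0, nat_lit 1, nat_lit 7, nat_lit 15, nat_lit 22, nat_lit 24, nat_lit 30])) BT.nil))))))))))))))) BT.nil))))))))))))))) BT.nil))))))) BT.nil))))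

theorem ot_c35_cnt : Cnt 351 (grp 351 o_O) [o_g499] [o_g499] 0 0 0 0 324 :=
  BT.sound ot_c35_cnt_P Known.nil (t := ot_c35_cnt_t) (d := 0) (by decide +kernel)

theorem ot_c35_ge : 324 ≤ Nat.card (grp 351 ot_c35_K) :=
  Ch.le_card_grp (k := 9) (L := (lab 351 9)) o_hn ot_c35_K_ok (c := (Ch.cons (nat_lit 135) [nat_lit 1] (Ch.cons (nat_lit 20) [nat_lit 3, nat_lit 5] (Ch.cons (nat_lit 3) [nat_lit 7] (Ch.cons (nat_lit 11) [nat_lit 9] Ch.nil))))) (by decide +kernel)

theorem ot_c35_eq : (grp 351 o_O) ⊓ Subgroup.centralizer {Net.toPerm 351 o_g499} = grp 351 ot_c35_K :=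
  cent_eq ot_c35_sym ot_c35_cnt ot_c35_ge

theorem ot_c35_card : Nat.card ↥((grp 351 o_O) ⊓ Subgroup.centralizer {Net.toPerm 351 o_g499}) = 324 :=
  card_cent ot_c35_sym ot_c35_cnt ot_c35_ge

theorem ot_c35_ord : orderOf (Net.toPerm 351 o_g499) = 9 :=
  orderOf_net o_hn o_hk o_g499_ok (by decide) (ps := [3]) (by set_option linter.unusedSimpArgs false in simp [Nat.primeFactorsList_ofNat]) (by decide +kernel)

theorem o_le515 : grp 351 ot_c36_K ≤ grp 351 o_lb_E :=
  grp_le_of_memB o_hn o_hk o_lb_E_ok ot_c36_K_ok (ws := [nat_lit 0x433b2f3925211e291926010507092e, nat_lit 0x433725221e28170105260f, nat_lit 0x3721231d2326191e, nat_lit 0x45433139282528172801, nat_lit 0x3139271d2419310103]) (by decide +kernel)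

theorem ot_c36_le : grp 351 ot_c36_K ≤ (grp 351 o_O) :=
  (o_le515.trans o_T76_s0.le)

theorem ot_c36_mem : Net.toPerm 351 o_g511 ∈ (grp 351 o_O) :=
  ot_c36_le (toPerm_mem_grp (E := ot_c36_K) (List.Mem.tail _ (List.Mem.head _)))

theorem ot_c36_sym : Sym 351 (grp 351 o_O) [o_g511] ot_c36_K 0 :=
  Sym.of_lab o_hn o_hk (okE_cons.2 ⟨o_g511_ok, okE_nil _⟩) ot_c36_K_ok ot_c36_le (kT := 0) (by decide +kernel)

theorem o_le517 : grp 351 o_V516 ≤ grp 351 o_V155 :=
  grp_le_of_memB o_hn o_hk o_V155_ok o_V516_ok (ws := [nat_lit 3]) (by decide +kernel)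

theorem o_T76_s97 : Stab 351 (grp 351 o_O) [nat_lit 230, nat_lit 176, nat_lit 252, nat_lit 187, nat_lit 0] o_V516 3 :=
  Stab.step (k := 9) (L := (lab 351 9)) o_hn o_T76_s20 o_V516_ok o_le517 (c := (Ch.cons (nat_lit 332) [nat_lit 1] Ch.nil)) (by decide +kernel)

theorem o_T76_s98 : Stab 351 (grp 351 o_O) [nat_lit 332, nat_lit 230, nat_lit 176, nat_lit 252, nat_lit 187, nat_lit 0] o_V518 1 :=
  Stab.step (k := 9) (L := (lab 351 9)) o_hn o_T76_s97 o_V518_ok (grp_mono (List.subset_append_right [o_g153] _)) (c := Ch.nil) (by decide +kernel)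

noncomputable def o_T76_s98_O : ℕ := (nat_lit 0x1fffffffffffffffffffffffc0000000000000000000000000000000000000000000000000000000000000000000000000000000000000007fffffffffffffffffffffffffffffff800000000000000000000000000000007fffffff0000000000000000ffffffffffffffff0000000000000000ffffffffffffffff000000000000000000000001fffffffe00000001fffffffe00000001fffffffe00000001fffffffe00000001fffffffe00000001fffc0003fffc0003fffc0003fffc0003fffc0003fffc0003fffc0003fffc0003fffc0003fffc0003fffc0003f807f807f807f807f807f807f807f807f807f807f807f807f807f807f807f807f807f807f807f807f807f8070f0f0f0f0f0f0f0f0f0f0f0f0f0f0f0f0f0f0f0f0f0f0f0f0f0f0f0f0f0f0f0f0f0f0f0f0f0f0f0f0f0f0f09999999999999999999999999999999999999999999999999999999999999999999999999999999999999998aaaaaaaaaaaaaaaaaaaaaaaaaaaaaaaaaaaaaaaaaaaaaaaaaaaaaaaaaaaaaaaaaaaaaaaaaaaaaaaaaaaaaaa80000000000000000000000000000000000000000000000000000000000000000000000000000000000000008000000000000000000000000000000000000000080000000000000000000000000000000000000000000000000000000000000000000000200000000000000000000000000000000000000000000000000000000000000000000000000000000000000000000000000000000004000000000000000000000000000000000000000000000000000000000000000000000000020000000000000000000000000000000000000000000000000000000000000100000000000000000000000000000000000000000000000000000000000000000000000000000000000)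

theorem o_T76_s98_F : Frame 351 (grp 351 o_O) 6 15 o_T76_s98_O 1 1 :=
  IsBase.frame o_T76_s98.isBase (by decide +kernel)

noncomputable def o_T76_s97_O : ℕ := (nat_lit 0x400004308020008040000000000000000000000000000000000000000000000000000000000000000000000053cb538c52151e06377ae8b8c979d34bf8f982570f00ba56e8be2f594e8dbdb9bdd020000000408001000000187909341f6aa4e46527dbfe12946422a404406140d84201a6c1a3c90a9c94ae101dee7fffbf9fc0020000016b57c002a4abb2c419188140423f31603fad89d43f82dd5fbfe5a7acf5b9290008bd4affc000007ffaf0000256a92491e88c22685a3110b2b1ef6b2513197d957f059784023cb1950c8fabf8507fd5807e6204fd8a1fe00dd6afa602e2682b00347fbb79fb1f04286e9e1c16cc549aa77ef33628183b091fc2ee00f0f329c1e4ec3c3c190b69e22ad804566a42f1ccf20f8c4fe0bfcdc2f0429ad54f6ee983caa138eab475a249999c7a73318e666624295816f8a903c718c72dd0e77b5ad993d6c833b21a3e58d4b513e06d91493ca6daa65aaaa29e955acaaaaa0000000000000000000000000000000000000000000000000000000000000000000000000000000000000001000000000000000000000000000000000000000010000000000000000000000000000000000000000000000000000000000000000000000040000000000000000000000000000000000000000000000000000000000000000000000000000000000000000000000000000000000800000000000000000000000000000000000000000000000000000000000000000000000004000000000000000000000000000000000000000000000000000000000)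

theorem o_T76_s97_F : Frame 351 (grp 351 o_O) 5 13 o_T76_s97_O 0 1 :=
  Stab.frame o_hn o_T76_s97 (by decide +kernel)

noncomputable def ot_c36_cnt_L : List ℕ := [1, 2, o_T76_s1_O, 0, 0, 2, 7, o_T76_s2_O, 0, 0, 3, 8, o_T76_s3_O, 0, 0, 4, 10, o_T76_s20_O, 0, 0, 5, 13, o_T76_s97_O, 0, 0, 6, 15, o_T76_s98_O, 1, 0]

theorem ot_c36_cnt_P : Prob 351 9 (grp 351 o_O) ot_c36_cnt_EG [o_g511] [o_g511] ot_c36_K ot_c36_cnt_L 0 0 :=
  Sym.prob o_hn o_hk ot_c36_sym ot_c36_cnt_EG_ok (grp_cons_le o_b_o_T76 (grp_cons_le o_c_o_T76 (grp_cons_le o_d_o_T76 (grp_cons_le o_e_o_T76 (grp_cons_le o_f_o_T76 (grp_cons_le o_g_o_T76 (grp_cons_le o_h_o_T76 (grp_cons_le o_i_o_T76 (grp_cons_le o_g1_o_T76 (grp_cons_le o_g2_o_T76 (grp_cons_le o_g3_o_T76 (grp_cons_le o_g4_o_T76 (grp_cons_le o_g5_o_T76 (grp_cons_le o_g8_o_T76 (grp_cons_le o_g9_o_T76 (grp_cons_le o_g12_o_T76 (grp_cons_le o_g13_o_T76 (grp_cons_le o_g14_o_T76 (grp_cons_le o_g17_o_T76 (grp_cons_le o_g18_o_T76 (grp_cons_le o_g19_o_T76 (grp_cons_le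 o_g20_o_T76 (grp_cons_le o_g23_o_T76 (grp_cons_le o_g24_o_T76 (grp_cons_le o_g25_o_T76 (grp_cons_le o_g26_o_T76 (grp_cons_le o_g27_o_T76 (grp_cons_le o_g30_o_T76 (grp_cons_le o_g31_o_T76 (grp_cons_le o_g32_o_T76 (grp_cons_le o_g35_o_T76 (grp_cons_le o_g88_o_T76 (grp_cons_le o_g89_o_T76 (grp_cons_le o_g90_o_T76 (grp_cons_le o_g91_o_T76 (grp_cons_le o_g92_o_T76 (grp_cons_le o_g93_o_T76 (grp_cons_le o_g94_o_T76 (grp_cons_le o_g152_o_T76 (grp_cons_le o_g153_o_T76 (grp_cons_le o_g154_o_T76 (grp_nil_le _)))))))))))))))))))))))))))))))))))))))))) (Frames.cons o_T76_s1_F (Frames.cons o_T76_s2_F (Frames.cons o_T76_s3_F (Frames.cons o_T76_s20_F (Frames.cons o_T76_s97_F (Frames.cons o_T76_s98_F Frames.nil)))))) (okE_cons.2 ⟨o_g511_ok, okE_nil _⟩) _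

noncomputable def ot_c36_cnt_t : BT := (BT.fix (nat_lit 1) (BT.br (nat_lit 0) (nat_lit 266) [nat_lit 1] (BT.kid (nat_lit 266) (nat_lit 54) (BT.fix (nat_lit 65793) (BT.frm (nat_lit 0) (nat_lit 0x11f1105) (nat_lit 0x11f1105) [nat_lit 1] (BT.pln (nat_lit 0) (nat_lit 1) (BT.dif (nat_lit 2) (nat_lit 0) (BT.dif (nat_lit 0) (nat_lit 5) (BT.br (nat_lit 0) (nat_lit 71) [nat_lit 3, nat_lit 5] (BT.kid (nat_lit 71) (nat_lit 9) (BT.dif (nat_lit 10) (nat_lit 3) (BT.img (nat_lit 1) (nat_lit 1) (BT.frm (nat_lit 2) (nat_lit 0x3f3f41441335011f1105) (nat_lit 0x3f3f41441335011f1105) [nat_lit 0, nat_lit 2, nat_lit 8] (BT.pln (nat_lit 0) (nat_lit 4) (BT.dif (nat_lit 3) (nat_lit 0) (BT.pln (nat_lit 2) (nat_lit 3) (BT.dif (nat_lit 1) (nat_lit 0) (BT.dif (nat_lit 0) (nat_lit 12) (BT.br (nat_lit 0) (nat_lit 16) [nat_lit 7, nat_lit 9] (BT.dead (nat_lit 185) (BT.dif (nat_lit 19) (nat_lit 3) (BT.dif (nat_lit 0) (nat_lit 13) (BT.dif (nat_lit 0) (nat_lit 7) (BT.dif (nat_lit 0) (nat_lit 17) (BT.img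 (nat_lit 1) (nat_lit 4) (BT.frm (nat_lit 4) (nat_lit 0x5142433f3f41441335011f1105) (nat_lit 0x52414a3f3f41441335011f1105) [nat_lit 0, nat_lit 5, nat_lit 12, nat_lit 14, nat_lit 20] (BT.pln (nat_lit 0) (nat_lit 5) (BT.and (nat_lit 3) (nat_lit 0) (BT.pln (nat_lit 2) (nat_lit 6) (BT.dif (nat_lit 1) (nat_lit 0) (BT.br (nat_lit 0) (nat_lit 129) [nat_lit 2311] (BT.dead (nat_lit 16) (BT.frm (nat_lit 5) (nat_lit 0x5142433f3f41441335011f1105) (nat_lit 0x52414a3f3f41441335011f1105) [nat_lit 0, nat_lit 6, nat_lit 11, nat_lit 18, nat_lit 20, nat_lit 26] (BT.pln (nat_lit 0) (nat_lit 6) (BT.img (nat_lit 1) (nat_lit 2) (BT.and (nat_lit 1) (nat_lit 0) (BT.cnt (nat_lit 0)))))) BT.nil)))))))))))) (BT.dead (nat_lit 129) (BT.dif (nat_lit 19) (nat_lit 3) (BT.dif (nat_lit 0) (nat_lit 13) (BT.dif (nat_lit 0) (nat_lit 7) (BT.dif (nat_lit 0) (nat_lit 17) (BT.img (nat_lit 1) (nat_lit 4) (BT.frm (nat_lit 4) (nat_lit 0x5142433f3f41441335011f1105) (nat_lit 0x52473f3f41441335011f1105) [nat_lit 0,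 nat_lit 5, nat_lit 12, nat_lit 14, nat_lit 20] (BT.pln (nat_lit 0) (nat_lit 5) (BT.and (nat_lit 3) (nat_lit 0) (BT.pln (nat_lit 2) (nat_lit 6) (BT.dif (nat_lit 1) (nat_lit 0) (BT.br (nat_lit 0) (nat_lit 129) [nat_lit 7] (BT.dead (nat_lit 185) (BT.frm (nat_lit 5) (nat_lit 0x5142433f3f41441335011f1105) (nat_lit 0x52473f3f41441335011f1105) [nat_lit 0, nat_lit 6, nat_lit 11, nat_lit 18, nat_lit 20, nat_lit 26] (BT.pln (nat_lit 0) (nat_lit 6) (BT.img (nat_lit 1) (nat_lit 2) (BT.img (nat_lit 1) (nat_lit 0) (BT.and (nat_lit 2) (nat_lit 0) (BT.cnt (nat_lit 0))))))) BT.nil)))))))))))) (BT.dead (nat_lit 49) (BT.frm (nat_lit 1) (nat_lit 0x1335011f1105) (nat_lit 0x1335011f1105) [nat_lit 9, nat_lit 15] (BT.pln (nat_lit 0) (nat_lit 4) (BT.frm (nat_lit 3) (nat_lit 0x42433f3f41441335011f1105) (nat_lit 0x4144483f3f41441335011f1105) [nat_lit 2, nat_lit 9, nat_lit 11, nat_lit 17] (BT.pln (nat_lit 0) (nat_lit 4) (BT.dif (nat_lit 2) (nat_lit 0) (BT.pln (nat_lit 2) (nat_lit 5) (BT.and (nat_lit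 1) (nat_lit 0) (BT.pln (nat_lit 4) (nat_lit 6) (BT.and (nat_lit 1) (nat_lit 0) (BT.and (nat_lit 13) (nat_lit 12) (BT.pln (nat_lit 16) (nat_lit 5) (BT.dif (nat_lit 1) (nat_lit 0) (BT.pln (nat_lit 9) (nat_lit 7) (BT.and (nat_lit 1) (nat_lit 0) (BT.img (nat_lit 1) (nat_lit 0) (BT.and (nat_lit 6) (nat_lit 0) (BT.img (nat_lit 1) (nat_lit 0) (BT.and (nat_lit 0) (nat_lit 13) (BT.cnt (nat_lit 0)))))))))))))))))))) (BT.dead (nat_lit 28) (BT.frm (nat_lit 1) (nat_lit 0x1335011f1105) (nat_lit 0x1335011f1105) [nat_lit 9, nat_lit 15] (BT.pln (nat_lit 0) (nat_lit 4) (BT.frm (nat_lit 3) (nat_lit 0x42433f3f41441335011f1105) (nat_lit 0x4141473f3f41441335011f1105) [nat_lit 2, nat_lit 9, nat_lit 11, nat_lit 17] (BT.pln (nat_lit 0) (nat_lit 4) (BT.dif (nat_lit 2) (nat_lit 0) (BT.pln (nat_lit 2) (nat_lit 5) (BT.and (nat_lit 1) (nat_lit 0) (BT.pln (nat_lit 4) (nat_lit 6) (BT.and (nat_lit 1) (nat_lit 0) (BT.and (nat_lit 13) (nat_lit 12) (BT.pln (nat_lit 16) (nat_lit 5) (BT.dif (nat_lit 1)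 (nat_lit 0) (BT.pln (nat_lit 9) (nat_lit 7) (BT.and (nat_lit 1) (nat_lit 0) (BT.img (nat_lit 1) (nat_lit 0) (BT.and (nat_lit 6) (nat_lit 0) (BT.img (nat_lit 1) (nat_lit 0) (BT.and (nat_lit 0) (nat_lit 13) (BT.cnt (nat_lit 0)))))))))))))))))))) (BT.dead (nat_lit 315) (BT.frm (nat_lit 1) (nat_lit 0x1335011f1105) (nat_lit 0x1335011f1105) [nat_lit 9, nat_lit 15] (BT.pln (nat_lit 0) (nat_lit 4) (BT.frm (nat_lit 3) (nat_lit 0x42433f3f41441335011f1105) (nat_lit 0x424a3f3f41441335011f1105) [nat_lit 2, nat_lit 9, nat_lit 11, nat_lit 17] (BT.pln (nat_lit 0) (nat_lit 4) (BT.dif (nat_lit 2) (nat_lit 0) (BT.pln (nat_lit 2) (nat_lit 5) (BT.and (nat_lit 1) (nat_lit 0) (BT.pln (nat_lit 4) (nat_lit 6) (BT.and (nat_lit 1) (nat_lit 0) (BT.and (nat_lit 13) (nat_lit 12) (BT.pln (nat_lit 16) (nat_lit 5) (BT.dif (nat_lit 1) (nat_lit 0) (BT.pln (nat_lit 9) (nat_lit 7) (BT.and (nat_lit 1) (nat_lit 0) (BT.img (nat_lit 1) (nat_lit 0) (BT.and (nat_lit 6) (nat_lit 0) (BT.img (nat_lit 1) (nat_lit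 0) (BT.and (nat_lit 0) (nat_lit 13) (BT.cnt (nat_lit 0)))))))))))))))))))) (BT.dead (nat_lit 136) (BT.frm (nat_lit 1) (nat_lit 0x1335011f1105) (nat_lit 0x1335011f1105) [nat_lit 9, nat_lit 15] (BT.pln (nat_lit 0) (nat_lit 4) (BT.frm (nat_lit 3) (nat_lit 0x42433f3f41441335011f1105) (nat_lit 0x43473f3f41441335011f1105) [nat_lit 2, nat_lit 9, nat_lit 11, nat_lit 17] (BT.pln (nat_lit 0) (nat_lit 4) (BT.dif (nat_lit 2) (nat_lit 0) (BT.pln (nat_lit 2) (nat_lit 5) (BT.and (nat_lit 1) (nat_lit 0) (BT.pln (nat_lit 4) (nat_lit 6) (BT.and (nat_lit 1) (nat_lit 0) (BT.and (nat_lit 13) (nat_lit 12) (BT.pln (nat_lit 16) (nat_lit 5) (BT.dif (nat_lit 1) (nat_lit 0) (BT.pln (nat_lit 9) (nat_lit 7) (BT.and (nat_lit 1) (nat_lit 0) (BT.img (nat_lit 1) (nat_lit 0) (BT.and (nat_lit 6) (nat_lit 0) (BT.img (nat_lit 1) (nat_lit 0) (BT.and (nat_lit 0) (nat_lit 13) (BT.cnt (nat_lit 0)))))))))))))))))))) (BT.dead (nat_lit 126) (BT.frm (nat_lit 1) (nat_lit 0x1335011f1105) (nat_lit 0x1335011f1105)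 [nat_lit 9, nat_lit 15] (BT.pln (nat_lit 0) (nat_lit 4) (BT.frm (nat_lit 3) (nat_lit 0x42433f3f41441335011f1105) (nat_lit 0x43493f3f41441335011f1105) [nat_lit 2, nat_lit 9, nat_lit 11, nat_lit 17] (BT.pln (nat_lit 0) (nat_lit 4) (BT.dif (nat_lit 2) (nat_lit 0) (BT.pln (nat_lit 2) (nat_lit 5) (BT.and (nat_lit 1) (nat_lit 0) (BT.pln (nat_lit 4) (nat_lit 6) (BT.and (nat_lit 1) (nat_lit 0) (BT.and (nat_lit 13) (nat_lit 12) (BT.pln (nat_lit 16) (nat_lit 5) (BT.dif (nat_lit 1) (nat_lit 0) (BT.pln (nat_lit 9) (nat_lit 7) (BT.and (nat_lit 1) (nat_lit 0) (BT.img (nat_lit 1) (nat_lit 0) (BT.and (nat_lit 6) (nat_lit 0) (BT.img (nat_lit 1) (nat_lit 0) (BT.and (nat_lit 0) (nat_lit 13) (BT.cnt (nat_lit 0)))))))))))))))))))) (BT.dead (nat_lit 32) (BT.frm (nat_lit 1) (nat_lit 0x1335011f1105) (nat_lit 0x1335011f1105) [nat_lit 9, nat_lit 15] (BT.pln (nat_lit 0) (nat_lit 4) (BT.frm (nat_lit 3) (nat_lit 0x42433f3f41441335011f1105) (nat_lit 0x41433f3f41441335011f1105) [nat_lit 2, nat_lit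 9, nat_lit 11, nat_lit 17] (BT.pln (nat_lit 0) (nat_lit 4) (BT.dif (nat_lit 2) (nat_lit 0) (BT.pln (nat_lit 2) (nat_lit 5) (BT.and (nat_lit 1) (nat_lit 0) (BT.pln (nat_lit 4) (nat_lit 6) (BT.and (nat_lit 1) (nat_lit 0) (BT.and (nat_lit 13) (nat_lit 12) (BT.pln (nat_lit 16) (nat_lit 5) (BT.dif (nat_lit 1) (nat_lit 0) (BT.pln (nat_lit 9) (nat_lit 7) (BT.and (nat_lit 1) (nat_lit 0) (BT.img (nat_lit 1) (nat_lit 0) (BT.and (nat_lit 6) (nat_lit 0) (BT.img (nat_lit 1) (nat_lit 0) (BT.and (nat_lit 0) (nat_lit 13) (BT.cnt (nat_lit 0)))))))))))))))))))) (BT.kid (nat_lit 16) (nat_lit 3) (BT.dif (nat_lit 19) (nat_lit 3) (BT.dif (nat_lit 0) (nat_lit 13) (BT.dif (nat_lit 0) (nat_lit 7) (BT.dif (nat_lit 0) (nat_lit 17) (BT.img (nat_lit 1) (nat_lit 4) (BT.frm (nat_lit 4) (nat_lit 0x5142433f3f41441335011f1105) (nat_lit 0x5142433f3f41441335011f1105) [nat_lit 0, nat_lit 5, nat_lit 12, nat_lit 14, nat_lit 20] (BT.pln (nat_lit 0) (nat_lit 5) (BT.and (nat_lit 3) (nat_lit 0) (BT.pln (nat_lit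 2) (nat_lit 6) (BT.dif (nat_lit 1) (nat_lit 0) (BT.br (nat_lit 0) (nat_lit 129) [nat_lit 9] (BT.kid (nat_lit 129) (nat_lit 1) (BT.one (nat_lit 5) (nat_lit 0x5142433f3f41441335011f1105) (nat_lit 0x5142433f3f41441335011f1105) [nat_lit 0, nat_lit 6, nat_lit 11, nat_lit 18, nat_lit 20, nat_lit 26]) BT.nil)))))))))))) BT.nil)))))))))))))))))) BT.nil))))))) BT.nil)))

theorem ot_c36_cnt : Cnt 351 (grp 351 o_O) [o_g511] [o_g511] 0 0 0 0 162 :=
  BT.sound ot_c36_cnt_P Known.nil (t := ot_c36_cnt_t) (d := 0) (by decide +kernel)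

theorem ot_c36_ge : 162 ≤ Nat.card (grp 351 ot_c36_K) :=
  Ch.le_card_grp (k := 9) (L := (lab 351 9)) o_hn ot_c36_K_ok (c := (Ch.cons (nat_lit 266) [nat_lit 1] (Ch.cons (nat_lit 71) [nat_lit 3, nat_lit 5] (Ch.cons (nat_lit 16) [nat_lit 7] (Ch.cons (nat_lit 129) [nat_lit 9] Ch.nil))))) (by decide +kernel)

theorem ot_c36_eq : (grp 351 o_O) ⊓ Subgroup.centralizer {Net.toPerm 351 o_g511} = grp 351 ot_c36_K :=
  cent_eq ot_c36_sym ot_c36_cnt ot_c36_ge

theorem ot_c36_card : Nat.card ↥((grp 351 o_O) ⊓ Subgroup.centralizer {Net.toPerm 351 o_g511}) = 162 :=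
  card_cent ot_c36_sym ot_c36_cnt ot_c36_ge

theorem ot_c36_ord : orderOf (Net.toPerm 351 o_g511) = 9 :=
  orderOf_net o_hn o_hk o_g511_ok (by decide) (ps := [3]) (by set_option linter.unusedSimpArgs false in simp [Nat.primeFactorsList_ofNat]) (by decide +kernel)

theorem o_le521 : grp 351 ot_c37_K ≤ grp 351 o_lb_E :=
  grp_le_of_memB o_hn o_hk o_lb_E_ok ot_c37_K_ok (ws := [nat_lit 0x4543392725221d2d1113011620, nat_lit 0x4543312721231f2111111501032501]) (by decide +kernel)

theorem ot_c37_le : grp 351 ot_c37_K ≤ (grp 351 o_O) :=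
  (o_le521.trans o_T76_s0.le)

theorem ot_c37_mem : Net.toPerm 351 o_g519 ∈ (grp 351 o_O) :=
  ot_c37_le (toPerm_mem_grp (E := ot_c37_K) (List.Mem.head _))

theorem ot_c37_sym : Sym 351 (grp 351 o_O) [o_g519] ot_c37_K 0 :=
  Sym.of_lab o_hn o_hk (okE_cons.2 ⟨o_g519_ok, okE_nil _⟩) ot_c37_K_ok ot_c37_le (kT := 0) (by decide +kernel)

theorem o_T76_s99 : Stab 351 (grp 351 o_O) [nat_lit 1, nat_lit 22, nat_lit 16, nat_lit 14, nat_lit 3, nat_lit 0] o_V522 8 :=
  Stab.step (k := 9) (L := (lab 351 9)) o_hn o_T76_s11 o_V522_ok (grp_mono (List.subset_append_right [o_g23, o_g24, o_g25, o_g26, o_c, o_g27] _)) (c := (Ch.cons (nat_lit 31) [nat_lit 1, nat_lit 3, nat_lit 5] (Ch.cons (nat_lit 5) [nat_lit 7, nat_lit 9] (Ch.cons (nat_lit 127) [nat_lit 11, nat_lit 13] Ch.nil)))) (by decide +kernel)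

theorem o_T76_s100 : Stab 351 (grp 351 o_O) [nat_lit 31, nat_lit 1, nat_lit 22, nat_lit 16, nat_lit 14, nat_lit 3, nat_lit 0] o_V523 4 :=
  Stab.step (k := 9) (L := (lab 351 9)) o_hn o_T76_s99 o_V523_ok (grp_mono (List.subset_append_right [o_g30, o_g31, o_g32] _)) (c := (Ch.cons (nat_lit 5) [nat_lit 1, nat_lit 3] (Ch.cons (nat_lit 127) [nat_lit 5, nat_lit 7] Ch.nil))) (by decide +kernel)

theorem o_T76_s101 : Stab 351 (grp 351 o_O) [nat_lit 5, nat_lit 31, nat_lit 1, nat_lit 22, nat_lit 16, nat_lit 14, nat_lit 3, nat_lit 0] o_V524 2 :=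
  Stab.step (k := 9) (L := (lab 351 9)) o_hn o_T76_s100 o_V524_ok (grp_mono (List.subset_append_right [o_g, o_g35] _)) (c := (Ch.cons (nat_lit 127) [nat_lit 1, nat_lit 3] Ch.nil)) (by decide +kernel)

theorem o_T76_s102 : Stab 351 (grp 351 o_O) [nat_lit 127, nat_lit 5, nat_lit 31, nat_lit 1, nat_lit 22, nat_lit 16, nat_lit 14, nat_lit 3, nat_lit 0] o_V525 1 :=
  Stab.step (k := 9) (L := (lab 351 9)) o_hn o_T76_s101 o_V525_ok (grp_mono (List.subset_append_right [o_g, o_g] _)) (c := Ch.nil) (by decide +kernel)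

noncomputable def o_T76_s102_O : ℕ := (nat_lit 0x3fffffffffffffffffffffff8000000000000000000000000000000000000000000000000000000000000000000000000000000000000000ffffffffffffffffffffffffffffffff00000000000000000000000000000000fffffffe0000000000000001fffffffffffffffe0000000000000001fffffffffffffffe000000000000000000000003fffffffc00000003fffffffc00000003fffffffc00000003fffffffc00000003fffffffc00000003fff80007fff80007fff80007fff80007fff80007fff80007fff80007fff80007fff80007fff80007fff80007f00ff00ff00ff00ff00ff00ff00ff00ff00ff00ff00ff00ff00ff00ff00ff00ff00ff00ff00ff00ff00ff00e1e1e1e1e1e1e1e1e1e1e1e1e1e1e1e1e1e1e1e1e1e1e1e1e1e1e1e1e1e1e1e1e1e1e1e1e1e1e1e1e1e1e1e133333333333333333333333333333333333333333333333333333333333333333333333333333333333333315555555555555555555555555555555555555555555555555555555555555555555555555555555555555550000000000000000000000000000000000000000000000000000000000000000000000000000000000000001000000000000000000000000000000000000000000000000000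000000000000000000000000000000000001000000000000000000000000000000000000000000000000000000000000000000000000000000000000100000000000000000000000000000000000000000000000000000000000000000000000000000000000000080000000000000000000000000000000000000000000000000000000000000000000000000000000000000400000000000000000000000000000000000000000000000000000000000000000000000000000000000000000000400000000000000000000000000000000000000000000000000000000000000000000000000000002000000000000000000000000000000000000000000000000000000000000000000000000000000000000000000000100000000000000000000000000000000000000000000000000000000080000000000000000000000000000000)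

theorem o_T76_s102_F : Frame 351 (grp 351 o_O) 9 18 o_T76_s102_O 1 1 :=
  IsBase.frame o_T76_s102.isBase (by decide +kernel)

noncomputable def o_T76_s99_O : ℕ := (nat_lit 0x101e00310ec00000000000000700101e00310ec000000000000007005a0c74cf605fad96000000000082391440400004003e70b6e0432cb6300040400004003e70b6e0432cb6300082a30641000080d25f39fa0301047228407800c43b010600034006001ff6407800c43b010600034006001ff697ce2cc27e8149a7ffffffff00000001f1f447a80877fe2b66acac0007edf1f447a80877fe2b66acac0007ee5a641f6b02e8024938c40001f9e4370307d36026e8d20e8e2f06a7c00f0307d36026e8d20e8e2f06a7c00f03c1eb9eb9be0a529e6817ac03fbeb6e079243859faaa7ce806e79787899879243859faaa7ce806e7978789985c5944355575d5b263aace38137c1701e32c57602df53aa5704dcacacaa5e32c57602df53aa5704dcacacaa474223acd9e5a5a96763d522c8eb2a1400000000000000000000000000000000000000000000000000000000000000000000000000000000000000008000000000000000000000000000000000000000000000000000000000000000000000000000000000000008000000000000000000000000000000000000000000000000000000000000000000000000000000000000800000000000000000000000000000000000000000000000000000000000000000000000000000000000000400000000000000000000000000000000000000000000000000000000000000000000000000000000000002000000000000000000000000000000000000000000000000000000000000000000000000000000000000000000002)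

theorem o_T76_s99_F : Frame 351 (grp 351 o_O) 6 13 o_T76_s99_O 0 1 :=
  Stab.frame o_hn o_T76_s99 (by decide +kernel)

noncomputable def ot_c37_cnt_L : List ℕ := [1, 2, o_T76_s1_O, 0, 0, 2, 5, o_T76_s8_O, 0, 0, 3, 10, o_T76_s9_O, 0, 0, 4, 20, o_T76_s10_O, 0, 0, 5, 11, o_T76_s11_O, 0, 0, 6, 13, o_T76_s99_O, 0, 0, 9, 18, o_T76_s102_O, 1, 0]

theorem ot_c37_cnt_P : Prob 351 9 (grp 351 o_O) ot_c37_cnt_EG [o_g519] [o_g519] ot_c37_K ot_c37_cnt_L 0 0 :=
  Sym.prob o_hn o_hk ot_c37_sym ot_c37_cnt_EG_ok (grp_cons_le o_b_o_T76 (grp_cons_le o_c_o_T76 (grp_cons_le o_d_o_T76 (grp_cons_le o_e_o_T76 (grp_cons_le o_f_o_T76 (grp_cons_le o_g_o_T76 (grp_cons_le o_h_o_T76 (grp_cons_le o_i_o_T76 (grp_cons_le o_g1_o_T76 (grp_cons_le o_g2_o_T76 (grp_cons_le o_g3_o_T76 (grp_cons_le o_g4_o_T76 (grp_cons_le o_g5_o_T76 (grp_cons_le o_g8_o_T76 (grp_cons_le o_g9_o_T76 (grp_cons_le o_g12_o_T76 (grp_cons_le o_g13_o_T76 (grp_cons_le o_g14_o_T76 (grp_cons_le o_g17_o_T76 (grp_cons_le o_g18_o_T76 (grp_cons_le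 o_g19_o_T76 (grp_cons_le o_g20_o_T76 (grp_cons_le o_g23_o_T76 (grp_cons_le o_g24_o_T76 (grp_cons_le o_g25_o_T76 (grp_cons_le o_g26_o_T76 (grp_cons_le o_g27_o_T76 (grp_cons_le o_g30_o_T76 (grp_cons_le o_g31_o_T76 (grp_cons_le o_g32_o_T76 (grp_cons_le o_g35_o_T76 (grp_nil_le _)))))))))))))))))))))))))))))))) (Frames.cons o_T76_s1_F (Frames.cons o_T76_s8_F (Frames.cons o_T76_s9_F (Frames.cons o_T76_s10_F (Frames.cons o_T76_s11_F (Frames.cons o_T76_s99_F (Frames.cons o_T76_s102_F Frames.nil))))))) (okE_cons.2 ⟨o_g519_ok, okE_nil _⟩) _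

noncomputable def ot_c37_cnt_t : BT := (BT.br (nat_lit 2) (nat_lit 0) [nat_lit 1, nat_lit 3] (BT.dead (nat_lit 21) (BT.frm (nat_lit 0) (nat_lit 0) (nat_lit 0x105111d) [nat_lit 0] (BT.pln (nat_lit 0) (nat_lit 1) (BT.img (nat_lit 1) (nat_lit 2) (BT.and (nat_lit 1) (nat_lit 0) (BT.cnt (nat_lit 0)))))) (BT.dead (nat_lit 22) (BT.frm (nat_lit 0) (nat_lit 0) (nat_lit 77057) [nat_lit 0] (BT.pln (nat_lit 0) (nat_lit 1) (BT.img (nat_lit 1) (nat_lit 2) (BT.img (nat_lit 1) (nat_lit 0) (BT.img (nat_lit 1) (nat_lit 0) (BT.and (nat_lit 3) (nat_lit 0) (BT.cnt (nat_lit 0)))))))) (BT.dead (nat_lit 5) (BT.frm (nat_lit 0) (nat_lit 0) (nat_lit 75785) [nat_lit 0] (BT.pln (nat_lit 0) (nat_lit 1) (BT.img (nat_lit 1) (nat_lit 2) (BT.img (nat_lit 1) (nat_lit 0) (BT.img (nat_lit 1) (nat_lit 0) (BT.and (nat_lit 3) (nat_lit 0) (BT.cnt (nat_lit 0)))))))) (BT.dead (nat_lit 28) (BT.frm (nat_lit 0) (nat_lit 0) (nat_lit 74005) [nat_lit 0] (BT.pln (nat_lit 0) (nat_lit 1) (BT.img (nat_lit 1) (nat_lit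 2) (BT.img (nat_lit 1) (nat_lit 0) (BT.and (nat_lit 2) (nat_lit 0) (BT.cnt (nat_lit 0))))))) (BT.dead (nat_lit 10) (BT.frm (nat_lit 0) (nat_lit 0) (nat_lit 328461) [nat_lit 0] (BT.pln (nat_lit 0) (nat_lit 1) (BT.img (nat_lit 1) (nat_lit 2) (BT.img (nat_lit 1) (nat_lit 0) (BT.and (nat_lit 2) (nat_lit 0) (BT.cnt (nat_lit 0))))))) (BT.dead (nat_lit 4) (BT.frm (nat_lit 0) (nat_lit 0) (nat_lit 70663) [nat_lit 0] (BT.pln (nat_lit 0) (nat_lit 1) (BT.img (nat_lit 1) (nat_lit 2) (BT.img (nat_lit 1) (nat_lit 0) (BT.and (nat_lit 2) (nat_lit 0) (BT.cnt (nat_lit 0))))))) (BT.dead (nat_lit 3) (BT.frm (nat_lit 0) (nat_lit 0) (nat_lit 77569) [nat_lit 0] (BT.pln (nat_lit 0) (nat_lit 1) (BT.img (nat_lit 1) (nat_lit 2) (BT.img (nat_lit 1) (nat_lit 0) (BT.and (nat_lit 2) (nat_lit 0) (BT.cnt (nat_lit 0))))))) (BT.dead (nat_lit 91) (BT.frm (nat_lit 0) (nat_lit 0) (nat_lit 66351) [nat_lit 0] (BT.pln (nat_lit 0) (nat_lit 1) (BT.img (nat_lit 1) (nat_lit 2) (BT.and (nat_lit 1) (nat_lit 0) (BT.cnt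 (nat_lit 0)))))) (BT.dead (nat_lit 50) (BT.frm (nat_lit 0) (nat_lit 0) (nat_lit 72987) [nat_lit 0] (BT.pln (nat_lit 0) (nat_lit 1) (BT.img (nat_lit 1) (nat_lit 2) (BT.and (nat_lit 1) (nat_lit 0) (BT.cnt (nat_lit 0)))))) (BT.dead (nat_lit 33) (BT.frm (nat_lit 0) (nat_lit 0) (nat_lit 66328) [nat_lit 0] (BT.pln (nat_lit 0) (nat_lit 1) (BT.img (nat_lit 1) (nat_lit 2) (BT.and (nat_lit 1) (nat_lit 0) (BT.cnt (nat_lit 0)))))) (BT.dead (nat_lit 16) (BT.frm (nat_lit 0) (nat_lit 0) (nat_lit 341253) [nat_lit 0] (BT.pln (nat_lit 0) (nat_lit 1) (BT.img (nat_lit 1) (nat_lit 2) (BT.and (nat_lit 1) (nat_lit 0) (BT.cnt (nat_lit 0)))))) (BT.dead (nat_lit 9) (BT.frm (nat_lit 0) (nat_lit 0) (nat_lit 1293) [nat_lit 0] (BT.pln (nat_lit 0) (nat_lit 1) (BT.img (nat_lit 1) (nat_lit 2) (BT.and (nat_lit 1) (nat_lit 0) (BT.cnt (nat_lit 0)))))) (BT.dead (nat_lit 8) (BT.frm (nat_lit 0) (nat_lit 0) (nat_lit 1333) [nat_lit 0] (BT.pln (nat_lit 0) (nat_lit 1) (BT.img (nat_lit 1) (nat_lit 2) (BT.and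 (nat_lit 1) (nat_lit 0) (BT.cnt (nat_lit 0)))))) (BT.dead (nat_lit 1) (BT.frm (nat_lit 0) (nat_lit 0) (nat_lit 5) [nat_lit 0] (BT.pln (nat_lit 0) (nat_lit 1) (BT.img (nat_lit 1) (nat_lit 2) (BT.img (nat_lit 1) (nat_lit 0) (BT.and (nat_lit 2) (nat_lit 0) (BT.cnt (nat_lit 0))))))) (BT.kid (nat_lit 0) (nat_lit 1) (BT.img (nat_lit 1) (nat_lit 0) (BT.img (nat_lit 1) (nat_lit 0) (BT.frm (nat_lit 1) (nat_lit 4629) (nat_lit 4629) [nat_lit 0, nat_lit 2] (BT.pln (nat_lit 0) (nat_lit 2) (BT.frm (nat_lit 0) (nat_lit 0) (nat_lit 0) [nat_lit 4] (BT.pln (nat_lit 0) (nat_lit 1) (BT.dif (nat_lit 0) (nat_lit 4) (BT.img (nat_lit 1) (nat_lit 5) (BT.img (nat_lit 1) (nat_lit 0) (BT.img (nat_lit 1) (nat_lit 0) (BT.img (nat_lit 1) (nat_lit 0) (BT.img (nat_lit 1) (nat_lit 0) (BT.dif (nat_lit 5) (nat_lit 0) (BT.img (nat_lit 1) (nat_lit 0) (BT.and (nat_lit 10) (nat_lit 0) (BT.and (nat_lit 9) (nat_lit 1) (BT.img (nat_lit 1) (nat_lit 0) (BT.and (nat_lit 11) (nat_lit 0) (BT.img (nat_lit 1) (nat_lit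 0) (BT.dif (nat_lit 4) (nat_lit 0) (BT.pln (nat_lit 17) (nat_lit 4) (BT.and (nat_lit 15) (nat_lit 0) (BT.and (nat_lit 0) (nat_lit 8) (BT.dif (nat_lit 17) (nat_lit 9) (BT.dif (nat_lit 27) (nat_lit 18) (BT.dif (nat_lit 0) (nat_lit 11) (BT.and (nat_lit 1) (nat_lit 12) (BT.and (nat_lit 0) (nat_lit 8) (BT.img (nat_lit 1) (nat_lit 0) (BT.and (nat_lit 4) (nat_lit 0) (BT.img (nat_lit 1) (nat_lit 0) (BT.and (nat_lit 25) (nat_lit 0) (BT.img (nat_lit 1) (nat_lit 0) (BT.and (nat_lit 6) (nat_lit 0) (BT.img (nat_lit 1) (nat_lit 0) (BT.and (nat_lit 9) (nat_lit 0) (BT.img (nat_lit 1) (nat_lit 0) (BT.and (nat_lit 13) (nat_lit 0) (BT.img (nat_lit 1) (nat_lit 0) (BT.and (nat_lit 23) (nat_lit 0) (BT.img (nat_lit 1) (nat_lit 0) (BT.and (nat_lit 18) (nat_lit 0) (BT.frm (nat_lit 2) (nat_lit 0x1b1e1b1215) (nat_lit 0x1b1e1b1215) [nat_lit 0, nat_lit 40, nat_lit 42] (BT.pln (nat_lit 0) (nat_lit 5) (BT.and (nat_lit 24) (nat_lit 0) (BT.dif (nat_lit 23) (nat_lit 31) (BT.and (nat_lit 0) (nat_lit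 17) (BT.pln (nat_lit 4) (nat_lit 7) (BT.dif (nat_lit 1) (nat_lit 0) (BT.and (nat_lit 26) (nat_lit 30) (BT.dif (nat_lit 0) (nat_lit 2) (BT.frm (nat_lit 4) (nat_lit 0x231f1b1e1b1215) (nat_lit 0x231f1b1e1b1215) [nat_lit 2, nat_lit 0, nat_lit 9, nat_lit 49, nat_lit 51] (BT.pln (nat_lit 0) (nat_lit 9) (BT.and (nat_lit 8) (nat_lit 0) (BT.dif (nat_lit 29) (nat_lit 50) (BT.dif (nat_lit 0) (nat_lit 41) (BT.dif (nat_lit 0) (nat_lit 56) (BT.dif (nat_lit 0) (nat_lit 56) (BT.dif (nat_lit 32) (nat_lit 58) (BT.and (nat_lit 34) (nat_lit 28) (BT.img (nat_lit 1) (nat_lit 0) (BT.and (nat_lit 2) (nat_lit 0) (BT.img (nat_lit 1) (nat_lit 0) (BT.and (nat_lit 4) (nat_lit 0) (BT.img (nat_lit 1) (nat_lit 0) (BT.and (nat_lit 7) (nat_lit 0) (BT.pln (nat_lit 23) (nat_lit 4) (BT.dif (nat_lit 1) (nat_lit 0) (BT.and (nat_lit 10) (nat_lit 5) (BT.and (nat_lit 11) (nat_lit 8) (BT.and (nat_lit 13) (nat_lit 39) (BT.dif (nat_lit 67) (nat_lit 57) (BT.and (nat_lit 0) (nat_lit 43) (BT.and (nat_lit 0) (nat_lit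 29) (BT.and (nat_lit 59) (nat_lit 55) (BT.dif (nat_lit 52) (nat_lit 56) (BT.pln (nat_lit 33) (nat_lit 9) (BT.and (nat_lit 1) (nat_lit 0) (BT.dif (nat_lit 62) (nat_lit 61) (BT.dif (nat_lit 55) (nat_lit 77) (BT.and (nat_lit 21) (nat_lit 15) (BT.img (nat_lit 1) (nat_lit 0) (BT.and (nat_lit 2) (nat_lit 0) (BT.img (nat_lit 1) (nat_lit 0) (BT.and (nat_lit 5) (nat_lit 0) (BT.img (nat_lit 1) (nat_lit 0) (BT.and (nat_lit 8) (nat_lit 0) (BT.img (nat_lit 1) (nat_lit 0) (BT.and (nat_lit 13) (nat_lit 0) (BT.img (nat_lit 1) (nat_lit 0) (BT.and (nat_lit 16) (nat_lit 0) (BT.img (nat_lit 1) (nat_lit 0) (BT.and (nat_lit 21) (nat_lit 0) (BT.img (nat_lit 1) (nat_lit 0) (BT.and (nat_lit 24) (nat_lit 0) (BT.img (nat_lit 1) (nat_lit 0) (BT.and (nat_lit 27) (nat_lit 0) (BT.img (nat_lit 1) (nat_lit 0) (BT.and (nat_lit 30) (nat_lit 0) (BT.frm (nat_lit 5) (nat_lit 0x35231f1b1e1b1215) (nat_lit 0x35231f1b1e1b1215) [nat_lit 0, nat_lit 50, nat_lit 48, nat_lit 57, nat_lit 97, nat_lit 99] (BT.pln (nat_lit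 0) (nat_lit 7) (BT.dif (nat_lit 47) (nat_lit 0) (BT.dif (nat_lit 23) (nat_lit 18) (BT.dif (nat_lit 23) (nat_lit 91) (BT.dif (nat_lit 0) (nat_lit 75) (BT.dif (nat_lit 46) (nat_lit 104) (BT.dif (nat_lit 0) (nat_lit 98) (BT.dif (nat_lit 0) (nat_lit 98) (BT.dif (nat_lit 0) (nat_lit 98) (BT.dif (nat_lit 0) (nat_lit 98) (BT.img (nat_lit 1) (nat_lit 98) (BT.dif (nat_lit 1) (nat_lit 0) (BT.dif (nat_lit 85) (nat_lit 95) (BT.and (nat_lit 86) (nat_lit 96) (BT.dif (nat_lit 0) (nat_lit 95) (BT.and (nat_lit 91) (nat_lit 86) (BT.and (nat_lit 2) (nat_lit 97) (BT.dif (nat_lit 99) (nat_lit 98) (BT.dif (nat_lit 0) (nat_lit 32) (BT.dif (nat_lit 0) (nat_lit 78) (BT.img (nat_lit 1) (nat_lit 0) (BT.and (nat_lit 4) (nat_lit 0) (BT.img (nat_lit 1) (nat_lit 0) (BT.dif (nat_lit 7) (nat_lit 0) (BT.img (nat_lit 1) (nat_lit 0) (BT.and (nat_lit 46) (nat_lit 0) (BT.img (nat_lit 1) (nat_lit 0) (BT.dif (nat_lit 12) (nat_lit 0) (BT.img (nat_lit 1) (nat_lit 0) (BT.and (nat_lit 25) (nat_lit 0) (BT.img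 (nat_lit 1) (nat_lit 0) (BT.and (nat_lit 18) (nat_lit 0) (BT.img (nat_lit 1) (nat_lit 0) (BT.and (nat_lit 21) (nat_lit 0) (BT.img (nat_lit 1) (nat_lit 0) (BT.and (nat_lit 30) (nat_lit 0) (BT.img (nat_lit 1) (nat_lit 0) (BT.and (nat_lit 24) (nat_lit 0) (BT.img (nat_lit 1) (nat_lit 0) (BT.and (nat_lit 27) (nat_lit 0) (BT.img (nat_lit 1) (nat_lit 0) (BT.and (nat_lit 36) (nat_lit 0) (BT.img (nat_lit 1) (nat_lit 0) (BT.and (nat_lit 40) (nat_lit 0) (BT.img (nat_lit 1) (nat_lit 0) (BT.and (nat_lit 43) (nat_lit 0) (BT.dif (nat_lit 74) (nat_lit 137) (BT.dif (nat_lit 0) (nat_lit 103) (BT.dif (nat_lit 0) (nat_lit 119) (BT.and (nat_lit 0) (nat_lit 16) (BT.pln (nat_lit 147) (nat_lit 3) (BT.and (nat_lit 145) (nat_lit 0) (BT.dif (nat_lit 0) (nat_lit 138) (BT.dif (nat_lit 0) (nat_lit 141) (BT.pln (nat_lit 111) (nat_lit 3) (BT.and (nat_lit 1) (nat_lit 0) (BT.dif (nat_lit 0) (nat_lit 74) (BT.frm (nat_lit 3) (nat_lit 0x231f1b1e1b1215) (nat_lit 0x231f1b1e1b1215) [nat_lit 106, nat_lit 115,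 nat_lit 155, nat_lit 157] (BT.pln (nat_lit 0) (nat_lit 5) (BT.dif (nat_lit 2) (nat_lit 0) (BT.dif (nat_lit 0) (nat_lit 129) (BT.pln (nat_lit 109) (nat_lit 6) (BT.dif (nat_lit 1) (nat_lit 0) (BT.pln (nat_lit 111) (nat_lit 7) (BT.and (nat_lit 1) (nat_lit 0) (BT.pln (nat_lit 65) (nat_lit 6) (BT.dif (nat_lit 1) (nat_lit 0) (BT.pln (nat_lit 67) (nat_lit 9) (BT.dif (nat_lit 1) (nat_lit 0) (BT.one (nat_lit 6) (nat_lit 0xb3735231f1b1e1b1215) (nat_lit 0xb3735231f1b1e1b1215) [nat_lit 23, nat_lit 19, nat_lit 0, nat_lit 70, nat_lit 120, nat_lit 118, nat_lit 127, nat_lit 167, nat_lit 169])))))))))))))))))))))))))))))))))))))))))))))))))))))))))))))))))))))))))))))))))))))))))))))))))))))))))))))))))))))))))))))))))))))))))))))))))))))))))))))))))))))))))) BT.nil))))))))))))))))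

theorem ot_c37_cnt : Cnt 351 (grp 351 o_O) [o_g519] [o_g519] 0 0 0 0 27 :=
  BT.sound ot_c37_cnt_P Known.nil (t := ot_c37_cnt_t) (d := 0) (by decide +kernel)

theorem ot_c37_ge : 27 ≤ Nat.card (grp 351 ot_c37_K) :=
  Ch.le_card_grp (k := 9) (L := (lab 351 9)) o_hn ot_c37_K_ok (c := (Ch.cons (nat_lit 0) [nat_lit 1, nat_lit 3] Ch.nil)) (by decide +kernel)

theorem ot_c37_eq : (grp 351 o_O) ⊓ Subgroup.centralizer {Net.toPerm 351 o_g519} = grp 351 ot_c37_K :=
  cent_eq ot_c37_sym ot_c37_cnt ot_c37_ge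

theorem ot_c37_card : Nat.card ↥((grp 351 o_O) ⊓ Subgroup.centralizer {Net.toPerm 351 o_g519}) = 27 :=
  card_cent ot_c37_sym ot_c37_cnt ot_c37_ge

theorem ot_c37_ord : orderOf (Net.toPerm 351 o_g519) = 9 :=
  orderOf_net o_hn o_hk o_g519_ok (by decide) (ps := [3]) (by set_option linter.unusedSimpArgs false in simp [Nat.primeFactorsList_ofNat]) (by decide +kernel)

theorem o_le528 : grp 351 ot_c38_K ≤ grp 351 o_lb_E :=
  grp_le_of_memB o_hn o_hk o_lb_E_ok ot_c38_K_ok (ws := [nat_lit 0x454331392725281d11161d01290d, nat_lit 0x3125221d2520111e012107]) (by decide +kernel)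

theorem ot_c38_le : grp 351 ot_c38_K ≤ (grp 351 o_O) :=
  (o_le528.trans o_T76_s0.le)

theorem ot_c38_mem : Net.toPerm 351 o_g526 ∈ (grp 351 o_O) :=
  ot_c38_le (toPerm_mem_grp (E := ot_c38_K) (List.Mem.head _))

theorem ot_c38_sym : Sym 351 (grp 351 o_O) [o_g526] ot_c38_K 0 :=
  Sym.of_lab o_hn o_hk (okE_cons.2 ⟨o_g526_ok, okE_nil _⟩) ot_c38_K_ok ot_c38_le (kT := 0) (by decide +kernel)

noncomputable def ot_c38_cnt_L : List ℕ := [1, 2, o_T76_s1_O, 0, 0, 2, 5, o_T76_s8_O, 0, 0, 3, 10, o_T76_s9_O, 0, 0, 4, 20, o_T76_s10_O, 0, 0, 9, 18, o_T76_s102_O, 1, 0]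

theorem ot_c38_cnt_P : Prob 351 9 (grp 351 o_O) ot_c38_cnt_EG [o_g526] [o_g526] ot_c38_K ot_c38_cnt_L 0 0 :=
  Sym.prob o_hn o_hk ot_c38_sym ot_c38_cnt_EG_ok (grp_cons_le o_b_o_T76 (grp_cons_le o_c_o_T76 (grp_cons_le o_d_o_T76 (grp_cons_le o_e_o_T76 (grp_cons_le o_f_o_T76 (grp_cons_le o_g_o_T76 (grp_cons_le o_h_o_T76 (grp_cons_le o_i_o_T76 (grp_cons_le o_g1_o_T76 (grp_cons_le o_g2_o_T76 (grp_cons_le o_g3_o_T76 (grp_cons_le o_g4_o_T76 (grp_cons_le o_g5_o_T76 (grp_cons_le o_g8_o_T76 (grp_cons_le o_g9_o_T76 (grp_cons_le o_g12_o_T76 (grp_cons_le o_g13_o_T76 (grp_cons_le o_g14_o_T76 (grp_cons_le o_g17_o_T76 (grp_cons_le o_g18_o_T76 (grp_cons_le o_g19_o_T76 (grp_cons_le o_g20_o_T76 (grp_cons_le o_g23_o_T76 (grp_cons_le o_g24_o_T76 (grp_cons_le o_g25_o_T76 (grp_cons_le o_g26_o_T76 (grp_cons_le o_g27_o_T76 (grp_cons_le o_g30_o_T76 (grp_cons_le o_g31_o_T76 (grp_cons_le o_g32_o_T76 (grp_cons_le o_g35_o_T76 (grp_nil_le _)))))))))))))))))))))))))))))))) (Frames.cons o_T76_s1_F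 (Frames.cons o_T76_s8_F (Frames.cons o_T76_s9_F (Frames.cons o_T76_s10_F (Frames.cons o_T76_s102_F Frames.nil))))) (okE_cons.2 ⟨o_g526_ok, okE_nil _⟩) _

noncomputable def ot_c38_cnt_t : BT := (BT.br (nat_lit 2) (nat_lit 0) [nat_lit 1, nat_lit 3] (BT.dead (nat_lit 31) (BT.frm (nat_lit 0) (nat_lit 0) (nat_lit 0x105390f) [nat_lit 0] (BT.pln (nat_lit 0) (nat_lit 1) (BT.img (nat_lit 1) (nat_lit 2) (BT.img (nat_lit 1) (nat_lit 0) (BT.img (nat_lit 1) (nat_lit 0) (BT.and (nat_lit 3) (nat_lit 0) (BT.cnt (nat_lit 0)))))))) (BT.dead (nat_lit 25) (BT.frm (nat_lit 0) (nat_lit 0) (nat_lit 0x105111e) [nat_lit 0] (BT.pln (nat_lit 0) (nat_lit 1) (BT.img (nat_lit 1) (nat_lit 2) (BT.img (nat_lit 1) (nat_lit 0) (BT.img (nat_lit 1) (nat_lit 0) (BT.and (nat_lit 3) (nat_lit 0) (BT.cnt (nat_lit 0)))))))) (BT.dead (nat_lit 15) (BT.frm (nat_lit 0) (nat_lit 0) (nat_lit 0x1050d13) [nat_lit 0] (BT.pln (nat_lit 0) (nat_lit 1) (BT.img (nat_lit 1) (nat_lit 2) (BT.img (nat_lit 1) (nat_lit 0) (BT.and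 (nat_lit 2) (nat_lit 0) (BT.cnt (nat_lit 0))))))) (BT.dead (nat_lit 23) (BT.frm (nat_lit 0) (nat_lit 0) (nat_lit 0x1032301) [nat_lit 0] (BT.pln (nat_lit 0) (nat_lit 1) (BT.img (nat_lit 1) (nat_lit 2) (BT.and (nat_lit 1) (nat_lit 0) (BT.cnt (nat_lit 0)))))) (BT.dead (nat_lit 4) (BT.frm (nat_lit 0) (nat_lit 0) (nat_lit 70663) [nat_lit 0] (BT.pln (nat_lit 0) (nat_lit 1) (BT.img (nat_lit 1) (nat_lit 2) (BT.img (nat_lit 1) (nat_lit 0) (BT.img (nat_lit 1) (nat_lit 0) (BT.and (nat_lit 3) (nat_lit 0) (BT.cnt (nat_lit 0)))))))) (BT.dead (nat_lit 10) (BT.frm (nat_lit 0) (nat_lit 0) (nat_lit 328461) [nat_lit 0] (BT.pln (nat_lit 0) (nat_lit 1) (BT.img (nat_lit 1) (nat_lit 2) (BT.img (nat_lit 1) (nat_lit 0) (BT.and (nat_lit 2) (nat_lit 0) (BT.cnt (nat_lit 0))))))) (BT.dead (nat_lit 5) (BT.frm (nat_lit 0) (nat_lit 0) (nat_lit 75785) [nat_lit 0] (BT.pln (nat_lit 0) (nat_lit 1) (BT.img (nat_lit 1) (nat_lit 2) (BT.img (nat_lit 1) (nat_lit 0) (BT.and (nat_lit 2) (nat_lit 0) (BT.cnt (nat_lit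 0))))))) (BT.dead (nat_lit 51) (BT.frm (nat_lit 0) (nat_lit 0) (nat_lit 74780) [nat_lit 0] (BT.pln (nat_lit 0) (nat_lit 1) (BT.img (nat_lit 1) (nat_lit 2) (BT.and (nat_lit 1) (nat_lit 0) (BT.cnt (nat_lit 0)))))) (BT.dead (nat_lit 20) (BT.frm (nat_lit 0) (nat_lit 0) (nat_lit 74010) [nat_lit 0] (BT.pln (nat_lit 0) (nat_lit 1) (BT.img (nat_lit 1) (nat_lit 2) (BT.and (nat_lit 1) (nat_lit 0) (BT.cnt (nat_lit 0)))))) (BT.dead (nat_lit 3) (BT.frm (nat_lit 0) (nat_lit 0) (nat_lit 77569) [nat_lit 0] (BT.pln (nat_lit 0) (nat_lit 1) (BT.img (nat_lit 1) (nat_lit 2) (BT.and (nat_lit 1) (nat_lit 0) (BT.cnt (nat_lit 0)))))) (BT.dead (nat_lit 2) (BT.frm (nat_lit 0) (nat_lit 0) (nat_lit 1287) [nat_lit 0] (BT.pln (nat_lit 0) (nat_lit 1) (BT.img (nat_lit 1) (nat_lit 2) (BT.img (nat_lit 1) (nat_lit 0) (BT.img (nat_lit 1) (nat_lit 0) (BT.and (nat_lit 3) (nat_lit 0) (BT.cnt (nat_lit 0)))))))) (BT.dead (nat_lit 12) (BT.frm (nat_lit 0) (nat_lit 0) (nat_lit 276) [nat_lit 0] (BT.pln (nat_lit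 0) (nat_lit 1) (BT.img (nat_lit 1) (nat_lit 2) (BT.and (nat_lit 1) (nat_lit 0) (BT.cnt (nat_lit 0)))))) (BT.dead (nat_lit 11) (BT.frm (nat_lit 0) (nat_lit 0) (nat_lit 1283) [nat_lit 0] (BT.pln (nat_lit 0) (nat_lit 1) (BT.img (nat_lit 1) (nat_lit 2) (BT.and (nat_lit 1) (nat_lit 0) (BT.cnt (nat_lit 0)))))) (BT.dead (nat_lit 8) (BT.frm (nat_lit 0) (nat_lit 0) (nat_lit 1333) [nat_lit 0] (BT.pln (nat_lit 0) (nat_lit 1) (BT.img (nat_lit 1) (nat_lit 2) (BT.and (nat_lit 1) (nat_lit 0) (BT.cnt (nat_lit 0)))))) (BT.kid (nat_lit 0) (nat_lit 1) (BT.img (nat_lit 1) (nat_lit 0) (BT.img (nat_lit 1) (nat_lit 0) (BT.img (nat_lit 1) (nat_lit 0) (BT.img (nat_lit 1) (nat_lit 0) (BT.frm (nat_lit 1) (nat_lit 4634) (nat_lit 4634) [nat_lit 0, nat_lit 4] (BT.pln (nat_lit 0) (nat_lit 2) (BT.frm (nat_lit 0) (nat_lit 0) (nat_lit 0) [nat_lit 6] (BT.pln (nat_lit 0) (nat_lit 1) (BT.dif (nat_lit 0) (nat_lit 4) (BT.img (nat_lit 1) (nat_lit 5) (BT.dif (nat_lit 1) (nat_lit 0) (BT.img (nat_lit 1) (nat_lit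 0) (BT.and (nat_lit 6) (nat_lit 0) (BT.and (nat_lit 5) (nat_lit 1) (BT.img (nat_lit 1) (nat_lit 0) (BT.and (nat_lit 2) (nat_lit 0) (BT.and (nat_lit 8) (nat_lit 1) (BT.img (nat_lit 1) (nat_lit 0) (BT.dif (nat_lit 2) (nat_lit 0) (BT.pln (nat_lit 14) (nat_lit 4) (BT.and (nat_lit 12) (nat_lit 0) (BT.dif (nat_lit 0) (nat_lit 9) (BT.dif (nat_lit 25) (nat_lit 14) (BT.and (nat_lit 0) (nat_lit 11) (BT.and (nat_lit 0) (nat_lit 6) (BT.and (nat_lit 8) (nat_lit 7) (BT.img (nat_lit 1) (nat_lit 0) (BT.and (nat_lit 10) (nat_lit 0) (BT.img (nat_lit 1) (nat_lit 0) (BT.and (nat_lit 4) (nat_lit 0) (BT.img (nat_lit 1) (nat_lit 0) (BT.and (nat_lit 9) (nat_lit 0) (BT.frm (nat_lit 3) (nat_lit 0x232b1b1d121a) (nat_lit 0x232b1b1d121a) [nat_lit 0, nat_lit 4, nat_lit 28, nat_lit 32] (BT.pln (nat_lit 0) (nat_lit 8) (BT.and (nat_lit 15) (nat_lit 0) (BT.dif (nat_lit 27) (nat_lit 23) (BT.and (nat_lit 0) (nat_lit 5) (BT.img (nat_lit 1) (nat_lit 0) (BT.and (nat_lit 24) (nat_lit 0) (BT.img (nat_lit 1)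 (nat_lit 0) (BT.dif (nat_lit 5) (nat_lit 0) (BT.and (nat_lit 25) (nat_lit 23) (BT.frm (nat_lit 2) (nat_lit 0x1b1d121a) (nat_lit 0x1b1d121a) [nat_lit 14, nat_lit 38, nat_lit 42] (BT.pln (nat_lit 0) (nat_lit 5) (BT.dif (nat_lit 2) (nat_lit 0) (BT.pln (nat_lit 40) (nat_lit 3) (BT.and (nat_lit 38) (nat_lit 0) (BT.dif (nat_lit 0) (nat_lit 35) (BT.dif (nat_lit 0) (nat_lit 38) (BT.dif (nat_lit 26) (nat_lit 43) (BT.dif (nat_lit 0) (nat_lit 38) (BT.dif (nat_lit 0) (nat_lit 51) (BT.dif (nat_lit 0) (nat_lit 51) (BT.dif (nat_lit 0) (nat_lit 51) (BT.dif (nat_lit 0) (nat_lit 51) (BT.img (nat_lit 1) (nat_lit 45) (BT.dif (nat_lit 1) (nat_lit 0) (BT.img (nat_lit 1) (nat_lit 1) (BT.dif (nat_lit 1) (nat_lit 0) (BT.pln (nat_lit 16) (nat_lit 4) (BT.and (nat_lit 1) (nat_lit 0) (BT.dif (nat_lit 38) (nat_lit 49) (BT.dif (nat_lit 0) (nat_lit 62) (BT.dif (nat_lit 0) (nat_lit 62) (BT.dif (nat_lit 0) (nat_lit 62) (BT.dif (nat_lit 0) (nat_lit 62) (BT.dif (nat_lit 41) (nat_lit 39) (BT.img (nat_lit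 1) (nat_lit 0) (BT.and (nat_lit 6) (nat_lit 0) (BT.img (nat_lit 1) (nat_lit 0) (BT.and (nat_lit 4) (nat_lit 0) (BT.img (nat_lit 1) (nat_lit 0) (BT.and (nat_lit 6) (nat_lit 0) (BT.img (nat_lit 1) (nat_lit 0) (BT.and (nat_lit 15) (nat_lit 0) (BT.dif (nat_lit 0) (nat_lit 15) (BT.img (nat_lit 1) (nat_lit 0) (BT.and (nat_lit 16) (nat_lit 0) (BT.img (nat_lit 1) (nat_lit 0) (BT.and (nat_lit 30) (nat_lit 0) (BT.pln (nat_lit 47) (nat_lit 14) (BT.and (nat_lit 26) (nat_lit 0) (BT.and (nat_lit 58) (nat_lit 67) (BT.dif (nat_lit 0) (nat_lit 65) (BT.dif (nat_lit 0) (nat_lit 44) (BT.img (nat_lit 1) (nat_lit 0) (BT.and (nat_lit 4) (nat_lit 0) (BT.dif (nat_lit 73) (nat_lit 72) (BT.dif (nat_lit 64) (nat_lit 73) (BT.and (nat_lit 64) (nat_lit 62) (BT.dif (nat_lit 0) (nat_lit 61) (BT.img (nat_lit 1) (nat_lit 0) (BT.and (nat_lit 28) (nat_lit 0) (BT.img (nat_lit 1) (nat_lit 0) (BT.and (nat_lit 58) (nat_lit 0) (BT.img (nat_lit 1) (nat_lit 0) (BT.and (nat_lit 7) (nat_lit 0) (BT.img (nat_lit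 1) (nat_lit 0) (BT.and (nat_lit 34) (nat_lit 0) (BT.img (nat_lit 1) (nat_lit 0) (BT.and (nat_lit 64) (nat_lit 0) (BT.img (nat_lit 1) (nat_lit 0) (BT.dif (nat_lit 14) (nat_lit 0) (BT.dif (nat_lit 67) (nat_lit 99) (BT.dif (nat_lit 0) (nat_lit 94) (BT.dif (nat_lit 39) (nat_lit 49) (BT.dif (nat_lit 0) (nat_lit 48) (BT.img (nat_lit 1) (nat_lit 49) (BT.dif (nat_lit 1) (nat_lit 0) (BT.and (nat_lit 45) (nat_lit 23) (BT.img (nat_lit 1) (nat_lit 0) (BT.and (nat_lit 6) (nat_lit 0) (BT.img (nat_lit 1) (nat_lit 0) (BT.and (nat_lit 24) (nat_lit 0) (BT.img (nat_lit 1) (nat_lit 0) (BT.and (nat_lit 6) (nat_lit 0) (BT.img (nat_lit 1) (nat_lit 0) (BT.and (nat_lit 12) (nat_lit 0) (BT.img (nat_lit 1) (nat_lit 0) (BT.and (nat_lit 30) (nat_lit 0) (BT.img (nat_lit 1) (nat_lit 0) (BT.and (nat_lit 16) (nat_lit 0) (BT.img (nat_lit 1) (nat_lit 0) (BT.and (nat_lit 20) (nat_lit 0) (BT.img (nat_lit 1) (nat_lit 0) (BT.and (nat_lit 40) (nat_lit 0) (BT.img (nat_lit 1) (nat_lit 0) (BT.and (nat_lit 40)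 (nat_lit 0) (BT.and (nat_lit 107) (nat_lit 116) (BT.dif (nat_lit 0) (nat_lit 114) (BT.pln (nat_lit 87) (nat_lit 7) (BT.dif (nat_lit 1) (nat_lit 0) (BT.and (nat_lit 0) (nat_lit 30) (BT.one (nat_lit 4) (nat_lit 0xb3d372d3525232b1b1d121a) (nat_lit 0xb3d372d3525232b1b1d121a) [nat_lit 92, nat_lit 88, nat_lit 53, nat_lit 5, nat_lit 0, nat_lit 96, nat_lit 105, nat_lit 129, nat_lit 133])))))))))))))))))))))))))))))))))))))))))))))))))))))))))))))))))))))))))))))))))))))))))))))))))))))))))))))))))))))))))))))))))))))) BT.nil))))))))))))))))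

theorem ot_c38_cnt : Cnt 351 (grp 351 o_O) [o_g526] [o_g526] 0 0 0 0 27 :=
  BT.sound ot_c38_cnt_P Known.nil (t := ot_c38_cnt_t) (d := 0) (by decide +kernel)

theorem ot_c38_ge : 27 ≤ Nat.card (grp 351 ot_c38_K) :=
  Ch.le_card_grp (k := 9) (L := (lab 351 9)) o_hn ot_c38_K_ok (c := (Ch.cons (nat_lit 0) [nat_lit 1, nat_lit 3] Ch.nil)) (by decide +kernel)

theorem ot_c38_eq : (grp 351 o_O) ⊓ Subgroup.centralizer {Net.toPerm 351 o_g526} = grp 351 ot_c38_K :=
  cent_eq ot_c38_sym ot_c38_cnt ot_c38_ge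

theorem ot_c38_card : Nat.card ↥((grp 351 o_O) ⊓ Subgroup.centralizer {Net.toPerm 351 o_g526}) = 27 :=
  card_cent ot_c38_sym ot_c38_cnt ot_c38_ge

theorem ot_c38_ord : orderOf (Net.toPerm 351 o_g526) = 9 :=
  orderOf_net o_hn o_hk o_g526_ok (by decide) (ps := [3]) (by set_option linter.unusedSimpArgs false in simp [Nat.primeFactorsList_ofNat]) (by decide +kernel)

theorem o_le533 : grp 351 ot_c39_K ≤ grp 351 o_lb_E :=
  grp_le_of_memB o_hn o_hk o_lb_E_ok ot_c39_K_ok (ws := [nat_lit 0x43312721241f2311131e010319, nat_lit 0x433b3727252d1d281d121c01190f1f, nat_lit 0x433728261d1f1e1929011e2d, nat_lit 0x3b392725211f231121170105111f]) (by decide +kernel)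

theorem ot_c39_le : grp 351 ot_c39_K ≤ (grp 351 o_O) :=
  (o_le533.trans o_T76_s0.le)

theorem ot_c39_mem : Net.toPerm 351 o_g529 ∈ (grp 351 o_O) :=
  ot_c39_le (toPerm_mem_grp (E := ot_c39_K) (List.Mem.head _))

theorem ot_c39_sym : Sym 351 (grp 351 o_O) [o_g529] ot_c39_K 0 :=
  Sym.of_lab o_hn o_hk (okE_cons.2 ⟨o_g529_ok, okE_nil _⟩) ot_c39_K_ok ot_c39_le (kT := 0) (by decide +kernel)

noncomputable def ot_c39_cnt_L : List ℕ := [1, 2, o_T76_s1_O, 0, 0, 3, 19, o_T76_s51_O, 0, 0, 4, 10, o_T76_s52_O, 0, 0, 6, 15, o_T76_s54_O, 1, 0]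

theorem ot_c39_cnt_P : Prob 351 9 (grp 351 o_O) ot_c39_cnt_EG [o_g529] [o_g529] ot_c39_K ot_c39_cnt_L 0 0 :=
  Sym.prob o_hn o_hk ot_c39_sym ot_c39_cnt_EG_ok (grp_cons_le o_b_o_T76 (grp_cons_le o_c_o_T76 (grp_cons_le o_d_o_T76 (grp_cons_le o_e_o_T76 (grp_cons_le o_f_o_T76 (grp_cons_le o_g_o_T76 (grp_cons_le o_h_o_T76 (grp_cons_le o_i_o_T76 (grp_cons_le o_g1_o_T76 (grp_cons_le o_g2_o_T76 (grp_cons_le o_g3_o_T76 (grp_cons_le o_g4_o_T76 (grp_cons_le o_g5_o_T76 (grp_cons_le o_g8_o_T76 (grp_cons_le o_g9_o_T76 (grp_cons_le o_g12_o_T76 (grp_cons_le o_g13_o_T76 (grp_cons_le o_g14_o_T76 (grp_cons_le o_g17_o_T76 (grp_cons_le o_g18_o_T76 (grp_cons_le o_g19_o_T76 (grp_cons_le o_g20_o_T76 (grp_cons_le o_g23_o_T76 (grp_cons_le o_g24_o_T76 (grp_cons_le o_g25_o_T76 (grp_cons_le o_g26_o_T76 (grp_cons_le o_g27_o_T76 (grp_cons_le o_g30_o_T76 (grp_cons_le o_g31_o_T76 (grp_cons_le o_g32_o_T76 (grp_cons_le o_g35_o_T76 (grp_cons_le o_g295_o_T76 (grp_cons_le o_g296_o_T76 (grp_cons_le o_g297_o_T76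 (grp_cons_le o_g298_o_T76 (grp_nil_le _)))))))))))))))))))))))))))))))))))) (Frames.cons o_T76_s1_F (Frames.cons o_T76_s51_F (Frames.cons o_T76_s52_F (Frames.cons o_T76_s54_F Frames.nil)))) (okE_cons.2 ⟨o_g529_ok, okE_nil _⟩) _

noncomputable def ot_c39_cnt_t : BT := (BT.fix (nat_lit 257) (BT.fix (nat_lit 1) (BT.dif (nat_lit 1) (nat_lit 0) (BT.br (nat_lit 0) (nat_lit 46) [nat_lit 3] (BT.kid (nat_lit 46) (nat_lit 10) (BT.dif (nat_lit 1) (nat_lit 0) (BT.img (nat_lit 1) (nat_lit 1) (BT.dif (nat_lit 1) (nat_lit 0) (BT.br (nat_lit 0) (nat_lit 201) [nat_lit 5] (BT.kid (nat_lit 201) (nat_lit 5) (BT.frm (nat_lit 1) (nat_lit 0x1f2c121a0105221a) (nat_lit 0x1f2c121a0105221a) [nat_lit 0, nat_lit 2, nat_lit 4] (BT.pln (nat_lit 0) (nat_lit 10) (BT.br (nat_lit 0) (nat_lit 192) [nat_lit 7] (BT.dead (nat_lit 21) (BT.frm (nat_lit 0) (nat_lit 0x105221a) (nat_lit 0x105221a) [nat_lit 7] (BT.pln (nat_lit 0) (nat_lit 1) (BT.pln (nat_lit 4) (nat_lit 4) (BT.and (nat_lit 1) (nat_lit 0) (BT.frm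 (nat_lit 2) (nat_lit 0x3f3f421f2c121a0105221a) (nat_lit 0x3f3f441f2c121a0105221a) [nat_lit 4, nat_lit 7, nat_lit 9, nat_lit 11] (BT.pln (nat_lit 0) (nat_lit 4) (BT.dif (nat_lit 2) (nat_lit 0) (BT.pln (nat_lit 9) (nat_lit 3) (BT.pln (nat_lit 3) (nat_lit 6) (BT.and (nat_lit 1) (nat_lit 0) (BT.pln (nat_lit 5) (nat_lit 7) (BT.and (nat_lit 7) (nat_lit 0) (BT.img (nat_lit 1) (nat_lit 0) (BT.and (nat_lit 3) (nat_lit 0) (BT.img (nat_lit 1) (nat_lit 0) (BT.and (nat_lit 8) (nat_lit 0) (BT.img (nat_lit 1) (nat_lit 0) (BT.and (nat_lit 0) (nat_lit 8) (BT.cnt (nat_lit 0)))))))))))))))))))) (BT.dead (nat_lit 190) (BT.frm (nat_lit 2) (nat_lit 0x3f3f421f2c121a0105221a) (nat_lit 0x3f3f41401f2c121a0105221a) [nat_lit 0, nat_lit 3, nat_lit 5, nat_lit 7] (BT.pln (nat_lit 0) (nat_lit 4) (BT.img (nat_lit 1) (nat_lit 2) (BT.and (nat_lit 1) (nat_lit 0) (BT.cnt (nat_lit 0)))))) (BT.dead (nat_lit 171) (BT.frm (nat_lit 2) (nat_lit 0x3f3f421f2c121a0105221a) (nat_lit 0x40401f2c121a0105221a) [nat_lit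 0, nat_lit 3, nat_lit 5, nat_lit 7] (BT.pln (nat_lit 0) (nat_lit 4) (BT.img (nat_lit 1) (nat_lit 2) (BT.and (nat_lit 1) (nat_lit 0) (BT.cnt (nat_lit 0)))))) (BT.kid (nat_lit 192) (nat_lit 1) (BT.img (nat_lit 1) (nat_lit 0) (BT.fix (nat_lit 0x101010101) (BT.frm (nat_lit 0) (nat_lit 0x105221a) (nat_lit 0x105221a) [nat_lit 9] (BT.pln (nat_lit 0) (nat_lit 1) (BT.dif (nat_lit 2) (nat_lit 0) (BT.frm (nat_lit 2) (nat_lit 0x3f3f421f2c121a0105221a) (nat_lit 0x3f3f421f2c121a0105221a) [nat_lit 5, nat_lit 8, nat_lit 10, nat_lit 12] (BT.pln (nat_lit 0) (nat_lit 7) (BT.dif (nat_lit 2) (nat_lit 0) (BT.pln (nat_lit 2) (nat_lit 5) (BT.dif (nat_lit 4) (nat_lit 0) (BT.pln (nat_lit 4) (nat_lit 4) (BT.dif (nat_lit 1) (nat_lit 0) (BT.pln (nat_lit 6) (nat_lit 6) (BT.dif (nat_lit 1) (nat_lit 0) (BT.img (nat_lit 1) (nat_lit 0) (BT.and (nat_lit 3) (nat_lit 0) (BT.img (nat_lit 1) (nat_lit 0) (BT.and (nat_lit 9) (nat_lit 0) (BT.one (nat_lit 3) (nat_lit 0x4643463f3f421f2c121a0105221a) (nat_lit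 0x4643463f3f421f2c121a0105221a) [nat_lit 17, nat_lit 0, nat_lit 18, nat_lit 21, nat_lit 23, nat_lit 25]))))))))))))))))))) BT.nil))))))) BT.nil))))) BT.nil)))))

theorem ot_c39_cnt : Cnt 351 (grp 351 o_O) [o_g529] [o_g529] 0 0 0 0 40 :=
  BT.sound ot_c39_cnt_P Known.nil (t := ot_c39_cnt_t) (d := 0) (by decide +kernel)

theorem ot_c39_ge : 40 ≤ Nat.card (grp 351 ot_c39_K) :=
  Ch.le_card_grp (k := 9) (L := (lab 351 9)) o_hn ot_c39_K_ok (c := (Ch.cons (nat_lit 46) [nat_lit 1, nat_lit 3] (Ch.cons (nat_lit 201) [nat_lit 5] (Ch.cons (nat_lit 192) [nat_lit 7] Ch.nil)))) (by decide +kernel)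

theorem ot_c39_eq : (grp 351 o_O) ⊓ Subgroup.centralizer {Net.toPerm 351 o_g529} = grp 351 ot_c39_K :=
  cent_eq ot_c39_sym ot_c39_cnt ot_c39_ge

theorem ot_c39_card : Nat.card ↥((grp 351 o_O) ⊓ Subgroup.centralizer {Net.toPerm 351 o_g529}) = 40 :=
  card_cent ot_c39_sym ot_c39_cnt ot_c39_ge

theorem ot_c39_ord : orderOf (Net.toPerm 351 o_g529) = 10 :=
  orderOf_net o_hn o_hk o_g529_ok (by decide) (ps := [2, 5]) (by set_option linter.unusedSimpArgs false in simp [Nat.primeFactorsList_ofNat]) (by decide +kernel)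

theorem o_le537 : grp 351 ot_c40_K ≤ grp 351 o_lb_E :=
  grp_le_of_memB o_hn o_hk o_lb_E_ok ot_c40_K_ok (ws := [nat_lit 0x45433b392725281e22111922011e23, nat_lit 0x432111051221, nat_lit 0x2f25221d3f1115011e24]) (by decide +kernel)

theorem ot_c40_le : grp 351 ot_c40_K ≤ (grp 351 o_O) :=
  (o_le537.trans o_T76_s0.le)

theorem ot_c40_mem : Net.toPerm 351 o_g534 ∈ (grp 351 o_O) :=
  ot_c40_le (toPerm_mem_grp (E := ot_c40_K) (List.Mem.head _))

theorem ot_c40_sym : Sym 351 (grp 351 o_O) [o_g534] ot_c40_K 0 :=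
  Sym.of_lab o_hn o_hk (okE_cons.2 ⟨o_g534_ok, okE_nil _⟩) ot_c40_K_ok ot_c40_le (kT := 0) (by decide +kernel)

noncomputable def ot_c40_cnt_L : List ℕ := [1, 2, o_T76_s1_O, 0, 0, 3, 19, o_T76_s51_O, 0, 0, 4, 10, o_T76_s52_O, 0, 0, 6, 15, o_T76_s54_O, 1, 0]

theorem ot_c40_cnt_P : Prob 351 9 (grp 351 o_O) ot_c40_cnt_EG [o_g534] [o_g534] ot_c40_K ot_c40_cnt_L 0 0 :=
  Sym.prob o_hn o_hk ot_c40_sym ot_c40_cnt_EG_ok (grp_cons_le o_b_o_T76 (grp_cons_le o_c_o_T76 (grp_cons_le o_d_o_T76 (grp_cons_le o_e_o_T76 (grp_cons_le o_f_o_T76 (grp_cons_le o_g_o_T76 (grp_cons_le o_h_o_T76 (grp_cons_le o_i_o_T76 (grp_cons_le o_g1_o_T76 (grp_cons_le o_g2_o_T76 (grp_cons_le o_g3_o_T76 (grp_cons_le o_g4_o_T76 (grp_cons_le o_g5_o_T76 (grp_cons_le o_g8_o_T76 (grp_cons_le o_g9_o_T76 (grp_cons_le o_g12_o_T76 (grp_cons_le o_g13_o_T76 (grp_cons_le o_g14_o_T76 (grp_cons_le o_g17_o_T76 (grp_cons_le o_g18_o_T76 (grp_cons_le o_g19_o_T76 (grp_cons_le o_g20_o_T76 (grp_cons_le o_g23_o_T76 (grp_cons_le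 o_g24_o_T76 (grp_cons_le o_g25_o_T76 (grp_cons_le o_g26_o_T76 (grp_cons_le o_g27_o_T76 (grp_cons_le o_g30_o_T76 (grp_cons_le o_g31_o_T76 (grp_cons_le o_g32_o_T76 (grp_cons_le o_g35_o_T76 (grp_cons_le o_g295_o_T76 (grp_cons_le o_g296_o_T76 (grp_cons_le o_g297_o_T76 (grp_cons_le o_g298_o_T76 (grp_nil_le _)))))))))))))))))))))))))))))))))))) (Frames.cons o_T76_s1_F (Frames.cons o_T76_s51_F (Frames.cons o_T76_s52_F (Frames.cons o_T76_s54_F Frames.nil)))) (okE_cons.2 ⟨o_g534_ok, okE_nil _⟩) _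

noncomputable def ot_c40_cnt_t : BT := (BT.fix (nat_lit 257) (BT.fix (nat_lit 1) (BT.dif (nat_lit 1) (nat_lit 0) (BT.br (nat_lit 0) (nat_lit 46) [nat_lit 1, nat_lit 3] (BT.kid (nat_lit 46) (nat_lit 5) (BT.frm (nat_lit 0) (nat_lit 0x105221a) (nat_lit 0x105221a) [nat_lit 0] (BT.pln (nat_lit 0) (nat_lit 1) (BT.img (nat_lit 1) (nat_lit 2) (BT.and (nat_lit 6) (nat_lit 1) (BT.frm (nat_lit 1) (nat_lit 0x21121a0105221a) (nat_lit 0x21121a0105221a) [nat_lit 1, nat_lit 0, nat_lit 4] (BT.pln (nat_lit 0) (nat_lit 10) (BT.and (nat_lit 4) (nat_lit 0) (BT.br (nat_lit 0) (nat_lit 322) [nat_lit 5] (BT.dead (nat_lit 19) (BT.fix (nat_lit 0x101010101) (BT.and (nat_lit 7) (nat_lit 0) (BT.frm (nat_lit 2) (nat_lit 0x3f3f4421121a0105221a) (nat_lit 0x3f4421121a0105221a) [nat_lit 2, nat_lit 7, nat_lit 6, nat_lit 10] (BT.pln (nat_lit 0) (nat_lit 5) (BT.dif (nat_lit 2) (nat_lit 0) (BT.pln (nat_lit 2) (nat_lit 7) (BT.and (nat_lit 4) (nat_lit 0) (BT.pln (nat_lit 4) (nat_lit 4) (BT.and (nat_lit 1)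 (nat_lit 0) (BT.img (nat_lit 1) (nat_lit 0) (BT.and (nat_lit 5) (nat_lit 0) (BT.img (nat_lit 1) (nat_lit 0) (BT.and (nat_lit 0) (nat_lit 4) (BT.cnt (nat_lit 0))))))))))))))) (BT.dead (nat_lit 265) (BT.frm (nat_lit 2) (nat_lit 0x3f3f4421121a0105221a) (nat_lit 0x3f3f414321121a0105221a) [nat_lit 0, nat_lit 5, nat_lit 4, nat_lit 8] (BT.pln (nat_lit 0) (nat_lit 4) (BT.img (nat_lit 1) (nat_lit 2) (BT.and (nat_lit 1) (nat_lit 0) (BT.cnt (nat_lit 0)))))) (BT.dead (nat_lit 212) (BT.frm (nat_lit 2) (nat_lit 0x3f3f4421121a0105221a) (nat_lit 0x3f3f4221121a0105221a) [nat_lit 0, nat_lit 5, nat_lit 4, nat_lit 8] (BT.pln (nat_lit 0) (nat_lit 4) (BT.img (nat_lit 1) (nat_lit 2) (BT.and (nat_lit 1) (nat_lit 0) (BT.cnt (nat_lit 0)))))) (BT.kid (nat_lit 322) (nat_lit 1) (BT.pln (nat_lit 3) (nat_lit 14) (BT.pln (nat_lit 4) (nat_lit 11) (BT.frm (nat_lit 2) (nat_lit 0x3f3f4421121a0105221a) (nat_lit 0x3f3f4421121a0105221a) [nat_lit 2, nat_lit 7, nat_lit 6, nat_lit 10] (BT.pln (nat_lit 0) (nat_lit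 9) (BT.and (nat_lit 2) (nat_lit 0) (BT.pln (nat_lit 2) (nat_lit 6) (BT.and (nat_lit 1) (nat_lit 0) (BT.img (nat_lit 1) (nat_lit 0) (BT.and (nat_lit 7) (nat_lit 0) (BT.fix (nat_lit 0x101010101) (BT.dif (nat_lit 0) (nat_lit 16) (BT.pln (nat_lit 14) (nat_lit 6) (BT.and (nat_lit 1) (nat_lit 0) (BT.pln (nat_lit 10) (nat_lit 5) (BT.and (nat_lit 1) (nat_lit 0) (BT.pln (nat_lit 12) (nat_lit 4) (BT.and (nat_lit 3) (nat_lit 0) (BT.dif (nat_lit 4) (nat_lit 3) (BT.dif (nat_lit 0) (nat_lit 2) (BT.img (nat_lit 1) (nat_lit 0) (BT.and (nat_lit 3) (nat_lit 0) (BT.img (nat_lit 1) (nat_lit 0) (BT.and (nat_lit 11) (nat_lit 0) (BT.img (nat_lit 1) (nat_lit 0) (BT.and (nat_lit 9) (nat_lit 0) (BT.one (nat_lit 3) (nat_lit 0x4541453f3f4421121a0105221a) (nat_lit 0x4541453f3f4421121a0105221a) [nat_lit 16, nat_lit 0, nat_lit 25, nat_lit 30, nat_lit 29, nat_lit 33])))))))))))))))))))))))))) BT.nil)))))))))))) BT.nil)))))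

theorem ot_c40_cnt : Cnt 351 (grp 351 o_O) [o_g534] [o_g534] 0 0 0 0 20 :=
  BT.sound ot_c40_cnt_P Known.nil (t := ot_c40_cnt_t) (d := 0) (by decide +kernel)

theorem ot_c40_ge : 20 ≤ Nat.card (grp 351 ot_c40_K) :=
  Ch.le_card_grp (k := 9) (L := (lab 351 9)) o_hn ot_c40_K_ok (c := (Ch.cons (nat_lit 46) [nat_lit 1, nat_lit 3] (Ch.cons (nat_lit 322) [nat_lit 5] Ch.nil))) (by decide +kernel)

theorem ot_c40_eq : (grp 351 o_O) ⊓ Subgroup.centralizer {Net.toPerm 351 o_g534} = grp 351 ot_c40_K :=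
  cent_eq ot_c40_sym ot_c40_cnt ot_c40_ge

theorem ot_c40_card : Nat.card ↥((grp 351 o_O) ⊓ Subgroup.centralizer {Net.toPerm 351 o_g534}) = 20 :=
  card_cent ot_c40_sym ot_c40_cnt ot_c40_ge

theorem ot_c40_ord : orderOf (Net.toPerm 351 o_g534) = 10 :=
  orderOf_net o_hn o_hk o_g534_ok (by decide) (ps := [2, 5]) (by set_option linter.unusedSimpArgs false in simp [Nat.primeFactorsList_ofNat]) (by decide +kernel)

theorem o_le542 : grp 351 ot_c41_K ≤ grp 351 o_lb_E :=
  grp_le_of_memB o_hn o_hk o_lb_E_ok ot_c41_K_ok (ws := [nat_lit 0x453b1f21012321, nat_lit 0x45313925241d23261129010527, nat_lit 0x45433b2f3928251d25201217, nat_lit 0x45433b372825211d25201217]) (by decide +kernel)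

theorem ot_c41_le : grp 351 ot_c41_K ≤ (grp 351 o_O) :=
  (o_le542.trans o_T76_s0.le)

theorem ot_c41_mem : Net.toPerm 351 o_g538 ∈ (grp 351 o_O) :=
  ot_c41_le (toPerm_mem_grp (E := ot_c41_K) (List.Mem.head _))

theorem ot_c41_sym : Sym 351 (grp 351 o_O) [o_g538] ot_c41_K 0 :=
  Sym.of_lab o_hn o_hk (okE_cons.2 ⟨o_g538_ok, okE_nil _⟩) ot_c41_K_ok ot_c41_le (kT := 0) (by decide +kernel)

theorem o_le546 : grp 351 o_V545 ≤ grp 351 o_V299 :=
  grp_le_of_memB o_hn o_hk o_V299_ok o_V545_ok (ws := [nat_lit 0x8060203, nat_lit 2051, nat_lit 2054]) (by decide +kernel)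

theorem o_T76_s103 : Stab 351 (grp 351 o_O) [nat_lit 13, nat_lit 144, nat_lit 3, nat_lit 0] o_V545 24 :=
  Stab.step (k := 9) (L := (lab 351 9)) o_hn o_T76_s51 o_V545_ok o_le546 (c := (Ch.cons (nat_lit 44) [nat_lit 1] (Ch.cons (nat_lit 329) [nat_lit 3] (Ch.cons (nat_lit 143) [nat_lit 5] Ch.nil)))) (by decide +kernel)

theorem o_T76_s104 : Stab 351 (grp 351 o_O) [nat_lit 44, nat_lit 13, nat_lit 144, nat_lit 3, nat_lit 0] o_V547 4 :=
  Stab.step (k := 9) (L := (lab 351 9)) o_hn o_T76_s103 o_V547_ok (grp_mono (List.subset_append_right [o_g543] _)) (c := (Ch.cons (nat_lit 329) [nat_lit 1] (Ch.cons (nat_lit 143) [nat_lit 3] Ch.nil))) (by decide +kernel)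

theorem o_T76_s105 : Stab 351 (grp 351 o_O) [nat_lit 329, nat_lit 44, nat_lit 13, nat_lit 144, nat_lit 3, nat_lit 0] o_V548 2 :=
  Stab.step (k := 9) (L := (lab 351 9)) o_hn o_T76_s104 o_V548_ok (grp_mono (List.subset_append_right [o_g30] _)) (c := (Ch.cons (nat_lit 143) [nat_lit 1] Ch.nil)) (by decide +kernel)

theorem o_T76_s106 : Stab 351 (grp 351 o_O) [nat_lit 143, nat_lit 329, nat_lit 44, nat_lit 13, nat_lit 144, nat_lit 3, nat_lit 0] o_V549 1 :=
  Stab.step (k := 9) (L := (lab 351 9)) o_hn o_T76_s105 o_V549_ok (grp_mono (List.subset_append_right [o_g544] _)) (c := Ch.nil) (by decide +kernel)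

theorem o_g543_o_T76 : Net.toPerm 351 o_g543 ∈ (grp 351 o_O) :=
  o_T76_s103.le (toPerm_mem_grp (E := o_V545) (List.Mem.head _))

theorem o_g544_o_T76 : Net.toPerm 351 o_g544 ∈ (grp 351 o_O) :=
  o_T76_s103.le (toPerm_mem_grp (E := o_V545) (List.Mem.tail _ (List.Mem.tail _ (List.Mem.head _))))

noncomputable def o_T76_s106_O : ℕ := (nat_lit 0xfffffffffffffffffffffffe0000000000000000000000000000000000000000000000000000000000000000000000000000000000000003fffffffffffffffffffffffffffffffc00000000000000000000000000000003fffffff80000000000000007fffffffffffffff80000000000000007fffffffffffffff800000000000000000000000ffffffff00000000ffffffff00000000ffffffff00000000ffffffff00000000ffffffff00000000fffe0001fffe0001fffe0001fffe0001fffe0001fffe0001fffe0001fffe0001fffe0001fffe0001fffe0001fc03fc03fc03fc03fc03fc03fc03fc03fc03fc03fc03fc03fc03fc03fc03fc03fc03fc03fc03fc03fc03fc038787878787878787878787878787878787878787878787878787878787878787878787878787878787878784cccccccccccccccccc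ccccccccccccccccccccccccccccccccccccccccccccccccccccccccccccccccccccc555555555555555555555555555555555555555555555555555555555555555555555555555555555555555400000000000000000000000000000000000000000000000000000000000000000000000000000000000000040000000000000000000000000000000000000000000000000000000000000000000000000000000000000040000000000000000000000000000000000000000000000000001000000000000000000000000000000000000000000000000000000000000000000000000000000000000000000000000000000000000000000000000400000000000000000000000000000000000000000000000000000000000000000000000000000004000000000000000100000000000000000000000000000000000000000000000000000000000000000000000000000000000000000000000000000000000000000000000000000000000000800000000000000000000000000000000000)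

theorem o_T76_s106_F : Frame 351 (grp 351 o_O) 7 16 o_T76_s106_O 1 1 :=
  IsBase.frame o_T76_s106.isBase (by decide +kernel)

noncomputable def o_T76_s105_O : ℕ := (nat_lit 0x290b502160d2eb8550e30a6a7d528444ac9e890800588d10401500a143009100998800a1e36b2000000000007ff6adc3efefff4ee5df7fd4e418357204c0ad4a3a4644196b10141c79fedd000000000000000806ada091a4e46dc0e8201450ca8c32d600377a5d53f77afdff5963774929088402000001fd99dffd786000100d5b4123481525727bb7975cac600200007e9d2f35fc8000810113146dacfbbf6f98048bfffbb0000024a6bffeb68246926e4a29d78f7942a72efbd900df2a523122e89986be622efaa3530b14efc007f4089fea1e494d6037faf00003b35559ed302f405f59904f91f98b1ede65fcd84817d54042f2a3da11b87e2f04d93c3f00fe80bc6d2e1dc007705297f59d59749d0e9c95930f80f597435a697a2ec563c70d821b434ce319ad2e6651e1e2b1668f1728780c74cc6ed6372c93725a931b55ccdd20c5c53e6638185a7c487d929d34d52d2ad552aacaab2ccaaa99a562cc00000000000000000000000000000000000000000000000000000000000000000000000000000000000000008000000000000000000000000000000000000000000000000000000000000000000000000000000000000008000000000000000000000000000000000000000000000000000200000000000000000000000000000000000000000000000000000000000000000000000000000000000000000000000000000000000000000000000080000000000000000000000000000000000000000000000000000000000000000000000000000000800000000000000020000000000000000000000000000000000000000000000000000000000000000000000000000000000)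

theorem o_T76_s105_F : Frame 351 (grp 351 o_O) 6 14 o_T76_s105_O 0 1 :=
  Stab.frame o_hn o_T76_s105 (by decide +kernel)

noncomputable def o_T76_s104_O : ℕ := (nat_lit 0x101600020085000820800490028400080031021000100000000a010002002200000000000000000000000000c44144a39ec5ae0502ac2689fa727166b2183884014234610e600cbd8821ab42443082060c081000010022098c22888204cb995b147c2c3fa064b2902638e234a120820002000200000400044400a5ff9f59341ab78f66dae3f47733cf6ce04d1603a680a1001a2db0062e3c352ffdefdd222681c060027aea3dffffbeb2683004008823ef63de7e68a49321914730d1ab5514a547386e742af7f8b6810380be9dfd80999a0293fc60daae0a163c8002de28b7128be3630422dc6c44f5c95f8ee0009eca179896fc33dc01f82c20bef818b52e65373c0339bc4236d21bbc48291be299d064bf1326b0a765db8f0956ddc6fc3e46a90b63c7ce635459bd0f4309c241e62f3365283b561abd539e0b96aaf2e866613e0791d255ca4c4c42b4b76c7659a642bbb26683b59875562e432ac4dea1c80000000000000000000000000000000000000000000000000000000000000000000000000000000000000001000000000000000000000000000000000000000000000000000000000000000000000000000000000000001000000000000000000000000000000000000000000000000000040000000000000000000000000000000000000000000000000000000000000000000000000000000000000000000000000000000000000000000000010000000000000000000000000000000000000000000000000000000000000000000000000000000100000000000)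

theorem o_T76_s104_F : Frame 351 (grp 351 o_O) 5 13 o_T76_s104_O 0 1 :=
  Stab.frame o_hn o_T76_s104 (by decide +kernel)

noncomputable def o_T76_s103_O : ℕ := (nat_lit 0x300a5001819243040041000a1088044900988148000800000005018000083990900c009103000000004008821b0a1b36908b2024e31c4780c28c562ca608d1288640c104000460003b0d80cec867a6c1119c7e0080000000259684710186b0915aab5f6185de2058019060a4f13400a70c35198a8dc319200500c08213ebbb7bc3d92208a3172331f8362140b28deea7c87a47bd9f6ec450bc47fc2ca1bb0868eb73096de172156126db00ad404d38031a1757ab0565c69d5667466c70d11b3f33d3569f82c6756dc9a0071b158186ab6eb9d7348a88c9e05b1ace010ecab2cf5c8dd019902e04cd241f39ec47a9cb0910873ff9c98f30ae7f6a30f9e0bf8a96d4cb4751c4d54a4000000000000000000000000000000000000000000000000000000000000000000000000000000000000000200000000000000000000000000000000000000000000000000000000000000000000000000000000000000200000000000000000000000000000000000000000000000000008000000000000000000000000000000000000000000000000000000000000000000000000000000000000000000000000000000000000000000000002000)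

theorem o_T76_s103_F : Frame 351 (grp 351 o_O) 4 10 o_T76_s103_O 0 1 :=
  Stab.frame o_hn o_T76_s103 (by decide +kernel)

noncomputable def ot_c41_cnt_L : List ℕ := [3, 19, o_T76_s51_O, 0, 0, 4, 10, o_T76_s103_O, 0, 0, 5, 13, o_T76_s104_O, 0, 0, 6, 14, o_T76_s105_O, 0, 0, 7, 16, o_T76_s106_O, 1, 0]

theorem ot_c41_cnt_P : Prob 351 9 (grp 351 o_O) ot_c41_cnt_EG [o_g538] [o_g538] ot_c41_K ot_c41_cnt_L 0 0 :=
  Sym.prob o_hn o_hk ot_c41_sym ot_c41_cnt_EG_ok (grp_cons_le o_g8_o_T76 (grp_cons_le o_g9_o_T76 (grp_cons_le o_g12_o_T76 (grp_cons_le o_g13_o_T76 (grp_cons_le o_g14_o_T76 (grp_cons_le o_g17_o_T76 (grp_cons_le o_g18_o_T76 (grp_cons_le o_g19_o_T76 (grp_cons_le o_g20_o_T76 (grp_cons_le o_g23_o_T76 (grp_cons_le o_g24_o_T76 (grp_cons_le o_g25_o_T76 (grp_cons_le o_g26_o_T76 (grp_cons_le o_c_o_T76 (grp_cons_le o_g27_o_T76 (grp_cons_le o_g30_o_T76 (grp_cons_le o_g31_o_T76 (grp_cons_le o_g32_o_T76 (grp_cons_le o_g_o_T76 (grp_cons_le o_g35_o_T76 (grp_cons_le o_g1_o_T76 (grp_cons_le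 o_g2_o_T76 (grp_cons_le o_g3_o_T76 (grp_cons_le o_g4_o_T76 (grp_cons_le o_g5_o_T76 (grp_cons_le o_b_o_T76 (grp_cons_le o_d_o_T76 (grp_cons_le o_e_o_T76 (grp_cons_le o_f_o_T76 (grp_cons_le o_h_o_T76 (grp_cons_le o_i_o_T76 (grp_cons_le o_g295_o_T76 (grp_cons_le o_g296_o_T76 (grp_cons_le o_g297_o_T76 (grp_cons_le o_g298_o_T76 (grp_cons_le o_g543_o_T76 (grp_cons_le o_g544_o_T76 (grp_nil_le _)))))))))))))))))))))))))))))))))))))) (Frames.cons o_T76_s51_F (Frames.cons o_T76_s103_F (Frames.cons o_T76_s104_F (Frames.cons o_T76_s105_F (Frames.cons o_T76_s106_F Frames.nil))))) (okE_cons.2 ⟨o_g538_ok, okE_nil _⟩) _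

noncomputable def ot_c41_cnt_t : BT := (BT.fix (nat_lit 0x10101010101) (BT.fix (nat_lit 1) (BT.dif (nat_lit 1) (nat_lit 0) (BT.br (nat_lit 0) (nat_lit 65) [nat_lit 1] (BT.dead (nat_lit 141) (BT.img (nat_lit 1) (nat_lit 0) (BT.img (nat_lit 1) (nat_lit 0) (BT.img (nat_lit 1) (nat_lit 0) (BT.frm (nat_lit 0) (nat_lit 0x20a29122933060f) (nat_lit 0x40f29082a331503) [nat_lit 2, nat_lit 0, nat_lit 3] (BT.pln (nat_lit 0) (nat_lit 13) (BT.frm (nat_lit 1) (nat_lit 0x453f020a29122933060f) (nat_lit 0x40040f29082a331503) [nat_lit 3, nat_lit 4, nat_lit 2, nat_lit 5] (BT.pln (nat_lit 0) (nat_lit 6) (BT.dif (nat_lit 2) (nat_lit 0) (BT.br (nat_lit 0) (nat_lit 9) [nat_lit 4] (BT.dead (nat_lit 69) (BT.frm (nat_lit 2) (nat_lit 0x47453f020a29122933060f) (nat_lit 0x47474740040f29082a331503) [nat_lit 0, nat_lit 7, nat_lit 8, nat_lit 6, nat_lit 9] (BT.pln (nat_lit 0) (nat_lit 5) (BT.img (nat_lit 1) (nat_lit 2) (BT.img (nat_lit 1) (nat_lit 0) (BT.img (nat_lit 1) (nat_lit 0) (BT.and (nat_lit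 3) (nat_lit 0) (BT.cnt (nat_lit 0)))))))) BT.nil)))))))))) (BT.kid (nat_lit 65) (nat_lit 24) (BT.img (nat_lit 1) (nat_lit 0) (BT.img (nat_lit 1) (nat_lit 0) (BT.img (nat_lit 1) (nat_lit 0) (BT.frm (nat_lit 0) (nat_lit 0x20a29122933060f) (nat_lit 0x20a29122933060f) [nat_lit 2, nat_lit 0, nat_lit 3] (BT.pln (nat_lit 0) (nat_lit 13) (BT.frm (nat_lit 1) (nat_lit 0x453f020a29122933060f) (nat_lit 0x453f020a29122933060f) [nat_lit 3, nat_lit 4, nat_lit 2, nat_lit 5] (BT.pln (nat_lit 0) (nat_lit 6) (BT.dif (nat_lit 2) (nat_lit 0) (BT.br (nat_lit 0) (nat_lit 9) [nat_lit 3] (BT.kid (nat_lit 9) (nat_lit 4) (BT.dif (nat_lit 1) (nat_lit 0) (BT.frm (nat_lit 2) (nat_lit 0x47453f020a29122933060f) (nat_lit 0x47453f020a29122933060f) [nat_lit 1, nat_lit 8, nat_lit 9, nat_lit 7, nat_lit 10] (BT.pln (nat_lit 0) (nat_lit 8) (BT.dif (nat_lit 2) (nat_lit 0) (BT.br (nat_lit 0) (nat_lit 179) [nat_lit 5] (BT.kid (nat_lit 179) (nat_lit 2) (BT.pln (nat_lit 8) (nat_lit 7) (BT.and (nat_lit 8) (nat_lit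 0) (BT.pln (nat_lit 10) (nat_lit 4) (BT.and (nat_lit 1) (nat_lit 0) (BT.dif (nat_lit 0) (nat_lit 6) (BT.pln (nat_lit 13) (nat_lit 8) (BT.dif (nat_lit 1) (nat_lit 0) (BT.dif (nat_lit 0) (nat_lit 24) (BT.frm (nat_lit 3) (nat_lit 0x1f47453f020a29122933060f) (nat_lit 0x1f47453f020a29122933060f) [nat_lit 8, nat_lit 13, nat_lit 20, nat_lit 21, nat_lit 19, nat_lit 22] (BT.pln (nat_lit 0) (nat_lit 6) (BT.dif (nat_lit 2) (nat_lit 0) (BT.br (nat_lit 0) (nat_lit 38) [nat_lit 7] (BT.kid (nat_lit 38) (nat_lit 1) (BT.one (nat_lit 4) (nat_lit 0x491f47453f020a29122933060f) (nat_lit 0x491f47453f020a29122933060f) [nat_lit 0, nat_lit 12, nat_lit 17, nat_lit 24, nat_lit 25, nat_lit 23, nat_lit 26]) BT.nil))))))))))))) BT.nil)))))) BT.nil)))))))))) BT.nil))))))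

theorem ot_c41_cnt : Cnt 351 (grp 351 o_O) [o_g538] [o_g538] 0 0 0 0 144 :=
  BT.sound ot_c41_cnt_P Known.nil (t := ot_c41_cnt_t) (d := 0) (by decide +kernel)

theorem ot_c41_ge : 144 ≤ Nat.card (grp 351 ot_c41_K) :=
  Ch.le_card_grp (k := 9) (L := (lab 351 9)) o_hn ot_c41_K_ok (c := (Ch.cons (nat_lit 65) [nat_lit 1] (Ch.cons (nat_lit 9) [nat_lit 3] (Ch.cons (nat_lit 179) [nat_lit 5] (Ch.cons (nat_lit 38) [nat_lit 7] Ch.nil))))) (by decide +kernel)

theorem ot_c41_eq : (grp 351 o_O) ⊓ Subgroup.centralizer {Net.toPerm 351 o_g538} = grp 351 ot_c41_K :=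
  cent_eq ot_c41_sym ot_c41_cnt ot_c41_ge

theorem ot_c41_card : Nat.card ↥((grp 351 o_O) ⊓ Subgroup.centralizer {Net.toPerm 351 o_g538}) = 144 :=
  card_cent ot_c41_sym ot_c41_cnt ot_c41_ge

theorem ot_c41_ord : orderOf (Net.toPerm 351 o_g538) = 12 :=
  orderOf_net o_hn o_hk o_g538_ok (by decide) (ps := [2, 3]) (by set_option linter.unusedSimpArgs false in simp [Nat.primeFactorsList_ofNat]) (by decide +kernel)

theorem o_le554 : grp 351 ot_c42_K ≤ grp 351 o_lb_E :=
  grp_le_of_memB o_hn o_hk o_lb_E_ok ot_c42_K_ok (ws := [nat_lit 0x433b2f282519051f0d, nat_lit 0x45433b3925211d25114301050d1f, nat_lit 0x433b373928252d1d29112701201a, nat_lit 0x453b37392825241d2822111117011625]) (by decide +kernel)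

theorem ot_c42_le : grp 351 ot_c42_K ≤ (grp 351 o_O) :=
  (o_le554.trans o_T76_s0.le)

theorem ot_c42_mem : Net.toPerm 351 o_g550 ∈ (grp 351 o_O) :=
  ot_c42_le (toPerm_mem_grp (E := ot_c42_K) (List.Mem.head _))

theorem ot_c42_sym : Sym 351 (grp 351 o_O) [o_g550] ot_c42_K 0 :=
  Sym.of_lab o_hn o_hk (okE_cons.2 ⟨o_g550_ok, okE_nil _⟩) ot_c42_K_ok ot_c42_le (kT := 0) (by decide +kernel)

noncomputable def ot_c42_cnt_L : List ℕ := [1, 2, o_T76_s1_O, 0, 0, 2, 5, o_T76_s8_O, 0, 0, 3, 10, o_T76_s9_O, 0, 0, 4, 9, o_T76_s24_O, 0, 0, 6, 13, o_T76_s68_O, 0, 0, 8, 17, o_T76_s70_O, 1, 0]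

theorem ot_c42_cnt_P : Prob 351 9 (grp 351 o_O) ot_c42_cnt_EG [o_g550] [o_g550] ot_c42_K ot_c42_cnt_L 0 0 :=
  Sym.prob o_hn o_hk ot_c42_sym ot_c42_cnt_EG_ok (grp_cons_le o_b_o_T76 (grp_cons_le o_c_o_T76 (grp_cons_le o_d_o_T76 (grp_cons_le o_e_o_T76 (grp_cons_le o_f_o_T76 (grp_cons_le o_g_o_T76 (grp_cons_le o_h_o_T76 (grp_cons_le o_i_o_T76 (grp_cons_le o_g1_o_T76 (grp_cons_le o_g2_o_T76 (grp_cons_le o_g3_o_T76 (grp_cons_le o_g4_o_T76 (grp_cons_le o_g5_o_T76 (grp_cons_le o_g8_o_T76 (grp_cons_le o_g9_o_T76 (grp_cons_le o_g12_o_T76 (grp_cons_le o_g13_o_T76 (grp_cons_le o_g14_o_T76 (grp_cons_le o_g17_o_T76 (grp_cons_le o_g18_o_T76 (grp_cons_le o_g19_o_T76 (grp_cons_le o_g20_o_T76 (grp_cons_le o_g23_o_T76 (grp_cons_le o_g24_o_T76 (grp_cons_le o_g25_o_T76 (grp_cons_le o_g26_o_T76 (grp_cons_le o_g27_o_T76 (grp_cons_le o_g30_o_T76 (grp_cons_le o_g31_o_T76 (grp_cons_le o_g32_o_T76 (grp_cons_le o_g35_o_T76 (grp_cons_le o_g111_o_T76 (grp_cons_le o_g382_o_T76 (grp_cons_le o_g383_o_T76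 (grp_cons_le o_g170_o_T76 (grp_cons_le o_g171_o_T76 (grp_cons_le o_g172_o_T76 (grp_cons_le o_g173_o_T76 (grp_nil_le _))))))))))))))))))))))))))))))))))))))) (Frames.cons o_T76_s1_F (Frames.cons o_T76_s8_F (Frames.cons o_T76_s9_F (Frames.cons o_T76_s24_F (Frames.cons o_T76_s68_F (Frames.cons o_T76_s70_F Frames.nil)))))) (okE_cons.2 ⟨o_g550_ok, okE_nil _⟩) _

noncomputable def ot_c42_cnt_t : BT := (BT.fix (nat_lit 65793) (BT.br (nat_lit 0) (nat_lit 7) [nat_lit 1] (BT.kid (nat_lit 7) (nat_lit 48) (BT.img (nat_lit 1) (nat_lit 0) (BT.frm (nat_lit 1) (nat_lit 0x112c170512) (nat_lit 0x112c170512) [nat_lit 0, nat_lit 1] (BT.pln (nat_lit 0) (nat_lit 4) (BT.dif (nat_lit 4) (nat_lit 3) (BT.dif (nat_lit 0) (nat_lit 3) (BT.frm (nat_lit 2) (nat_lit 0x1d3b112c170512) (nat_lit 0x1d3b112c170512) [nat_lit 0, nat_lit 4, nat_lit 5] (BT.pln (nat_lit 0) (nat_lit 7) (BT.and (nat_lit 4) (nat_lit 0) (BT.br (nat_lit 0) (nat_lit 29) [nat_lit 3, nat_lit 5] (BT.dead (nat_lit 65) (BT.frm (nat_lit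 3) (nat_lit 0x201d3b112c170512) (nat_lit 0x281f1d3b112c170512) [nat_lit 0, nat_lit 4, nat_lit 8, nat_lit 9] (BT.pln (nat_lit 0) (nat_lit 4) (BT.img (nat_lit 1) (nat_lit 2) (BT.img (nat_lit 1) (nat_lit 0) (BT.img (nat_lit 1) (nat_lit 0) (BT.and (nat_lit 3) (nat_lit 0) (BT.cnt (nat_lit 0)))))))) (BT.kid (nat_lit 29) (nat_lit 3) (BT.frm (nat_lit 0) (nat_lit 1298) (nat_lit 1298) [nat_lit 9] (BT.pln (nat_lit 0) (nat_lit 1) (BT.dif (nat_lit 15) (nat_lit 0) (BT.pln (nat_lit 10) (nat_lit 2) (BT.dif (nat_lit 1) (nat_lit 0) (BT.frm (nat_lit 3) (nat_lit 0x201d3b112c170512) (nat_lit 0x201d3b112c170512) [nat_lit 5, nat_lit 9, nat_lit 13, nat_lit 14] (BT.pln (nat_lit 0) (nat_lit 5) (BT.dif (nat_lit 2) (nat_lit 0) (BT.pln (nat_lit 2) (nat_lit 4) (BT.dif (nat_lit 1) (nat_lit 0) (BT.fix (nat_lit 0x1010101) (BT.dif (nat_lit 1) (nat_lit 0) (BT.dif (nat_lit 0) (nat_lit 22) (BT.img (nat_lit 1) (nat_lit 13) (BT.img (nat_lit 1) (nat_lit 0) (BT.img (nat_lit 1) (nat_lit 0) (BT.img (nat_lit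 1) (nat_lit 0) (BT.img (nat_lit 1) (nat_lit 0) (BT.img (nat_lit 1) (nat_lit 0) (BT.img (nat_lit 1) (nat_lit 0) (BT.img (nat_lit 1) (nat_lit 0) (BT.img (nat_lit 1) (nat_lit 0) (BT.frm (nat_lit 4) (nat_lit 0x4547201d3b112c170512) (nat_lit 0x4547201d3b112c170512) [nat_lit 7, nat_lit 0, nat_lit 22, nat_lit 26, nat_lit 30, nat_lit 31] (BT.pln (nat_lit 0) (nat_lit 7) (BT.dif (nat_lit 11) (nat_lit 0) (BT.pln (nat_lit 2) (nat_lit 9) (BT.dif (nat_lit 1) (nat_lit 0) (BT.br (nat_lit 0) (nat_lit 286) [nat_lit 7] (BT.kid (nat_lit 286) (nat_lit 1) (BT.one (nat_lit 5) (nat_lit 0x444547201d3b112c170512) (nat_lit 0x444547201d3b112c170512) [nat_lit 0, nat_lit 11, nat_lit 13, nat_lit 6, nat_lit 28, nat_lit 32, nat_lit 36, nat_lit 37]) BT.nil))))))))))))))))))))))))))))) BT.nil))))))))))) BT.nil)))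

theorem ot_c42_cnt : Cnt 351 (grp 351 o_O) [o_g550] [o_g550] 0 0 0 0 144 :=
  BT.sound ot_c42_cnt_P Known.nil (t := ot_c42_cnt_t) (d := 0) (by decide +kernel)

theorem ot_c42_ge : 144 ≤ Nat.card (grp 351 ot_c42_K) :=
  Ch.le_card_grp (k := 9) (L := (lab 351 9)) o_hn ot_c42_K_ok (c := (Ch.cons (nat_lit 7) [nat_lit 1] (Ch.cons (nat_lit 29) [nat_lit 3, nat_lit 5] (Ch.cons (nat_lit 286) [nat_lit 7] Ch.nil)))) (by decide +kernel)

theorem ot_c42_eq : (grp 351 o_O) ⊓ Subgroup.centralizer {Net.toPerm 351 o_g550} = grp 351 ot_c42_K :=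
  cent_eq ot_c42_sym ot_c42_cnt ot_c42_ge

theorem ot_c42_card : Nat.card ↥((grp 351 o_O) ⊓ Subgroup.centralizer {Net.toPerm 351 o_g550}) = 144 :=
  card_cent ot_c42_sym ot_c42_cnt ot_c42_ge

theorem ot_c42_ord : orderOf (Net.toPerm 351 o_g550) = 12 :=
  orderOf_net o_hn o_hk o_g550_ok (by decide) (ps := [2, 3]) (by set_option linter.unusedSimpArgs false in simp [Nat.primeFactorsList_ofNat]) (by decide +kernel)

theorem o_le558 : grp 351 ot_c43_K ≤ grp 351 o_lb_E :=
  grp_le_of_memB o_hn o_hk o_lb_E_ok ot_c43_K_ok (ws := [nat_lit 0x453b2f252d1d2111131e010507, nat_lit 0x452f3921231f1d1a1f010512, nat_lit 0x45433b2f25221d1f172a010325]) (by decide +kernel)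

theorem ot_c43_le : grp 351 ot_c43_K ≤ (grp 351 o_O) :=
  (o_le558.trans o_T76_s0.le)

theorem ot_c43_mem : Net.toPerm 351 o_g555 ∈ (grp 351 o_O) :=
  ot_c43_le (toPerm_mem_grp (E := ot_c43_K) (List.Mem.head _))

theorem ot_c43_sym : Sym 351 (grp 351 o_O) [o_g555] ot_c43_K 0 :=
  Sym.of_lab o_hn o_hk (okE_cons.2 ⟨o_g555_ok, okE_nil _⟩) ot_c43_K_ok ot_c43_le (kT := 0) (by decide +kernel)

noncomputable def ot_c43_cnt_L : List ℕ := [1, 2, o_T76_s1_O, 0, 0, 4, 10, o_T76_s47_O, 0, 0, 5, 12, o_T76_s48_O, 0, 0, 7, 16, o_T76_s50_O, 1, 0]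

theorem ot_c43_cnt_P : Prob 351 9 (grp 351 o_O) ot_c43_cnt_EG [o_g555] [o_g555] ot_c43_K ot_c43_cnt_L 0 0 :=
  Sym.prob o_hn o_hk ot_c43_sym ot_c43_cnt_EG_ok (grp_cons_le o_b_o_T76 (grp_cons_le o_c_o_T76 (grp_cons_le o_d_o_T76 (grp_cons_le o_e_o_T76 (grp_cons_le o_f_o_T76 (grp_cons_le o_g_o_T76 (grp_cons_le o_h_o_T76 (grp_cons_le o_i_o_T76 (grp_cons_le o_g1_o_T76 (grp_cons_le o_g2_o_T76 (grp_cons_le o_g3_o_T76 (grp_cons_le o_g4_o_T76 (grp_cons_le o_g5_o_T76 (grp_cons_le o_g8_o_T76 (grp_cons_le o_g9_o_T76 (grp_cons_le o_g12_o_T76 (grp_cons_le o_g13_o_T76 (grp_cons_le o_g14_o_T76 (grp_cons_le o_g17_o_T76 (grp_cons_le o_g18_o_T76 (grp_cons_le o_g19_o_T76 (grp_cons_le o_g20_o_T76 (grp_cons_le o_g23_o_T76 (grp_cons_le o_g24_o_T76 (grp_cons_le o_g25_o_T76 (grp_cons_le o_g26_o_T76 (grp_cons_le o_g27_o_T76 (grp_cons_le o_g30_o_T76 (grp_cons_le o_g31_o_T76 (grp_cons_le o_g32_o_T76 (grp_cons_le o_g35_o_T76 (grp_cons_le o_g281_o_T76 (grp_cons_le o_g282_o_T76 (grp_cons_le o_g283_o_T76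 (grp_cons_le o_g284_o_T76 (grp_nil_le _)))))))))))))))))))))))))))))))))))) (Frames.cons o_T76_s1_F (Frames.cons o_T76_s47_F (Frames.cons o_T76_s48_F (Frames.cons o_T76_s50_F Frames.nil)))) (okE_cons.2 ⟨o_g555_ok, okE_nil _⟩) _

noncomputable def ot_c43_cnt_t : BT := (BT.fix (nat_lit 0x10101010101) (BT.fix (nat_lit 65793) (BT.dif (nat_lit 1) (nat_lit 0) (BT.fix (nat_lit 257) (BT.dif (nat_lit 1) (nat_lit 0) (BT.br (nat_lit 0) (nat_lit 7) [nat_lit 1, nat_lit 3, nat_lit 5] (BT.dead (nat_lit 18) (BT.frm (nat_lit 0) (nat_lit 1298) (nat_lit 0x1052115) [nat_lit 0] (BT.pln (nat_lit 0) (nat_lit 1) (BT.and (nat_lit 0) (nat_lit 4) (BT.cnt (nat_lit 0))))) (BT.kid (nat_lit 7) (nat_lit 4) (BT.frm (nat_lit 0) (nat_lit 1298) (nat_lit 1298) [nat_lit 0] (BT.pln (nat_lit 0) (nat_lit 1) (BT.dif (nat_lit 10) (nat_lit 0) (BT.dif (nat_lit 0) (nat_lit 8) (BT.img (nat_lit 1) (nat_lit 4) (BT.img (nat_lit 1) (nat_lit 0) (BT.img (nat_lit 1) (nat_lit 0) (BT.img (nat_lit 1) (nat_lit 0) (BT.frm (nat_lit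 1) (nat_lit 0x1f2a1b23151c0512) (nat_lit 0x1f2a1b23151c0512) [nat_lit 3, nat_lit 0, nat_lit 2, nat_lit 8] (BT.pln (nat_lit 0) (nat_lit 7) (BT.and (nat_lit 6) (nat_lit 0) (BT.pln (nat_lit 2) (nat_lit 4) (BT.dif (nat_lit 1) (nat_lit 0) (BT.pln (nat_lit 4) (nat_lit 8) (BT.dif (nat_lit 1) (nat_lit 0) (BT.frm (nat_lit 2) (nat_lit 0x1f2a1b23151c0512) (nat_lit 0x1f2a1b23151c0512) [nat_lit 8, nat_lit 10, nat_lit 7, nat_lit 9, nat_lit 15] (BT.pln (nat_lit 0) (nat_lit 6) (BT.dif (nat_lit 2) (nat_lit 0) (BT.br (nat_lit 0) (nat_lit 156) [nat_lit 5] (BT.kid (nat_lit 156) (nat_lit 1) (BT.img (nat_lit 1) (nat_lit 0) (BT.one (nat_lit 3) (nat_lit 0x45411f2a1b23151c0512) (nat_lit 0x45411f2a1b23151c0512) [nat_lit 0, nat_lit 1, nat_lit 13, nat_lit 15, nat_lit 12, nat_lit 14, nat_lit 20])) BT.nil)))))))))))))))))))) BT.nil))))))))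

theorem ot_c43_cnt : Cnt 351 (grp 351 o_O) [o_g555] [o_g555] 0 0 0 0 72 :=
  BT.sound ot_c43_cnt_P Known.nil (t := ot_c43_cnt_t) (d := 0) (by decide +kernel)

theorem ot_c43_ge : 72 ≤ Nat.card (grp 351 ot_c43_K) :=
  Ch.le_card_grp (k := 9) (L := (lab 351 9)) o_hn ot_c43_K_ok (c := (Ch.cons (nat_lit 7) [nat_lit 1, nat_lit 3] (Ch.cons (nat_lit 156) [nat_lit 5] Ch.nil))) (by decide +kernel)

theorem ot_c43_eq : (grp 351 o_O) ⊓ Subgroup.centralizer {Net.toPerm 351 o_g555} = grp 351 ot_c43_K :=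
  cent_eq ot_c43_sym ot_c43_cnt ot_c43_ge

theorem ot_c43_card : Nat.card ↥((grp 351 o_O) ⊓ Subgroup.centralizer {Net.toPerm 351 o_g555}) = 72 :=
  card_cent ot_c43_sym ot_c43_cnt ot_c43_ge

theorem ot_c43_ord : orderOf (Net.toPerm 351 o_g555) = 12 :=
  orderOf_net o_hn o_hk o_g555_ok (by decide) (ps := [2, 3]) (by set_option linter.unusedSimpArgs false in simp [Nat.primeFactorsList_ofNat]) (by decide +kernel)

theorem o_le564 : grp 351 ot_c44_K ≤ grp 351 o_lb_E :=
  grp_le_of_memB o_hn o_hk o_lb_E_ok ot_c44_K_ok (ws := [nat_lit 0x3b2f39252d1d1f3b1a1e010319, nat_lit 0x452f27252d1e221217051221, nat_lit 0x3b3727252d1d2326173901190f1f, nat_lit 0x2725281d411a011915, nat_lit 0x3b211d211a011915]) (by decide +kernel)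

theorem ot_c44_le : grp 351 ot_c44_K ≤ (grp 351 o_O) :=
  (o_le564.trans o_T76_s0.le)

theorem ot_c44_mem : Net.toPerm 351 o_g559 ∈ (grp 351 o_O) :=
  ot_c44_le (toPerm_mem_grp (E := ot_c44_K) (List.Mem.head _))

theorem ot_c44_sym : Sym 351 (grp 351 o_O) [o_g559] ot_c44_K 0 :=
  Sym.of_lab o_hn o_hk (okE_cons.2 ⟨o_g559_ok, okE_nil _⟩) ot_c44_K_ok ot_c44_le (kT := 0) (by decide +kernel)

theorem o_le570 : grp 351 o_V569 ≤ grp 351 o_V299 :=
  grp_le_of_memB o_hn o_hk o_V299_ok o_V569_ok (ws := [nat_lit 0x30601010305, nat_lit 0x70601010305, nat_lit 0x701010105, nat_lit 0x80306010106]) (by decide +kernel)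

theorem o_T76_s107 : Stab 351 (grp 351 o_O) [nat_lit 293, nat_lit 144, nat_lit 3, nat_lit 0] o_V569 36 :=
  Stab.step (k := 9) (L := (lab 351 9)) o_hn o_T76_s51 o_V569_ok o_le570 (c := (Ch.cons (nat_lit 284) [nat_lit 1, nat_lit 3] (Ch.cons (nat_lit 143) [nat_lit 5] (Ch.cons (nat_lit 257) [nat_lit 7] Ch.nil)))) (by decide +kernel)

theorem o_T76_s108 : Stab 351 (grp 351 o_O) [nat_lit 284, nat_lit 293, nat_lit 144, nat_lit 3, nat_lit 0] o_V571 6 :=
  Stab.step (k := 9) (L := (lab 351 9)) o_hn o_T76_s107 o_V571_ok (grp_mono (List.subset_append_right [o_g565, o_g566] _)) (c := (Ch.cons (nat_lit 143) [nat_lit 1] (Ch.cons (nat_lit 257) [nat_lit 3] Ch.nil))) (by decide +kernel)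

theorem o_T76_s109 : Stab 351 (grp 351 o_O) [nat_lit 143, nat_lit 284, nat_lit 293, nat_lit 144, nat_lit 3, nat_lit 0] o_V572 2 :=
  Stab.step (k := 9) (L := (lab 351 9)) o_hn o_T76_s108 o_V572_ok (grp_mono (List.subset_append_right [o_g567] _)) (c := (Ch.cons (nat_lit 257) [nat_lit 1] Ch.nil)) (by decide +kernel)

theorem o_T76_s110 : Stab 351 (grp 351 o_O) [nat_lit 257, nat_lit 143, nat_lit 284, nat_lit 293, nat_lit 144, nat_lit 3, nat_lit 0] o_V573 1 :=
  Stab.step (k := 9) (L := (lab 351 9)) o_hn o_T76_s109 o_V573_ok (grp_mono (List.subset_append_right [o_g568] _)) (c := Ch.nil) (by decide +kernel)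

theorem o_g565_o_T76 : Net.toPerm 351 o_g565 ∈ (grp 351 o_O) :=
  o_T76_s107.le (toPerm_mem_grp (E := o_V569) (List.Mem.head _))

theorem o_g566_o_T76 : Net.toPerm 351 o_g566 ∈ (grp 351 o_O) :=
  o_T76_s107.le (toPerm_mem_grp (E := o_V569) (List.Mem.tail _ (List.Mem.head _)))

theorem o_g567_o_T76 : Net.toPerm 351 o_g567 ∈ (grp 351 o_O) :=
  o_T76_s107.le (toPerm_mem_grp (E := o_V569) (List.Mem.tail _ (List.Mem.tail _ (List.Mem.head _))))

theorem o_g568_o_T76 : Net.toPerm 351 o_g568 ∈ (grp 351 o_O) :=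
  o_T76_s107.le (toPerm_mem_grp (E := o_V569) (List.Mem.tail _ (List.Mem.tail _ (List.Mem.tail _ (List.Mem.head _)))))

noncomputable def o_T76_s110_O : ℕ := (nat_lit 0xfffffffffffffffffffffffe0000000000000000000000000000000000000000000000000000000000000000000000000000000000000003fffffffffffffffffffffffffffffffc00000000000000000000000000000003fffffff80000000000000007fffffffffffffff80000000000000007fffffffffffffff800000000000000000000000ffffffff00000000ffffffff00000000ffffffff00000000ffffffff00000000ffffffff00000000fffe0001fffe0001fffe0001fffe0001fffe0001fffe0001fffe0001fffe0001fffe0001fffe0001fffe0001fc03fc03fc03fc03fc03fc03fc03fc03fc03fc03fc03fc03fc03fc03fc03fc03fc03fc03fc03fc03fc03fc038787878787878787878787878787878787878787878787878787878787878787878787878787878787878784ccccccccccccccccccccccccccccccccccccccccccccccccccccccccccccccccccccccccccccccccccccccc555555555555555555555555555555555555555555555555555555555555555555555555555555555555555400000000000000000000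000000000000000000000000000000000000000000000000000000000000000000040000000000000000000000000000000000000000000000000000000000000000000000000000000000000040000000000000000000000000000000000000000000000000001000000000000000000000000000000000000000000000000004000000000000000000000000000000000000000000000000000000000000000000000000000000000000000004000000000000000000000000000000000000000000000000000000000000000000000000000000000000000000000000000000000000000000000000004000000000000000000000000000000000000000000000000000000000020000000000000000000000000000000000000000000000000000000000000000)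

theorem o_T76_s110_F : Frame 351 (grp 351 o_O) 7 16 o_T76_s110_O 1 1 :=
  IsBase.frame o_T76_s110.isBase (by decide +kernel)

noncomputable def o_T76_s109_O : ℕ := (nat_lit 0x30502210308860c4c2065806a0b30e8fd9ee0e2789311d80a10143400686922e1c032d80e0c0000000000079e2f07c2bebf8cf8fd7febc7d7b7fbf7e480382a00c0440f20c70387ff2f28000000000000039635118c0403bd5d7996fed4230c851e697e05133858367b83a9f24c47602a41282000000b7478ff349fc6072c6a23180801854168f00445b56af3032dc2250010206ef7f7fe3301103d831ebfb803435ffef1f00000039fffffe6301019e9a78ccb41d863f4ad6103f3e9f33010ddf1c053fd31a257140343cff6802dd31c1ffa40073ff980339c003fb4ef420d1bb8c600efbd0517dd987d01b83f9317141cbe409467e61e12cd7a05fc390b790e790cf1760780f5433b3f7e072e2381da85dc2e50c3707316741b6c178962f348a7b1333478ab8b466d54cd986cd8b8d34c6192edb6124d0db204bb4da3655153545ad4bad521d4bca3a53950dd575552ad34d54ab33552acb32b2d3554900000000000000000000000000000000000000000000000000000000000000000000000000000000000000008000000000000000000000000000000000000000000000000000000000000000000000000000000000000008000000000000000000000000000000000000000000000000000200000000000000000000000000000000000000000000000000800000000000000000000000000000000000000000000000000000000000000000000000000000000000000000800000000000000000000000000000000000000000000000000000000000000000000000000000000000000000000000000000000000000000000000000800000000000000000000000000000000000)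

theorem o_T76_s109_F : Frame 351 (grp 351 o_O) 6 14 o_T76_s109_O 0 1 :=
  Stab.frame o_hn o_T76_s109 (by decide +kernel)

noncomputable def o_T76_s108_O : ℕ := (nat_lit 0x40000420400000000000000000000000000000000000000000000000000000000000000000000000000000c00022710312b107533e055078820a507bc43831142c0c406004e13d7fbbffeaf800083000030206222100002ae7a90448988715300195923364d01e124c3e5d9061818d0858048a0020300042e29fef7fdffc0c00000001c03053c2810c367a6c98d5e673e96d3f6c1efc8f8ad212e17a841c01fea8000005c51f1e800007c7edde000798edb60000ee9818ac49dec4d4d4b3c9369426f3448e3f0968a826ff808ffc011b8a3040ff000f8f3108e529c642125a0703f2f909c3ac887341c2a5954671e13c44bd68fccbd650f41e06a05fe89f41e0ec1e83be97c800bc12198582dfa0e947dd53630db7f5e1c07bc854e1aee94510afa7099e32ce98a83f346331a67327538364bde5c0613d51e6c8271b62ccb4f533e7d468340ed887c795d654398b2ab753572449c354b5526a572c6c95980000000000000000000000000000000000000000000000000000000000000000000000000000000000000001000000000000000000000000000000000000000000000000000000000000000000000000000000000000001000000000000000000000000000000000000000000000000000040000000000000000000000000000000000000000000000000100000000000000000000000000000000000000000000000000000000000000000000000000000000000000000100000000000000000000000000000000000000000000000000000000000000000000000)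

theorem o_T76_s108_F : Frame 351 (grp 351 o_O) 5 13 o_T76_s108_O 0 1 :=
  Stab.frame o_hn o_T76_s108 (by decide +kernel)

noncomputable def o_T76_s107_O : ℕ := (nat_lit 0x200002102000408c00001406208280024106280048011000010621c00406000980220e0000c081898a40007acbfa3d8eafb844edbd6fa4609c942a057153883e4950030010800038d3f09128303b6338f45e38c00000a050793091b95a8c11c964052945714547814306259e262abc7e84a678389ea64a507179c3c26581025956914109d8a8d4be203c1e8399c123cc43e4f0a72c677d0c5fcbc44f08c7ecbe0b8681f620e53b9c186980f8801bc018669b957903ae02f157c360e915cc949d17b1a1ca5bb6aeb4e2187725509aa82144f98bb329cef14ad035168f43ba147ae529fc84a4ddd3c2c85d453a90aa924da7af84e649e943608727a1ebb7b2a0c93b390b58d65c2000000000000000000000000000000000000000000000000000000000000000000000000000000000000000200000000000000000000000000000000000000000000000000000000000000000000000000000000000000200000000000000000000000000000000000000000000000000008000000000000000000000000000000000000000000000000020000000000000000000000000000000000000000000000000000000000000000000000000)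

theorem o_T76_s107_F : Frame 351 (grp 351 o_O) 4 10 o_T76_s107_O 0 1 :=
  Stab.frame o_hn o_T76_s107 (by decide +kernel)

noncomputable def ot_c44_cnt_L : List ℕ := [1, 2, o_T76_s1_O, 0, 0, 2, 5, o_T76_s8_O, 0, 0, 3, 19, o_T76_s51_O, 0, 0, 4, 10, o_T76_s107_O, 0, 0, 5, 13, o_T76_s108_O, 0, 0, 6, 14, o_T76_s109_O, 0, 0, 7, 16, o_T76_s110_O, 1, 0]

theorem ot_c44_cnt_P : Prob 351 9 (grp 351 o_O) ot_c44_cnt_EG [o_g559] [o_g559] ot_c44_K ot_c44_cnt_L 0 0 :=
  Sym.prob o_hn o_hk ot_c44_sym ot_c44_cnt_EG_ok (grp_cons_le o_b_o_T76 (grp_cons_le o_c_o_T76 (grp_cons_le o_d_o_T76 (grp_cons_le o_e_o_T76 (grp_cons_le o_f_o_T76 (grp_cons_le o_g_o_T76 (grp_cons_le o_h_o_T76 (grp_cons_le o_i_o_T76 (grp_cons_le o_g1_o_T76 (grp_cons_le o_g2_o_T76 (grp_cons_le o_g3_o_T76 (grp_cons_le o_g4_o_T76 (grp_cons_le o_g5_o_T76 (grp_cons_le o_g8_o_T76 (grp_cons_le o_g9_o_T76 (grp_cons_le o_g12_o_T76 (grp_cons_le o_g13_o_T76 (grp_cons_le o_g14_o_T76 (grp_cons_le o_g17_o_T76 (grp_cons_le o_g18_o_T76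 (grp_cons_le o_g19_o_T76 (grp_cons_le o_g20_o_T76 (grp_cons_le o_g23_o_T76 (grp_cons_le o_g24_o_T76 (grp_cons_le o_g25_o_T76 (grp_cons_le o_g26_o_T76 (grp_cons_le o_g27_o_T76 (grp_cons_le o_g30_o_T76 (grp_cons_le o_g31_o_T76 (grp_cons_le o_g32_o_T76 (grp_cons_le o_g35_o_T76 (grp_cons_le o_g295_o_T76 (grp_cons_le o_g296_o_T76 (grp_cons_le o_g297_o_T76 (grp_cons_le o_g298_o_T76 (grp_cons_le o_g565_o_T76 (grp_cons_le o_g566_o_T76 (grp_cons_le o_g567_o_T76 (grp_cons_le o_g568_o_T76 (grp_nil_le _)))))))))))))))))))))))))))))))))))))))) (Frames.cons o_T76_s1_F (Frames.cons o_T76_s8_F (Frames.cons o_T76_s51_F (Frames.cons o_T76_s107_F (Frames.cons o_T76_s108_F (Frames.cons o_T76_s109_F (Frames.cons o_T76_s110_F Frames.nil))))))) (okE_cons.2 ⟨o_g559_ok, okE_nil _⟩) _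

noncomputable def ot_c44_cnt_t : BT := (BT.fix (nat_lit 257) (BT.fix (nat_lit 1) (BT.dif (nat_lit 1) (nat_lit 0) (BT.br (nat_lit 0) (nat_lit 213) [nat_lit 1] (BT.kid (nat_lit 213) (nat_lit 36) (BT.fix (nat_lit 0x1010101) (BT.frm (nat_lit 0) (nat_lit 287) (nat_lit 287) [nat_lit 1] (BT.pln (nat_lit 0) (nat_lit 1) (BT.dif (nat_lit 2) (nat_lit 0) (BT.dif (nat_lit 5) (nat_lit 4) (BT.frm (nat_lit 1) (nat_lit 0x112515011f) (nat_lit 0x112515011f) [nat_lit 0, nat_lit 5] (BT.pln (nat_lit 0) (nat_lit 2) (BT.dif (nat_lit 3) (nat_lit 0) (BT.dif (nat_lit 0) (nat_lit 11) (BT.br (nat_lit 0) (nat_lit 5) [nat_lit 3] (BT.dead (nat_lit 303) (BT.frm (nat_lit 2) (nat_lit 0x1e2c112515011f) (nat_lit 0x1b20112515011f) [nat_lit 0, nat_lit 5, nat_lit 10] (BT.pln (nat_lit 0) (nat_lit 8) (BT.fix (nat_lit 65793) (BT.and (nat_lit 1) (nat_lit 0) (BT.cnt (nat_lit 0)))))) (BT.dead (nat_lit 29) (BT.frm (nat_lit 2) (nat_lit 0x1e2c112515011f) (nat_lit 0x1b27112515011f) [nat_lit 0, nat_lit 5, nat_lit 10]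 (BT.pln (nat_lit 0) (nat_lit 8) (BT.fix (nat_lit 65793) (BT.and (nat_lit 1) (nat_lit 0) (BT.cnt (nat_lit 0)))))) (BT.dead (nat_lit 182) (BT.frm (nat_lit 2) (nat_lit 0x1e2c112515011f) (nat_lit 0x1b1e39112515011f) [nat_lit 0, nat_lit 5, nat_lit 10] (BT.pln (nat_lit 0) (nat_lit 12) (BT.img (nat_lit 1) (nat_lit 2) (BT.and (nat_lit 1) (nat_lit 0) (BT.cnt (nat_lit 0)))))) (BT.dead (nat_lit 186) (BT.frm (nat_lit 2) (nat_lit 0x1e2c112515011f) (nat_lit 0x39112515011f) [nat_lit 0, nat_lit 5, nat_lit 10] (BT.pln (nat_lit 0) (nat_lit 12) (BT.img (nat_lit 1) (nat_lit 2) (BT.and (nat_lit 1) (nat_lit 0) (BT.cnt (nat_lit 0)))))) (BT.dead (nat_lit 38) (BT.img (nat_lit 1) (nat_lit 0) (BT.frm (nat_lit 3) (nat_lit 0x411e2c112515011f) (nat_lit 0x20112515011f) [nat_lit 0, nat_lit 1, nat_lit 6, nat_lit 11] (BT.pln (nat_lit 0) (nat_lit 4) (BT.and (nat_lit 0) (nat_lit 15) (BT.cnt (nat_lit 0)))))) (BT.kid (nat_lit 5) (nat_lit 18) (BT.dif (nat_lit 3) (nat_lit 9) (BT.img (nat_lit 1) (nat_lit 1)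 (BT.frm (nat_lit 3) (nat_lit 0x411e2c112515011f) (nat_lit 0x411e2c112515011f) [nat_lit 0, nat_lit 2, nat_lit 7, nat_lit 12] (BT.pln (nat_lit 0) (nat_lit 9) (BT.and (nat_lit 3) (nat_lit 0) (BT.pln (nat_lit 2) (nat_lit 4) (BT.dif (nat_lit 1) (nat_lit 0) (BT.br (nat_lit 0) (nat_lit 102) [nat_lit 5] (BT.dead (nat_lit 313) (BT.frm (nat_lit 4) (nat_lit 0x411e2c112515011f) (nat_lit 0x49411e2c112515011f) [nat_lit 0, nat_lit 6, nat_lit 8, nat_lit 13, nat_lit 18] (BT.pln (nat_lit 0) (nat_lit 6) (BT.img (nat_lit 1) (nat_lit 2) (BT.and (nat_lit 1) (nat_lit 0) (BT.cnt (nat_lit 0)))))) (BT.kid (nat_lit 102) (nat_lit 6) (BT.and (nat_lit 15) (nat_lit 2) (BT.pln (nat_lit 6) (nat_lit 8) (BT.and (nat_lit 1) (nat_lit 0) (BT.pln (nat_lit 8) (nat_lit 5) (BT.dif (nat_lit 1) (nat_lit 0) (BT.frm (nat_lit 4) (nat_lit 0x411e2c112515011f) (nat_lit 0x411e2c112515011f) [nat_lit 5, nat_lit 11, nat_lit 13, nat_lit 18, nat_lit 23] (BT.pln (nat_lit 0) (nat_lit 5) (BT.dif (nat_lit 2) (nat_lit 0) (BT.br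 (nat_lit 0) (nat_lit 128) [nat_lit 7] (BT.kid (nat_lit 128) (nat_lit 2) (BT.dif (nat_lit 33) (nat_lit 2) (BT.dif (nat_lit 0) (nat_lit 12) (BT.pln (nat_lit 16) (nat_lit 6) (BT.dif (nat_lit 1) (nat_lit 0) (BT.pln (nat_lit 7) (nat_lit 11) (BT.dif (nat_lit 1) (nat_lit 0) (BT.dif (nat_lit 0) (nat_lit 11) (BT.pln (nat_lit 10) (nat_lit 7) (BT.dif (nat_lit 1) (nat_lit 0) (BT.dif (nat_lit 0) (nat_lit 35) (BT.dif (nat_lit 0) (nat_lit 34) (BT.frm (nat_lit 5) (nat_lit 0x4b411e2c112515011f) (nat_lit 0x4b411e2c112515011f) [nat_lit 11, nat_lit 20, nat_lit 26, nat_lit 28, nat_lit 33, nat_lit 38] (BT.pln (nat_lit 0) (nat_lit 6) (BT.dif (nat_lit 2) (nat_lit 0) (BT.br (nat_lit 0) (nat_lit 78) [nat_lit 9] (BT.kid (nat_lit 78) (nat_lit 1) (BT.one (nat_lit 6) (nat_lit 0x4d4b411e2c112515011f) (nat_lit 0x4d4b411e2c112515011f) [nat_lit 0, nat_lit 15, nat_lit 24, nat_lit 30, nat_lit 32, nat_lit 37, nat_lit 42]) BT.nil)))))))))))))))) BT.nil)))))))))) BT.nil)))))))))) BT.nil)))))))))))))))) BT.nil)))))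

theorem ot_c44_cnt : Cnt 351 (grp 351 o_O) [o_g559] [o_g559] 0 0 0 0 72 :=
  BT.sound ot_c44_cnt_P Known.nil (t := ot_c44_cnt_t) (d := 0) (by decide +kernel)

theorem ot_c44_ge : 72 ≤ Nat.card (grp 351 ot_c44_K) :=
  Ch.le_card_grp (k := 9) (L := (lab 351 9)) o_hn ot_c44_K_ok (c := (Ch.cons (nat_lit 213) [nat_lit 1] (Ch.cons (nat_lit 5) [nat_lit 3] (Ch.cons (nat_lit 102) [nat_lit 5] (Ch.cons (nat_lit 128) [nat_lit 7] (Ch.cons (nat_lit 78) [nat_lit 9] Ch.nil)))))) (by decide +kernel)

theorem ot_c44_eq : (grp 351 o_O) ⊓ Subgroup.centralizer {Net.toPerm 351 o_g559} = grp 351 ot_c44_K :=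
  cent_eq ot_c44_sym ot_c44_cnt ot_c44_ge

theorem ot_c44_card : Nat.card ↥((grp 351 o_O) ⊓ Subgroup.centralizer {Net.toPerm 351 o_g559}) = 72 :=
  card_cent ot_c44_sym ot_c44_cnt ot_c44_ge

theorem ot_c44_ord : orderOf (Net.toPerm 351 o_g559) = 12 :=
  orderOf_net o_hn o_hk o_g559_ok (by decide) (ps := [2, 3]) (by set_option linter.unusedSimpArgs false in simp [Nat.primeFactorsList_ofNat]) (by decide +kernel)

theorem o_le577 : grp 351 ot_c45_K ≤ grp 351 o_lb_E :=
  grp_le_of_memB o_hn o_hk o_lb_E_ok ot_c45_K_ok (ws := [nat_lit 0x4543372725211d282211162201053d12, nat_lit 0x3b39251f3f1701222b, nat_lit 5, nat_lit 0x171e011d17]) (by decide +kernel)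

theorem ot_c45_le : grp 351 ot_c45_K ≤ (grp 351 o_O) :=
  (o_le577.trans o_T76_s0.le)

theorem ot_c45_mem : Net.toPerm 351 o_g574 ∈ (grp 351 o_O) :=
  ot_c45_le (toPerm_mem_grp (E := ot_c45_K) (List.Mem.head _))

theorem ot_c45_sym : Sym 351 (grp 351 o_O) [o_g574] ot_c45_K 0 :=
  Sym.of_lab o_hn o_hk (okE_cons.2 ⟨o_g574_ok, okE_nil _⟩) ot_c45_K_ok ot_c45_le (kT := 0) (by decide +kernel)

noncomputable def ot_c45_cnt_L : List ℕ := [3, 19, o_T76_s51_O, 0, 0, 4, 10, o_T76_s103_O, 0, 0, 5, 13, o_T76_s104_O, 0, 0, 6, 14, o_T76_s105_O, 0, 0, 7, 16, o_T76_s106_O, 1, 0]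

theorem ot_c45_cnt_P : Prob 351 9 (grp 351 o_O) ot_c45_cnt_EG [o_g574] [o_g574] ot_c45_K ot_c45_cnt_L 0 0 :=
  Sym.prob o_hn o_hk ot_c45_sym ot_c45_cnt_EG_ok (grp_cons_le o_g8_o_T76 (grp_cons_le o_g9_o_T76 (grp_cons_le o_g12_o_T76 (grp_cons_le o_g13_o_T76 (grp_cons_le o_g14_o_T76 (grp_cons_le o_g17_o_T76 (grp_cons_le o_g18_o_T76 (grp_cons_le o_g19_o_T76 (grp_cons_le o_g20_o_T76 (grp_cons_le o_g23_o_T76 (grp_cons_le o_g24_o_T76 (grp_cons_le o_g25_o_T76 (grp_cons_le o_g26_o_T76 (grp_cons_le o_c_o_T76 (grp_cons_le o_g27_o_T76 (grp_cons_le o_g30_o_T76 (grp_cons_le o_g31_o_T76 (grp_cons_le o_g32_o_T76 (grp_cons_le o_g_o_T76 (grp_cons_le o_g35_o_T76 (grp_cons_le o_g1_o_T76 (grp_cons_le o_g2_o_T76 (grp_cons_le o_g3_o_T76 (grp_cons_le o_g4_o_T76 (grp_cons_le o_g5_o_T76 (grp_cons_le o_b_o_T76 (grp_cons_le o_d_o_T76 (grp_cons_le o_e_o_T76 (grp_cons_le o_f_o_T76 (grp_cons_le o_h_o_T76 (grp_cons_le o_i_o_T76 (grp_cons_le o_g295_o_T76 (grp_cons_le o_g296_o_T76 (grp_cons_le o_g297_o_T76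 (grp_cons_le o_g298_o_T76 (grp_cons_le o_g543_o_T76 (grp_cons_le o_g544_o_T76 (grp_nil_le _)))))))))))))))))))))))))))))))))))))) (Frames.cons o_T76_s51_F (Frames.cons o_T76_s103_F (Frames.cons o_T76_s104_F (Frames.cons o_T76_s105_F (Frames.cons o_T76_s106_F Frames.nil))))) (okE_cons.2 ⟨o_g574_ok, okE_nil _⟩) _

noncomputable def ot_c45_cnt_t : BT := (BT.fix (nat_lit 0x10101010101) (BT.fix (nat_lit 1) (BT.dif (nat_lit 1) (nat_lit 0) (BT.br (nat_lit 0) (nat_lit 2) [nat_lit 1] (BT.dead (nat_lit 9) (BT.img (nat_lit 1) (nat_lit 0) (BT.img (nat_lit 1) (nat_lit 0) (BT.img (nat_lit 1) (nat_lit 0) (BT.frm (nat_lit 0) (nat_lit 0xd06292f0e3537) (nat_lit 0x2d0229353b) [nat_lit 2, nat_lit 0, nat_lit 3] (BT.pln (nat_lit 0) (nat_lit 13) (BT.frm (nat_lit 1) (nat_lit 0x3f440d06292f0e3537) (nat_lit 0x3f3f432d0229353b) [nat_lit 3, nat_lit 4, nat_lit 2, nat_lit 5] (BT.pln (nat_lit 0) (nat_lit 6) (BT.dif (nat_lit 2) (nat_lit 0) (BT.br (nat_lit 0) (nat_lit 96) [nat_lit 1795, nat_lit 3]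 (BT.dead (nat_lit 222) (BT.dif (nat_lit 1) (nat_lit 0) (BT.frm (nat_lit 2) (nat_lit 0x47473f440d06292f0e3537) (nat_lit 0x483f3f432d0229353b) [nat_lit 1, nat_lit 8, nat_lit 9, nat_lit 7, nat_lit 10] (BT.pln (nat_lit 0) (nat_lit 8) (BT.dif (nat_lit 2) (nat_lit 0) (BT.br (nat_lit 0) (nat_lit 178) [nat_lit 7] (BT.dead (nat_lit 35) (BT.pln (nat_lit 8) (nat_lit 7) (BT.and (nat_lit 8) (nat_lit 0) (BT.pln (nat_lit 10) (nat_lit 4) (BT.and (nat_lit 1) (nat_lit 0) (BT.dif (nat_lit 0) (nat_lit 6) (BT.pln (nat_lit 13) (nat_lit 8) (BT.dif (nat_lit 1) (nat_lit 0) (BT.dif (nat_lit 0) (nat_lit 24) (BT.frm (nat_lit 3) (nat_lit 0x1f47473f440d06292f0e3537) (nat_lit 0x1f483f3f432d0229353b) [nat_lit 8, nat_lit 13, nat_lit 20, nat_lit 21, nat_lit 19, nat_lit 22] (BT.pln (nat_lit 0) (nat_lit 6) (BT.dif (nat_lit 2) (nat_lit 0) (BT.br (nat_lit 0) (nat_lit 325) [nat_lit 460035] (BT.dead (nat_lit 171) (BT.frm (nat_lit 4) (nat_lit 0x1f47473f440d06292f0e3537) (nat_lit 0x491f483f3f432d0229353b) [nat_lit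 0, nat_lit 12, nat_lit 17, nat_lit 24, nat_lit 25, nat_lit 23, nat_lit 26] (BT.pln (nat_lit 0) (nat_lit 7) (BT.img (nat_lit 1) (nat_lit 2) (BT.and (nat_lit 1) (nat_lit 0) (BT.cnt (nat_lit 0)))))) BT.nil))))))))))))) BT.nil)))))) (BT.dead (nat_lit 41) (BT.frm (nat_lit 2) (nat_lit 0x47473f440d06292f0e3537) (nat_lit 0x4747473f3f432d0229353b) [nat_lit 0, nat_lit 7, nat_lit 8, nat_lit 6, nat_lit 9] (BT.pln (nat_lit 0) (nat_lit 5) (BT.img (nat_lit 1) (nat_lit 2) (BT.img (nat_lit 1) (nat_lit 0) (BT.img (nat_lit 1) (nat_lit 0) (BT.and (nat_lit 3) (nat_lit 0) (BT.cnt (nat_lit 0)))))))) (BT.dead (nat_lit 35) (BT.frm (nat_lit 2) (nat_lit 0x47473f440d06292f0e3537) (nat_lit 0x473f3f432d0229353b) [nat_lit 0, nat_lit 7, nat_lit 8, nat_lit 6, nat_lit 9] (BT.pln (nat_lit 0) (nat_lit 5) (BT.img (nat_lit 1) (nat_lit 2) (BT.img (nat_lit 1) (nat_lit 0) (BT.img (nat_lit 1) (nat_lit 0) (BT.and (nat_lit 3) (nat_lit 0) (BT.cnt (nat_lit 0)))))))) BT.nil)))))))))))) (BT.kid (nat_lit 2) (nat_lit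 8) (BT.img (nat_lit 1) (nat_lit 0) (BT.img (nat_lit 1) (nat_lit 0) (BT.img (nat_lit 1) (nat_lit 0) (BT.frm (nat_lit 0) (nat_lit 0xd06292f0e3537) (nat_lit 0xd06292f0e3537) [nat_lit 2, nat_lit 0, nat_lit 3] (BT.pln (nat_lit 0) (nat_lit 13) (BT.frm (nat_lit 1) (nat_lit 0x3f440d06292f0e3537) (nat_lit 0x3f440d06292f0e3537) [nat_lit 3, nat_lit 4, nat_lit 2, nat_lit 5] (BT.pln (nat_lit 0) (nat_lit 6) (BT.dif (nat_lit 2) (nat_lit 0) (BT.br (nat_lit 0) (nat_lit 96) [nat_lit 3] (BT.dead (nat_lit 101) (BT.dif (nat_lit 1) (nat_lit 0) (BT.frm (nat_lit 2) (nat_lit 0x47473f440d06292f0e3537) (nat_lit 0x4747473f440d06292f0e3537) [nat_lit 1, nat_lit 8, nat_lit 9, nat_lit 7, nat_lit 10] (BT.pln (nat_lit 0) (nat_lit 8) (BT.dif (nat_lit 2) (nat_lit 0) (BT.br (nat_lit 0) (nat_lit 178) [nat_lit 1795] (BT.dead (nat_lit 96) (BT.frm (nat_lit 3) (nat_lit 0x1f47473f440d06292f0e3537) (nat_lit 0x4747473f440d06292f0e3537) [nat_lit 0, nat_lit 5, nat_lit 12, nat_lit 13, nat_lit 11, nat_lit 14] (BT.pln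 (nat_lit 0) (nat_lit 7) (BT.img (nat_lit 1) (nat_lit 2) (BT.and (nat_lit 1) (nat_lit 0) (BT.cnt (nat_lit 0)))))) BT.nil)))))) (BT.dead (nat_lit 178) (BT.frm (nat_lit 2) (nat_lit 0x47473f440d06292f0e3537) (nat_lit 0x47493f440d06292f0e3537) [nat_lit 0, nat_lit 7, nat_lit 8, nat_lit 6, nat_lit 9] (BT.pln (nat_lit 0) (nat_lit 5) (BT.img (nat_lit 1) (nat_lit 2) (BT.img (nat_lit 1) (nat_lit 0) (BT.img (nat_lit 1) (nat_lit 0) (BT.and (nat_lit 3) (nat_lit 0) (BT.cnt (nat_lit 0)))))))) (BT.kid (nat_lit 96) (nat_lit 4) (BT.dif (nat_lit 1) (nat_lit 0) (BT.frm (nat_lit 2) (nat_lit 0x47473f440d06292f0e3537) (nat_lit 0x47473f440d06292f0e3537) [nat_lit 1, nat_lit 8, nat_lit 9, nat_lit 7, nat_lit 10] (BT.pln (nat_lit 0) (nat_lit 8) (BT.dif (nat_lit 2) (nat_lit 0) (BT.br (nat_lit 0) (nat_lit 178) [nat_lit 5] (BT.kid (nat_lit 178) (nat_lit 2) (BT.pln (nat_lit 8) (nat_lit 7) (BT.and (nat_lit 8) (nat_lit 0) (BT.pln (nat_lit 10) (nat_lit 4) (BT.and (nat_lit 1) (nat_lit 0) (BT.dif (nat_lit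 0) (nat_lit 6) (BT.pln (nat_lit 13) (nat_lit 8) (BT.dif (nat_lit 1) (nat_lit 0) (BT.dif (nat_lit 0) (nat_lit 24) (BT.frm (nat_lit 3) (nat_lit 0x1f47473f440d06292f0e3537) (nat_lit 0x1f47473f440d06292f0e3537) [nat_lit 8, nat_lit 13, nat_lit 20, nat_lit 21, nat_lit 19, nat_lit 22] (BT.pln (nat_lit 0) (nat_lit 6) (BT.dif (nat_lit 2) (nat_lit 0) (BT.br (nat_lit 0) (nat_lit 325) [nat_lit 7] (BT.kid (nat_lit 325) (nat_lit 1) (BT.one (nat_lit 4) (nat_lit 0x1f47473f440d06292f0e3537) (nat_lit 0x1f47473f440d06292f0e3537) [nat_lit 0, nat_lit 12, nat_lit 17, nat_lit 24, nat_lit 25, nat_lit 23, nat_lit 26]) BT.nil))))))))))))) BT.nil)))))) BT.nil)))))))))))) BT.nil))))))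

theorem ot_c45_cnt : Cnt 351 (grp 351 o_O) [o_g574] [o_g574] 0 0 0 0 48 :=
  BT.sound ot_c45_cnt_P Known.nil (t := ot_c45_cnt_t) (d := 0) (by decide +kernel)

theorem ot_c45_ge : 48 ≤ Nat.card (grp 351 ot_c45_K) :=
  Ch.le_card_grp (k := 9) (L := (lab 351 9)) o_hn ot_c45_K_ok (c := (Ch.cons (nat_lit 2) [nat_lit 1] (Ch.cons (nat_lit 96) [nat_lit 3] (Ch.cons (nat_lit 178) [nat_lit 5] (Ch.cons (nat_lit 325) [nat_lit 7] Ch.nil))))) (by decide +kernel)

theorem ot_c45_eq : (grp 351 o_O) ⊓ Subgroup.centralizer {Net.toPerm 351 o_g574} = grp 351 ot_c45_K :=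
  cent_eq ot_c45_sym ot_c45_cnt ot_c45_ge

theorem ot_c45_card : Nat.card ↥((grp 351 o_O) ⊓ Subgroup.centralizer {Net.toPerm 351 o_g574}) = 48 :=
  card_cent ot_c45_sym ot_c45_cnt ot_c45_ge

theorem ot_c45_ord : orderOf (Net.toPerm 351 o_g574) = 12 :=
  orderOf_net o_hn o_hk o_g574_ok (by decide) (ps := [2, 3]) (by set_option linter.unusedSimpArgs false in simp [Nat.primeFactorsList_ofNat]) (by decide +kernel)

theorem o_le581 : grp 351 ot_c46_K ≤ grp 351 o_lb_E :=
  grp_le_of_memB o_hn o_hk o_lb_E_ok ot_c46_K_ok (ws := [nat_lit 0x433127261d111d17011e24, nat_lit 0x453b31392725241e2211192701051d25, nat_lit 0x433725281d1f1e1924011a2105]) (by decide +kernel)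

theorem ot_c46_le : grp 351 ot_c46_K ≤ (grp 351 o_O) :=
  (o_le581.trans o_T76_s0.le)

theorem ot_c46_mem : Net.toPerm 351 o_g578 ∈ (grp 351 o_O) :=
  ot_c46_le (toPerm_mem_grp (E := ot_c46_K) (List.Mem.head _))

theorem ot_c46_sym : Sym 351 (grp 351 o_O) [o_g578] ot_c46_K 0 :=
  Sym.of_lab o_hn o_hk (okE_cons.2 ⟨o_g578_ok, okE_nil _⟩) ot_c46_K_ok ot_c46_le (kT := 0) (by decide +kernel)

noncomputable def ot_c46_cnt_L : List ℕ := [1, 2, o_T76_s1_O, 0, 0, 2, 5, o_T76_s8_O, 0, 0, 4, 20, o_T76_s10_O, 0, 0, 5, 11, o_T76_s11_O, 0, 0, 6, 13, o_T76_s90_O, 0, 0, 7, 15, o_T76_s91_O, 0, 0, 9, 18, o_T76_s93_O, 1, 0]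

theorem ot_c46_cnt_P : Prob 351 9 (grp 351 o_O) ot_c46_cnt_EG [o_g578] [o_g578] ot_c46_K ot_c46_cnt_L 0 0 :=
  Sym.prob o_hn o_hk ot_c46_sym ot_c46_cnt_EG_ok (grp_cons_le o_b_o_T76 (grp_cons_le o_c_o_T76 (grp_cons_le o_d_o_T76 (grp_cons_le o_e_o_T76 (grp_cons_le o_f_o_T76 (grp_cons_le o_g_o_T76 (grp_cons_le o_h_o_T76 (grp_cons_le o_i_o_T76 (grp_cons_le o_g1_o_T76 (grp_cons_le o_g2_o_T76 (grp_cons_le o_g3_o_T76 (grp_cons_le o_g4_o_T76 (grp_cons_le o_g5_o_T76 (grp_cons_le o_g8_o_T76 (grp_cons_le o_g9_o_T76 (grp_cons_le o_g12_o_T76 (grp_cons_le o_g13_o_T76 (grp_cons_le o_g14_o_T76 (grp_cons_le o_g17_o_T76 (grp_cons_le o_g18_o_T76 (grp_cons_le o_g19_o_T76 (grp_cons_le o_g20_o_T76 (grp_cons_le o_g23_o_T76 (grp_cons_le o_g24_o_T76 (grp_cons_le o_g25_o_T76 (grp_cons_le o_g26_o_T76 (grp_cons_le o_g27_o_T76 (grp_cons_le o_g30_o_T76 (grp_cons_le o_g31_o_T76 (grp_cons_le o_g32_o_T76 (grp_cons_le o_g35_o_T76 (grp_cons_le o_g111_o_T76 (grp_nil_le _)))))))))))))))))))))))))))))))))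 (Frames.cons o_T76_s1_F (Frames.cons o_T76_s8_F (Frames.cons o_T76_s10_F (Frames.cons o_T76_s11_F (Frames.cons o_T76_s90_F (Frames.cons o_T76_s91_F (Frames.cons o_T76_s93_F Frames.nil))))))) (okE_cons.2 ⟨o_g578_ok, okE_nil _⟩) _

noncomputable def ot_c46_cnt_t : BT := (BT.fix (nat_lit 65793) (BT.br (nat_lit 0) (nat_lit 43) [nat_lit 1] (BT.kid (nat_lit 43) (nat_lit 12) (BT.fix (nat_lit 0x10101010101) (BT.dif (nat_lit 0) (nat_lit 2) (BT.br (nat_lit 0) (nat_lit 23) [nat_lit 3] (BT.dead (nat_lit 69) (BT.img (nat_lit 1) (nat_lit 3) (BT.frm (nat_lit 1) (nat_lit 0x181b011f22) (nat_lit 0x181b011f22) [nat_lit 0, nat_lit 4] (BT.pln (nat_lit 0) (nat_lit 4) (BT.dif (nat_lit 0) (nat_lit 5) (BT.dif (nat_lit 8) (nat_lit 7) (BT.dif (nat_lit 0) (nat_lit 4) (BT.frm (nat_lit 2) (nat_lit 0x1f221d22181b011f22) (nat_lit 0x1f211d22181b011f22) [nat_lit 6, nat_lit 0, nat_lit 5, nat_lit 9] (BT.pln (nat_lit 0) (nat_lit 9) (BT.dif (nat_lit 4) (nat_lit 0) (BT.img (nat_lit 1) (nat_lit 9) (BT.img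 (nat_lit 1) (nat_lit 0) (BT.img (nat_lit 1) (nat_lit 0) (BT.frm (nat_lit 4) (nat_lit 0x261f221d22181b011f22) (nat_lit 0xb1f211d22181b011f22) [nat_lit 2, nat_lit 0, nat_lit 12, nat_lit 6, nat_lit 11, nat_lit 15] (BT.pln (nat_lit 0) (nat_lit 11) (BT.and (nat_lit 5) (nat_lit 0) (BT.br (nat_lit 0) (nat_lit 67) [nat_lit 5] (BT.dead (nat_lit 278) (BT.frm (nat_lit 5) (nat_lit 0x261f221d22181b011f22) (nat_lit 0x310b1f211d22181b011f22) [nat_lit 0, nat_lit 6, nat_lit 4, nat_lit 16, nat_lit 10, nat_lit 15, nat_lit 19] (BT.pln (nat_lit 0) (nat_lit 7) (BT.img (nat_lit 1) (nat_lit 2) (BT.img (nat_lit 1) (nat_lit 0) (BT.img (nat_lit 1) (nat_lit 0) (BT.and (nat_lit 3) (nat_lit 0) (BT.cnt (nat_lit 0)))))))) BT.nil))))))))))))))))) (BT.kid (nat_lit 23) (nat_lit 2) (BT.img (nat_lit 1) (nat_lit 3) (BT.frm (nat_lit 1) (nat_lit 0x181b011f22) (nat_lit 0x181b011f22) [nat_lit 0, nat_lit 4] (BT.pln (nat_lit 0) (nat_lit 4) (BT.dif (nat_lit 0) (nat_lit 5) (BT.dif (nat_lit 8) (nat_lit 7) (BT.dif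 (nat_lit 0) (nat_lit 4) (BT.frm (nat_lit 2) (nat_lit 0x1f221d22181b011f22) (nat_lit 0x1f221d22181b011f22) [nat_lit 6, nat_lit 0, nat_lit 5, nat_lit 9] (BT.pln (nat_lit 0) (nat_lit 9) (BT.dif (nat_lit 4) (nat_lit 0) (BT.img (nat_lit 1) (nat_lit 9) (BT.img (nat_lit 1) (nat_lit 0) (BT.img (nat_lit 1) (nat_lit 0) (BT.frm (nat_lit 4) (nat_lit 0x261f221d22181b011f22) (nat_lit 0x261f221d22181b011f22) [nat_lit 2, nat_lit 0, nat_lit 12, nat_lit 6, nat_lit 11, nat_lit 15] (BT.pln (nat_lit 0) (nat_lit 11) (BT.and (nat_lit 5) (nat_lit 0) (BT.br (nat_lit 0) (nat_lit 67) [nat_lit 5] (BT.kid (nat_lit 67) (nat_lit 1) (BT.frm (nat_lit 0) (nat_lit 73506) (nat_lit 73506) [nat_lit 19] (BT.pln (nat_lit 0) (nat_lit 1) (BT.dif (nat_lit 25) (nat_lit 0) (BT.pln (nat_lit 17) (nat_lit 2) (BT.dif (nat_lit 1) (nat_lit 0) (BT.pln (nat_lit 14) (nat_lit 11) (BT.frm (nat_lit 3) (nat_lit 0x261f221d22181b011f22) (nat_lit 0x261f221d22181b011f22) [nat_lit 10, nat_lit 22, nat_lit 16, nat_lit 21, nat_lit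 25] (BT.pln (nat_lit 0) (nat_lit 5) (BT.and (nat_lit 2) (nat_lit 0) (BT.img (nat_lit 1) (nat_lit 0) (BT.and (nat_lit 7) (nat_lit 0) (BT.img (nat_lit 1) (nat_lit 0) (BT.and (nat_lit 7) (nat_lit 0) (BT.frm (nat_lit 5) (nat_lit 0x261f221d22181b011f22) (nat_lit 0x261f221d22181b011f22) [nat_lit 13, nat_lit 19, nat_lit 17, nat_lit 29, nat_lit 23, nat_lit 28, nat_lit 32] (BT.pln (nat_lit 0) (nat_lit 9) (BT.dif (nat_lit 2) (nat_lit 0) (BT.pln (nat_lit 25) (nat_lit 14) (BT.img (nat_lit 1) (nat_lit 0) (BT.img (nat_lit 1) (nat_lit 0) (BT.img (nat_lit 1) (nat_lit 0) (BT.dif (nat_lit 14) (nat_lit 0) (BT.img (nat_lit 1) (nat_lit 0) (BT.and (nat_lit 19) (nat_lit 0) (BT.pln (nat_lit 9) (nat_lit 11) (BT.dif (nat_lit 1) (nat_lit 0) (BT.pln (nat_lit 11) (nat_lit 8) (BT.and (nat_lit 17) (nat_lit 0) (BT.pln (nat_lit 30) (nat_lit 9) (BT.and (nat_lit 23) (nat_lit 0) (BT.pln (nat_lit 32) (nat_lit 7) (BT.and (nat_lit 1) (nat_lit 0) (BT.pln (nat_lit 34) (nat_lit 6) (BT.and (nat_lit 1) (nat_lit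 0) (BT.pln (nat_lit 36) (nat_lit 8) (BT.dif (nat_lit 1) (nat_lit 0) (BT.pln (nat_lit 38) (nat_lit 10) (BT.dif (nat_lit 1) (nat_lit 0) (BT.pln (nat_lit 23) (nat_lit 7) (BT.dif (nat_lit 1) (nat_lit 0) (BT.and (nat_lit 16) (nat_lit 9) (BT.dif (nat_lit 0) (nat_lit 2) (BT.pln (nat_lit 34) (nat_lit 8) (BT.dif (nat_lit 36) (nat_lit 0) (BT.dif (nat_lit 0) (nat_lit 5) (BT.and (nat_lit 31) (nat_lit 29) (BT.img (nat_lit 1) (nat_lit 0) (BT.and (nat_lit 2) (nat_lit 0) (BT.img (nat_lit 1) (nat_lit 0) (BT.and (nat_lit 7) (nat_lit 0) (BT.img (nat_lit 1) (nat_lit 0) (BT.and (nat_lit 11) (nat_lit 0) (BT.img (nat_lit 1) (nat_lit 0) (BT.and (nat_lit 25) (nat_lit 0) (BT.img (nat_lit 1) (nat_lit 0) (BT.and (nat_lit 29) (nat_lit 0) (BT.img (nat_lit 1) (nat_lit 0) (BT.and (nat_lit 40) (nat_lit 0) (BT.pln (nat_lit 66) (nat_lit 10) (BT.and (nat_lit 56) (nat_lit 0) (BT.dif (nat_lit 0) (nat_lit 23) (BT.and (nat_lit 0) (nat_lit 28) (BT.pln (nat_lit 70) (nat_lit 18) (BT.and (nat_lit 58) (nat_lit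 0) (BT.img (nat_lit 1) (nat_lit 63) (BT.dif (nat_lit 1) (nat_lit 0) (BT.dif (nat_lit 0) (nat_lit 35) (BT.pln (nat_lit 59) (nat_lit 9) (BT.dif (nat_lit 80) (nat_lit 0) (BT.pln (nat_lit 61) (nat_lit 6) (BT.and (nat_lit 1) (nat_lit 0) (BT.dif (nat_lit 0) (nat_lit 38) (BT.dif (nat_lit 0) (nat_lit 37) (BT.and (nat_lit 0) (nat_lit 46) (BT.img (nat_lit 1) (nat_lit 0) (BT.and (nat_lit 8) (nat_lit 0) (BT.img (nat_lit 1) (nat_lit 0) (BT.and (nat_lit 15) (nat_lit 0) (BT.one (nat_lit 6) (nat_lit 0x3f261f221d22181b011f22) (nat_lit 0x3f261f221d22181b011f22) [nat_lit 20, nat_lit 0, nat_lit 77, nat_lit 83, nat_lit 81, nat_lit 93, nat_lit 87, nat_lit 92, nat_lit 96])))))))))))))))))))))))))))))))))))))))))))))))))))))))))))))))))))))))))))))) BT.nil))))))))))))))))) BT.nil))))) BT.nil)))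

theorem ot_c46_cnt : Cnt 351 (grp 351 o_O) [o_g578] [o_g578] 0 0 0 0 36 :=
  BT.sound ot_c46_cnt_P Known.nil (t := ot_c46_cnt_t) (d := 0) (by decide +kernel)

theorem ot_c46_ge : 36 ≤ Nat.card (grp 351 ot_c46_K) :=
  Ch.le_card_grp (k := 9) (L := (lab 351 9)) o_hn ot_c46_K_ok (c := (Ch.cons (nat_lit 43) [nat_lit 1] (Ch.cons (nat_lit 23) [nat_lit 3] (Ch.cons (nat_lit 67) [nat_lit 5] Ch.nil)))) (by decide +kernel)

theorem ot_c46_eq : (grp 351 o_O) ⊓ Subgroup.centralizer {Net.toPerm 351 o_g578} = grp 351 ot_c46_K :=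
  cent_eq ot_c46_sym ot_c46_cnt ot_c46_ge

theorem ot_c46_card : Nat.card ↥((grp 351 o_O) ⊓ Subgroup.centralizer {Net.toPerm 351 o_g578}) = 36 :=
  card_cent ot_c46_sym ot_c46_cnt ot_c46_ge

theorem ot_c46_ord : orderOf (Net.toPerm 351 o_g578) = 12 :=
  orderOf_net o_hn o_hk o_g578_ok (by decide) (ps := [2, 3]) (by set_option linter.unusedSimpArgs false in simp [Nat.primeFactorsList_ofNat]) (by decide +kernel)

theorem o_le585 : grp 351 ot_c47_K ≤ grp 351 o_lb_E :=
  grp_le_of_memB o_hn o_hk o_lb_E_ok ot_c47_K_ok (ws := [nat_lit 0x433b2f3925241d282211152e011d, nat_lit 0x453128251d2024111e01050d2c, nat_lit 0x3b3121241d241e11271f0121]) (by decide +kernel)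

theorem ot_c47_le : grp 351 ot_c47_K ≤ (grp 351 o_O) :=
  (o_le585.trans o_T76_s0.le)

theorem ot_c47_mem : Net.toPerm 351 o_g582 ∈ (grp 351 o_O) :=
  ot_c47_le (toPerm_mem_grp (E := ot_c47_K) (List.Mem.head _))

theorem ot_c47_sym : Sym 351 (grp 351 o_O) [o_g582] ot_c47_K 0 :=
  Sym.of_lab o_hn o_hk (okE_cons.2 ⟨o_g582_ok, okE_nil _⟩) ot_c47_K_ok ot_c47_le (kT := 0) (by decide +kernel)

noncomputable def ot_c47_cnt_L : List ℕ := [1, 2, o_T76_s1_O, 0, 0, 2, 5, o_T76_s8_O, 0, 0, 4, 20, o_T76_s10_O, 0, 0, 5, 11, o_T76_s11_O, 0, 0, 6, 13, o_T76_s90_O, 0, 0, 7, 15, o_T76_s91_O, 0, 0, 8, 16, o_T76_s92_O, 0, 0, 9, 18, o_T76_s93_O, 1, 0]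

theorem ot_c47_cnt_P : Prob 351 9 (grp 351 o_O) ot_c47_cnt_EG [o_g582] [o_g582] ot_c47_K ot_c47_cnt_L 0 0 :=
  Sym.prob o_hn o_hk ot_c47_sym ot_c47_cnt_EG_ok (grp_cons_le o_b_o_T76 (grp_cons_le o_c_o_T76 (grp_cons_le o_d_o_T76 (grp_cons_le o_e_o_T76 (grp_cons_le o_f_o_T76 (grp_cons_le o_g_o_T76 (grp_cons_le o_h_o_T76 (grp_cons_le o_i_o_T76 (grp_cons_le o_g1_o_T76 (grp_cons_le o_g2_o_T76 (grp_cons_le o_g3_o_T76 (grp_cons_le o_g4_o_T76 (grp_cons_le o_g5_o_T76 (grp_cons_le o_g8_o_T76 (grp_cons_le o_g9_o_T76 (grp_cons_le o_g12_o_T76 (grp_cons_le o_g13_o_T76 (grp_cons_le o_g14_o_T76 (grp_cons_le o_g17_o_T76 (grp_cons_le o_g18_o_T76 (grp_cons_le o_g19_o_T76 (grp_cons_le o_g20_o_T76 (grp_cons_le o_g23_o_T76 (grp_cons_le o_g24_o_T76 (grp_cons_le o_g25_o_T76 (grp_cons_le o_g26_o_T76 (grp_cons_le o_g27_o_T76 (grp_cons_le o_g30_o_T76 (grp_cons_le o_g31_o_T76 (grp_cons_le o_g32_o_T76 (grp_cons_le o_g35_o_T76 (grp_cons_le o_g111_o_T76 (grp_nil_le _)))))))))))))))))))))))))))))))))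 (Frames.cons o_T76_s1_F (Frames.cons o_T76_s8_F (Frames.cons o_T76_s10_F (Frames.cons o_T76_s11_F (Frames.cons o_T76_s90_F (Frames.cons o_T76_s91_F (Frames.cons o_T76_s92_F (Frames.cons o_T76_s93_F Frames.nil)))))))) (okE_cons.2 ⟨o_g582_ok, okE_nil _⟩) _

noncomputable def ot_c47_cnt_t : BT := (BT.fix (nat_lit 65793) (BT.br (nat_lit 0) (nat_lit 128) [nat_lit 1] (BT.kid (nat_lit 128) (nat_lit 12) (BT.fix (nat_lit 0x10101010101) (BT.dif (nat_lit 0) (nat_lit 2) (BT.br (nat_lit 0) (nat_lit 22) [nat_lit 3] (BT.dead (nat_lit 74) (BT.img (nat_lit 1) (nat_lit 3) (BT.frm (nat_lit 1) (nat_lit 0x15010507092c) (nat_lit 0x15010507092c) [nat_lit 0, nat_lit 4] (BT.pln (nat_lit 0) (nat_lit 4) (BT.dif (nat_lit 0) (nat_lit 5) (BT.dif (nat_lit 8) (nat_lit 7) (BT.dif (nat_lit 0) (nat_lit 4) (BT.frm (nat_lit 2) (nat_lit 0x23221b2615010507092c) (nat_lit 0x233b1b2615010507092c) [nat_lit 6, nat_lit 0, nat_lit 5, nat_lit 9] (BT.pln (nat_lit 0) (nat_lit 9) (BT.dif (nat_lit 4) (nat_lit 0) (BT.img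 (nat_lit 1) (nat_lit 9) (BT.img (nat_lit 1) (nat_lit 0) (BT.img (nat_lit 1) (nat_lit 0) (BT.frm (nat_lit 4) (nat_lit 0x2623221b2615010507092c) (nat_lit 0x2d3725233b1b2615010507092c) [nat_lit 2, nat_lit 0, nat_lit 12, nat_lit 6, nat_lit 11, nat_lit 15] (BT.pln (nat_lit 0) (nat_lit 11) (BT.and (nat_lit 5) (nat_lit 0) (BT.br (nat_lit 0) (nat_lit 302) [nat_lit 5] (BT.dead (nat_lit 345) (BT.frm (nat_lit 5) (nat_lit 0x2623221b2615010507092c) (nat_lit 0x312d3725233b1b2615010507092c) [nat_lit 0, nat_lit 6, nat_lit 4, nat_lit 16, nat_lit 10, nat_lit 15, nat_lit 19] (BT.pln (nat_lit 0) (nat_lit 7) (BT.img (nat_lit 1) (nat_lit 2) (BT.img (nat_lit 1) (nat_lit 0) (BT.img (nat_lit 1) (nat_lit 0) (BT.and (nat_lit 3) (nat_lit 0) (BT.cnt (nat_lit 0)))))))) BT.nil))))))))))))))))) (BT.kid (nat_lit 22) (nat_lit 2) (BT.img (nat_lit 1) (nat_lit 3) (BT.frm (nat_lit 1) (nat_lit 0x15010507092c) (nat_lit 0x15010507092c) [nat_lit 0, nat_lit 4] (BT.pln (nat_lit 0) (nat_lit 4) (BT.dif (nat_lit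 0) (nat_lit 5) (BT.dif (nat_lit 8) (nat_lit 7) (BT.dif (nat_lit 0) (nat_lit 4) (BT.frm (nat_lit 2) (nat_lit 0x23221b2615010507092c) (nat_lit 0x23221b2615010507092c) [nat_lit 6, nat_lit 0, nat_lit 5, nat_lit 9] (BT.pln (nat_lit 0) (nat_lit 9) (BT.dif (nat_lit 4) (nat_lit 0) (BT.img (nat_lit 1) (nat_lit 9) (BT.img (nat_lit 1) (nat_lit 0) (BT.img (nat_lit 1) (nat_lit 0) (BT.frm (nat_lit 4) (nat_lit 0x2623221b2615010507092c) (nat_lit 0x2623221b2615010507092c) [nat_lit 2, nat_lit 0, nat_lit 12, nat_lit 6, nat_lit 11, nat_lit 15] (BT.pln (nat_lit 0) (nat_lit 11) (BT.and (nat_lit 5) (nat_lit 0) (BT.br (nat_lit 0) (nat_lit 302) [nat_lit 5] (BT.kid (nat_lit 302) (nat_lit 1) (BT.frm (nat_lit 0) (nat_lit 0x10507092c) (nat_lit 0x10507092c) [nat_lit 19] (BT.pln (nat_lit 0) (nat_lit 1) (BT.dif (nat_lit 25) (nat_lit 0) (BT.pln (nat_lit 17) (nat_lit 2) (BT.dif (nat_lit 1) (nat_lit 0) (BT.pln (nat_lit 8) (nat_lit 6) (BT.dif (nat_lit 1) (nat_lit 0) (BT.pln (nat_lit 10) (nat_lit 7) (BT.and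 (nat_lit 1) (nat_lit 0) (BT.pln (nat_lit 12) (nat_lit 8) (BT.and (nat_lit 1) (nat_lit 0) (BT.pln (nat_lit 14) (nat_lit 9) (BT.dif (nat_lit 1) (nat_lit 0) (BT.frm (nat_lit 5) (nat_lit 0x2623221b2615010507092c) (nat_lit 0x2623221b2615010507092c) [nat_lit 13, nat_lit 19, nat_lit 17, nat_lit 29, nat_lit 23, nat_lit 28, nat_lit 32] (BT.pln (nat_lit 0) (nat_lit 9) (BT.dif (nat_lit 2) (nat_lit 0) (BT.img (nat_lit 1) (nat_lit 16) (BT.img (nat_lit 1) (nat_lit 0) (BT.frm (nat_lit 6) (nat_lit 0x3f2623221b2615010507092c) (nat_lit 0x3f2623221b2615010507092c) [nat_lit 0, nat_lit 18, nat_lit 24, nat_lit 22, nat_lit 34, nat_lit 28, nat_lit 33, nat_lit 37] (BT.pln (nat_lit 0) (nat_lit 9) (BT.dif (nat_lit 4) (nat_lit 0) (BT.pln (nat_lit 30) (nat_lit 11) (BT.pln (nat_lit 31) (nat_lit 14) (BT.img (nat_lit 1) (nat_lit 0) (BT.img (nat_lit 1) (nat_lit 0) (BT.img (nat_lit 1) (nat_lit 0) (BT.dif (nat_lit 4) (nat_lit 0) (BT.img (nat_lit 1) (nat_lit 0) (BT.and (nat_lit 25) (nat_lit 0) (BT.pln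 (nat_lit 15) (nat_lit 8) (BT.dif (nat_lit 1) (nat_lit 0) (BT.frm (nat_lit 3) (nat_lit 0x2623221b2615010507092c) (nat_lit 0x2623221b2615010507092c) [nat_lit 35, nat_lit 47, nat_lit 41, nat_lit 46, nat_lit 50] (BT.pln (nat_lit 0) (nat_lit 8) (BT.dif (nat_lit 11) (nat_lit 0) (BT.pln (nat_lit 20) (nat_lit 7) (BT.and (nat_lit 1) (nat_lit 0) (BT.pln (nat_lit 4) (nat_lit 5) (BT.and (nat_lit 15) (nat_lit 0) (BT.img (nat_lit 1) (nat_lit 0) (BT.and (nat_lit 36) (nat_lit 0) (BT.img (nat_lit 1) (nat_lit 0) (BT.and (nat_lit 36) (nat_lit 0) (BT.and (nat_lit 0) (nat_lit 27) (BT.img (nat_lit 1) (nat_lit 0) (BT.and (nat_lit 8) (nat_lit 0) (BT.img (nat_lit 1) (nat_lit 0) (BT.dif (nat_lit 15) (nat_lit 0) (BT.dif (nat_lit 13) (nat_lit 12) (BT.and (nat_lit 0) (nat_lit 4) (BT.img (nat_lit 1) (nat_lit 0) (BT.dif (nat_lit 3) (nat_lit 0) (BT.dif (nat_lit 9) (nat_lit 36) (BT.and (nat_lit 23) (nat_lit 46) (BT.and (nat_lit 0) (nat_lit 18) (BT.and (nat_lit 16) (nat_lit 24) (BT.and (nat_lit 42)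 (nat_lit 40) (BT.and (nat_lit 27) (nat_lit 41) (BT.and (nat_lit 0) (nat_lit 11) (BT.img (nat_lit 1) (nat_lit 0) (BT.and (nat_lit 3) (nat_lit 0) (BT.img (nat_lit 1) (nat_lit 0) (BT.and (nat_lit 6) (nat_lit 0) (BT.img (nat_lit 1) (nat_lit 0) (BT.and (nat_lit 9) (nat_lit 0) (BT.img (nat_lit 1) (nat_lit 0) (BT.and (nat_lit 13) (nat_lit 0) (BT.img (nat_lit 1) (nat_lit 0) (BT.and (nat_lit 19) (nat_lit 0) (BT.img (nat_lit 1) (nat_lit 0) (BT.dif (nat_lit 18) (nat_lit 0) (BT.img (nat_lit 1) (nat_lit 0) (BT.and (nat_lit 50) (nat_lit 0) (BT.one (nat_lit 7) (nat_lit 0x3f2623221b2615010507092c) (nat_lit 0x3f2623221b2615010507092c) [nat_lit 0, nat_lit 54, nat_lit 72, nat_lit 78, nat_lit 76, nat_lit 88, nat_lit 82, nat_lit 87, nat_lit 91]))))))))))))))))))))))))))))))))))))))))))))))))))))))))))))))))))))))))) BT.nil))))))))))))))))) BT.nil))))) BT.nil)))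

theorem ot_c47_cnt : Cnt 351 (grp 351 o_O) [o_g582] [o_g582] 0 0 0 0 36 :=
  BT.sound ot_c47_cnt_P Known.nil (t := ot_c47_cnt_t) (d := 0) (by decide +kernel)

theorem ot_c47_ge : 36 ≤ Nat.card (grp 351 ot_c47_K) :=
  Ch.le_card_grp (k := 9) (L := (lab 351 9)) o_hn ot_c47_K_ok (c := (Ch.cons (nat_lit 128) [nat_lit 1] (Ch.cons (nat_lit 22) [nat_lit 3] (Ch.cons (nat_lit 302) [nat_lit 5] Ch.nil)))) (by decide +kernel)

theorem ot_c47_eq : (grp 351 o_O) ⊓ Subgroup.centralizer {Net.toPerm 351 o_g582} = grp 351 ot_c47_K :=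
  cent_eq ot_c47_sym ot_c47_cnt ot_c47_ge

theorem ot_c47_card : Nat.card ↥((grp 351 o_O) ⊓ Subgroup.centralizer {Net.toPerm 351 o_g582}) = 36 :=
  card_cent ot_c47_sym ot_c47_cnt ot_c47_ge

theorem ot_c47_ord : orderOf (Net.toPerm 351 o_g582) = 12 :=
  orderOf_net o_hn o_hk o_g582_ok (by decide) (ps := [2, 3]) (by set_option linter.unusedSimpArgs false in simp [Nat.primeFactorsList_ofNat]) (by decide +kernel)

theorem o_le589 : grp 351 ot_c48_K ≤ grp 351 o_lb_E :=
  grp_le_of_memB o_hn o_hk o_lb_E_ok ot_c48_K_ok (ws := [nat_lit 0x4539271d3f11250105123b, nat_lit 0x2f3927253f1e2811250105123b, nat_lit 0x45433b2f3927253f1f24113d051f19]) (by decide +kernel)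

theorem ot_c48_le : grp 351 ot_c48_K ≤ (grp 351 o_O) :=
  (o_le589.trans o_T76_s0.le)

theorem ot_c48_mem : Net.toPerm 351 o_g586 ∈ (grp 351 o_O) :=
  ot_c48_le (toPerm_mem_grp (E := ot_c48_K) (List.Mem.head _))

theorem ot_c48_sym : Sym 351 (grp 351 o_O) [o_g586] ot_c48_K 0 :=
  Sym.of_lab o_hn o_hk (okE_cons.2 ⟨o_g586_ok, okE_nil _⟩) ot_c48_K_ok ot_c48_le (kT := 0) (by decide +kernel)

noncomputable def ot_c48_cnt_L : List ℕ := [1, 2, o_T76_s1_O, 0, 0, 2, 7, o_T76_s2_O, 0, 0, 3, 19, o_T76_s83_O, 0, 0, 4, 10, o_T76_s84_O, 0, 0, 5, 13, o_T76_s85_O, 0, 0, 7, 16, o_T76_s87_O, 1, 0]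

theorem ot_c48_cnt_P : Prob 351 9 (grp 351 o_O) ot_c48_cnt_EG [o_g586] [o_g586] ot_c48_K ot_c48_cnt_L 0 0 :=
  Sym.prob o_hn o_hk ot_c48_sym ot_c48_cnt_EG_ok (grp_cons_le o_b_o_T76 (grp_cons_le o_c_o_T76 (grp_cons_le o_d_o_T76 (grp_cons_le o_e_o_T76 (grp_cons_le o_f_o_T76 (grp_cons_le o_g_o_T76 (grp_cons_le o_h_o_T76 (grp_cons_le o_i_o_T76 (grp_cons_le o_g1_o_T76 (grp_cons_le o_g2_o_T76 (grp_cons_le o_g3_o_T76 (grp_cons_le o_g4_o_T76 (grp_cons_le o_g5_o_T76 (grp_cons_le o_g8_o_T76 (grp_cons_le o_g9_o_T76 (grp_cons_le o_g12_o_T76 (grp_cons_le o_g13_o_T76 (grp_cons_le o_g14_o_T76 (grp_cons_le o_g17_o_T76 (grp_cons_le o_g18_o_T76 (grp_cons_le o_g19_o_T76 (grp_cons_le o_g20_o_T76 (grp_cons_le o_g23_o_T76 (grp_cons_le o_g24_o_T76 (grp_cons_le o_g25_o_T76 (grp_cons_le o_g26_o_T76 (grp_cons_le o_g27_o_T76 (grp_cons_le o_g30_o_T76 (grp_cons_le o_g31_o_T76 (grp_cons_le o_g32_o_T76 (grp_cons_le o_g35_o_T76 (grp_cons_le o_g88_o_T76 (grp_cons_le o_g89_o_T76 (grp_cons_le o_g90_o_T76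 (grp_cons_le o_g91_o_T76 (grp_cons_le o_g92_o_T76 (grp_cons_le o_g93_o_T76 (grp_cons_le o_g94_o_T76 (grp_cons_le o_g454_o_T76 (grp_cons_le o_g455_o_T76 (grp_cons_le o_g456_o_T76 (grp_cons_le o_g457_o_T76 (grp_nil_le _))))))))))))))))))))))))))))))))))))))))))) (Frames.cons o_T76_s1_F (Frames.cons o_T76_s2_F (Frames.cons o_T76_s83_F (Frames.cons o_T76_s84_F (Frames.cons o_T76_s85_F (Frames.cons o_T76_s87_F Frames.nil)))))) (okE_cons.2 ⟨o_g586_ok, okE_nil _⟩) _

noncomputable def ot_c48_cnt_t : BT := (BT.fix (nat_lit 257) (BT.fix (nat_lit 1) (BT.frm (nat_lit 0) (nat_lit 0x1052124) (nat_lit 0x1052124) [nat_lit 0] (BT.pln (nat_lit 0) (nat_lit 1) (BT.dif (nat_lit 3) (nat_lit 0) (BT.dif (nat_lit 0) (nat_lit 3) (BT.br (nat_lit 0) (nat_lit 127) [nat_lit 1] (BT.kid (nat_lit 127) (nat_lit 12) (BT.dif (nat_lit 9) (nat_lit 3) (BT.fix (nat_lit 0x10101010101) (BT.and (nat_lit 1) (nat_lit 0) (BT.frm (nat_lit 1) (nat_lit 0x13192d01052124) (nat_lit 0x13192d01052124) [nat_lit 3, nat_lit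 8] (BT.pln (nat_lit 0) (nat_lit 3) (BT.and (nat_lit 2) (nat_lit 0) (BT.br (nat_lit 0) (nat_lit 159) [nat_lit 3] (BT.dead (nat_lit 105) (BT.frm (nat_lit 2) (nat_lit 0x3f414013192d01052124) (nat_lit 0x41484013192d01052124) [nat_lit 0, nat_lit 7, nat_lit 12] (BT.pln (nat_lit 0) (nat_lit 3) (BT.img (nat_lit 1) (nat_lit 2) (BT.img (nat_lit 1) (nat_lit 0) (BT.img (nat_lit 1) (nat_lit 0) (BT.and (nat_lit 3) (nat_lit 0) (BT.cnt (nat_lit 0)))))))) (BT.kid (nat_lit 159) (nat_lit 2) (BT.dif (nat_lit 6) (nat_lit 2) (BT.pln (nat_lit 4) (nat_lit 4) (BT.dif (nat_lit 1) (nat_lit 0) (BT.frm (nat_lit 2) (nat_lit 0x3f414013192d01052124) (nat_lit 0x3f414013192d01052124) [nat_lit 3, nat_lit 10, nat_lit 15] (BT.pln (nat_lit 0) (nat_lit 9) (BT.and (nat_lit 2) (nat_lit 0) (BT.dif (nat_lit 0) (nat_lit 11) (BT.pln (nat_lit 3) (nat_lit 6) (BT.and (nat_lit 13) (nat_lit 0) (BT.pln (nat_lit 5) (nat_lit 4) (BT.and (nat_lit 15) (nat_lit 0) (BT.pln (nat_lit 7) (nat_lit 11) (BT.and (nat_lit 0) (nat_lit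 17) (BT.pln (nat_lit 9) (nat_lit 16) (BT.img (nat_lit 1) (nat_lit 0) (BT.and (nat_lit 2) (nat_lit 0) (BT.img (nat_lit 1) (nat_lit 0) (BT.and (nat_lit 6) (nat_lit 0) (BT.img (nat_lit 1) (nat_lit 0) (BT.and (nat_lit 10) (nat_lit 0) (BT.frm (nat_lit 3) (nat_lit 0x4e4f4d503f414013192d01052124) (nat_lit 0x4e4f4d503f414013192d01052124) [nat_lit 0, nat_lit 20, nat_lit 27, nat_lit 32] (BT.pln (nat_lit 0) (nat_lit 7) (BT.dif (nat_lit 15) (nat_lit 0) (BT.img (nat_lit 1) (nat_lit 23) (BT.frm (nat_lit 4) (nat_lit 0x4f4f4e4f4d503f414013192d01052124) (nat_lit 0x4f4f4e4f4d503f414013192d01052124) [nat_lit 0, nat_lit 4, nat_lit 24, nat_lit 31, nat_lit 36] (BT.pln (nat_lit 0) (nat_lit 6) (BT.dif (nat_lit 3) (nat_lit 0) (BT.br (nat_lit 0) (nat_lit 155) [nat_lit 5] (BT.kid (nat_lit 155) (nat_lit 1) (BT.img (nat_lit 1) (nat_lit 0) (BT.one (nat_lit 5) (nat_lit 0x534f4f4e4f4d503f414013192d01052124) (nat_lit 0x534f4f4e4f4d503f414013192d01052124) [nat_lit 0, nat_lit 1, nat_lit 5, nat_lit 9,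 nat_lit 29, nat_lit 36, nat_lit 41])) BT.nil))))))))))))))))))))))))))))) BT.nil))))))))) BT.nil))))))))

theorem ot_c48_cnt : Cnt 351 (grp 351 o_O) [o_g586] [o_g586] 0 0 0 0 24 :=
  BT.sound ot_c48_cnt_P Known.nil (t := ot_c48_cnt_t) (d := 0) (by decide +kernel)

theorem ot_c48_ge : 24 ≤ Nat.card (grp 351 ot_c48_K) :=
  Ch.le_card_grp (k := 9) (L := (lab 351 9)) o_hn ot_c48_K_ok (c := (Ch.cons (nat_lit 127) [nat_lit 1] (Ch.cons (nat_lit 159) [nat_lit 3] (Ch.cons (nat_lit 155) [nat_lit 5] Ch.nil)))) (by decide +kernel)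

theorem ot_c48_eq : (grp 351 o_O) ⊓ Subgroup.centralizer {Net.toPerm 351 o_g586} = grp 351 ot_c48_K :=
  cent_eq ot_c48_sym ot_c48_cnt ot_c48_ge

theorem ot_c48_card : Nat.card ↥((grp 351 o_O) ⊓ Subgroup.centralizer {Net.toPerm 351 o_g586}) = 24 :=
  card_cent ot_c48_sym ot_c48_cnt ot_c48_ge

theorem ot_c48_ord : orderOf (Net.toPerm 351 o_g586) = 12 :=
  orderOf_net o_hn o_hk o_g586_ok (by decide) (ps := [2, 3]) (by set_option linter.unusedSimpArgs false in simp [Nat.primeFactorsList_ofNat]) (by decide +kernel)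

theorem o_le591 : grp 351 ot_c49_K ≤ grp 351 o_lb_E :=
  grp_le_of_memB o_hn o_hk o_lb_E_ok ot_c49_K_ok (ws := [nat_lit 0x433b2f211f1d1120011e0b]) (by decide +kernel)

theorem ot_c49_le : grp 351 ot_c49_K ≤ (grp 351 o_O) :=
  (o_le591.trans o_T76_s0.le)

theorem ot_c49_mem : Net.toPerm 351 o_g590 ∈ (grp 351 o_O) :=
  ot_c49_le (toPerm_mem_grp (E := ot_c49_K) (List.Mem.head _))

theorem ot_c49_sym : Sym 351 (grp 351 o_O) [o_g590] ot_c49_K 0 :=
  Sym.of_lab o_hn o_hk (okE_cons.2 ⟨o_g590_ok, okE_nil _⟩) ot_c49_K_ok ot_c49_le (kT := 0) (by decide +kernel)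

noncomputable def ot_c49_cnt_L : List ℕ := [1, 2, o_T76_s1_O, 0, 0, 2, 5, o_T76_s8_O, 0, 0, 3, 10, o_T76_s9_O, 0, 0, 4, 20, o_T76_s10_O, 0, 0, 5, 11, o_T76_s11_O, 0, 0, 9, 18, o_T76_s102_O, 1, 0]

theorem ot_c49_cnt_P : Prob 351 9 (grp 351 o_O) ot_c49_cnt_EG [o_g590] [o_g590] ot_c49_K ot_c49_cnt_L 0 0 :=
  Sym.prob o_hn o_hk ot_c49_sym ot_c49_cnt_EG_ok (grp_cons_le o_b_o_T76 (grp_cons_le o_c_o_T76 (grp_cons_le o_d_o_T76 (grp_cons_le o_e_o_T76 (grp_cons_le o_f_o_T76 (grp_cons_le o_g_o_T76 (grp_cons_le o_h_o_T76 (grp_cons_le o_i_o_T76 (grp_cons_le o_g1_o_T76 (grp_cons_le o_g2_o_T76 (grp_cons_le o_g3_o_T76 (grp_cons_le o_g4_o_T76 (grp_cons_le o_g5_o_T76 (grp_cons_le o_g8_o_T76 (grp_cons_le o_g9_o_T76 (grp_cons_le o_g12_o_T76 (grp_cons_le o_g13_o_T76 (grp_cons_le o_g14_o_T76 (grp_cons_le o_g17_o_T76 (grp_cons_le o_g18_o_T76 (grp_cons_le o_g19_o_T76 (grp_cons_le o_g20_o_T76 (grp_cons_le o_g23_o_T76 (grp_cons_le o_g24_o_T76 (grp_cons_le o_g25_o_T76 (grp_cons_le o_g26_o_T76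 (grp_cons_le o_g27_o_T76 (grp_cons_le o_g30_o_T76 (grp_cons_le o_g31_o_T76 (grp_cons_le o_g32_o_T76 (grp_cons_le o_g35_o_T76 (grp_nil_le _)))))))))))))))))))))))))))))))) (Frames.cons o_T76_s1_F (Frames.cons o_T76_s8_F (Frames.cons o_T76_s9_F (Frames.cons o_T76_s10_F (Frames.cons o_T76_s11_F (Frames.cons o_T76_s102_F Frames.nil)))))) (okE_cons.2 ⟨o_g590_ok, okE_nil _⟩) _

noncomputable def ot_c49_cnt_t : BT := (BT.br (nat_lit 2) (nat_lit 0) [nat_lit 1] (BT.dead (nat_lit 54) (BT.frm (nat_lit 0) (nat_lit 0) (nat_lit 66871) [nat_lit 0] (BT.pln (nat_lit 0) (nat_lit 1) (BT.img (nat_lit 1) (nat_lit 2) (BT.img (nat_lit 1) (nat_lit 0) (BT.img (nat_lit 1) (nat_lit 0) (BT.img (nat_lit 1) (nat_lit 0) (BT.dif (nat_lit 4) (nat_lit 0) (BT.img (nat_lit 1) (nat_lit 1) (BT.img (nat_lit 1) (nat_lit 0) (BT.img (nat_lit 1) (nat_lit 0) (BT.img (nat_lit 1) (nat_lit 0) (BT.img (nat_lit 1) (nat_lit 0) (BT.dif (nat_lit 5) (nat_lit 0) (BT.img (nat_lit 1) (nat_lit 0) (BT.and (nat_lit 12) (nat_lit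 0) (BT.img (nat_lit 1) (nat_lit 0) (BT.and (nat_lit 0) (nat_lit 14) (BT.cnt (nat_lit 0))))))))))))))))))) (BT.dead (nat_lit 8) (BT.frm (nat_lit 0) (nat_lit 0) (nat_lit 1333) [nat_lit 0] (BT.pln (nat_lit 0) (nat_lit 1) (BT.img (nat_lit 1) (nat_lit 2) (BT.img (nat_lit 1) (nat_lit 0) (BT.img (nat_lit 1) (nat_lit 0) (BT.img (nat_lit 1) (nat_lit 0) (BT.dif (nat_lit 4) (nat_lit 0) (BT.img (nat_lit 1) (nat_lit 1) (BT.img (nat_lit 1) (nat_lit 0) (BT.img (nat_lit 1) (nat_lit 0) (BT.img (nat_lit 1) (nat_lit 0) (BT.img (nat_lit 1) (nat_lit 0) (BT.dif (nat_lit 5) (nat_lit 0) (BT.img (nat_lit 1) (nat_lit 0) (BT.and (nat_lit 12) (nat_lit 0) (BT.img (nat_lit 1) (nat_lit 0) (BT.and (nat_lit 0) (nat_lit 14) (BT.cnt (nat_lit 0))))))))))))))))))) (BT.dead (nat_lit 31) (BT.frm (nat_lit 0) (nat_lit 0) (nat_lit 0x105390f) [nat_lit 0] (BT.pln (nat_lit 0) (nat_lit 1) (BT.img (nat_lit 1) (nat_lit 2) (BT.img (nat_lit 1) (nat_lit 0) (BT.img (nat_lit 1) (nat_lit 0) (BT.img (nat_lit 1) (nat_lit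 0) (BT.img (nat_lit 1) (nat_lit 0) (BT.img (nat_lit 1) (nat_lit 0) (BT.and (nat_lit 6) (nat_lit 0) (BT.cnt (nat_lit 0))))))))))) (BT.dead (nat_lit 59) (BT.frm (nat_lit 0) (nat_lit 0) (nat_lit 0x1052215) [nat_lit 0] (BT.pln (nat_lit 0) (nat_lit 1) (BT.img (nat_lit 1) (nat_lit 2) (BT.img (nat_lit 1) (nat_lit 0) (BT.img (nat_lit 1) (nat_lit 0) (BT.img (nat_lit 1) (nat_lit 0) (BT.img (nat_lit 1) (nat_lit 0) (BT.and (nat_lit 5) (nat_lit 0) (BT.cnt (nat_lit 0)))))))))) (BT.dead (nat_lit 47) (BT.frm (nat_lit 0) (nat_lit 0) (nat_lit 0x1051d17) [nat_lit 0] (BT.pln (nat_lit 0) (nat_lit 1) (BT.img (nat_lit 1) (nat_lit 2) (BT.img (nat_lit 1) (nat_lit 0) (BT.img (nat_lit 1) (nat_lit 0) (BT.and (nat_lit 3) (nat_lit 0) (BT.cnt (nat_lit 0)))))))) (BT.dead (nat_lit 29) (BT.frm (nat_lit 0) (nat_lit 0) (nat_lit 0x105211a) [nat_lit 0] (BT.pln (nat_lit 0) (nat_lit 1) (BT.img (nat_lit 1) (nat_lit 2) (BT.img (nat_lit 1) (nat_lit 0) (BT.and (nat_lit 2) (nat_lit 0) (BT.cnt (nat_lit 0)))))))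 (BT.dead (nat_lit 23) (BT.frm (nat_lit 0) (nat_lit 0) (nat_lit 0x1032301) [nat_lit 0] (BT.pln (nat_lit 0) (nat_lit 1) (BT.img (nat_lit 1) (nat_lit 2) (BT.img (nat_lit 1) (nat_lit 0) (BT.and (nat_lit 2) (nat_lit 0) (BT.cnt (nat_lit 0))))))) (BT.dead (nat_lit 15) (BT.frm (nat_lit 0) (nat_lit 0) (nat_lit 0x1050d13) [nat_lit 0] (BT.pln (nat_lit 0) (nat_lit 1) (BT.img (nat_lit 1) (nat_lit 2) (BT.img (nat_lit 1) (nat_lit 0) (BT.and (nat_lit 2) (nat_lit 0) (BT.cnt (nat_lit 0))))))) (BT.dead (nat_lit 84) (BT.frm (nat_lit 0) (nat_lit 0) (nat_lit 0x1181d29) [nat_lit 0] (BT.pln (nat_lit 0) (nat_lit 1) (BT.img (nat_lit 1) (nat_lit 2) (BT.and (nat_lit 1) (nat_lit 0) (BT.cnt (nat_lit 0)))))) (BT.dead (nat_lit 18) (BT.frm (nat_lit 0) (nat_lit 0) (nat_lit 0x1052115) [nat_lit 0] (BT.pln (nat_lit 0) (nat_lit 1) (BT.img (nat_lit 1) (nat_lit 2) (BT.and (nat_lit 1) (nat_lit 0) (BT.cnt (nat_lit 0)))))) (BT.dead (nat_lit 6) (BT.frm (nat_lit 0) (nat_lit 0) (nat_lit 0x1031801) [nat_lit 0] (BT.pln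 (nat_lit 0) (nat_lit 1) (BT.img (nat_lit 1) (nat_lit 2) (BT.and (nat_lit 1) (nat_lit 0) (BT.cnt (nat_lit 0)))))) (BT.dead (nat_lit 4) (BT.frm (nat_lit 0) (nat_lit 0) (nat_lit 70663) [nat_lit 0] (BT.pln (nat_lit 0) (nat_lit 1) (BT.img (nat_lit 1) (nat_lit 2) (BT.img (nat_lit 1) (nat_lit 0) (BT.img (nat_lit 1) (nat_lit 0) (BT.and (nat_lit 3) (nat_lit 0) (BT.cnt (nat_lit 0)))))))) (BT.dead (nat_lit 3) (BT.frm (nat_lit 0) (nat_lit 0) (nat_lit 77569) [nat_lit 0] (BT.pln (nat_lit 0) (nat_lit 1) (BT.img (nat_lit 1) (nat_lit 2) (BT.img (nat_lit 1) (nat_lit 0) (BT.img (nat_lit 1) (nat_lit 0) (BT.and (nat_lit 3) (nat_lit 0) (BT.cnt (nat_lit 0)))))))) (BT.dead (nat_lit 2) (BT.frm (nat_lit 0) (nat_lit 0) (nat_lit 1287) [nat_lit 0] (BT.pln (nat_lit 0) (nat_lit 1) (BT.img (nat_lit 1) (nat_lit 2) (BT.img (nat_lit 1) (nat_lit 0) (BT.img (nat_lit 1) (nat_lit 0) (BT.img (nat_lit 1) (nat_lit 0) (BT.img (nat_lit 1) (nat_lit 0) (BT.img (nat_lit 1) (nat_lit 0) (BT.and (nat_lit 6) (nat_lit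 0) (BT.cnt (nat_lit 0))))))))))) (BT.dead (nat_lit 42) (BT.frm (nat_lit 0) (nat_lit 0) (nat_lit 71460) [nat_lit 0] (BT.pln (nat_lit 0) (nat_lit 1) (BT.img (nat_lit 1) (nat_lit 2) (BT.img (nat_lit 1) (nat_lit 0) (BT.and (nat_lit 2) (nat_lit 0) (BT.cnt (nat_lit 0))))))) (BT.dead (nat_lit 20) (BT.frm (nat_lit 0) (nat_lit 0) (nat_lit 74010) [nat_lit 0] (BT.pln (nat_lit 0) (nat_lit 1) (BT.img (nat_lit 1) (nat_lit 2) (BT.img (nat_lit 1) (nat_lit 0) (BT.and (nat_lit 2) (nat_lit 0) (BT.cnt (nat_lit 0))))))) (BT.dead (nat_lit 62) (BT.frm (nat_lit 0) (nat_lit 0) (nat_lit 71715) [nat_lit 0] (BT.pln (nat_lit 0) (nat_lit 1) (BT.img (nat_lit 1) (nat_lit 2) (BT.and (nat_lit 1) (nat_lit 0) (BT.cnt (nat_lit 0)))))) (BT.dead (nat_lit 41) (BT.frm (nat_lit 0) (nat_lit 0) (nat_lit 66339) [nat_lit 0] (BT.pln (nat_lit 0) (nat_lit 1) (BT.img (nat_lit 1) (nat_lit 2) (BT.and (nat_lit 1) (nat_lit 0) (BT.cnt (nat_lit 0)))))) (BT.dead (nat_lit 17) (BT.frm (nat_lit 0) (nat_lit 0) (nat_lit 70674)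 [nat_lit 0] (BT.pln (nat_lit 0) (nat_lit 1) (BT.img (nat_lit 1) (nat_lit 2) (BT.and (nat_lit 1) (nat_lit 0) (BT.cnt (nat_lit 0)))))) (BT.dead (nat_lit 14) (BT.frm (nat_lit 0) (nat_lit 0) (nat_lit 66835) [nat_lit 0] (BT.pln (nat_lit 0) (nat_lit 1) (BT.img (nat_lit 1) (nat_lit 2) (BT.and (nat_lit 1) (nat_lit 0) (BT.cnt (nat_lit 0)))))) (BT.dead (nat_lit 10) (BT.frm (nat_lit 0) (nat_lit 0) (nat_lit 328461) [nat_lit 0] (BT.pln (nat_lit 0) (nat_lit 1) (BT.img (nat_lit 1) (nat_lit 2) (BT.and (nat_lit 1) (nat_lit 0) (BT.cnt (nat_lit 0)))))) (BT.dead (nat_lit 53) (BT.frm (nat_lit 0) (nat_lit 0) (nat_lit 291) [nat_lit 0] (BT.pln (nat_lit 0) (nat_lit 1) (BT.img (nat_lit 1) (nat_lit 2) (BT.img (nat_lit 1) (nat_lit 0) (BT.img (nat_lit 1) (nat_lit 0) (BT.and (nat_lit 3) (nat_lit 0) (BT.cnt (nat_lit 0)))))))) (BT.dead (nat_lit 12) (BT.frm (nat_lit 0) (nat_lit 0) (nat_lit 276) [nat_lit 0] (BT.pln (nat_lit 0) (nat_lit 1) (BT.img (nat_lit 1) (nat_lit 2) (BT.img (nat_lit 1) (nat_lit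 0) (BT.img (nat_lit 1) (nat_lit 0) (BT.and (nat_lit 3) (nat_lit 0) (BT.cnt (nat_lit 0)))))))) (BT.dead (nat_lit 11) (BT.frm (nat_lit 0) (nat_lit 0) (nat_lit 1283) [nat_lit 0] (BT.pln (nat_lit 0) (nat_lit 1) (BT.img (nat_lit 1) (nat_lit 2) (BT.and (nat_lit 1) (nat_lit 0) (BT.cnt (nat_lit 0)))))) (BT.dead (nat_lit 1) (BT.frm (nat_lit 0) (nat_lit 0) (nat_lit 5) [nat_lit 0] (BT.pln (nat_lit 0) (nat_lit 1) (BT.img (nat_lit 1) (nat_lit 2) (BT.img (nat_lit 1) (nat_lit 0) (BT.img (nat_lit 1) (nat_lit 0) (BT.and (nat_lit 3) (nat_lit 0) (BT.cnt (nat_lit 0)))))))) (BT.dead (nat_lit 30) (BT.frm (nat_lit 0) (nat_lit 0) (nat_lit 1) [nat_lit 0] (BT.pln (nat_lit 0) (nat_lit 1) (BT.img (nat_lit 1) (nat_lit 2) (BT.img (nat_lit 1) (nat_lit 0) (BT.and (nat_lit 2) (nat_lit 0) (BT.cnt (nat_lit 0))))))) (BT.kid (nat_lit 0) (nat_lit 1) (BT.img (nat_lit 1) (nat_lit 0) (BT.img (nat_lit 1) (nat_lit 0) (BT.img (nat_lit 1) (nat_lit 0) (BT.img (nat_lit 1) (nat_lit 0) (BT.img (nat_lit 1) (nat_lit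 0) (BT.img (nat_lit 1) (nat_lit 0) (BT.img (nat_lit 1) (nat_lit 0) (BT.img (nat_lit 1) (nat_lit 0) (BT.frm (nat_lit 1) (nat_lit 6184) (nat_lit 6184) [nat_lit 4, nat_lit 8] (BT.pln (nat_lit 0) (nat_lit 2) (BT.frm (nat_lit 0) (nat_lit 0) (nat_lit 0) [nat_lit 10] (BT.pln (nat_lit 0) (nat_lit 1) (BT.dif (nat_lit 0) (nat_lit 8) (BT.img (nat_lit 1) (nat_lit 5) (BT.dif (nat_lit 1) (nat_lit 0) (BT.img (nat_lit 1) (nat_lit 0) (BT.dif (nat_lit 6) (nat_lit 0) (BT.dif (nat_lit 20) (nat_lit 5) (BT.and (nat_lit 0) (nat_lit 2) (BT.and (nat_lit 7) (nat_lit 3) (BT.img (nat_lit 1) (nat_lit 0) (BT.and (nat_lit 3) (nat_lit 0) (BT.and (nat_lit 10) (nat_lit 1) (BT.img (nat_lit 1) (nat_lit 0) (BT.and (nat_lit 2) (nat_lit 0) (BT.img (nat_lit 1) (nat_lit 0) (BT.and (nat_lit 14) (nat_lit 0) (BT.img (nat_lit 1) (nat_lit 0) (BT.and (nat_lit 9) (nat_lit 0) (BT.img (nat_lit 1) (nat_lit 0) (BT.and (nat_lit 13) (nat_lit 0) (BT.dif (nat_lit 19) (nat_lit 15) (BT.and (nat_lit 0) (nat_lit 6) (BT.and (nat_lit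 13) (nat_lit 12) (BT.dif (nat_lit 14) (nat_lit 13) (BT.dif (nat_lit 17) (nat_lit 19) (BT.dif (nat_lit 0) (nat_lit 36) (BT.dif (nat_lit 0) (nat_lit 36) (BT.and (nat_lit 20) (nat_lit 8) (BT.img (nat_lit 1) (nat_lit 0) (BT.and (nat_lit 28) (nat_lit 0) (BT.img (nat_lit 1) (nat_lit 0) (BT.and (nat_lit 7) (nat_lit 0) (BT.img (nat_lit 1) (nat_lit 0) (BT.and (nat_lit 22) (nat_lit 0) (BT.img (nat_lit 1) (nat_lit 0) (BT.and (nat_lit 8) (nat_lit 0) (BT.img (nat_lit 1) (nat_lit 0) (BT.and (nat_lit 16) (nat_lit 0) (BT.img (nat_lit 1) (nat_lit 0) (BT.and (nat_lit 31) (nat_lit 0) (BT.img (nat_lit 1) (nat_lit 0) (BT.and (nat_lit 20) (nat_lit 0) (BT.img (nat_lit 1) (nat_lit 0) (BT.and (nat_lit 19) (nat_lit 0) (BT.img (nat_lit 1) (nat_lit 0) (BT.and (nat_lit 22) (nat_lit 0) (BT.img (nat_lit 1) (nat_lit 0) (BT.and (nat_lit 33) (nat_lit 0) (BT.img (nat_lit 1) (nat_lit 0) (BT.and (nat_lit 27) (nat_lit 0) (BT.img (nat_lit 1) (nat_lit 0) (BT.and (nat_lit 33) (nat_lit 0) (BT.img (nat_lit 1)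 (nat_lit 0) (BT.dif (nat_lit 33) (nat_lit 0) (BT.pln (nat_lit 56) (nat_lit 4) (BT.and (nat_lit 54) (nat_lit 0) (BT.dif (nat_lit 0) (nat_lit 51) (BT.dif (nat_lit 0) (nat_lit 42) (BT.and (nat_lit 51) (nat_lit 43) (BT.img (nat_lit 1) (nat_lit 0) (BT.dif (nat_lit 2) (nat_lit 0) (BT.dif (nat_lit 0) (nat_lit 24) (BT.and (nat_lit 55) (nat_lit 2) (BT.img (nat_lit 1) (nat_lit 0) (BT.dif (nat_lit 2) (nat_lit 0) (BT.dif (nat_lit 38) (nat_lit 74) (BT.dif (nat_lit 0) (nat_lit 74) (BT.dif (nat_lit 0) (nat_lit 73) (BT.dif (nat_lit 0) (nat_lit 73) (BT.dif (nat_lit 0) (nat_lit 73) (BT.dif (nat_lit 0) (nat_lit 73) (BT.img (nat_lit 1) (nat_lit 68) (BT.dif (nat_lit 1) (nat_lit 0) (BT.img (nat_lit 1) (nat_lit 1) (BT.dif (nat_lit 1) (nat_lit 0) (BT.img (nat_lit 1) (nat_lit 1) (BT.dif (nat_lit 1) (nat_lit 0) (BT.dif (nat_lit 69) (nat_lit 67) (BT.dif (nat_lit 57) (nat_lit 85) (BT.dif (nat_lit 0) (nat_lit 76) (BT.and (nat_lit 0) (nat_lit 16) (BT.img (nat_lit 1) (nat_lit 0) (BT.and (nat_lit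 4) (nat_lit 0) (BT.img (nat_lit 1) (nat_lit 0) (BT.and (nat_lit 7) (nat_lit 0) (BT.img (nat_lit 1) (nat_lit 0) (BT.and (nat_lit 6) (nat_lit 0) (BT.img (nat_lit 1) (nat_lit 0) (BT.and (nat_lit 10) (nat_lit 0) (BT.img (nat_lit 1) (nat_lit 0) (BT.and (nat_lit 13) (nat_lit 0) (BT.img (nat_lit 1) (nat_lit 0) (BT.and (nat_lit 15) (nat_lit 0) (BT.img (nat_lit 1) (nat_lit 0) (BT.dif (nat_lit 29) (nat_lit 0) (BT.and (nat_lit 39) (nat_lit 90) (BT.dif (nat_lit 0) (nat_lit 86) (BT.dif (nat_lit 0) (nat_lit 66) (BT.and (nat_lit 97) (nat_lit 38) (BT.img (nat_lit 1) (nat_lit 0) (BT.dif (nat_lit 2) (nat_lit 0) (BT.dif (nat_lit 90) (nat_lit 88) (BT.dif (nat_lit 0) (nat_lit 69) (BT.img (nat_lit 1) (nat_lit 0) (BT.and (nat_lit 25) (nat_lit 0) (BT.img (nat_lit 1) (nat_lit 0) (BT.and (nat_lit 5) (nat_lit 0) (BT.frm (nat_lit 2) (nat_lit 0x1b271828) (nat_lit 0x1b271828) [nat_lit 0, nat_lit 114, nat_lit 118] (BT.pln (nat_lit 0) (nat_lit 7) (BT.dif (nat_lit 14) (nat_lit 0) (BT.dif (nat_lit 33)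 (nat_lit 95) (BT.dif (nat_lit 0) (nat_lit 51) (BT.dif (nat_lit 0) (nat_lit 93) (BT.dif (nat_lit 0) (nat_lit 9) (BT.dif (nat_lit 0) (nat_lit 85) (BT.dif (nat_lit 0) (nat_lit 80) (BT.dif (nat_lit 38) (nat_lit 99) (BT.dif (nat_lit 0) (nat_lit 78) (BT.and (nat_lit 111) (nat_lit 89) (BT.img (nat_lit 1) (nat_lit 0) (BT.and (nat_lit 54) (nat_lit 0) (BT.img (nat_lit 1) (nat_lit 0) (BT.and (nat_lit 43) (nat_lit 0) (BT.img (nat_lit 1) (nat_lit 0) (BT.dif (nat_lit 6) (nat_lit 0) (BT.dif (nat_lit 45) (nat_lit 110) (BT.dif (nat_lit 0) (nat_lit 66) (BT.dif (nat_lit 0) (nat_lit 98) (BT.dif (nat_lit 0) (nat_lit 24) (BT.and (nat_lit 11) (nat_lit 23) (BT.img (nat_lit 1) (nat_lit 0) (BT.and (nat_lit 2) (nat_lit 0) (BT.img (nat_lit 1) (nat_lit 0) (BT.and (nat_lit 8) (nat_lit 0) (BT.img (nat_lit 1) (nat_lit 0) (BT.and (nat_lit 19) (nat_lit 0) (BT.img (nat_lit 1) (nat_lit 0) (BT.and (nat_lit 21) (nat_lit 0) (BT.img (nat_lit 1) (nat_lit 0) (BT.and (nat_lit 44) (nat_lit 0) (BT.frm (nat_lit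 3) (nat_lit 0x23201b271828) (nat_lit 0x23201b271828) [nat_lit 0, nat_lit 33, nat_lit 147, nat_lit 151] (BT.pln (nat_lit 0) (nat_lit 19) (BT.and (nat_lit 32) (nat_lit 0) (BT.frm (nat_lit 4) (nat_lit 0x2623201b271828) (nat_lit 0x2623201b271828) [nat_lit 0, nat_lit 3, nat_lit 36, nat_lit 150, nat_lit 154] (BT.pln (nat_lit 0) (nat_lit 6) (BT.and (nat_lit 91) (nat_lit 0) (BT.pln (nat_lit 148) (nat_lit 3) (BT.and (nat_lit 146) (nat_lit 0) (BT.dif (nat_lit 0) (nat_lit 143) (BT.dif (nat_lit 0) (nat_lit 146) (BT.and (nat_lit 0) (nat_lit 64) (BT.dif (nat_lit 0) (nat_lit 6) (BT.one (nat_lit 5) (nat_lit 0xb3d372f2623201b271828) (nat_lit 0xb3d372f2623201b271828) [nat_lit 155, nat_lit 6, nat_lit 0, nat_lit 161, nat_lit 9, nat_lit 12, nat_lit 45, nat_lit 159, nat_lit 163])))))))))))))))))))))))))))))))))))))))))))))))))))))))))))))))))))))))))))))))))))))))))))))))))))))))))))))))))))))))))))))))))))))))))))))))))))))))))))))))))))) BT.nil))))))))))))))))))))))))))))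

theorem ot_c49_cnt : Cnt 351 (grp 351 o_O) [o_g590] [o_g590] 0 0 0 0 13 :=
  BT.sound ot_c49_cnt_P Known.nil (t := ot_c49_cnt_t) (d := 0) (by decide +kernel)

theorem ot_c49_ge : 13 ≤ Nat.card (grp 351 ot_c49_K) :=
  Ch.le_card_grp (k := 9) (L := (lab 351 9)) o_hn ot_c49_K_ok (c := (Ch.cons (nat_lit 0) [nat_lit 1] Ch.nil)) (by decide +kernel)

theorem ot_c49_eq : (grp 351 o_O) ⊓ Subgroup.centralizer {Net.toPerm 351 o_g590} = grp 351 ot_c49_K :=
  cent_eq ot_c49_sym ot_c49_cnt ot_c49_ge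

theorem ot_c49_card : Nat.card ↥((grp 351 o_O) ⊓ Subgroup.centralizer {Net.toPerm 351 o_g590}) = 13 :=
  card_cent ot_c49_sym ot_c49_cnt ot_c49_ge

theorem ot_c49_ord : orderOf (Net.toPerm 351 o_g590) = 13 :=
  orderOf_net o_hn o_hk o_g590_ok (by decide) (ps := [13]) (by set_option linter.unusedSimpArgs false in simp [Nat.primeFactorsList_ofNat]) (by decide +kernel)

theorem o_le593 : grp 351 ot_c50_K ≤ grp 351 o_lb_E :=
  grp_le_of_memB o_hn o_hk o_lb_E_ok ot_c50_K_ok (ws := [nat_lit 0x3b392721241d241d112412051e0d]) (by decide +kernel)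

theorem ot_c50_le : grp 351 ot_c50_K ≤ (grp 351 o_O) :=
  (o_le593.trans o_T76_s0.le)

theorem ot_c50_mem : Net.toPerm 351 o_g592 ∈ (grp 351 o_O) :=
  ot_c50_le (toPerm_mem_grp (E := ot_c50_K) (List.Mem.head _))

theorem ot_c50_sym : Sym 351 (grp 351 o_O) [o_g592] ot_c50_K 0 :=
  Sym.of_lab o_hn o_hk (okE_cons.2 ⟨o_g592_ok, okE_nil _⟩) ot_c50_K_ok ot_c50_le (kT := 0) (by decide +kernel)

noncomputable def ot_c50_cnt_L : List ℕ := [1, 2, o_T76_s1_O, 0, 0, 2, 5, o_T76_s8_O, 0, 0, 3, 10, o_T76_s9_O, 0, 0, 4, 20, o_T76_s10_O, 0, 0, 5, 11, o_T76_s11_O, 0, 0, 9, 18, o_T76_s102_O, 1, 0]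

theorem ot_c50_cnt_P : Prob 351 9 (grp 351 o_O) ot_c50_cnt_EG [o_g592] [o_g592] ot_c50_K ot_c50_cnt_L 0 0 :=
  Sym.prob o_hn o_hk ot_c50_sym ot_c50_cnt_EG_ok (grp_cons_le o_b_o_T76 (grp_cons_le o_c_o_T76 (grp_cons_le o_d_o_T76 (grp_cons_le o_e_o_T76 (grp_cons_le o_f_o_T76 (grp_cons_le o_g_o_T76 (grp_cons_le o_h_o_T76 (grp_cons_le o_i_o_T76 (grp_cons_le o_g1_o_T76 (grp_cons_le o_g2_o_T76 (grp_cons_le o_g3_o_T76 (grp_cons_le o_g4_o_T76 (grp_cons_le o_g5_o_T76 (grp_cons_le o_g8_o_T76 (grp_cons_le o_g9_o_T76 (grp_cons_le o_g12_o_T76 (grp_cons_le o_g13_o_T76 (grp_cons_le o_g14_o_T76 (grp_cons_le o_g17_o_T76 (grp_cons_le o_g18_o_T76 (grp_cons_le o_g19_o_T76 (grp_cons_le o_g20_o_T76 (grp_cons_le o_g23_o_T76 (grp_cons_le o_g24_o_T76 (grp_cons_le o_g25_o_T76 (grp_cons_le o_g26_o_T76 (grp_cons_le o_g27_o_T76 (grp_cons_le o_g30_o_T76 (grp_cons_le o_g31_o_T76 (grp_cons_le o_g32_o_T76 (grp_cons_le o_g35_o_T76 (grp_nil_le _)))))))))))))))))))))))))))))))) (Frames.cons o_T76_s1_F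 (Frames.cons o_T76_s8_F (Frames.cons o_T76_s9_F (Frames.cons o_T76_s10_F (Frames.cons o_T76_s11_F (Frames.cons o_T76_s102_F Frames.nil)))))) (okE_cons.2 ⟨o_g592_ok, okE_nil _⟩) _

noncomputable def ot_c50_cnt_t : BT := (BT.br (nat_lit 2) (nat_lit 0) [nat_lit 1] (BT.dead (nat_lit 54) (BT.frm (nat_lit 0) (nat_lit 0) (nat_lit 66871) [nat_lit 0] (BT.pln (nat_lit 0) (nat_lit 1) (BT.img (nat_lit 1) (nat_lit 2) (BT.img (nat_lit 1) (nat_lit 0) (BT.dif (nat_lit 2) (nat_lit 0) (BT.img (nat_lit 1) (nat_lit 1) (BT.img (nat_lit 1) (nat_lit 0) (BT.img (nat_lit 1) (nat_lit 0) (BT.img (nat_lit 1) (nat_lit 0) (BT.img (nat_lit 1) (nat_lit 0) (BT.img (nat_lit 1) (nat_lit 0) (BT.img (nat_lit 1) (nat_lit 0) (BT.img (nat_lit 1) (nat_lit 0) (BT.img (nat_lit 1) (nat_lit 0) (BT.dif (nat_lit 9) (nat_lit 0) (BT.img (nat_lit 1) (nat_lit 0) (BT.and (nat_lit 14) (nat_lit 0) (BT.img (nat_lit 1) (nat_lit 0) (BT.and (nat_lit 16) (nat_lit 0) (BT.img (nat_lit 1) (nat_lit 0) (BT.and (nat_lit 0) (nat_lit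 18) (BT.cnt (nat_lit 0))))))))))))))))))))))) (BT.dead (nat_lit 8) (BT.frm (nat_lit 0) (nat_lit 0) (nat_lit 1333) [nat_lit 0] (BT.pln (nat_lit 0) (nat_lit 1) (BT.img (nat_lit 1) (nat_lit 2) (BT.img (nat_lit 1) (nat_lit 0) (BT.dif (nat_lit 2) (nat_lit 0) (BT.img (nat_lit 1) (nat_lit 1) (BT.img (nat_lit 1) (nat_lit 0) (BT.img (nat_lit 1) (nat_lit 0) (BT.img (nat_lit 1) (nat_lit 0) (BT.img (nat_lit 1) (nat_lit 0) (BT.img (nat_lit 1) (nat_lit 0) (BT.img (nat_lit 1) (nat_lit 0) (BT.img (nat_lit 1) (nat_lit 0) (BT.img (nat_lit 1) (nat_lit 0) (BT.dif (nat_lit 9) (nat_lit 0) (BT.img (nat_lit 1) (nat_lit 0) (BT.and (nat_lit 14) (nat_lit 0) (BT.img (nat_lit 1) (nat_lit 0) (BT.and (nat_lit 16) (nat_lit 0) (BT.img (nat_lit 1) (nat_lit 0) (BT.and (nat_lit 0) (nat_lit 18) (BT.cnt (nat_lit 0))))))))))))))))))))))) (BT.dead (nat_lit 59) (BT.frm (nat_lit 0) (nat_lit 0) (nat_lit 0x1052215) [nat_lit 0] (BT.pln (nat_lit 0) (nat_lit 1) (BT.img (nat_lit 1) (nat_lit 2) (BT.img (nat_lit 1)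 (nat_lit 0) (BT.img (nat_lit 1) (nat_lit 0) (BT.img (nat_lit 1) (nat_lit 0) (BT.and (nat_lit 4) (nat_lit 0) (BT.cnt (nat_lit 0))))))))) (BT.dead (nat_lit 31) (BT.frm (nat_lit 0) (nat_lit 0) (nat_lit 0x105390f) [nat_lit 0] (BT.pln (nat_lit 0) (nat_lit 1) (BT.img (nat_lit 1) (nat_lit 2) (BT.img (nat_lit 1) (nat_lit 0) (BT.img (nat_lit 1) (nat_lit 0) (BT.and (nat_lit 3) (nat_lit 0) (BT.cnt (nat_lit 0)))))))) (BT.dead (nat_lit 84) (BT.frm (nat_lit 0) (nat_lit 0) (nat_lit 0x1181d29) [nat_lit 0] (BT.pln (nat_lit 0) (nat_lit 1) (BT.img (nat_lit 1) (nat_lit 2) (BT.img (nat_lit 1) (nat_lit 0) (BT.and (nat_lit 2) (nat_lit 0) (BT.cnt (nat_lit 0))))))) (BT.dead (nat_lit 47) (BT.frm (nat_lit 0) (nat_lit 0) (nat_lit 0x1051d17) [nat_lit 0] (BT.pln (nat_lit 0) (nat_lit 1) (BT.img (nat_lit 1) (nat_lit 2) (BT.img (nat_lit 1) (nat_lit 0) (BT.and (nat_lit 2) (nat_lit 0) (BT.cnt (nat_lit 0))))))) (BT.dead (nat_lit 6) (BT.frm (nat_lit 0) (nat_lit 0) (nat_lit 0x1031801) [nat_lit 0] (BT.pln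 (nat_lit 0) (nat_lit 1) (BT.img (nat_lit 1) (nat_lit 2) (BT.img (nat_lit 1) (nat_lit 0) (BT.and (nat_lit 2) (nat_lit 0) (BT.cnt (nat_lit 0))))))) (BT.dead (nat_lit 29) (BT.frm (nat_lit 0) (nat_lit 0) (nat_lit 0x105211a) [nat_lit 0] (BT.pln (nat_lit 0) (nat_lit 1) (BT.img (nat_lit 1) (nat_lit 2) (BT.and (nat_lit 1) (nat_lit 0) (BT.cnt (nat_lit 0)))))) (BT.dead (nat_lit 23) (BT.frm (nat_lit 0) (nat_lit 0) (nat_lit 0x1032301) [nat_lit 0] (BT.pln (nat_lit 0) (nat_lit 1) (BT.img (nat_lit 1) (nat_lit 2) (BT.and (nat_lit 1) (nat_lit 0) (BT.cnt (nat_lit 0)))))) (BT.dead (nat_lit 18) (BT.frm (nat_lit 0) (nat_lit 0) (nat_lit 0x1052115) [nat_lit 0] (BT.pln (nat_lit 0) (nat_lit 1) (BT.img (nat_lit 1) (nat_lit 2) (BT.and (nat_lit 1) (nat_lit 0) (BT.cnt (nat_lit 0)))))) (BT.dead (nat_lit 15) (BT.frm (nat_lit 0) (nat_lit 0) (nat_lit 0x1050d13) [nat_lit 0] (BT.pln (nat_lit 0) (nat_lit 1) (BT.img (nat_lit 1) (nat_lit 2) (BT.and (nat_lit 1) (nat_lit 0) (BT.cnt (nat_lit 0)))))) (BT.dead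 (nat_lit 62) (BT.frm (nat_lit 0) (nat_lit 0) (nat_lit 71715) [nat_lit 0] (BT.pln (nat_lit 0) (nat_lit 1) (BT.img (nat_lit 1) (nat_lit 2) (BT.img (nat_lit 1) (nat_lit 0) (BT.and (nat_lit 2) (nat_lit 0) (BT.cnt (nat_lit 0))))))) (BT.dead (nat_lit 17) (BT.frm (nat_lit 0) (nat_lit 0) (nat_lit 70674) [nat_lit 0] (BT.pln (nat_lit 0) (nat_lit 1) (BT.img (nat_lit 1) (nat_lit 2) (BT.img (nat_lit 1) (nat_lit 0) (BT.and (nat_lit 2) (nat_lit 0) (BT.cnt (nat_lit 0))))))) (BT.dead (nat_lit 14) (BT.frm (nat_lit 0) (nat_lit 0) (nat_lit 66835) [nat_lit 0] (BT.pln (nat_lit 0) (nat_lit 1) (BT.img (nat_lit 1) (nat_lit 2) (BT.img (nat_lit 1) (nat_lit 0) (BT.and (nat_lit 2) (nat_lit 0) (BT.cnt (nat_lit 0))))))) (BT.dead (nat_lit 4) (BT.frm (nat_lit 0) (nat_lit 0) (nat_lit 70663) [nat_lit 0] (BT.pln (nat_lit 0) (nat_lit 1) (BT.img (nat_lit 1) (nat_lit 2) (BT.img (nat_lit 1) (nat_lit 0) (BT.and (nat_lit 2) (nat_lit 0) (BT.cnt (nat_lit 0))))))) (BT.dead (nat_lit 3) (BT.frm (nat_lit 0) (nat_lit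 0) (nat_lit 77569) [nat_lit 0] (BT.pln (nat_lit 0) (nat_lit 1) (BT.img (nat_lit 1) (nat_lit 2) (BT.img (nat_lit 1) (nat_lit 0) (BT.and (nat_lit 2) (nat_lit 0) (BT.cnt (nat_lit 0))))))) (BT.dead (nat_lit 42) (BT.frm (nat_lit 0) (nat_lit 0) (nat_lit 71460) [nat_lit 0] (BT.pln (nat_lit 0) (nat_lit 1) (BT.img (nat_lit 1) (nat_lit 2) (BT.and (nat_lit 1) (nat_lit 0) (BT.cnt (nat_lit 0)))))) (BT.dead (nat_lit 41) (BT.frm (nat_lit 0) (nat_lit 0) (nat_lit 66339) [nat_lit 0] (BT.pln (nat_lit 0) (nat_lit 1) (BT.img (nat_lit 1) (nat_lit 2) (BT.and (nat_lit 1) (nat_lit 0) (BT.cnt (nat_lit 0)))))) (BT.dead (nat_lit 20) (BT.frm (nat_lit 0) (nat_lit 0) (nat_lit 74010) [nat_lit 0] (BT.pln (nat_lit 0) (nat_lit 1) (BT.img (nat_lit 1) (nat_lit 2) (BT.and (nat_lit 1) (nat_lit 0) (BT.cnt (nat_lit 0)))))) (BT.dead (nat_lit 10) (BT.frm (nat_lit 0) (nat_lit 0) (nat_lit 328461) [nat_lit 0] (BT.pln (nat_lit 0) (nat_lit 1) (BT.img (nat_lit 1) (nat_lit 2) (BT.and (nat_lit 1) (nat_lit 0) (BT.cnt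 (nat_lit 0)))))) (BT.dead (nat_lit 2) (BT.frm (nat_lit 0) (nat_lit 0) (nat_lit 1287) [nat_lit 0] (BT.pln (nat_lit 0) (nat_lit 1) (BT.img (nat_lit 1) (nat_lit 2) (BT.img (nat_lit 1) (nat_lit 0) (BT.img (nat_lit 1) (nat_lit 0) (BT.and (nat_lit 3) (nat_lit 0) (BT.cnt (nat_lit 0)))))))) (BT.dead (nat_lit 53) (BT.frm (nat_lit 0) (nat_lit 0) (nat_lit 291) [nat_lit 0] (BT.pln (nat_lit 0) (nat_lit 1) (BT.img (nat_lit 1) (nat_lit 2) (BT.img (nat_lit 1) (nat_lit 0) (BT.and (nat_lit 2) (nat_lit 0) (BT.cnt (nat_lit 0))))))) (BT.dead (nat_lit 12) (BT.frm (nat_lit 0) (nat_lit 0) (nat_lit 276) [nat_lit 0] (BT.pln (nat_lit 0) (nat_lit 1) (BT.img (nat_lit 1) (nat_lit 2) (BT.img (nat_lit 1) (nat_lit 0) (BT.and (nat_lit 2) (nat_lit 0) (BT.cnt (nat_lit 0))))))) (BT.dead (nat_lit 11) (BT.frm (nat_lit 0) (nat_lit 0) (nat_lit 1283) [nat_lit 0] (BT.pln (nat_lit 0) (nat_lit 1) (BT.img (nat_lit 1) (nat_lit 2) (BT.img (nat_lit 1) (nat_lit 0) (BT.and (nat_lit 2) (nat_lit 0) (BT.cnt (nat_lit 0)))))))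 (BT.dead (nat_lit 1) (BT.frm (nat_lit 0) (nat_lit 0) (nat_lit 5) [nat_lit 0] (BT.pln (nat_lit 0) (nat_lit 1) (BT.img (nat_lit 1) (nat_lit 2) (BT.img (nat_lit 1) (nat_lit 0) (BT.and (nat_lit 2) (nat_lit 0) (BT.cnt (nat_lit 0))))))) (BT.dead (nat_lit 30) (BT.frm (nat_lit 0) (nat_lit 0) (nat_lit 1) [nat_lit 0] (BT.pln (nat_lit 0) (nat_lit 1) (BT.img (nat_lit 1) (nat_lit 2) (BT.and (nat_lit 1) (nat_lit 0) (BT.cnt (nat_lit 0)))))) (BT.kid (nat_lit 0) (nat_lit 1) (BT.img (nat_lit 1) (nat_lit 0) (BT.img (nat_lit 1) (nat_lit 0) (BT.frm (nat_lit 1) (nat_lit 6184) (nat_lit 6184) [nat_lit 0, nat_lit 2] (BT.pln (nat_lit 0) (nat_lit 2) (BT.frm (nat_lit 0) (nat_lit 0) (nat_lit 0) [nat_lit 4] (BT.pln (nat_lit 0) (nat_lit 1) (BT.dif (nat_lit 0) (nat_lit 4) (BT.img (nat_lit 1) (nat_lit 5) (BT.img (nat_lit 1) (nat_lit 0) (BT.img (nat_lit 1) (nat_lit 0) (BT.img (nat_lit 1) (nat_lit 0) (BT.img (nat_lit 1) (nat_lit 0) (BT.img (nat_lit 1) (nat_lit 0) (BT.img (nat_lit 1) (nat_lit 0) (BT.img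 (nat_lit 1) (nat_lit 0) (BT.img (nat_lit 1) (nat_lit 0) (BT.dif (nat_lit 9) (nat_lit 0) (BT.img (nat_lit 1) (nat_lit 0) (BT.and (nat_lit 14) (nat_lit 0) (BT.and (nat_lit 13) (nat_lit 1) (BT.img (nat_lit 1) (nat_lit 0) (BT.and (nat_lit 15) (nat_lit 0) (BT.img (nat_lit 1) (nat_lit 0) (BT.dif (nat_lit 4) (nat_lit 0) (BT.pln (nat_lit 21) (nat_lit 4) (BT.and (nat_lit 19) (nat_lit 0) (BT.and (nat_lit 0) (nat_lit 8) (BT.dif (nat_lit 21) (nat_lit 9) (BT.dif (nat_lit 31) (nat_lit 22) (BT.and (nat_lit 0) (nat_lit 6) (BT.img (nat_lit 1) (nat_lit 0) (BT.and (nat_lit 2) (nat_lit 0) (BT.and (nat_lit 3) (nat_lit 14) (BT.and (nat_lit 0) (nat_lit 10) (BT.and (nat_lit 28) (nat_lit 3) (BT.img (nat_lit 1) (nat_lit 0) (BT.and (nat_lit 16) (nat_lit 0) (BT.img (nat_lit 1) (nat_lit 0) (BT.and (nat_lit 16) (nat_lit 0) (BT.img (nat_lit 1) (nat_lit 0) (BT.and (nat_lit 6) (nat_lit 0) (BT.img (nat_lit 1) (nat_lit 0) (BT.and (nat_lit 10) (nat_lit 0) (BT.img (nat_lit 1) (nat_lit 0) (BT.and (nat_lit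 15) (nat_lit 0) (BT.img (nat_lit 1) (nat_lit 0) (BT.and (nat_lit 17) (nat_lit 0) (BT.img (nat_lit 1) (nat_lit 0) (BT.and (nat_lit 19) (nat_lit 0) (BT.img (nat_lit 1) (nat_lit 0) (BT.and (nat_lit 21) (nat_lit 0) (BT.img (nat_lit 1) (nat_lit 0) (BT.and (nat_lit 24) (nat_lit 0) (BT.img (nat_lit 1) (nat_lit 0) (BT.and (nat_lit 34) (nat_lit 0) (BT.img (nat_lit 1) (nat_lit 0) (BT.and (nat_lit 29) (nat_lit 0) (BT.frm (nat_lit 3) (nat_lit 0x1f221b261b1828) (nat_lit 0x1f221b261b1828) [nat_lit 0, nat_lit 18, nat_lit 55, nat_lit 57] (BT.pln (nat_lit 0) (nat_lit 8) (BT.and (nat_lit 35) (nat_lit 0) (BT.pln (nat_lit 2) (nat_lit 19) (BT.and (nat_lit 34) (nat_lit 0) (BT.frm (nat_lit 4) (nat_lit 0x1f221b261b1828) (nat_lit 0x1f221b261b1828) [nat_lit 0, nat_lit 5, nat_lit 23, nat_lit 60, nat_lit 62] (BT.pln (nat_lit 0) (nat_lit 9) (BT.and (nat_lit 4) (nat_lit 0) (BT.and (nat_lit 46) (nat_lit 42) (BT.frm (nat_lit 2) (nat_lit 0x1b261b1828) (nat_lit 0x1b261b1828) [nat_lit 27, nat_lit 64,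 nat_lit 66] (BT.pln (nat_lit 0) (nat_lit 5) (BT.dif (nat_lit 2) (nat_lit 0) (BT.dif (nat_lit 0) (nat_lit 29) (BT.pln (nat_lit 7) (nat_lit 6) (BT.and (nat_lit 1) (nat_lit 0) (BT.pln (nat_lit 69) (nat_lit 3) (BT.and (nat_lit 67) (nat_lit 0) (BT.and (nat_lit 0) (nat_lit 56) (BT.dif (nat_lit 47) (nat_lit 73) (BT.dif (nat_lit 43) (nat_lit 55) (BT.dif (nat_lit 48) (nat_lit 59) (BT.dif (nat_lit 0) (nat_lit 78) (BT.dif (nat_lit 0) (nat_lit 78) (BT.dif (nat_lit 0) (nat_lit 72) (BT.and (nat_lit 48) (nat_lit 45) (BT.img (nat_lit 1) (nat_lit 0) (BT.and (nat_lit 4) (nat_lit 0) (BT.img (nat_lit 1) (nat_lit 0) (BT.and (nat_lit 9) (nat_lit 0) (BT.img (nat_lit 1) (nat_lit 0) (BT.and (nat_lit 10) (nat_lit 0) (BT.img (nat_lit 1) (nat_lit 0) (BT.and (nat_lit 8) (nat_lit 0) (BT.img (nat_lit 1) (nat_lit 0) (BT.and (nat_lit 15) (nat_lit 0) (BT.img (nat_lit 1) (nat_lit 0) (BT.and (nat_lit 16) (nat_lit 0) (BT.img (nat_lit 1) (nat_lit 0) (BT.and (nat_lit 19) (nat_lit 0) (BT.img (nat_lit 1) (nat_lit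 0) (BT.and (nat_lit 22) (nat_lit 0) (BT.dif (nat_lit 0) (nat_lit 27) (BT.dif (nat_lit 70) (nat_lit 95) (BT.dif (nat_lit 0) (nat_lit 100) (BT.dif (nat_lit 0) (nat_lit 83) (BT.dif (nat_lit 0) (nat_lit 101) (BT.dif (nat_lit 0) (nat_lit 95) (BT.dif (nat_lit 0) (nat_lit 94) (BT.dif (nat_lit 0) (nat_lit 94) (BT.dif (nat_lit 0) (nat_lit 94) (BT.dif (nat_lit 0) (nat_lit 94) (BT.pln (nat_lit 50) (nat_lit 14) (BT.and (nat_lit 1) (nat_lit 0) (BT.and (nat_lit 81) (nat_lit 25) (BT.img (nat_lit 1) (nat_lit 0) (BT.and (nat_lit 2) (nat_lit 0) (BT.one (nat_lit 5) (nat_lit 0x372d351f221b261b1828) (nat_lit 0x372d351f221b261b1828) [nat_lit 48, nat_lit 41, nat_lit 14, nat_lit 0, nat_lit 51, nat_lit 56, nat_lit 74, nat_lit 111, nat_lit 113])))))))))))))))))))))))))))))))))))))))))))))))))))))))))))))))))))))))))))))))))))))))))))))))))))))))))))))))))) BT.nil))))))))))))))))))))))))))))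

theorem ot_c50_cnt : Cnt 351 (grp 351 o_O) [o_g592] [o_g592] 0 0 0 0 13 :=
  BT.sound ot_c50_cnt_P Known.nil (t := ot_c50_cnt_t) (d := 0) (by decide +kernel)

theorem ot_c50_ge : 13 ≤ Nat.card (grp 351 ot_c50_K) :=
  Ch.le_card_grp (k := 9) (L := (lab 351 9)) o_hn ot_c50_K_ok (c := (Ch.cons (nat_lit 0) [nat_lit 1] Ch.nil)) (by decide +kernel)

theorem ot_c50_eq : (grp 351 o_O) ⊓ Subgroup.centralizer {Net.toPerm 351 o_g592} = grp 351 ot_c50_K :=
  cent_eq ot_c50_sym ot_c50_cnt ot_c50_ge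

theorem ot_c50_card : Nat.card ↥((grp 351 o_O) ⊓ Subgroup.centralizer {Net.toPerm 351 o_g592}) = 13 :=
  card_cent ot_c50_sym ot_c50_cnt ot_c50_ge

theorem ot_c50_ord : orderOf (Net.toPerm 351 o_g592) = 13 :=
  orderOf_net o_hn o_hk o_g592_ok (by decide) (ps := [13]) (by set_option linter.unusedSimpArgs false in simp [Nat.primeFactorsList_ofNat]) (by decide +kernel)

theorem o_le595 : grp 351 ot_c51_K ≤ grp 351 o_lb_E :=
  grp_le_of_memB o_hn o_hk o_lb_E_ok ot_c51_K_ok (ws := [nat_lit 0x452f2821241d201739012101]) (by decide +kernel)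

theorem ot_c51_le : grp 351 ot_c51_K ≤ (grp 351 o_O) :=
  (o_le595.trans o_T76_s0.le)

theorem ot_c51_mem : Net.toPerm 351 o_g594 ∈ (grp 351 o_O) :=
  ot_c51_le (toPerm_mem_grp (E := ot_c51_K) (List.Mem.head _))

theorem ot_c51_sym : Sym 351 (grp 351 o_O) [o_g594] ot_c51_K 0 :=
  Sym.of_lab o_hn o_hk (okE_cons.2 ⟨o_g594_ok, okE_nil _⟩) ot_c51_K_ok ot_c51_le (kT := 0) (by decide +kernel)

noncomputable def ot_c51_cnt_L : List ℕ := [2, 7, o_T76_s2_O, 0, 0, 3, 19, o_T76_s83_O, 0, 0, 4, 10, o_T76_s84_O, 0, 0, 5, 13, o_T76_s88_O, 0, 0, 6, 15, o_T76_s89_O, 1, 0]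

theorem ot_c51_cnt_P : Prob 351 9 (grp 351 o_O) ot_c51_cnt_EG [o_g594] [o_g594] ot_c51_K ot_c51_cnt_L 0 0 :=
  Sym.prob o_hn o_hk ot_c51_sym ot_c51_cnt_EG_ok (grp_cons_le o_g1_o_T76 (grp_cons_le o_g_o_T76 (grp_cons_le o_g2_o_T76 (grp_cons_le o_g3_o_T76 (grp_cons_le o_g4_o_T76 (grp_cons_le o_g5_o_T76 (grp_cons_le o_g8_o_T76 (grp_cons_le o_g9_o_T76 (grp_cons_le o_g12_o_T76 (grp_cons_le o_g13_o_T76 (grp_cons_le o_g14_o_T76 (grp_cons_le o_g17_o_T76 (grp_cons_le o_g18_o_T76 (grp_cons_le o_g19_o_T76 (grp_cons_le o_g20_o_T76 (grp_cons_le o_g23_o_T76 (grp_cons_le o_g24_o_T76 (grp_cons_le o_g25_o_T76 (grp_cons_le o_g26_o_T76 (grp_cons_le o_c_o_T76 (grp_cons_le o_g27_o_T76 (grp_cons_le o_g30_o_T76 (grp_cons_le o_g31_o_T76 (grp_cons_le o_g32_o_T76 (grp_cons_le o_g35_o_T76 (grp_cons_le o_b_o_T76 (grp_cons_le o_d_o_T76 (grp_cons_le o_e_o_T76 (grp_cons_le o_f_o_T76 (grp_cons_le o_h_o_T76 (grp_cons_le o_i_o_T76 (grp_cons_le o_g88_o_T76 (grp_cons_le o_g89_o_T76 (grp_cons_le o_g90_o_T76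 (grp_cons_le o_g91_o_T76 (grp_cons_le o_g92_o_T76 (grp_cons_le o_g93_o_T76 (grp_cons_le o_g94_o_T76 (grp_cons_le o_g454_o_T76 (grp_cons_le o_g455_o_T76 (grp_cons_le o_g456_o_T76 (grp_cons_le o_g457_o_T76 (grp_cons_le o_g469_o_T76 (grp_nil_le _)))))))))))))))))))))))))))))))))))))))))))) (Frames.cons o_T76_s2_F (Frames.cons o_T76_s83_F (Frames.cons o_T76_s84_F (Frames.cons o_T76_s88_F (Frames.cons o_T76_s89_F Frames.nil))))) (okE_cons.2 ⟨o_g594_ok, okE_nil _⟩) _

noncomputable def ot_c51_cnt_t : BT := (BT.fix (nat_lit 0x1010101010101) (BT.dif (nat_lit 3) (nat_lit 0) (BT.br (nat_lit 0) (nat_lit 0) [nat_lit 1] (BT.dead (nat_lit 26) (BT.fix (nat_lit 1) (BT.frm (nat_lit 0) (nat_lit 0x1c33210b) (nat_lit 0x110233210b) [nat_lit 1, nat_lit 0] (BT.pln (nat_lit 0) (nat_lit 4) (BT.img (nat_lit 1) (nat_lit 3) (BT.img (nat_lit 1) (nat_lit 0) (BT.img (nat_lit 1) (nat_lit 0) (BT.img (nat_lit 1) (nat_lit 0) (BT.img (nat_lit 1) (nat_lit 0) (BT.frm (nat_lit 1) (nat_lit 0x3f454a1c33210b)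 (nat_lit 0x4040110233210b) [nat_lit 0, nat_lit 8, nat_lit 7] (BT.pln (nat_lit 0) (nat_lit 12) (BT.and (nat_lit 7) (nat_lit 0) (BT.img (nat_lit 1) (nat_lit 3) (BT.frm (nat_lit 2) (nat_lit 0x4d51503f454a1c33210b) (nat_lit 0x4e504e4040110233210b) [nat_lit 0, nat_lit 4, nat_lit 12, nat_lit 11] (BT.pln (nat_lit 0) (nat_lit 4) (BT.and (nat_lit 3) (nat_lit 0) (BT.pln (nat_lit 2) (nat_lit 6) (BT.and (nat_lit 1) (nat_lit 0) (BT.dif (nat_lit 14) (nat_lit 11) (BT.dif (nat_lit 0) (nat_lit 11) (BT.img (nat_lit 1) (nat_lit 7) (BT.img (nat_lit 1) (nat_lit 0) (BT.img (nat_lit 1) (nat_lit 0) (BT.img (nat_lit 1) (nat_lit 0) (BT.dif (nat_lit 4) (nat_lit 0) (BT.img (nat_lit 1) (nat_lit 1) (BT.dif (nat_lit 1) (nat_lit 0) (BT.img (nat_lit 1) (nat_lit 0) (BT.dif (nat_lit 10) (nat_lit 0) (BT.pln (nat_lit 26) (nat_lit 3) (BT.and (nat_lit 0) (nat_lit 2) (BT.img (nat_lit 1) (nat_lit 0) (BT.and (nat_lit 2) (nat_lit 0) (BT.img (nat_lit 1) (nat_lit 0) (BT.and (nat_lit 4) (nat_lit 0) (BT.img (nat_lit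 1) (nat_lit 0) (BT.and (nat_lit 6) (nat_lit 0) (BT.img (nat_lit 1) (nat_lit 0) (BT.and (nat_lit 9) (nat_lit 0) (BT.frm (nat_lit 3) (nat_lit 0x534f4d51503f454a1c33210b) (nat_lit 0x534e504e4040110233210b) [nat_lit 0, nat_lit 26, nat_lit 30, nat_lit 38, nat_lit 37] (BT.pln (nat_lit 0) (nat_lit 5) (BT.and (nat_lit 0) (nat_lit 7) (BT.cnt (nat_lit 0))))))))))))))))))))))))))))))))))))))))))) (BT.dead (nat_lit 2) (BT.fix (nat_lit 1) (BT.frm (nat_lit 0) (nat_lit 0x1c33210b) (nat_lit 0x5010633210b) [nat_lit 1, nat_lit 0] (BT.pln (nat_lit 0) (nat_lit 3) (BT.img (nat_lit 1) (nat_lit 3) (BT.img (nat_lit 1) (nat_lit 0) (BT.img (nat_lit 1) (nat_lit 0) (BT.and (nat_lit 3) (nat_lit 0) (BT.cnt (nat_lit 0))))))))) (BT.dead (nat_lit 48) (BT.fix (nat_lit 1) (BT.frm (nat_lit 0) (nat_lit 0x1c33210b) (nat_lit 0x71433210b) [nat_lit 1, nat_lit 0] (BT.pln (nat_lit 0) (nat_lit 3) (BT.img (nat_lit 1) (nat_lit 3) (BT.img (nat_lit 1) (nat_lit 0) (BT.img (nat_lit 1) (nat_lit 0) (BT.img (nat_lit 1)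 (nat_lit 0) (BT.and (nat_lit 4) (nat_lit 0) (BT.cnt (nat_lit 0)))))))))) (BT.dead (nat_lit 37) (BT.fix (nat_lit 1) (BT.frm (nat_lit 0) (nat_lit 0x1c33210b) (nat_lit 0x1e0b33210b) [nat_lit 1, nat_lit 0] (BT.pln (nat_lit 0) (nat_lit 3) (BT.img (nat_lit 1) (nat_lit 3) (BT.img (nat_lit 1) (nat_lit 0) (BT.img (nat_lit 1) (nat_lit 0) (BT.img (nat_lit 1) (nat_lit 0) (BT.and (nat_lit 4) (nat_lit 0) (BT.cnt (nat_lit 0)))))))))) (BT.dead (nat_lit 9) (BT.fix (nat_lit 1) (BT.frm (nat_lit 0) (nat_lit 0x1c33210b) (nat_lit 0xe0233210b) [nat_lit 1, nat_lit 0] (BT.pln (nat_lit 0) (nat_lit 3) (BT.img (nat_lit 1) (nat_lit 3) (BT.img (nat_lit 1) (nat_lit 0) (BT.img (nat_lit 1) (nat_lit 0) (BT.and (nat_lit 3) (nat_lit 0) (BT.cnt (nat_lit 0))))))))) (BT.dead (nat_lit 19) (BT.fix (nat_lit 1) (BT.frm (nat_lit 0) (nat_lit 0x1c33210b) (nat_lit 0xa1433210b) [nat_lit 1, nat_lit 0] (BT.pln (nat_lit 0) (nat_lit 3) (BT.img (nat_lit 1) (nat_lit 3) (BT.img (nat_lit 1) (nat_lit 0) (BT.and (nat_lit 2)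 (nat_lit 0) (BT.cnt (nat_lit 0)))))))) (BT.dead (nat_lit 16) (BT.fix (nat_lit 1) (BT.frm (nat_lit 0) (nat_lit 0x1c33210b) (nat_lit 0x1a0933210b) [nat_lit 1, nat_lit 0] (BT.pln (nat_lit 0) (nat_lit 3) (BT.img (nat_lit 1) (nat_lit 3) (BT.img (nat_lit 1) (nat_lit 0) (BT.and (nat_lit 2) (nat_lit 0) (BT.cnt (nat_lit 0)))))))) (BT.dead (nat_lit 13) (BT.fix (nat_lit 1) (BT.frm (nat_lit 0) (nat_lit 0x1c33210b) (nat_lit 0x10e33210b) [nat_lit 1, nat_lit 0] (BT.pln (nat_lit 0) (nat_lit 3) (BT.img (nat_lit 1) (nat_lit 3) (BT.img (nat_lit 1) (nat_lit 0) (BT.and (nat_lit 2) (nat_lit 0) (BT.cnt (nat_lit 0)))))))) (BT.dead (nat_lit 51) (BT.fix (nat_lit 1) (BT.frm (nat_lit 0) (nat_lit 0x1c33210b) (nat_lit 0x51433210b) [nat_lit 1, nat_lit 0] (BT.pln (nat_lit 0) (nat_lit 3) (BT.img (nat_lit 1) (nat_lit 3) (BT.and (nat_lit 1) (nat_lit 0) (BT.cnt (nat_lit 0))))))) (BT.dead (nat_lit 32) (BT.fix (nat_lit 1) (BT.frm (nat_lit 0) (nat_lit 0x1c33210b) (nat_lit 0x70a33210b) [nat_lit 1, nat_lit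 0] (BT.pln (nat_lit 0) (nat_lit 3) (BT.img (nat_lit 1) (nat_lit 3) (BT.and (nat_lit 1) (nat_lit 0) (BT.cnt (nat_lit 0))))))) (BT.dead (nat_lit 21) (BT.fix (nat_lit 1) (BT.frm (nat_lit 0) (nat_lit 0x1c33210b) (nat_lit 0x50b33210b) [nat_lit 1, nat_lit 0] (BT.pln (nat_lit 0) (nat_lit 3) (BT.img (nat_lit 1) (nat_lit 3) (BT.and (nat_lit 1) (nat_lit 0) (BT.cnt (nat_lit 0))))))) (BT.dead (nat_lit 18) (BT.fix (nat_lit 1) (BT.frm (nat_lit 0) (nat_lit 0x1c33210b) (nat_lit 0x71033210b) [nat_lit 1, nat_lit 0] (BT.pln (nat_lit 0) (nat_lit 3) (BT.img (nat_lit 1) (nat_lit 3) (BT.and (nat_lit 1) (nat_lit 0) (BT.cnt (nat_lit 0))))))) (BT.dead (nat_lit 11) (BT.fix (nat_lit 1) (BT.frm (nat_lit 0) (nat_lit 0x1c33210b) (nat_lit 0x61033210b) [nat_lit 1, nat_lit 0] (BT.pln (nat_lit 0) (nat_lit 3) (BT.img (nat_lit 1) (nat_lit 3) (BT.and (nat_lit 1) (nat_lit 0) (BT.cnt (nat_lit 0))))))) (BT.dead (nat_lit 4) (BT.fix (nat_lit 1) (BT.frm (nat_lit 0) (nat_lit 0x1c33210b) (nat_lit 0xa1c33210b) [nat_lit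 1, nat_lit 0] (BT.pln (nat_lit 0) (nat_lit 3) (BT.img (nat_lit 1) (nat_lit 3) (BT.and (nat_lit 1) (nat_lit 0) (BT.cnt (nat_lit 0))))))) (BT.dead (nat_lit 7) (BT.fix (nat_lit 1) (BT.frm (nat_lit 0) (nat_lit 0x1c33210b) (nat_lit 0x133210b) [nat_lit 1, nat_lit 0] (BT.pln (nat_lit 0) (nat_lit 3) (BT.img (nat_lit 1) (nat_lit 3) (BT.img (nat_lit 1) (nat_lit 0) (BT.and (nat_lit 2) (nat_lit 0) (BT.cnt (nat_lit 0)))))))) (BT.kid (nat_lit 0) (nat_lit 1) (BT.img (nat_lit 1) (nat_lit 0) (BT.img (nat_lit 1) (nat_lit 0) (BT.img (nat_lit 1) (nat_lit 0) (BT.img (nat_lit 1) (nat_lit 0) (BT.img (nat_lit 1) (nat_lit 0) (BT.img (nat_lit 1) (nat_lit 0) (BT.img (nat_lit 1) (nat_lit 0) (BT.img (nat_lit 1) (nat_lit 0) (BT.img (nat_lit 1) (nat_lit 0) (BT.img (nat_lit 1) (nat_lit 0) (BT.img (nat_lit 1) (nat_lit 0) (BT.fix (nat_lit 1) (BT.frm (nat_lit 0) (nat_lit 0x1c33210b) (nat_lit 0x1c33210b) [nat_lit 12, nat_lit 0] (BT.pln (nat_lit 0) (nat_lit 4) (BT.frm (nat_lit 1) (nat_lit 0x3f454a1c33210b)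 (nat_lit 0x3f454a1c33210b) [nat_lit 9, nat_lit 14, nat_lit 2] (BT.pln (nat_lit 0) (nat_lit 12) (BT.and (nat_lit 2) (nat_lit 0) (BT.frm (nat_lit 2) (nat_lit 0x4d51503f454a1c33210b) (nat_lit 0x4d51503f454a1c33210b) [nat_lit 11, nat_lit 12, nat_lit 17, nat_lit 5] (BT.pln (nat_lit 0) (nat_lit 4) (BT.and (nat_lit 2) (nat_lit 0) (BT.pln (nat_lit 2) (nat_lit 6) (BT.and (nat_lit 1) (nat_lit 0) (BT.dif (nat_lit 8) (nat_lit 19) (BT.dif (nat_lit 0) (nat_lit 19) (BT.dif (nat_lit 0) (nat_lit 14) (BT.dif (nat_lit 0) (nat_lit 14) (BT.img (nat_lit 1) (nat_lit 0) (BT.dif (nat_lit 5) (nat_lit 0) (BT.pln (nat_lit 15) (nat_lit 3) (BT.and (nat_lit 0) (nat_lit 2) (BT.img (nat_lit 1) (nat_lit 0) (BT.and (nat_lit 2) (nat_lit 0) (BT.img (nat_lit 1) (nat_lit 0) (BT.and (nat_lit 4) (nat_lit 0) (BT.img (nat_lit 1) (nat_lit 0) (BT.and (nat_lit 6) (nat_lit 0) (BT.img (nat_lit 1) (nat_lit 0) (BT.and (nat_lit 9) (nat_lit 0) (BT.one (nat_lit 4) (nat_lit 0x56534f4d51503f454a1c33210b) (nat_lit 0x56534f4d51503f454a1c33210b)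 [nat_lit 27, nat_lit 0, nat_lit 32, nat_lit 33, nat_lit 38, nat_lit 26]))))))))))))))))))))))))))))))))))))))) BT.nil)))))))))))))))))))

theorem ot_c51_cnt : Cnt 351 (grp 351 o_O) [o_g594] [o_g594] 0 0 0 0 14 :=
  BT.sound ot_c51_cnt_P Known.nil (t := ot_c51_cnt_t) (d := 0) (by decide +kernel)

theorem ot_c51_ge : 14 ≤ Nat.card (grp 351 ot_c51_K) :=
  Ch.le_card_grp (k := 9) (L := (lab 351 9)) o_hn ot_c51_K_ok (c := (Ch.cons (nat_lit 0) [nat_lit 1] Ch.nil)) (by decide +kernel)

theorem ot_c51_eq : (grp 351 o_O) ⊓ Subgroup.centralizer {Net.toPerm 351 o_g594} = grp 351 ot_c51_K :=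
  cent_eq ot_c51_sym ot_c51_cnt ot_c51_ge

theorem ot_c51_card : Nat.card ↥((grp 351 o_O) ⊓ Subgroup.centralizer {Net.toPerm 351 o_g594}) = 14 :=
  card_cent ot_c51_sym ot_c51_cnt ot_c51_ge

theorem ot_c51_ord : orderOf (Net.toPerm 351 o_g594) = 14 :=
  orderOf_net o_hn o_hk o_g594_ok (by decide) (ps := [2, 7]) (by set_option linter.unusedSimpArgs false in simp [Nat.primeFactorsList_ofNat]) (by decide +kernel)

theorem o_le598 : grp 351 ot_c52_K ≤ grp 351 o_lb_E :=
  grp_le_of_memB o_hn o_hk o_lb_E_ok ot_c52_K_ok (ws := [nat_lit 0x452f2725281d26122e011916, nat_lit 0x2f251d281d1119290119251c]) (by decide +kernel)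

theorem ot_c52_le : grp 351 ot_c52_K ≤ (grp 351 o_O) :=
  (o_le598.trans o_T76_s0.le)

theorem ot_c52_mem : Net.toPerm 351 o_g596 ∈ (grp 351 o_O) :=
  ot_c52_le (toPerm_mem_grp (E := ot_c52_K) (List.Mem.head _))

theorem ot_c52_sym : Sym 351 (grp 351 o_O) [o_g596] ot_c52_K 0 :=
  Sym.of_lab o_hn o_hk (okE_cons.2 ⟨o_g596_ok, okE_nil _⟩) ot_c52_K_ok ot_c52_le (kT := 0) (by decide +kernel)

noncomputable def o_T76_s53_O : ℕ := (nat_lit 0x1402048000840000200000000000000000000000000000000000000000000000000000000000000000000000d69230e69cf5593ba21b518ec5a42e963fe68579d53be93b191dd988185af37bf530020020084000000000000714a81b0c22a1813a077c81d62175f813cfcdccd04a0099cc084866c39a80151495fdffdedffbc000000000004793c80b889cdc8fe6c03cef4e06aac0477df5e6cf836fd0b356fa21b13000212bf3e76200087f7f600004b88d33b3c2363059196efbd008bcaf10000ebfd9d017e8363b88308d05911bf4105efc119ffe00fe803fc00f8b6fc9b4c479e7c1ad5b5ffe100e0dfa68109975039151dd4a98444f516a20bf04fe27e03e03e1e2f078780f9d3e6946ec8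622363e6ea70b80130622af31f35817d20eba74ac327a6ec229e8e9e30c36f3c673319ccccc2d5b9c42690a6b83aa1d5273dae9b6c99d113a72d967dc286137110ef0064d4b693a6d54dcb15a555aad55520000000000000000000000000000000000000000000000000000000000000000000000000000000000000001000000000000000000000000000000000000000000000000000000000000000000000000000000000000001000000000000000000000000000000000000000000000000000040000000000000000000000000000000000000000000000000000000000000020000000000000000000000000000000000000000000000000000000000000000000000000000000000000000000000000000000001000000000000000000000000000000000000000000)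

theorem o_T76_s53_F : Frame 351 (grp 351 o_O) 5 13 o_T76_s53_O 0 1 :=
  Stab.frame o_hn o_T76_s53 (by decide +kernel)

noncomputable def ot_c52_cnt_L : List ℕ := [1, 2, o_T76_s1_O, 0, 0, 3, 19, o_T76_s51_O, 0, 0, 4, 10, o_T76_s52_O, 0, 0, 5, 13, o_T76_s53_O, 0, 0, 6, 15, o_T76_s54_O, 1, 0]

theorem ot_c52_cnt_P : Prob 351 9 (grp 351 o_O) ot_c52_cnt_EG [o_g596] [o_g596] ot_c52_K ot_c52_cnt_L 0 0 :=
  Sym.prob o_hn o_hk ot_c52_sym ot_c52_cnt_EG_ok (grp_cons_le o_b_o_T76 (grp_cons_le o_c_o_T76 (grp_cons_le o_d_o_T76 (grp_cons_le o_e_o_T76 (grp_cons_le o_f_o_T76 (grp_cons_le o_g_o_T76 (grp_cons_le o_h_o_T76 (grp_cons_le o_i_o_T76 (grp_cons_le o_g1_o_T76 (grp_cons_le o_g2_o_T76 (grp_cons_le o_g3_o_T76 (grp_cons_le o_g4_o_T76 (grp_cons_le o_g5_o_T76 (grp_cons_le o_g8_o_T76 (grp_cons_le o_g9_o_T76 (grp_cons_le o_g12_o_T76 (grp_cons_le o_g13_o_T76 (grp_cons_le o_g14_o_T76 (grp_cons_le o_g17_o_T76 (grp_cons_le o_g18_o_T76 (grp_cons_le o_g19_o_T76 (grp_cons_le o_g20_o_T76 (grp_cons_le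 o_g23_o_T76 (grp_cons_le o_g24_o_T76 (grp_cons_le o_g25_o_T76 (grp_cons_le o_g26_o_T76 (grp_cons_le o_g27_o_T76 (grp_cons_le o_g30_o_T76 (grp_cons_le o_g31_o_T76 (grp_cons_le o_g32_o_T76 (grp_cons_le o_g35_o_T76 (grp_cons_le o_g295_o_T76 (grp_cons_le o_g296_o_T76 (grp_cons_le o_g297_o_T76 (grp_cons_le o_g298_o_T76 (grp_nil_le _)))))))))))))))))))))))))))))))))))) (Frames.cons o_T76_s1_F (Frames.cons o_T76_s51_F (Frames.cons o_T76_s52_F (Frames.cons o_T76_s53_F (Frames.cons o_T76_s54_F Frames.nil))))) (okE_cons.2 ⟨o_g596_ok, okE_nil _⟩) _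

noncomputable def ot_c52_cnt_t : BT := (BT.fix (nat_lit 65793) (BT.br (nat_lit 0) (nat_lit 27) [nat_lit 1] (BT.dead (nat_lit 81) (BT.frm (nat_lit 0) (nat_lit 75026) (nat_lit 77071) [nat_lit 0] (BT.pln (nat_lit 0) (nat_lit 1) (BT.fix (nat_lit 0x101010101) (BT.and (nat_lit 1) (nat_lit 0) (BT.cnt (nat_lit 0)))))) (BT.kid (nat_lit 27) (nat_lit 5) (BT.frm (nat_lit 0) (nat_lit 75026) (nat_lit 75026) [nat_lit 0] (BT.pln (nat_lit 0) (nat_lit 1) (BT.img (nat_lit 1) (nat_lit 2) (BT.and (nat_lit 4) (nat_lit 1) (BT.frm (nat_lit 1) (nat_lit 0x25111c012512) (nat_lit 0x25111c012512) [nat_lit 1, nat_lit 0, nat_lit 4] (BT.pln (nat_lit 0) (nat_lit 10) (BT.and (nat_lit 4) (nat_lit 0) (BT.br (nat_lit 0) (nat_lit 13) [nat_lit 3] (BT.dead (nat_lit 267) (BT.fix (nat_lit 0x101010101) (BT.frm (nat_lit 2) (nat_lit 0x3f3f414325111c012512) (nat_lit 0x3f4125111c012512) [nat_lit 1, nat_lit 6, nat_lit 5, nat_lit 9] (BT.pln (nat_lit 0) (nat_lit 4) (BT.dif (nat_lit 2) (nat_lit 0) (BT.pln (nat_lit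 2) (nat_lit 6) (BT.and (nat_lit 1) (nat_lit 0) (BT.pln (nat_lit 4) (nat_lit 9) (BT.dif (nat_lit 1) (nat_lit 0) (BT.pln (nat_lit 6) (nat_lit 7) (BT.and (nat_lit 8) (nat_lit 0) (BT.and (nat_lit 0) (nat_lit 7) (BT.img (nat_lit 1) (nat_lit 0) (BT.and (nat_lit 4) (nat_lit 0) (BT.img (nat_lit 1) (nat_lit 0) (BT.and (nat_lit 0) (nat_lit 11) (BT.cnt (nat_lit 0))))))))))))))))) (BT.dead (nat_lit 262) (BT.frm (nat_lit 2) (nat_lit 0x3f3f414325111c012512) (nat_lit 0x3f3f4125111c012512) [nat_lit 0, nat_lit 5, nat_lit 4, nat_lit 8] (BT.pln (nat_lit 0) (nat_lit 4) (BT.img (nat_lit 1) (nat_lit 2) (BT.and (nat_lit 1) (nat_lit 0) (BT.cnt (nat_lit 0)))))) (BT.dead (nat_lit 326) (BT.frm (nat_lit 2) (nat_lit 0x3f3f414325111c012512) (nat_lit 0x25111c012512) [nat_lit 0, nat_lit 5, nat_lit 4, nat_lit 8] (BT.pln (nat_lit 0) (nat_lit 4) (BT.img (nat_lit 1) (nat_lit 2) (BT.and (nat_lit 1) (nat_lit 0) (BT.cnt (nat_lit 0)))))) (BT.kid (nat_lit 13) (nat_lit 1) (BT.pln (nat_lit 3) (nat_lit 14) (BT.frm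 (nat_lit 2) (nat_lit 0x3f3f414325111c012512) (nat_lit 0x3f3f414325111c012512) [nat_lit 1, nat_lit 6, nat_lit 5, nat_lit 9] (BT.pln (nat_lit 0) (nat_lit 4) (BT.dif (nat_lit 2) (nat_lit 0) (BT.pln (nat_lit 2) (nat_lit 5) (BT.dif (nat_lit 1) (nat_lit 0) (BT.dif (nat_lit 18) (nat_lit 12) (BT.pln (nat_lit 10) (nat_lit 6) (BT.and (nat_lit 1) (nat_lit 0) (BT.and (nat_lit 0) (nat_lit 4) (BT.fix (nat_lit 0x101010101) (BT.dif (nat_lit 17) (nat_lit 0) (BT.dif (nat_lit 0) (nat_lit 21) (BT.img (nat_lit 1) (nat_lit 0) (BT.and (nat_lit 7) (nat_lit 0) (BT.dif (nat_lit 0) (nat_lit 12) (BT.pln (nat_lit 14) (nat_lit 8) (BT.dif (nat_lit 1) (nat_lit 0) (BT.pln (nat_lit 16) (nat_lit 9) (BT.dif (nat_lit 1) (nat_lit 0) (BT.pln (nat_lit 23) (nat_lit 8) (BT.and (nat_lit 27) (nat_lit 0) (BT.pln (nat_lit 20) (nat_lit 6) (BT.and (nat_lit 1) (nat_lit 0) (BT.dif (nat_lit 0) (nat_lit 21) (BT.img (nat_lit 1) (nat_lit 0) (BT.and (nat_lit 6) (nat_lit 0) (BT.dif (nat_lit 18) (nat_lit 22) (BT.dif (nat_lit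 0) (nat_lit 25) (BT.and (nat_lit 14) (nat_lit 24) (BT.dif (nat_lit 0) (nat_lit 7) (BT.dif (nat_lit 0) (nat_lit 12) (BT.dif (nat_lit 10) (nat_lit 9) (BT.and (nat_lit 24) (nat_lit 30) (BT.and (nat_lit 12) (nat_lit 31) (BT.dif (nat_lit 20) (nat_lit 12) (BT.dif (nat_lit 0) (nat_lit 31) (BT.pln (nat_lit 35) (nat_lit 7) (BT.dif (nat_lit 1) (nat_lit 0) (BT.and (nat_lit 0) (nat_lit 13) (BT.img (nat_lit 1) (nat_lit 0) (BT.and (nat_lit 12) (nat_lit 0) (BT.img (nat_lit 1) (nat_lit 0) (BT.and (nat_lit 8) (nat_lit 0) (BT.img (nat_lit 1) (nat_lit 0) (BT.and (nat_lit 25) (nat_lit 0) (BT.img (nat_lit 1) (nat_lit 0) (BT.and (nat_lit 13) (nat_lit 0) (BT.img (nat_lit 1) (nat_lit 0) (BT.and (nat_lit 16) (nat_lit 0) (BT.img (nat_lit 1) (nat_lit 0) (BT.and (nat_lit 19) (nat_lit 0) (BT.img (nat_lit 1) (nat_lit 0) (BT.and (nat_lit 24) (nat_lit 0) (BT.img (nat_lit 1) (nat_lit 0) (BT.and (nat_lit 30) (nat_lit 0) (BT.img (nat_lit 1) (nat_lit 0) (BT.and (nat_lit 30) (nat_lit 0) (BT.img (nat_lit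 1) (nat_lit 0) (BT.and (nat_lit 49) (nat_lit 0) (BT.frm (nat_lit 3) (nat_lit 0x3f3f414325111c012512) (nat_lit 0x3f3f414325111c012512) [nat_lit 0, nat_lit 60, nat_lit 65, nat_lit 64, nat_lit 68] (BT.pln (nat_lit 0) (nat_lit 7) (BT.and (nat_lit 56) (nat_lit 0) (BT.pln (nat_lit 66) (nat_lit 13) (BT.dif (nat_lit 0) (nat_lit 61) (BT.pln (nat_lit 68) (nat_lit 11) (BT.and (nat_lit 0) (nat_lit 43) (BT.and (nat_lit 0) (nat_lit 29) (BT.dif (nat_lit 2) (nat_lit 51) (BT.img (nat_lit 1) (nat_lit 0) (BT.and (nat_lit 6) (nat_lit 0) (BT.img (nat_lit 1) (nat_lit 0) (BT.and (nat_lit 71) (nat_lit 0) (BT.img (nat_lit 1) (nat_lit 0) (BT.dif (nat_lit 6) (nat_lit 0) (BT.img (nat_lit 1) (nat_lit 0) (BT.dif (nat_lit 11) (nat_lit 0) (BT.dif (nat_lit 0) (nat_lit 7) (BT.and (nat_lit 12) (nat_lit 4) (BT.img (nat_lit 1) (nat_lit 0) (BT.dif (nat_lit 2) (nat_lit 0) (BT.dif (nat_lit 15) (nat_lit 58) (BT.dif (nat_lit 0) (nat_lit 44) (BT.and (nat_lit 82) (nat_lit 80) (BT.and (nat_lit 0) (nat_lit 79)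 (BT.and (nat_lit 20) (nat_lit 9) (BT.and (nat_lit 22) (nat_lit 63) (BT.and (nat_lit 0) (nat_lit 11) (BT.img (nat_lit 1) (nat_lit 0) (BT.and (nat_lit 4) (nat_lit 0) (BT.img (nat_lit 1) (nat_lit 0) (BT.and (nat_lit 23) (nat_lit 0) (BT.img (nat_lit 1) (nat_lit 0) (BT.dif (nat_lit 7) (nat_lit 0) (BT.img (nat_lit 1) (nat_lit 0) (BT.and (nat_lit 89) (nat_lit 0) (BT.img (nat_lit 1) (nat_lit 0) (BT.and (nat_lit 14) (nat_lit 0) (BT.img (nat_lit 1) (nat_lit 0) (BT.and (nat_lit 18) (nat_lit 0) (BT.img (nat_lit 1) (nat_lit 0) (BT.and (nat_lit 16) (nat_lit 0) (BT.img (nat_lit 1) (nat_lit 0) (BT.and (nat_lit 20) (nat_lit 0) (BT.img (nat_lit 1) (nat_lit 0) (BT.and (nat_lit 24) (nat_lit 0) (BT.img (nat_lit 1) (nat_lit 0) (BT.and (nat_lit 44) (nat_lit 0) (BT.one (nat_lit 4) (nat_lit 0x463f3f414325111c012512) (nat_lit 0x463f3f414325111c012512) [nat_lit 0, nat_lit 48, nat_lit 108, nat_lit 113, nat_lit 112, nat_lit 116])))))))))))))))))))))))))))))))))))))))))))))))))))))))))))))))))))))))))))))))))))))))))))))))))))))))))))))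 BT.nil)))))))))))) BT.nil))))

theorem ot_c52_cnt : Cnt 351 (grp 351 o_O) [o_g596] [o_g596] 0 0 0 0 15 :=
  BT.sound ot_c52_cnt_P Known.nil (t := ot_c52_cnt_t) (d := 0) (by decide +kernel)

theorem ot_c52_ge : 15 ≤ Nat.card (grp 351 ot_c52_K) :=
  Ch.le_card_grp (k := 9) (L := (lab 351 9)) o_hn ot_c52_K_ok (c := (Ch.cons (nat_lit 27) [nat_lit 1] (Ch.cons (nat_lit 13) [nat_lit 3] Ch.nil))) (by decide +kernel)

theorem ot_c52_eq : (grp 351 o_O) ⊓ Subgroup.centralizer {Net.toPerm 351 o_g596} = grp 351 ot_c52_K :=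
  cent_eq ot_c52_sym ot_c52_cnt ot_c52_ge

theorem ot_c52_card : Nat.card ↥((grp 351 o_O) ⊓ Subgroup.centralizer {Net.toPerm 351 o_g596}) = 15 :=
  card_cent ot_c52_sym ot_c52_cnt ot_c52_ge

theorem ot_c52_ord : orderOf (Net.toPerm 351 o_g596) = 15 :=
  orderOf_net o_hn o_hk o_g596_ok (by decide) (ps := [3, 5]) (by set_option linter.unusedSimpArgs false in simp [Nat.primeFactorsList_ofNat]) (by decide +kernel)

theorem o_le602 : grp 351 ot_c53_K ≤ grp 351 o_lb_E :=
  grp_le_of_memB o_hn o_hk o_lb_E_ok ot_c53_K_ok (ws := [nat_lit 0x453b2825211d2e171e2c05250d, nat_lit 0x45433b3727261d202d1a25011f3f, nat_lit 0x432f39251f011f3f]) (by decide +kernel)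

theorem ot_c53_le : grp 351 ot_c53_K ≤ (grp 351 o_O) :=
  (o_le602.trans o_T76_s0.le)

theorem ot_c53_mem : Net.toPerm 351 o_g599 ∈ (grp 351 o_O) :=
  ot_c53_le (toPerm_mem_grp (E := ot_c53_K) (List.Mem.head _))

theorem ot_c53_sym : Sym 351 (grp 351 o_O) [o_g599] ot_c53_K 0 :=
  Sym.of_lab o_hn o_hk (okE_cons.2 ⟨o_g599_ok, okE_nil _⟩) ot_c53_K_ok ot_c53_le (kT := 0) (by decide +kernel)

noncomputable def ot_c53_cnt_L : List ℕ := [1, 2, o_T76_s1_O, 0, 0, 2, 7, o_T76_s2_O, 0, 0, 3, 8, o_T76_s3_O, 0, 0, 4, 10, o_T76_s20_O, 0, 0, 5, 13, o_T76_s21_O, 0, 0, 6, 14, o_T76_s22_O, 0, 0, 7, 16, o_T76_s23_O, 1, 0]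

theorem ot_c53_cnt_P : Prob 351 9 (grp 351 o_O) ot_c53_cnt_EG [o_g599] [o_g599] ot_c53_K ot_c53_cnt_L 0 0 :=
  Sym.prob o_hn o_hk ot_c53_sym ot_c53_cnt_EG_ok (grp_cons_le o_b_o_T76 (grp_cons_le o_c_o_T76 (grp_cons_le o_d_o_T76 (grp_cons_le o_e_o_T76 (grp_cons_le o_f_o_T76 (grp_cons_le o_g_o_T76 (grp_cons_le o_h_o_T76 (grp_cons_le o_i_o_T76 (grp_cons_le o_g1_o_T76 (grp_cons_le o_g2_o_T76 (grp_cons_le o_g3_o_T76 (grp_cons_le o_g4_o_T76 (grp_cons_le o_g5_o_T76 (grp_cons_le o_g8_o_T76 (grp_cons_le o_g9_o_T76 (grp_cons_le o_g12_o_T76 (grp_cons_le o_g13_o_T76 (grp_cons_le o_g14_o_T76 (grp_cons_le o_g17_o_T76 (grp_cons_le o_g18_o_T76 (grp_cons_le o_g19_o_T76 (grp_cons_le o_g20_o_T76 (grp_cons_le o_g23_o_T76 (grp_cons_le o_g24_o_T76 (grp_cons_le o_g25_o_T76 (grp_cons_le o_g26_o_T76 (grp_cons_le o_g27_o_T76 (grp_cons_le o_g30_o_T76 (grp_cons_le o_g31_o_T76 (grp_cons_le o_g32_o_T76 (grp_cons_le o_g35_o_T76 (grp_cons_le o_g88_o_T76 (grp_cons_le o_g89_o_T76 (grp_cons_le o_g90_o_T76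 (grp_cons_le o_g91_o_T76 (grp_cons_le o_g92_o_T76 (grp_cons_le o_g93_o_T76 (grp_cons_le o_g94_o_T76 (grp_cons_le o_g152_o_T76 (grp_cons_le o_g153_o_T76 (grp_cons_le o_g154_o_T76 (grp_nil_le _)))))))))))))))))))))))))))))))))))))))))) (Frames.cons o_T76_s1_F (Frames.cons o_T76_s2_F (Frames.cons o_T76_s3_F (Frames.cons o_T76_s20_F (Frames.cons o_T76_s21_F (Frames.cons o_T76_s22_F (Frames.cons o_T76_s23_F Frames.nil))))))) (okE_cons.2 ⟨o_g599_ok, okE_nil _⟩) _

noncomputable def ot_c53_cnt_t : BT := (BT.fix (nat_lit 0x10101010101) (BT.fix (nat_lit 65793) (BT.dif (nat_lit 1) (nat_lit 0) (BT.fix (nat_lit 257) (BT.dif (nat_lit 1) (nat_lit 0) (BT.br (nat_lit 0) (nat_lit 20) [nat_lit 1] (BT.kid (nat_lit 20) (nat_lit 18) (BT.frm (nat_lit 0) (nat_lit 74010) (nat_lit 74010) [nat_lit 0] (BT.pln (nat_lit 0) (nat_lit 1) (BT.dif (nat_lit 10) (nat_lit 0) (BT.img (nat_lit 1) (nat_lit 3) (BT.img (nat_lit 1) (nat_lit 0) (BT.frm (nat_lit 2) (nat_lit 0x3f41452b1701211a) (nat_lit 0x3f41452b1701211a)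 [nat_lit 0, nat_lit 1, nat_lit 5] (BT.pln (nat_lit 0) (nat_lit 4) (BT.dif (nat_lit 4) (nat_lit 0) (BT.pln (nat_lit 2) (nat_lit 3) (BT.dif (nat_lit 1) (nat_lit 0) (BT.dif (nat_lit 0) (nat_lit 15) (BT.br (nat_lit 0) (nat_lit 311) [nat_lit 3, nat_lit 5] (BT.dead (nat_lit 35) (BT.frm (nat_lit 3) (nat_lit 0x41433f41452b1701211a) (nat_lit 0x4144483f41452b1701211a) [nat_lit 0, nat_lit 7, nat_lit 8, nat_lit 12] (BT.pln (nat_lit 0) (nat_lit 4) (BT.img (nat_lit 1) (nat_lit 2) (BT.img (nat_lit 1) (nat_lit 0) (BT.img (nat_lit 1) (nat_lit 0) (BT.img (nat_lit 1) (nat_lit 0) (BT.and (nat_lit 4) (nat_lit 0) (BT.cnt (nat_lit 0))))))))) (BT.dead (nat_lit 283) (BT.frm (nat_lit 3) (nat_lit 0x41433f41452b1701211a) (nat_lit 0x43493f41452b1701211a) [nat_lit 0, nat_lit 7, nat_lit 8, nat_lit 12] (BT.pln (nat_lit 0) (nat_lit 4) (BT.img (nat_lit 1) (nat_lit 2) (BT.img (nat_lit 1) (nat_lit 0) (BT.img (nat_lit 1) (nat_lit 0) (BT.img (nat_lit 1) (nat_lit 0) (BT.and (nat_lit 4) (nat_lit 0) (BT.cnt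 (nat_lit 0))))))))) (BT.kid (nat_lit 311) (nat_lit 2) (BT.dif (nat_lit 20) (nat_lit 3) (BT.dif (nat_lit 0) (nat_lit 11) (BT.dif (nat_lit 0) (nat_lit 7) (BT.dif (nat_lit 0) (nat_lit 20) (BT.frm (nat_lit 3) (nat_lit 0x41433f41452b1701211a) (nat_lit 0x41433f41452b1701211a) [nat_lit 4, nat_lit 11, nat_lit 12, nat_lit 16] (BT.pln (nat_lit 0) (nat_lit 6) (BT.dif (nat_lit 2) (nat_lit 0) (BT.dif (nat_lit 0) (nat_lit 7) (BT.pln (nat_lit 3) (nat_lit 5) (BT.dif (nat_lit 1) (nat_lit 0) (BT.and (nat_lit 20) (nat_lit 13) (BT.pln (nat_lit 17) (nat_lit 5) (BT.dif (nat_lit 1) (nat_lit 0) (BT.dif (nat_lit 0) (nat_lit 4) (BT.pln (nat_lit 9) (nat_lit 4) (BT.dif (nat_lit 1) (nat_lit 0) (BT.pln (nat_lit 11) (nat_lit 7) (BT.dif (nat_lit 1) (nat_lit 0) (BT.frm (nat_lit 1) (nat_lit 0x2b1701211a) (nat_lit 0x2b1701211a) [nat_lit 26, nat_lit 30] (BT.pln (nat_lit 0) (nat_lit 4) (BT.dif (nat_lit 0) (nat_lit 5) (BT.and (nat_lit 0) (nat_lit 12) (BT.and (nat_lit 0) (nat_lit 16) (BT.and (nat_lit 27)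 (nat_lit 26) (BT.dif (nat_lit 0) (nat_lit 12) (BT.and (nat_lit 0) (nat_lit 8) (BT.and (nat_lit 15) (nat_lit 9) (BT.and (nat_lit 0) (nat_lit 12) (BT.img (nat_lit 1) (nat_lit 0) (BT.dif (nat_lit 3) (nat_lit 0) (BT.img (nat_lit 1) (nat_lit 0) (BT.and (nat_lit 8) (nat_lit 0) (BT.img (nat_lit 1) (nat_lit 0) (BT.and (nat_lit 15) (nat_lit 0) (BT.frm (nat_lit 4) (nat_lit 0x4d41433f41452b1701211a) (nat_lit 0x4d41433f41452b1701211a) [nat_lit 0, nat_lit 34, nat_lit 41, nat_lit 42, nat_lit 46] (BT.pln (nat_lit 0) (nat_lit 5) (BT.dif (nat_lit 26) (nat_lit 0) (BT.pln (nat_lit 18) (nat_lit 5) (BT.dif (nat_lit 0) (nat_lit 54) (BT.dif (nat_lit 0) (nat_lit 30) (BT.img (nat_lit 1) (nat_lit 40) (BT.img (nat_lit 1) (nat_lit 0) (BT.img (nat_lit 1) (nat_lit 0) (BT.img (nat_lit 1) (nat_lit 0) (BT.img (nat_lit 1) (nat_lit 0) (BT.img (nat_lit 1) (nat_lit 0) (BT.img (nat_lit 1) (nat_lit 0) (BT.img (nat_lit 1) (nat_lit 0) (BT.img (nat_lit 1) (nat_lit 0) (BT.img (nat_lit 1) (nat_lit 0) (BT.img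 (nat_lit 1) (nat_lit 0) (BT.dif (nat_lit 11) (nat_lit 0) (BT.dif (nat_lit 0) (nat_lit 16) (BT.and (nat_lit 63) (nat_lit 41) (BT.pln (nat_lit 60) (nat_lit 6) (BT.dif (nat_lit 1) (nat_lit 0) (BT.dif (nat_lit 0) (nat_lit 41) (BT.dif (nat_lit 0) (nat_lit 13) (BT.pln (nat_lit 39) (nat_lit 3) (BT.and (nat_lit 0) (nat_lit 53) (BT.and (nat_lit 0) (nat_lit 43) (BT.and (nat_lit 0) (nat_lit 46) (BT.img (nat_lit 1) (nat_lit 0) (BT.and (nat_lit 5) (nat_lit 0) (BT.dif (nat_lit 44) (nat_lit 47) (BT.and (nat_lit 0) (nat_lit 50) (BT.and (nat_lit 0) (nat_lit 57) (BT.dif (nat_lit 0) (nat_lit 25) (BT.dif (nat_lit 9) (nat_lit 71) (BT.dif (nat_lit 0) (nat_lit 60) (BT.dif (nat_lit 0) (nat_lit 64) (BT.dif (nat_lit 0) (nat_lit 30) (BT.pln (nat_lit 67) (nat_lit 8) (BT.and (nat_lit 75) (nat_lit 0) (BT.and (nat_lit 0) (nat_lit 68) (BT.and (nat_lit 36) (nat_lit 60) (BT.img (nat_lit 1) (nat_lit 25) (BT.img (nat_lit 1) (nat_lit 0) (BT.img (nat_lit 1) (nat_lit 0) (BT.img (nat_lit 1) (nat_lit 0) (BT.img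 (nat_lit 1) (nat_lit 0) (BT.img (nat_lit 1) (nat_lit 0) (BT.dif (nat_lit 6) (nat_lit 0) (BT.and (nat_lit 27) (nat_lit 66) (BT.dif (nat_lit 0) (nat_lit 3) (BT.and (nat_lit 0) (nat_lit 22) (BT.and (nat_lit 66) (nat_lit 89) (BT.dif (nat_lit 0) (nat_lit 78) (BT.and (nat_lit 0) (nat_lit 33) (BT.dif (nat_lit 0) (nat_lit 10) (BT.and (nat_lit 21) (nat_lit 84) (BT.dif (nat_lit 0) (nat_lit 13) (BT.and (nat_lit 102) (nat_lit 19) (BT.and (nat_lit 0) (nat_lit 78) (BT.pln (nat_lit 89) (nat_lit 9) (BT.dif (nat_lit 1) (nat_lit 0) (BT.dif (nat_lit 0) (nat_lit 46) (BT.and (nat_lit 0) (nat_lit 34) (BT.img (nat_lit 1) (nat_lit 0) (BT.and (nat_lit 47) (nat_lit 0) (BT.img (nat_lit 1) (nat_lit 0) (BT.and (nat_lit 26) (nat_lit 0) (BT.img (nat_lit 1) (nat_lit 0) (BT.and (nat_lit 11) (nat_lit 0) (BT.img (nat_lit 1) (nat_lit 0) (BT.and (nat_lit 15) (nat_lit 0) (BT.img (nat_lit 1) (nat_lit 0) (BT.and (nat_lit 45) (nat_lit 0) (BT.img (nat_lit 1) (nat_lit 0) (BT.and (nat_lit 23) (nat_lit 0) (BT.img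 (nat_lit 1) (nat_lit 0) (BT.and (nat_lit 28) (nat_lit 0) (BT.img (nat_lit 1) (nat_lit 0) (BT.and (nat_lit 38) (nat_lit 0) (BT.img (nat_lit 1) (nat_lit 0) (BT.and (nat_lit 43) (nat_lit 0) (BT.img (nat_lit 1) (nat_lit 0) (BT.and (nat_lit 49) (nat_lit 0) (BT.img (nat_lit 1) (nat_lit 0) (BT.and (nat_lit 57) (nat_lit 0) (BT.img (nat_lit 1) (nat_lit 0) (BT.dif (nat_lit 57) (nat_lit 0) (BT.img (nat_lit 1) (nat_lit 0) (BT.and (nat_lit 70) (nat_lit 0) (BT.frm (nat_lit 5) (nat_lit 0x4d41433f41452b1701211a) (nat_lit 0x4d41433f41452b1701211a) [nat_lit 0, nat_lit 90, nat_lit 124, nat_lit 131, nat_lit 132, nat_lit 136] (BT.pln (nat_lit 0) (nat_lit 6) (BT.dif (nat_lit 89) (nat_lit 0) (BT.br (nat_lit 0) (nat_lit 127) [nat_lit 5] (BT.kid (nat_lit 127) (nat_lit 1) (BT.one (nat_lit 6) (nat_lit 0x4d41433f41452b1701211a) (nat_lit 0x4d41433f41452b1701211a) [nat_lit 0, nat_lit 4, nat_lit 94, nat_lit 128, nat_lit 135, nat_lit 136, nat_lit 140]) BT.nil)))))))))))))))))))))))))))))))))))))))))))))))))))))))))))))))))))))))))))))))))))))))))))))))))))))))))))))))))))))))))))))))))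 BT.nil))))))))))))))) BT.nil)))))))

theorem ot_c53_cnt : Cnt 351 (grp 351 o_O) [o_g599] [o_g599] 0 0 0 0 108 :=
  BT.sound ot_c53_cnt_P Known.nil (t := ot_c53_cnt_t) (d := 0) (by decide +kernel)

theorem ot_c53_ge : 108 ≤ Nat.card (grp 351 ot_c53_K) :=
  Ch.le_card_grp (k := 9) (L := (lab 351 9)) o_hn ot_c53_K_ok (c := (Ch.cons (nat_lit 20) [nat_lit 1] (Ch.cons (nat_lit 311) [nat_lit 3] (Ch.cons (nat_lit 127) [nat_lit 5] Ch.nil)))) (by decide +kernel)

theorem ot_c53_eq : (grp 351 o_O) ⊓ Subgroup.centralizer {Net.toPerm 351 o_g599} = grp 351 ot_c53_K :=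
  cent_eq ot_c53_sym ot_c53_cnt ot_c53_ge

theorem ot_c53_card : Nat.card ↥((grp 351 o_O) ⊓ Subgroup.centralizer {Net.toPerm 351 o_g599}) = 108 :=
  card_cent ot_c53_sym ot_c53_cnt ot_c53_ge

theorem ot_c53_ord : orderOf (Net.toPerm 351 o_g599) = 18 :=
  orderOf_net o_hn o_hk o_g599_ok (by decide) (ps := [2, 3]) (by set_option linter.unusedSimpArgs false in simp [Nat.primeFactorsList_ofNat]) (by decide +kernel)

theorem o_le605 : grp 351 ot_c54_K ≤ grp 351 o_lb_E :=
  grp_le_of_memB o_hn o_hk o_lb_E_ok ot_c54_K_ok (ws := [nat_lit 0x45433b39253f1d201119011620, nat_lit 0x453b3125211e26111921012207, nat_lit 0x432f39251f011f3f]) (by decide +kernel)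

theorem ot_c54_le : grp 351 ot_c54_K ≤ (grp 351 o_O) :=
  (o_le605.trans o_T76_s0.le)

theorem ot_c54_mem : Net.toPerm 351 o_g603 ∈ (grp 351 o_O) :=
  ot_c54_le (toPerm_mem_grp (E := ot_c54_K) (List.Mem.head _))

theorem ot_c54_sym : Sym 351 (grp 351 o_O) [o_g603] ot_c54_K 0 :=
  Sym.of_lab o_hn o_hk (okE_cons.2 ⟨o_g603_ok, okE_nil _⟩) ot_c54_K_ok ot_c54_le (kT := 0) (by decide +kernel)

noncomputable def ot_c54_cnt_L : List ℕ := [1, 2, o_T76_s1_O, 0, 0, 2, 7, o_T76_s2_O, 0, 0, 3, 8, o_T76_s3_O, 0, 0, 4, 10, o_T76_s20_O, 0, 0, 7, 16, o_T76_s96_O, 1, 0]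

theorem ot_c54_cnt_P : Prob 351 9 (grp 351 o_O) ot_c54_cnt_EG [o_g603] [o_g603] ot_c54_K ot_c54_cnt_L 0 0 :=
  Sym.prob o_hn o_hk ot_c54_sym ot_c54_cnt_EG_ok (grp_cons_le o_b_o_T76 (grp_cons_le o_c_o_T76 (grp_cons_le o_d_o_T76 (grp_cons_le o_e_o_T76 (grp_cons_le o_f_o_T76 (grp_cons_le o_g_o_T76 (grp_cons_le o_h_o_T76 (grp_cons_le o_i_o_T76 (grp_cons_le o_g1_o_T76 (grp_cons_le o_g2_o_T76 (grp_cons_le o_g3_o_T76 (grp_cons_le o_g4_o_T76 (grp_cons_le o_g5_o_T76 (grp_cons_le o_g8_o_T76 (grp_cons_le o_g9_o_T76 (grp_cons_le o_g12_o_T76 (grp_cons_le o_g13_o_T76 (grp_cons_le o_g14_o_T76 (grp_cons_le o_g17_o_T76 (grp_cons_le o_g18_o_T76 (grp_cons_le o_g19_o_T76 (grp_cons_le o_g20_o_T76 (grp_cons_le o_g23_o_T76 (grp_cons_le o_g24_o_T76 (grp_cons_le o_g25_o_T76 (grp_cons_le o_g26_o_T76 (grp_cons_le o_g27_o_T76 (grp_cons_le o_g30_o_T76 (grp_cons_le o_g31_o_T76 (grp_cons_le o_g32_o_T76 (grp_cons_le o_g35_o_T76 (grp_cons_le o_g88_o_T76 (grp_cons_le o_g89_o_T76 (grp_cons_le o_g90_o_T76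 (grp_cons_le o_g91_o_T76 (grp_cons_le o_g92_o_T76 (grp_cons_le o_g93_o_T76 (grp_cons_le o_g94_o_T76 (grp_cons_le o_g506_o_T76 (grp_cons_le o_g505_o_T76 (grp_cons_le o_g152_o_T76 (grp_cons_le o_g153_o_T76 (grp_cons_le o_g154_o_T76 (grp_nil_le _)))))))))))))))))))))))))))))))))))))))))))) (Frames.cons o_T76_s1_F (Frames.cons o_T76_s2_F (Frames.cons o_T76_s3_F (Frames.cons o_T76_s20_F (Frames.cons o_T76_s96_F Frames.nil))))) (okE_cons.2 ⟨o_g603_ok, okE_nil _⟩) _

noncomputable def ot_c54_cnt_t : BT := (BT.fix (nat_lit 0x10101010101) (BT.fix (nat_lit 65793) (BT.dif (nat_lit 1) (nat_lit 0) (BT.fix (nat_lit 257) (BT.dif (nat_lit 1) (nat_lit 0) (BT.br (nat_lit 0) (nat_lit 20) [nat_lit 1] (BT.kid (nat_lit 20) (nat_lit 18) (BT.frm (nat_lit 0) (nat_lit 74010) (nat_lit 74010) [nat_lit 0] (BT.pln (nat_lit 0) (nat_lit 1) (BT.dif (nat_lit 10) (nat_lit 0) (BT.img (nat_lit 1) (nat_lit 3) (BT.img (nat_lit 1) (nat_lit 0) (BT.frm (nat_lit 2) (nat_lit 0x3f3f41451a2a01211a) (nat_lit 0x3f3f41451a2a01211a)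 [nat_lit 0, nat_lit 1, nat_lit 5] (BT.pln (nat_lit 0) (nat_lit 4) (BT.dif (nat_lit 4) (nat_lit 0) (BT.pln (nat_lit 2) (nat_lit 3) (BT.dif (nat_lit 1) (nat_lit 0) (BT.dif (nat_lit 0) (nat_lit 15) (BT.br (nat_lit 0) (nat_lit 282) [nat_lit 3, nat_lit 5] (BT.dead (nat_lit 124) (BT.frm (nat_lit 3) (nat_lit 0x473f3f41451a2a01211a) (nat_lit 0x41453f3f41451a2a01211a) [nat_lit 0, nat_lit 7, nat_lit 8, nat_lit 12] (BT.pln (nat_lit 0) (nat_lit 4) (BT.img (nat_lit 1) (nat_lit 2) (BT.img (nat_lit 1) (nat_lit 0) (BT.img (nat_lit 1) (nat_lit 0) (BT.img (nat_lit 1) (nat_lit 0) (BT.img (nat_lit 1) (nat_lit 0) (BT.and (nat_lit 5) (nat_lit 0) (BT.cnt (nat_lit 0)))))))))) (BT.dead (nat_lit 310) (BT.frm (nat_lit 3) (nat_lit 0x473f3f41451a2a01211a) (nat_lit 0x413f3f41451a2a01211a) [nat_lit 0, nat_lit 7, nat_lit 8, nat_lit 12] (BT.pln (nat_lit 0) (nat_lit 4) (BT.img (nat_lit 1) (nat_lit 2) (BT.img (nat_lit 1) (nat_lit 0) (BT.img (nat_lit 1) (nat_lit 0) (BT.img (nat_lit 1) (nat_lit 0) (BT.and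 (nat_lit 4) (nat_lit 0) (BT.cnt (nat_lit 0))))))))) (BT.kid (nat_lit 282) (nat_lit 2) (BT.and (nat_lit 10) (nat_lit 5) (BT.frm (nat_lit 3) (nat_lit 0x473f3f41451a2a01211a) (nat_lit 0x473f3f41451a2a01211a) [nat_lit 1, nat_lit 8, nat_lit 9, nat_lit 13] (BT.pln (nat_lit 0) (nat_lit 5) (BT.dif (nat_lit 2) (nat_lit 0) (BT.pln (nat_lit 2) (nat_lit 6) (BT.and (nat_lit 1) (nat_lit 0) (BT.frm (nat_lit 1) (nat_lit 0x1a2a01211a) (nat_lit 0x1a2a01211a) [nat_lit 14, nat_lit 18] (BT.pln (nat_lit 0) (nat_lit 3) (BT.dif (nat_lit 17) (nat_lit 0) (BT.pln (nat_lit 2) (nat_lit 4) (BT.dif (nat_lit 1) (nat_lit 0) (BT.and (nat_lit 0) (nat_lit 16) (BT.and (nat_lit 0) (nat_lit 7) (BT.and (nat_lit 12) (nat_lit 10) (BT.pln (nat_lit 12) (nat_lit 4) (BT.and (nat_lit 3) (nat_lit 0) (BT.dif (nat_lit 0) (nat_lit 11) (BT.img (nat_lit 1) (nat_lit 4) (BT.and (nat_lit 12) (nat_lit 0) (BT.img (nat_lit 1) (nat_lit 0) (BT.and (nat_lit 3) (nat_lit 0) (BT.img (nat_lit 1) (nat_lit 0) (BT.and (nat_lit 8) (nat_lit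 0) (BT.img (nat_lit 1) (nat_lit 0) (BT.and (nat_lit 11) (nat_lit 0) (BT.img (nat_lit 1) (nat_lit 0) (BT.and (nat_lit 20) (nat_lit 0) (BT.br (nat_lit 0) (nat_lit 53) [nat_lit 5] (BT.kid (nat_lit 53) (nat_lit 1) (BT.pln (nat_lit 21) (nat_lit 5) (BT.dif (nat_lit 0) (nat_lit 45) (BT.dif (nat_lit 0) (nat_lit 27) (BT.img (nat_lit 1) (nat_lit 31) (BT.img (nat_lit 1) (nat_lit 0) (BT.img (nat_lit 1) (nat_lit 0) (BT.img (nat_lit 1) (nat_lit 0) (BT.img (nat_lit 1) (nat_lit 0) (BT.dif (nat_lit 5) (nat_lit 0) (BT.pln (nat_lit 43) (nat_lit 5) (BT.and (nat_lit 48) (nat_lit 0) (BT.pln (nat_lit 45) (nat_lit 6) (BT.dif (nat_lit 1) (nat_lit 0) (BT.pln (nat_lit 39) (nat_lit 7) (BT.and (nat_lit 1) (nat_lit 0) (BT.dif (nat_lit 0) (nat_lit 8) (BT.pln (nat_lit 42) (nat_lit 9) (BT.and (nat_lit 37) (nat_lit 0) (BT.and (nat_lit 0) (nat_lit 43) (BT.and (nat_lit 0) (nat_lit 32) (BT.dif (nat_lit 38) (nat_lit 43) (BT.and (nat_lit 0) (nat_lit 34) (BT.pln (nat_lit 48) (nat_lit 8) (BT.and (nat_lit 1)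 (nat_lit 0) (BT.dif (nat_lit 0) (nat_lit 19) (BT.dif (nat_lit 45) (nat_lit 56) (BT.and (nat_lit 0) (nat_lit 49) (BT.dif (nat_lit 0) (nat_lit 23) (BT.and (nat_lit 11) (nat_lit 51) (BT.dif (nat_lit 0) (nat_lit 42) (BT.dif (nat_lit 0) (nat_lit 55) (BT.dif (nat_lit 0) (nat_lit 17) (BT.dif (nat_lit 0) (nat_lit 9) (BT.img (nat_lit 1) (nat_lit 0) (BT.and (nat_lit 6) (nat_lit 0) (BT.img (nat_lit 1) (nat_lit 0) (BT.and (nat_lit 11) (nat_lit 0) (BT.img (nat_lit 1) (nat_lit 0) (BT.and (nat_lit 18) (nat_lit 0) (BT.img (nat_lit 1) (nat_lit 0) (BT.and (nat_lit 24) (nat_lit 0) (BT.img (nat_lit 1) (nat_lit 0) (BT.and (nat_lit 33) (nat_lit 0) (BT.and (nat_lit 41) (nat_lit 56) (BT.img (nat_lit 1) (nat_lit 36) (BT.img (nat_lit 1) (nat_lit 0) (BT.img (nat_lit 1) (nat_lit 0) (BT.img (nat_lit 1) (nat_lit 0) (BT.img (nat_lit 1) (nat_lit 0) (BT.img (nat_lit 1) (nat_lit 0) (BT.dif (nat_lit 6) (nat_lit 0) (BT.and (nat_lit 69) (nat_lit 82) (BT.dif (nat_lit 0) (nat_lit 77) (BT.and (nat_lit 0)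 (nat_lit 41) (BT.dif (nat_lit 0) (nat_lit 7) (BT.and (nat_lit 0) (nat_lit 19) (BT.img (nat_lit 1) (nat_lit 0) (BT.and (nat_lit 37) (nat_lit 0) (BT.img (nat_lit 1) (nat_lit 0) (BT.and (nat_lit 43) (nat_lit 0) (BT.img (nat_lit 1) (nat_lit 0) (BT.and (nat_lit 10) (nat_lit 0) (BT.img (nat_lit 1) (nat_lit 0) (BT.and (nat_lit 30) (nat_lit 0) (BT.one (nat_lit 4) (nat_lit 0x5051473f3f41451a2a01211a) (nat_lit 0x5051473f3f41451a2a01211a) [nat_lit 64, nat_lit 21, nat_lit 0, nat_lit 92, nat_lit 99, nat_lit 100, nat_lit 104]))))))))))))))))))))))))))))))))))))))))))))))))))))))))))))))))) BT.nil))))))))))))))))))))))))))))) BT.nil))))))))))))))) BT.nil)))))))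

theorem ot_c54_cnt : Cnt 351 (grp 351 o_O) [o_g603] [o_g603] 0 0 0 0 108 :=
  BT.sound ot_c54_cnt_P Known.nil (t := ot_c54_cnt_t) (d := 0) (by decide +kernel)

theorem ot_c54_ge : 108 ≤ Nat.card (grp 351 ot_c54_K) :=
  Ch.le_card_grp (k := 9) (L := (lab 351 9)) o_hn ot_c54_K_ok (c := (Ch.cons (nat_lit 20) [nat_lit 1] (Ch.cons (nat_lit 282) [nat_lit 3] (Ch.cons (nat_lit 53) [nat_lit 5] Ch.nil)))) (by decide +kernel)

theorem ot_c54_eq : (grp 351 o_O) ⊓ Subgroup.centralizer {Net.toPerm 351 o_g603} = grp 351 ot_c54_K :=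
  cent_eq ot_c54_sym ot_c54_cnt ot_c54_ge

theorem ot_c54_card : Nat.card ↥((grp 351 o_O) ⊓ Subgroup.centralizer {Net.toPerm 351 o_g603}) = 108 :=
  card_cent ot_c54_sym ot_c54_cnt ot_c54_ge

theorem ot_c54_ord : orderOf (Net.toPerm 351 o_g603) = 18 :=
  orderOf_net o_hn o_hk o_g603_ok (by decide) (ps := [2, 3]) (by set_option linter.unusedSimpArgs false in simp [Nat.primeFactorsList_ofNat]) (by decide +kernel)

theorem o_le608 : grp 351 ot_c55_K ≤ grp 351 o_lb_E :=
  grp_le_of_memB o_hn o_hk o_lb_E_ok ot_c55_K_ok (ws := [nat_lit 0x453739261d1f1e172201051d25, nat_lit 0x453128251d2520114301, nat_lit 0x3139271d2419310103]) (by decide +kernel)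

theorem ot_c55_le : grp 351 ot_c55_K ≤ (grp 351 o_O) :=
  (o_le608.trans o_T76_s0.le)

theorem ot_c55_mem : Net.toPerm 351 o_g606 ∈ (grp 351 o_O) :=
  ot_c55_le (toPerm_mem_grp (E := ot_c55_K) (List.Mem.head _))

theorem ot_c55_sym : Sym 351 (grp 351 o_O) [o_g606] ot_c55_K 0 :=
  Sym.of_lab o_hn o_hk (okE_cons.2 ⟨o_g606_ok, okE_nil _⟩) ot_c55_K_ok ot_c55_le (kT := 0) (by decide +kernel)

noncomputable def ot_c55_cnt_L : List ℕ := [1, 2, o_T76_s1_O, 0, 0, 2, 7, o_T76_s2_O, 0, 0, 3, 8, o_T76_s3_O, 0, 0, 4, 10, o_T76_s20_O, 0, 0, 5, 13, o_T76_s97_O, 0, 0, 6, 15, o_T76_s98_O, 1, 0]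

theorem ot_c55_cnt_P : Prob 351 9 (grp 351 o_O) ot_c55_cnt_EG [o_g606] [o_g606] ot_c55_K ot_c55_cnt_L 0 0 :=
  Sym.prob o_hn o_hk ot_c55_sym ot_c55_cnt_EG_ok (grp_cons_le o_b_o_T76 (grp_cons_le o_c_o_T76 (grp_cons_le o_d_o_T76 (grp_cons_le o_e_o_T76 (grp_cons_le o_f_o_T76 (grp_cons_le o_g_o_T76 (grp_cons_le o_h_o_T76 (grp_cons_le o_i_o_T76 (grp_cons_le o_g1_o_T76 (grp_cons_le o_g2_o_T76 (grp_cons_le o_g3_o_T76 (grp_cons_le o_g4_o_T76 (grp_cons_le o_g5_o_T76 (grp_cons_le o_g8_o_T76 (grp_cons_le o_g9_o_T76 (grp_cons_le o_g12_o_T76 (grp_cons_le o_g13_o_T76 (grp_cons_le o_g14_o_T76 (grp_cons_le o_g17_o_T76 (grp_cons_le o_g18_o_T76 (grp_cons_le o_g19_o_T76 (grp_cons_le o_g20_o_T76 (grp_cons_le o_g23_o_T76 (grp_cons_le o_g24_o_T76 (grp_cons_le o_g25_o_T76 (grp_cons_le o_g26_o_T76 (grp_cons_le o_g27_o_T76 (grp_cons_le o_g30_o_T76 (grp_cons_le o_g31_o_T76 (grp_cons_le o_g32_o_T76 (grp_cons_le o_g35_o_T76 (grp_cons_le o_g88_o_T76 (grp_cons_le o_g89_o_T76 (grp_cons_le o_g90_o_T76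 (grp_cons_le o_g91_o_T76 (grp_cons_le o_g92_o_T76 (grp_cons_le o_g93_o_T76 (grp_cons_le o_g94_o_T76 (grp_cons_le o_g152_o_T76 (grp_cons_le o_g153_o_T76 (grp_cons_le o_g154_o_T76 (grp_nil_le _)))))))))))))))))))))))))))))))))))))))))) (Frames.cons o_T76_s1_F (Frames.cons o_T76_s2_F (Frames.cons o_T76_s3_F (Frames.cons o_T76_s20_F (Frames.cons o_T76_s97_F (Frames.cons o_T76_s98_F Frames.nil)))))) (okE_cons.2 ⟨o_g606_ok, okE_nil _⟩) _

noncomputable def ot_c55_cnt_t : BT := (BT.fix (nat_lit 0x10101010101) (BT.fix (nat_lit 65793) (BT.dif (nat_lit 1) (nat_lit 0) (BT.fix (nat_lit 257) (BT.dif (nat_lit 1) (nat_lit 0) (BT.br (nat_lit 0) (nat_lit 71) [nat_lit 1] (BT.kid (nat_lit 71) (nat_lit 9) (BT.fix (nat_lit 1) (BT.frm (nat_lit 0) (nat_lit 0x1051d20) (nat_lit 0x1051d20) [nat_lit 0] (BT.pln (nat_lit 0) (nat_lit 1) (BT.dif (nat_lit 11) (nat_lit 0) (BT.img (nat_lit 1) (nat_lit 4) (BT.frm (nat_lit 2) (nat_lit 0x3f444211131801051d20) (nat_lit 0x3f444211131801051d20) [nat_lit 0,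 nat_lit 5, nat_lit 4] (BT.pln (nat_lit 0) (nat_lit 4) (BT.dif (nat_lit 3) (nat_lit 0) (BT.pln (nat_lit 2) (nat_lit 3) (BT.dif (nat_lit 1) (nat_lit 0) (BT.dif (nat_lit 0) (nat_lit 15) (BT.br (nat_lit 0) (nat_lit 48) [nat_lit 3, nat_lit 5] (BT.dead (nat_lit 36) (BT.frm (nat_lit 3) (nat_lit 0x473f444211131801051d20) (nat_lit 0x4144483f444211131801051d20) [nat_lit 0, nat_lit 7, nat_lit 12, nat_lit 11] (BT.pln (nat_lit 0) (nat_lit 4) (BT.img (nat_lit 1) (nat_lit 2) (BT.and (nat_lit 1) (nat_lit 0) (BT.cnt (nat_lit 0)))))) (BT.dead (nat_lit 332) (BT.frm (nat_lit 3) (nat_lit 0x473f444211131801051d20) (nat_lit 0x41483f444211131801051d20) [nat_lit 0, nat_lit 7, nat_lit 12, nat_lit 11] (BT.pln (nat_lit 0) (nat_lit 4) (BT.img (nat_lit 1) (nat_lit 2) (BT.and (nat_lit 1) (nat_lit 0) (BT.cnt (nat_lit 0)))))) (BT.kid (nat_lit 48) (nat_lit 1) (BT.frm (nat_lit 3) (nat_lit 0x473f444211131801051d20) (nat_lit 0x473f444211131801051d20) [nat_lit 0, nat_lit 7, nat_lit 12, nat_lit 11] (BT.pln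 (nat_lit 0) (nat_lit 6) (BT.dif (nat_lit 4) (nat_lit 0) (BT.dif (nat_lit 0) (nat_lit 15) (BT.dif (nat_lit 0) (nat_lit 4) (BT.pln (nat_lit 4) (nat_lit 5) (BT.dif (nat_lit 1) (nat_lit 0) (BT.dif (nat_lit 0) (nat_lit 14) (BT.dif (nat_lit 0) (nat_lit 19) (BT.and (nat_lit 17) (nat_lit 7) (BT.pln (nat_lit 9) (nat_lit 8) (BT.dif (nat_lit 1) (nat_lit 0) (BT.pln (nat_lit 11) (nat_lit 7) (BT.dif (nat_lit 1) (nat_lit 0) (BT.dif (nat_lit 0) (nat_lit 8) (BT.pln (nat_lit 14) (nat_lit 4) (BT.and (nat_lit 1) (nat_lit 0) (BT.img (nat_lit 1) (nat_lit 17) (BT.img (nat_lit 1) (nat_lit 0) (BT.img (nat_lit 1) (nat_lit 0) (BT.img (nat_lit 1) (nat_lit 0) (BT.img (nat_lit 1) (nat_lit 0) (BT.img (nat_lit 1) (nat_lit 0) (BT.img (nat_lit 1) (nat_lit 0) (BT.img (nat_lit 1) (nat_lit 0) (BT.img (nat_lit 1) (nat_lit 0) (BT.img (nat_lit 1) (nat_lit 0) (BT.img (nat_lit 1) (nat_lit 0) (BT.dif (nat_lit 11) (nat_lit 0) (BT.frm (nat_lit 1) (nat_lit 0x11131801051d20) (nat_lit 0x11131801051d20) [nat_lit 41,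 nat_lit 40] (BT.pln (nat_lit 0) (nat_lit 4) (BT.dif (nat_lit 0) (nat_lit 18) (BT.and (nat_lit 0) (nat_lit 16) (BT.and (nat_lit 0) (nat_lit 27) (BT.img (nat_lit 1) (nat_lit 6) (BT.img (nat_lit 1) (nat_lit 0) (BT.img (nat_lit 1) (nat_lit 0) (BT.img (nat_lit 1) (nat_lit 0) (BT.img (nat_lit 1) (nat_lit 0) (BT.dif (nat_lit 5) (nat_lit 0) (BT.pln (nat_lit 10) (nat_lit 3) (BT.and (nat_lit 0) (nat_lit 39) (BT.and (nat_lit 0) (nat_lit 29) (BT.and (nat_lit 0) (nat_lit 27) (BT.img (nat_lit 1) (nat_lit 0) (BT.dif (nat_lit 5) (nat_lit 0) (BT.pln (nat_lit 45) (nat_lit 9) (BT.and (nat_lit 6) (nat_lit 0) (BT.and (nat_lit 0) (nat_lit 42) (BT.and (nat_lit 0) (nat_lit 33) (BT.dif (nat_lit 9) (nat_lit 55) (BT.dif (nat_lit 0) (nat_lit 35) (BT.dif (nat_lit 0) (nat_lit 27) (BT.dif (nat_lit 22) (nat_lit 37) (BT.and (nat_lit 0) (nat_lit 41) (BT.dif (nat_lit 0) (nat_lit 49) (BT.and (nat_lit 9) (nat_lit 54) (BT.dif (nat_lit 0) (nat_lit 41) (BT.dif (nat_lit 0) (nat_lit 52) (BT.dif (nat_lit 0)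 (nat_lit 46) (BT.dif (nat_lit 0) (nat_lit 49) (BT.img (nat_lit 1) (nat_lit 0) (BT.and (nat_lit 6) (nat_lit 0) (BT.img (nat_lit 1) (nat_lit 0) (BT.and (nat_lit 11) (nat_lit 0) (BT.img (nat_lit 1) (nat_lit 0) (BT.and (nat_lit 16) (nat_lit 0) (BT.img (nat_lit 1) (nat_lit 0) (BT.dif (nat_lit 22) (nat_lit 0) (BT.dif (nat_lit 18) (nat_lit 63) (BT.and (nat_lit 0) (nat_lit 6) (BT.img (nat_lit 1) (nat_lit 0) (BT.and (nat_lit 22) (nat_lit 0) (BT.img (nat_lit 1) (nat_lit 0) (BT.dif (nat_lit 5) (nat_lit 0) (BT.img (nat_lit 1) (nat_lit 0) (BT.and (nat_lit 47) (nat_lit 0) (BT.img (nat_lit 1) (nat_lit 0) (BT.and (nat_lit 69) (nat_lit 0) (BT.dif (nat_lit 87) (nat_lit 63) (BT.and (nat_lit 0) (nat_lit 67) (BT.dif (nat_lit 0) (nat_lit 75) (BT.dif (nat_lit 0) (nat_lit 80) (BT.and (nat_lit 0) (nat_lit 72) (BT.dif (nat_lit 0) (nat_lit 62) (BT.and (nat_lit 0) (nat_lit 9) (BT.img (nat_lit 1) (nat_lit 0) (BT.and (nat_lit 78) (nat_lit 0) (BT.frm (nat_lit 4) (nat_lit 0x4d51473f444211131801051d20)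 (nat_lit 0x4d51473f444211131801051d20) [nat_lit 0, nat_lit 88, nat_lit 95, nat_lit 100, nat_lit 99] (BT.pln (nat_lit 0) (nat_lit 6) (BT.dif (nat_lit 11) (nat_lit 0) (BT.one (nat_lit 5) (nat_lit 0x504d51473f444211131801051d20) (nat_lit 0x504d51473f444211131801051d20) [nat_lit 0, nat_lit 3, nat_lit 91, nat_lit 98, nat_lit 103, nat_lit 102])))))))))))))))))))))))))))))))))))))))))))))))))))))))))))))))))))))))))))))))))))))))))))) BT.nil))))))))))))))) BT.nil)))))))

theorem ot_c55_cnt : Cnt 351 (grp 351 o_O) [o_g606] [o_g606] 0 0 0 0 54 :=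
  BT.sound ot_c55_cnt_P Known.nil (t := ot_c55_cnt_t) (d := 0) (by decide +kernel)

theorem ot_c55_ge : 54 ≤ Nat.card (grp 351 ot_c55_K) :=
  Ch.le_card_grp (k := 9) (L := (lab 351 9)) o_hn ot_c55_K_ok (c := (Ch.cons (nat_lit 71) [nat_lit 1] (Ch.cons (nat_lit 48) [nat_lit 3, nat_lit 5] Ch.nil))) (by decide +kernel)

theorem ot_c55_eq : (grp 351 o_O) ⊓ Subgroup.centralizer {Net.toPerm 351 o_g606} = grp 351 ot_c55_K :=
  cent_eq ot_c55_sym ot_c55_cnt ot_c55_ge

theorem ot_c55_card : Nat.card ↥((grp 351 o_O) ⊓ Subgroup.centralizer {Net.toPerm 351 o_g606}) = 54 :=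
  card_cent ot_c55_sym ot_c55_cnt ot_c55_ge

theorem ot_c55_ord : orderOf (Net.toPerm 351 o_g606) = 18 :=
  orderOf_net o_hn o_hk o_g606_ok (by decide) (ps := [2, 3]) (by set_option linter.unusedSimpArgs false in simp [Nat.primeFactorsList_ofNat]) (by decide +kernel)

theorem o_le611 : grp 351 ot_c56_K ≤ grp 351 o_lb_E :=
  grp_le_of_memB o_hn o_hk o_lb_E_ok ot_c56_K_ok (ws := [nat_lit 0x453b2f3928251d1f11152e01051d, nat_lit 0x45433b3727252d1e291916011a, nat_lit 0x432f39251f011f3f]) (by decide +kernel)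

theorem ot_c56_le : grp 351 ot_c56_K ≤ (grp 351 o_O) :=
  (o_le611.trans o_T76_s0.le)

theorem ot_c56_mem : Net.toPerm 351 o_g609 ∈ (grp 351 o_O) :=
  ot_c56_le (toPerm_mem_grp (E := ot_c56_K) (List.Mem.head _))

theorem ot_c56_sym : Sym 351 (grp 351 o_O) [o_g609] ot_c56_K 0 :=
  Sym.of_lab o_hn o_hk (okE_cons.2 ⟨o_g609_ok, okE_nil _⟩) ot_c56_K_ok ot_c56_le (kT := 0) (by decide +kernel)

theorem o_le616 : grp 351 o_V615 ≤ grp 351 o_V196 :=
  grp_le_of_memB o_hn o_hk o_V196_ok o_V615_ok (ws := [nat_lit 0x8010107, nat_lit 0x90805010103, nat_lit 0x9050107, nat_lit 65793]) (by decide +kernel)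

theorem o_T76_s111 : Stab 351 (grp 351 o_O) [nat_lit 84, nat_lit 38, nat_lit 3, nat_lit 0] o_V615 108 :=
  Stab.step (k := 9) (L := (lab 351 9)) o_hn o_T76_s30 o_V615_ok o_le616 (c := (Ch.cons (nat_lit 182) [nat_lit 1] (Ch.cons (nat_lit 179) [nat_lit 3, nat_lit 5] (Ch.cons (nat_lit 256) [nat_lit 7] Ch.nil)))) (by decide +kernel)

theorem o_T76_s112 : Stab 351 (grp 351 o_O) [nat_lit 182, nat_lit 84, nat_lit 38, nat_lit 3, nat_lit 0] o_V617 12 :=
  Stab.step (k := 9) (L := (lab 351 9)) o_hn o_T76_s111 o_V617_ok (grp_mono (List.subset_append_right [o_g612] _)) (c := (Ch.cons (nat_lit 179) [nat_lit 1, nat_lit 3] (Ch.cons (nat_lit 256) [nat_lit 5] Ch.nil))) (by decide +kernel)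

theorem o_T76_s113 : Stab 351 (grp 351 o_O) [nat_lit 179, nat_lit 182, nat_lit 84, nat_lit 38, nat_lit 3, nat_lit 0] o_V618 2 :=
  Stab.step (k := 9) (L := (lab 351 9)) o_hn o_T76_s112 o_V618_ok (grp_mono (List.subset_append_right [o_g613, o_g614] _)) (c := (Ch.cons (nat_lit 256) [nat_lit 1] Ch.nil)) (by decide +kernel)

theorem o_T76_s114 : Stab 351 (grp 351 o_O) [nat_lit 256, nat_lit 179, nat_lit 182, nat_lit 84, nat_lit 38, nat_lit 3, nat_lit 0] o_V619 1 :=
  Stab.step (k := 9) (L := (lab 351 9)) o_hn o_T76_s113 o_V619_ok (grp_mono (List.subset_append_right [o_g111] _)) (c := Ch.nil) (by decide +kernel)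

theorem o_g612_o_T76 : Net.toPerm 351 o_g612 ∈ (grp 351 o_O) :=
  o_T76_s111.le (toPerm_mem_grp (E := o_V615) (List.Mem.head _))

theorem o_g613_o_T76 : Net.toPerm 351 o_g613 ∈ (grp 351 o_O) :=
  o_T76_s111.le (toPerm_mem_grp (E := o_V615) (List.Mem.tail _ (List.Mem.head _)))

theorem o_g614_o_T76 : Net.toPerm 351 o_g614 ∈ (grp 351 o_O) :=
  o_T76_s111.le (toPerm_mem_grp (E := o_V615) (List.Mem.tail _ (List.Mem.tail _ (List.Mem.head _))))

noncomputable def o_T76_s114_O : ℕ := (nat_lit 0xfffffffffffffffffffffffe0000000000000000000000000000000000000000000000000000000000000000000000000000000000000003fffffffffffffffffffffffffffffffc00000000000000000000000000000003fffffff80000000000000007fffffffffffffff80000000000000007fffffffffffffff800000000000000000000000ffffffff00000000ffffffff00000000ffffffff00000000ffffffff00000000ffffffff00000000fffe0001fffe0001fffe0001fffe0001fffe0001fffe0001fffe0001fffe0001fffe0001fffe0001fffe0001fc03fc03fc03fc03fc03fc03fc03fc03fc03fc03fc03fc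03fc03fc03fc03fc03fc03fc03fc03fc03fc03fc038787878787878787878787878787878787878787878787878787878787878787878787878787878787878784ccccccccccccccccccccccccccccccccccccccccccccccccccccccccccccccccccccccccccccccccccccccc555555555555555555555555555555555555555555555555555555555555555555555555555555555555555400000000000000000000000000000000000000000000000000000000000000000000000000000000000000040000000000000000000000000000000000000000000000000000000000000000000000000000000000000040000000000000000000000000000000000000000000000000000000000000000000000000000004000000000000000000000000000000000000000000000000000000000000000000000000000200000000000000000000000000000000000000000000000000000000000000100000000000000000000000000000000000000000000000000000000000000000000000000000000000000004000000000000000000000000000000000000000000000000000000000000000000010000000000000000000000000000000000000000000000000000000000000000)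

theorem o_T76_s114_F : Frame 351 (grp 351 o_O) 7 16 o_T76_s114_O 1 1 :=
  IsBase.frame o_T76_s114.isBase (by decide +kernel)

noncomputable def o_T76_s113_O : ℕ := (nat_lit 0x1498200136821ba499544c6c088d5498200136821b8099544c6c088d6c1500981a000f2c3b290000000000007fffffffffffffffffffffffffffe6cbbff99200000000000000000000000000000000000000001e1cd146a0f7729d77c150904d9a0ac00000003268800cdbffff6ffffffffffdca0428a515868a00000000003c39a28d4001100010355edf64cb481c9fbb9474c10019b6fdf8db345d9c8e046bf5aea5d4c02b069e26b4e07873451a83b44c7fecfcb9b08001d4ffbe0002dbbfc81307464d1fff6a00237ffeee0422086547ffe448063dfee4000004f3d1da40f47c9ebc938972837505bfe84e80dc7c9277810bf84671a23bff7c14482bda074ac079e2375d1009f02b0b638f7f2a4e0da1d16695cb680edaf1943e32f078968ecc2e1cd7294ee0ec1e689c5c34c7274f81ca12a919a236c8794e8b9db352aaca768adb2d56768b6138c86a9b5173245cd73a09c9baa556a6554d2d5a693100000000000000000000000000000000000000000000000000000000000000000000000000000000000000008000000000000000000000000000000000000000000000000000000000000000000000000000000000000008000000000000000000000000000000000000000000000000000000000000000000000000000000800000000000000000000000000000000000000000000000000000000000000000000000000040000000000000000000000000000000000000000000000000000000000000020000000000000000000000000000000000000000000000000000000000000000000000000000000000000000800000000000000000000000000000000000000000000)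

theorem o_T76_s113_F : Frame 351 (grp 351 o_O) 6 14 o_T76_s113_O 0 1 :=
  Stab.frame o_hn o_T76_s113 (by decide +kernel)

noncomputable def o_T76_s112_O : ℕ := (nat_lit 0x2300098181000c0020000010c000000880082004011000940080000020240081000800300000020200000a4c100088400dc2448a261604462a4c100088401de2c48a2616045636820284040003861d90c003831250382f375258a6ca434a111958adddadf32423d05998100a42df38c9cc08dea614afe9a3e7cefc1698000004002005e7aa1bc31a59d2466142075270bc764313d2b0a511954c485f623a19ac0c7bdf6581c206438b3f78b80040c78c2633580807014f35b319959b6b3180f21f6f664278ad8e937043698c1854cec8bcad1ce616402a939ca0a0fe7a8af98c4a4453f95d1b7ffd0a08977c29180c465609699b16123238a1833e0f303b18772a371d7a1389ef5201d8c531f342f33654664538660b74663011d1e7fbc39fd0495e432461bf025bdb716a4d68d82c9c9c10000000000000000000000000000000000000000000000000000000000000000000000000000000000000001000000000000000000000000000000000000000000000000000000000000000000000000000000000000001000000000000000000000000000000000000000000000000000000000000000000000000000000100000000000000000000000000000000000000000000000000000000000000000000000000008000000000000000000000000000000000000000000000000000000000000004000000000000000000000000000000000000000000000)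

theorem o_T76_s112_F : Frame 351 (grp 351 o_O) 5 12 o_T76_s112_O 0 1 :=
  Stab.frame o_hn o_T76_s112 (by decide +kernel)

noncomputable def o_T76_s111_O : ℕ := (nat_lit 0x90020000000000000000000000292040026100364802289818101aa92040026100364802289818101ad829081010080e5831c1001e1cd94040acb08d631909421a652443815202acb08d631909421a652443815202c986500e40d4a28b9f7e644020300dc0a2d800203d1d1e0cd3815b115ff2a2d800203d1d1e0cd3815b115ff268381801ee2071699c4b260ffcd21a82507c6d03782247976cd28cb6d2da507c6d03782247976cd28cb6d2d9337d5a87d81fa3f4c5e860938700f8804631a57cb4d1c605cb34d64dd9704631a57cb4d1c605cb34d64dd970cffd0a358c06176ec904e9cca9d35c4000000000000000000000000000000000000000000000000000000000000000000000000000000000000000200000000000000000000000000000000000000000000000000000000000000000000000000000000000000200000000000000000000000000000000000000000000000000000000000000000000000000000020000000000000000000000000000000000000000000000000000000000000000000000000001000000000000000000000)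

theorem o_T76_s111_F : Frame 351 (grp 351 o_O) 4 10 o_T76_s111_O 0 1 :=
  Stab.frame o_hn o_T76_s111 (by decide +kernel)

noncomputable def ot_c56_cnt_L : List ℕ := [1, 2, o_T76_s1_O, 0, 0, 2, 5, o_T76_s8_O, 0, 0, 3, 15, o_T76_s30_O, 0, 0, 4, 10, o_T76_s111_O, 0, 0, 5, 12, o_T76_s112_O, 0, 0, 6, 14, o_T76_s113_O, 0, 0, 7, 16, o_T76_s114_O, 1, 0]

theorem ot_c56_cnt_P : Prob 351 9 (grp 351 o_O) ot_c56_cnt_EG [o_g609] [o_g609] ot_c56_K ot_c56_cnt_L 0 0 :=
  Sym.prob o_hn o_hk ot_c56_sym ot_c56_cnt_EG_ok (grp_cons_le o_b_o_T76 (grp_cons_le o_c_o_T76 (grp_cons_le o_d_o_T76 (grp_cons_le o_e_o_T76 (grp_cons_le o_f_o_T76 (grp_cons_le o_g_o_T76 (grp_cons_le o_h_o_T76 (grp_cons_le o_i_o_T76 (grp_cons_le o_g1_o_T76 (grp_cons_le o_g2_o_T76 (grp_cons_le o_g3_o_T76 (grp_cons_le o_g4_o_T76 (grp_cons_le o_g5_o_T76 (grp_cons_le o_g8_o_T76 (grp_cons_le o_g9_o_T76 (grp_cons_le o_g12_o_T76 (grp_cons_le o_g13_o_T76 (grp_cons_le o_g14_o_T76 (grp_cons_le o_g17_o_T76 (grp_cons_le o_g18_o_T76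 (grp_cons_le o_g19_o_T76 (grp_cons_le o_g20_o_T76 (grp_cons_le o_g23_o_T76 (grp_cons_le o_g24_o_T76 (grp_cons_le o_g25_o_T76 (grp_cons_le o_g26_o_T76 (grp_cons_le o_g27_o_T76 (grp_cons_le o_g30_o_T76 (grp_cons_le o_g31_o_T76 (grp_cons_le o_g32_o_T76 (grp_cons_le o_g35_o_T76 (grp_cons_le o_g191_o_T76 (grp_cons_le o_g192_o_T76 (grp_cons_le o_g193_o_T76 (grp_cons_le o_g194_o_T76 (grp_cons_le o_g195_o_T76 (grp_cons_le o_g612_o_T76 (grp_cons_le o_g613_o_T76 (grp_cons_le o_g614_o_T76 (grp_cons_le o_g111_o_T76 (grp_nil_le _))))))))))))))))))))))))))))))))))))))))) (Frames.cons o_T76_s1_F (Frames.cons o_T76_s8_F (Frames.cons o_T76_s30_F (Frames.cons o_T76_s111_F (Frames.cons o_T76_s112_F (Frames.cons o_T76_s113_F (Frames.cons o_T76_s114_F Frames.nil))))))) (okE_cons.2 ⟨o_g609_ok, okE_nil _⟩) _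

noncomputable def ot_c56_cnt_t : BT := (BT.fix (nat_lit 0x10101010101) (BT.fix (nat_lit 65793) (BT.dif (nat_lit 1) (nat_lit 0) (BT.fix (nat_lit 257) (BT.dif (nat_lit 1) (nat_lit 0) (BT.br (nat_lit 0) (nat_lit 20) [nat_lit 1] (BT.dead (nat_lit 32) (BT.img (nat_lit 1) (nat_lit 0) (BT.fix (nat_lit 1) (BT.frm (nat_lit 0) (nat_lit 74010) (nat_lit 0x105071c11) [nat_lit 2] (BT.pln (nat_lit 0) (nat_lit 1) (BT.and (nat_lit 2) (nat_lit 0) (BT.frm (nat_lit 2) (nat_lit 0x1c20113901211a) (nat_lit 0x1b1d17210105071c11) [nat_lit 4, nat_lit 0, nat_lit 5] (BT.pln (nat_lit 0) (nat_lit 11) (BT.and (nat_lit 0) (nat_lit 11) (BT.cnt (nat_lit 0)))))))))) (BT.kid (nat_lit 20) (nat_lit 6) (BT.frm (nat_lit 0) (nat_lit 74010) (nat_lit 74010) [nat_lit 0] (BT.pln (nat_lit 0) (nat_lit 1) (BT.dif (nat_lit 0) (nat_lit 7) (BT.fix (nat_lit 1) (BT.and (nat_lit 0) (nat_lit 2) (BT.frm (nat_lit 1) (nat_lit 0x113901211a) (nat_lit 0x113901211a) [nat_lit 0, nat_lit 5] (BT.pln (nat_lit 0) (nat_lit 3) (BT.dif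 (nat_lit 4) (nat_lit 0) (BT.img (nat_lit 1) (nat_lit 8) (BT.img (nat_lit 1) (nat_lit 0) (BT.frm (nat_lit 3) (nat_lit 0x431c20113901211a) (nat_lit 0x431c20113901211a) [nat_lit 0, nat_lit 1, nat_lit 5, nat_lit 10] (BT.pln (nat_lit 0) (nat_lit 4) (BT.and (nat_lit 4) (nat_lit 0) (BT.pln (nat_lit 2) (nat_lit 5) (BT.and (nat_lit 1) (nat_lit 0) (BT.br (nat_lit 0) (nat_lit 95) [nat_lit 3] (BT.dead (nat_lit 54) (BT.frm (nat_lit 4) (nat_lit 0x4a4d431c20113901211a) (nat_lit 0x49431c20113901211a) [nat_lit 0, nat_lit 6, nat_lit 7, nat_lit 11, nat_lit 16] (BT.pln (nat_lit 0) (nat_lit 5) (BT.img (nat_lit 1) (nat_lit 2) (BT.img (nat_lit 1) (nat_lit 0) (BT.img (nat_lit 1) (nat_lit 0) (BT.img (nat_lit 1) (nat_lit 0) (BT.and (nat_lit 4) (nat_lit 0) (BT.cnt (nat_lit 0))))))))) (BT.dead (nat_lit 257) (BT.frm (nat_lit 4) (nat_lit 0x4a4d431c20113901211a) (nat_lit 0x431c20113901211a) [nat_lit 0, nat_lit 6, nat_lit 7, nat_lit 11, nat_lit 16] (BT.pln (nat_lit 0) (nat_lit 5) (BT.img (nat_lit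 1) (nat_lit 2) (BT.and (nat_lit 1) (nat_lit 0) (BT.cnt (nat_lit 0)))))) (BT.kid (nat_lit 95) (nat_lit 2) (BT.dif (nat_lit 24) (nat_lit 4) (BT.dif (nat_lit 0) (nat_lit 3) (BT.dif (nat_lit 0) (nat_lit 16) (BT.pln (nat_lit 8) (nat_lit 7) (BT.dif (nat_lit 1) (nat_lit 0) (BT.pln (nat_lit 10) (nat_lit 6) (BT.dif (nat_lit 1) (nat_lit 0) (BT.dif (nat_lit 0) (nat_lit 28) (BT.frm (nat_lit 4) (nat_lit 0x4a4d431c20113901211a) (nat_lit 0x4a4d431c20113901211a) [nat_lit 8, nat_lit 14, nat_lit 15, nat_lit 19, nat_lit 24] (BT.pln (nat_lit 0) (nat_lit 5) (BT.dif (nat_lit 2) (nat_lit 0) (BT.pln (nat_lit 2) (nat_lit 7) (BT.dif (nat_lit 1) (nat_lit 0) (BT.dif (nat_lit 33) (nat_lit 25) (BT.and (nat_lit 0) (nat_lit 2) (BT.pln (nat_lit 6) (nat_lit 9) (BT.and (nat_lit 36) (nat_lit 0) (BT.img (nat_lit 1) (nat_lit 0) (BT.and (nat_lit 3) (nat_lit 0) (BT.img (nat_lit 1) (nat_lit 0) (BT.and (nat_lit 6) (nat_lit 0) (BT.frm (nat_lit 5) (nat_lit 0x4b4e4a4d431c20113901211a) (nat_lit 0x4b4e4a4d431c20113901211a)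 [nat_lit 0, nat_lit 21, nat_lit 27, nat_lit 28, nat_lit 32, nat_lit 37] (BT.pln (nat_lit 0) (nat_lit 6) (BT.dif (nat_lit 10) (nat_lit 0) (BT.br (nat_lit 0) (nat_lit 119) [nat_lit 5] (BT.kid (nat_lit 119) (nat_lit 1) (BT.one (nat_lit 6) (nat_lit 0x4b4e4a4d431c20113901211a) (nat_lit 0x4b4e4a4d431c20113901211a) [nat_lit 0, nat_lit 4, nat_lit 25, nat_lit 31, nat_lit 32, nat_lit 36, nat_lit 41]) BT.nil)))))))))))))))))))))))))) BT.nil))))))))))))))))))) BT.nil))))))))

theorem ot_c56_cnt : Cnt 351 (grp 351 o_O) [o_g609] [o_g609] 0 0 0 0 36 :=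
  BT.sound ot_c56_cnt_P Known.nil (t := ot_c56_cnt_t) (d := 0) (by decide +kernel)

theorem ot_c56_ge : 36 ≤ Nat.card (grp 351 ot_c56_K) :=
  Ch.le_card_grp (k := 9) (L := (lab 351 9)) o_hn ot_c56_K_ok (c := (Ch.cons (nat_lit 20) [nat_lit 1] (Ch.cons (nat_lit 95) [nat_lit 3] (Ch.cons (nat_lit 119) [nat_lit 5] Ch.nil)))) (by decide +kernel)

theorem ot_c56_eq : (grp 351 o_O) ⊓ Subgroup.centralizer {Net.toPerm 351 o_g609} = grp 351 ot_c56_K :=
  cent_eq ot_c56_sym ot_c56_cnt ot_c56_ge

theorem ot_c56_card : Nat.card ↥((grp 351 o_O) ⊓ Subgroup.centralizer {Net.toPerm 351 o_g609}) = 36 :=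
  card_cent ot_c56_sym ot_c56_cnt ot_c56_ge

theorem ot_c56_ord : orderOf (Net.toPerm 351 o_g609) = 18 :=
  orderOf_net o_hn o_hk o_g609_ok (by decide) (ps := [2, 3]) (by set_option linter.unusedSimpArgs false in simp [Nat.primeFactorsList_ofNat]) (by decide +kernel)

theorem o_le622 : grp 351 ot_c57_K ≤ grp 351 o_lb_E :=
  grp_le_of_memB o_hn o_hk o_lb_E_ok ot_c57_K_ok (ws := [nat_lit 0x433b2f3925281e28112117011a26, nat_lit 0x3b313925221d281d1125011e21]) (by decide +kernel)

theorem ot_c57_le : grp 351 ot_c57_K ≤ (grp 351 o_O) :=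
  (o_le622.trans o_T76_s0.le)

theorem ot_c57_mem : Net.toPerm 351 o_g620 ∈ (grp 351 o_O) :=
  ot_c57_le (toPerm_mem_grp (E := ot_c57_K) (List.Mem.head _))

theorem ot_c57_sym : Sym 351 (grp 351 o_O) [o_g620] ot_c57_K 0 :=
  Sym.of_lab o_hn o_hk (okE_cons.2 ⟨o_g620_ok, okE_nil _⟩) ot_c57_K_ok ot_c57_le (kT := 0) (by decide +kernel)

noncomputable def ot_c57_cnt_L : List ℕ := [1, 2, o_T76_s1_O, 0, 0, 3, 19, o_T76_s51_O, 0, 0, 4, 10, o_T76_s52_O, 0, 0, 6, 15, o_T76_s54_O, 1, 0]

theorem ot_c57_cnt_P : Prob 351 9 (grp 351 o_O) ot_c57_cnt_EG [o_g620] [o_g620] ot_c57_K ot_c57_cnt_L 0 0 :=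
  Sym.prob o_hn o_hk ot_c57_sym ot_c57_cnt_EG_ok (grp_cons_le o_b_o_T76 (grp_cons_le o_c_o_T76 (grp_cons_le o_d_o_T76 (grp_cons_le o_e_o_T76 (grp_cons_le o_f_o_T76 (grp_cons_le o_g_o_T76 (grp_cons_le o_h_o_T76 (grp_cons_le o_i_o_T76 (grp_cons_le o_g1_o_T76 (grp_cons_le o_g2_o_T76 (grp_cons_le o_g3_o_T76 (grp_cons_le o_g4_o_T76 (grp_cons_le o_g5_o_T76 (grp_cons_le o_g8_o_T76 (grp_cons_le o_g9_o_T76 (grp_cons_le o_g12_o_T76 (grp_cons_le o_g13_o_T76 (grp_cons_le o_g14_o_T76 (grp_cons_le o_g17_o_T76 (grp_cons_le o_g18_o_T76 (grp_cons_le o_g19_o_T76 (grp_cons_le o_g20_o_T76 (grp_cons_le o_g23_o_T76 (grp_cons_le o_g24_o_T76 (grp_cons_le o_g25_o_T76 (grp_cons_le o_g26_o_T76 (grp_cons_le o_g27_o_T76 (grp_cons_le o_g30_o_T76 (grp_cons_le o_g31_o_T76 (grp_cons_le o_g32_o_T76 (grp_cons_le o_g35_o_T76 (grp_cons_le o_g295_o_T76 (grp_cons_le o_g296_o_T76 (grp_cons_le o_g297_o_T76 (grp_cons_le o_g298_o_T76 (grp_nil_le _)))))))))))))))))))))))))))))))))))) (Frames.cons o_T76_s1_F (Frames.cons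 o_T76_s51_F (Frames.cons o_T76_s52_F (Frames.cons o_T76_s54_F Frames.nil)))) (okE_cons.2 ⟨o_g620_ok, okE_nil _⟩) _

noncomputable def ot_c57_cnt_t : BT := (BT.fix (nat_lit 0x1010101) (BT.fix (nat_lit 257) (BT.dif (nat_lit 1) (nat_lit 0) (BT.br (nat_lit 0) (nat_lit 29) [nat_lit 1] (BT.kid (nat_lit 29) (nat_lit 5) (BT.img (nat_lit 1) (nat_lit 0) (BT.img (nat_lit 1) (nat_lit 0) (BT.frm (nat_lit 1) (nat_lit 0x1c26111b0105211a) (nat_lit 0x1c26111b0105211a) [nat_lit 1, nat_lit 0, nat_lit 2] (BT.pln (nat_lit 0) (nat_lit 10) (BT.br (nat_lit 0) (nat_lit 9) [nat_lit 3] (BT.dead (nat_lit 96) (BT.pln (nat_lit 2) (nat_lit 5) (BT.frm (nat_lit 2) (nat_lit 0x3f3f1c26111b0105211a) (nat_lit 0x40411c26111b0105211a) [nat_lit 1, nat_lit 5, nat_lit 4, nat_lit 6] (BT.pln (nat_lit 0) (nat_lit 5) (BT.and (nat_lit 2) (nat_lit 0) (BT.pln (nat_lit 2) (nat_lit 6) (BT.and (nat_lit 1) (nat_lit 0) (BT.frm (nat_lit 0) (nat_lit 0x105211a) (nat_lit 0x105211a) [nat_lit 11] (BT.pln (nat_lit 0) (nat_lit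 1) (BT.pln (nat_lit 10) (nat_lit 4) (BT.and (nat_lit 1) (nat_lit 0) (BT.pln (nat_lit 8) (nat_lit 7) (BT.and (nat_lit 1) (nat_lit 0) (BT.img (nat_lit 1) (nat_lit 0) (BT.and (nat_lit 7) (nat_lit 0) (BT.img (nat_lit 1) (nat_lit 0) (BT.pln (nat_lit 13) (nat_lit 4) (BT.and (nat_lit 1) (nat_lit 0) (BT.cnt (nat_lit 0))))))))))))))))))) (BT.dead (nat_lit 286) (BT.frm (nat_lit 2) (nat_lit 0x3f3f1c26111b0105211a) (nat_lit 0x3f3f431c26111b0105211a) [nat_lit 0, nat_lit 4, nat_lit 3, nat_lit 5] (BT.pln (nat_lit 0) (nat_lit 4) (BT.img (nat_lit 1) (nat_lit 2) (BT.and (nat_lit 1) (nat_lit 0) (BT.cnt (nat_lit 0)))))) (BT.dead (nat_lit 239) (BT.frm (nat_lit 2) (nat_lit 0x3f3f1c26111b0105211a) (nat_lit 0x3f1c26111b0105211a) [nat_lit 0, nat_lit 4, nat_lit 3, nat_lit 5] (BT.pln (nat_lit 0) (nat_lit 4) (BT.img (nat_lit 1) (nat_lit 2) (BT.and (nat_lit 1) (nat_lit 0) (BT.cnt (nat_lit 0)))))) (BT.kid (nat_lit 9) (nat_lit 1) (BT.img (nat_lit 1) (nat_lit 0) (BT.img (nat_lit 1) (nat_lit 0) (BT.pln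 (nat_lit 4) (nat_lit 6) (BT.frm (nat_lit 2) (nat_lit 0x3f3f1c26111b0105211a) (nat_lit 0x3f3f1c26111b0105211a) [nat_lit 3, nat_lit 7, nat_lit 6, nat_lit 8] (BT.pln (nat_lit 0) (nat_lit 5) (BT.and (nat_lit 2) (nat_lit 0) (BT.pln (nat_lit 2) (nat_lit 4) (BT.and (nat_lit 4) (nat_lit 0) (BT.dif (nat_lit 5) (nat_lit 3) (BT.dif (nat_lit 0) (nat_lit 2) (BT.img (nat_lit 1) (nat_lit 0) (BT.and (nat_lit 1) (nat_lit 0) (BT.img (nat_lit 1) (nat_lit 0) (BT.and (nat_lit 5) (nat_lit 0) (BT.img (nat_lit 1) (nat_lit 0) (BT.and (nat_lit 9) (nat_lit 0) (BT.one (nat_lit 3) (nat_lit 0x413f3f1c26111b0105211a) (nat_lit 0x413f3f1c26111b0105211a) [nat_lit 14, nat_lit 0, nat_lit 16, nat_lit 20, nat_lit 19, nat_lit 21]))))))))))))))))) BT.nil))))))))) BT.nil)))))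

theorem ot_c57_cnt : Cnt 351 (grp 351 o_O) [o_g620] [o_g620] 0 0 0 0 20 :=
  BT.sound ot_c57_cnt_P Known.nil (t := ot_c57_cnt_t) (d := 0) (by decide +kernel)

theorem ot_c57_ge : 20 ≤ Nat.card (grp 351 ot_c57_K) :=
  Ch.le_card_grp (k := 9) (L := (lab 351 9)) o_hn ot_c57_K_ok (c := (Ch.cons (nat_lit 29) [nat_lit 1] (Ch.cons (nat_lit 9) [nat_lit 3] Ch.nil))) (by decide +kernel)

theorem ot_c57_eq : (grp 351 o_O) ⊓ Subgroup.centralizer {Net.toPerm 351 o_g620} = grp 351 ot_c57_K :=
  cent_eq ot_c57_sym ot_c57_cnt ot_c57_ge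

theorem ot_c57_card : Nat.card ↥((grp 351 o_O) ⊓ Subgroup.centralizer {Net.toPerm 351 o_g620}) = 20 :=
  card_cent ot_c57_sym ot_c57_cnt ot_c57_ge

theorem ot_c57_ord : orderOf (Net.toPerm 351 o_g620) = 20 :=
  orderOf_net o_hn o_hk o_g620_ok (by decide) (ps := [2, 5]) (by set_option linter.unusedSimpArgs false in simp [Nat.primeFactorsList_ofNat]) (by decide +kernel)

noncomputable def ot_xs : List Net := [Net.nil, o_g77, o_g102, o_g122, o_g142, o_g160, o_g181, o_g202, o_g215, o_g226, o_g235, o_g246, o_g254, o_g267, o_g275, o_g290, o_g304, o_g316, o_g322, o_g342, o_g350, o_g366, o_g375, o_g389, o_g408, o_g422, o_g436, o_g444, o_g449, o_g464, o_g473, o_g478, o_g482, o_g490, o_g494, o_g499, o_g511, o_g519, o_g526, o_g529, o_g534, o_g538, o_g550, o_g555, o_g559, o_g574, o_g578, o_g582, o_g586, o_g590, o_g592, o_g594, o_g596, o_g599, o_g603, o_g606, o_g609, o_g620]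

noncomputable def ot_cs : List ℕ := [4585351680, 13063680, 207360, 13824, 629856, 174960, 139968, 17496, 17496, 2916, 1458, 2880, 1152, 384, 192, 120, 23328, 3888, 3888, 2592, 1728, 864, 864, 432, 432, 432, 324, 216, 216, 108, 108, 54, 14, 16, 16, 324, 162, 27, 27, 40, 20, 144, 144, 72, 72, 48, 36, 36, 24, 13, 13, 14, 15, 108, 108, 54, 36, 20]

noncomputable def ot_os : List ℕ := [1, 2, 2, 2, 3, 3, 3, 3, 3, 3, 3, 4, 4, 4, 4, 5, 6, 6, 6, 6, 6, 6, 6, 6, 6, 6, 6, 6, 6, 6, 6, 6, 7, 8, 8, 9, 9, 9, 9, 10, 10, 12, 12, 12, 12, 12, 12, 12, 12, 13, 13, 14, 15, 18, 18, 18, 18, 20]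

theorem ot_reps : Reps 351 (grp 351 o_O) ot_xs ot_cs ot_os :=
  (Reps.cons rfl (one_mem _) (card_cent_nil o_card) orderOf_one (Reps.cons o_g77_ok ot_c1_mem ot_c1_card ot_c1_ord (Reps.cons o_g102_ok ot_c2_mem ot_c2_card ot_c2_ord (Reps.cons o_g122_ok ot_c3_mem ot_c3_card ot_c3_ord (Reps.cons o_g142_ok ot_c4_mem ot_c4_card ot_c4_ord (Reps.cons o_g160_ok ot_c5_mem ot_c5_card ot_c5_ord (Reps.cons o_g181_ok ot_c6_mem ot_c6_card ot_c6_ord (Reps.cons o_g202_ok ot_c7_mem ot_c7_card ot_c7_ord (Reps.cons o_g215_ok ot_c8_mem ot_c8_card ot_c8_ord (Reps.cons o_g226_ok ot_c9_mem ot_c9_card ot_c9_ord (Reps.cons o_g235_ok ot_c10_mem ot_c10_card ot_c10_ord (Reps.cons o_g246_ok ot_c11_mem ot_c11_card ot_c11_ord (Reps.cons o_g254_ok ot_c12_mem ot_c12_card ot_c12_ord (Reps.cons o_g267_ok ot_c13_mem ot_c13_card ot_c13_ord (Reps.cons o_g275_ok ot_c14_mem ot_c14_card ot_c14_ord (Reps.cons o_g290_ok ot_c15_mem ot_c15_card ot_c15_ord (Reps.cons o_g304_ok ot_c16_mem ot_c16_card ot_c16_ord (Reps.cons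 o_g316_ok ot_c17_mem ot_c17_card ot_c17_ord (Reps.cons o_g322_ok ot_c18_mem ot_c18_card ot_c18_ord (Reps.cons o_g342_ok ot_c19_mem ot_c19_card ot_c19_ord (Reps.cons o_g350_ok ot_c20_mem ot_c20_card ot_c20_ord (Reps.cons o_g366_ok ot_c21_mem ot_c21_card ot_c21_ord (Reps.cons o_g375_ok ot_c22_mem ot_c22_card ot_c22_ord (Reps.cons o_g389_ok ot_c23_mem ot_c23_card ot_c23_ord (Reps.cons o_g408_ok ot_c24_mem ot_c24_card ot_c24_ord (Reps.cons o_g422_ok ot_c25_mem ot_c25_card ot_c25_ord (Reps.cons o_g436_ok ot_c26_mem ot_c26_card ot_c26_ord (Reps.cons o_g444_ok ot_c27_mem ot_c27_card ot_c27_ord (Reps.cons o_g449_ok ot_c28_mem ot_c28_card ot_c28_ord (Reps.cons o_g464_ok ot_c29_mem ot_c29_card ot_c29_ord (Reps.cons o_g473_ok ot_c30_mem ot_c30_card ot_c30_ord (Reps.cons o_g478_ok ot_c31_mem ot_c31_card ot_c31_ord (Reps.cons o_g482_ok ot_c32_mem ot_c32_card ot_c32_ord (Reps.cons o_g490_ok ot_c33_mem ot_c33_card ot_c33_ord (Reps.cons o_g494_ok ot_c34_mem ot_c34_card ot_c34_ord (Reps.cons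 o_g499_ok ot_c35_mem ot_c35_card ot_c35_ord (Reps.cons o_g511_ok ot_c36_mem ot_c36_card ot_c36_ord (Reps.cons o_g519_ok ot_c37_mem ot_c37_card ot_c37_ord (Reps.cons o_g526_ok ot_c38_mem ot_c38_card ot_c38_ord (Reps.cons o_g529_ok ot_c39_mem ot_c39_card ot_c39_ord (Reps.cons o_g534_ok ot_c40_mem ot_c40_card ot_c40_ord (Reps.cons o_g538_ok ot_c41_mem ot_c41_card ot_c41_ord (Reps.cons o_g550_ok ot_c42_mem ot_c42_card ot_c42_ord (Reps.cons o_g555_ok ot_c43_mem ot_c43_card ot_c43_ord (Reps.cons o_g559_ok ot_c44_mem ot_c44_card ot_c44_ord (Reps.cons o_g574_ok ot_c45_mem ot_c45_card ot_c45_ord (Reps.cons o_g578_ok ot_c46_mem ot_c46_card ot_c46_ord (Reps.cons o_g582_ok ot_c47_mem ot_c47_card ot_c47_ord (Reps.cons o_g586_ok ot_c48_mem ot_c48_card ot_c48_ord (Reps.cons o_g590_ok ot_c49_mem ot_c49_card ot_c49_ord (Reps.cons o_g592_ok ot_c50_mem ot_c50_card ot_c50_ord (Reps.cons o_g594_ok ot_c51_mem ot_c51_card ot_c51_ord (Reps.cons o_g596_ok ot_c52_mem ot_c52_card ot_c52_ord (Reps.cons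 o_g599_ok ot_c53_mem ot_c53_card ot_c53_ord (Reps.cons o_g603_ok ot_c54_mem ot_c54_card ot_c54_ord (Reps.cons o_g606_ok ot_c55_mem ot_c55_card ot_c55_ord (Reps.cons o_g609_ok ot_c56_mem ot_c56_card ot_c56_ord (Reps.cons o_g620_ok ot_c57_mem ot_c57_card ot_c57_ord Reps.nil))))))))))))))))))))))))))))))))))))))))))))))))))))))))))

noncomputable def ot_nc8_7_cnt_L : List ℕ := [1, 2, o_T76_s1_O, 0, 0, 3, 10, o_T76_s9_O, 0, 0, 4, 20, o_T76_s10_O, 0, 0, 5, 11, o_T76_s15_O, 0, 0, 6, 12, o_T76_s38_O, 0, 0, 7, 15, o_T76_s39_O, 0, 0, 8, 17, o_T76_s40_O, 1, 0]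

theorem ot_nc8_7_cnt_P : Prob 351 9 (grp 351 o_O) ot_nc8_7_cnt_EG [o_g215] [o_g202] ot_c7_K ot_nc8_7_cnt_L 0 0 :=
  Sym.prob o_hn o_hk ot_c7_sym ot_nc8_7_cnt_EG_ok (grp_cons_le o_b_o_T76 (grp_cons_le o_c_o_T76 (grp_cons_le o_d_o_T76 (grp_cons_le o_e_o_T76 (grp_cons_le o_f_o_T76 (grp_cons_le o_g_o_T76 (grp_cons_le o_h_o_T76 (grp_cons_le o_i_o_T76 (grp_cons_le o_g1_o_T76 (grp_cons_le o_g2_o_T76 (grp_cons_le o_g3_o_T76 (grp_cons_le o_g4_o_T76 (grp_cons_le o_g5_o_T76 (grp_cons_le o_g8_o_T76 (grp_cons_le o_g9_o_T76 (grp_cons_le o_g12_o_T76 (grp_cons_le o_g13_o_T76 (grp_cons_le o_g14_o_T76 (grp_cons_le o_g17_o_T76 (grp_cons_le o_g18_o_T76 (grp_cons_le o_g19_o_T76 (grp_cons_le o_g20_o_T76 (grp_cons_le o_g23_o_T76 (grp_cons_le o_g24_o_T76 (grp_cons_le o_g25_o_T76 (grp_cons_le o_g26_o_T76 (grp_cons_le o_g27_o_T76 (grp_cons_le o_g30_o_T76 (grp_cons_le o_g31_o_T76 (grp_cons_le o_g32_o_T76 (grp_cons_le o_g35_o_T76 (grp_cons_le o_g132_o_T76 (grp_cons_le o_g133_o_T76 (grp_cons_le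 o_g134_o_T76 (grp_cons_le o_g135_o_T76 (grp_cons_le o_g221_o_T76 (grp_nil_le _))))))))))))))))))))))))))))))))))))) (Frames.cons o_T76_s1_F (Frames.cons o_T76_s9_F (Frames.cons o_T76_s10_F (Frames.cons o_T76_s15_F (Frames.cons o_T76_s38_F (Frames.cons o_T76_s39_F (Frames.cons o_T76_s40_F Frames.nil))))))) (okE_cons.2 ⟨o_g215_ok, okE_nil _⟩) _

noncomputable def ot_nc8_7_cnt_t : BT := (BT.br (nat_lit 2) (nat_lit 0) [nat_lit 1, nat_lit 3] (BT.dead (nat_lit 2) (BT.img (nat_lit 1) (nat_lit 0) (BT.img (nat_lit 1) (nat_lit 0) (BT.frm (nat_lit 1) (nat_lit 0x1b1d1113) (nat_lit 0x1d261117210507) [nat_lit 0, nat_lit 1, nat_lit 2] (BT.pln (nat_lit 0) (nat_lit 9) (BT.br (nat_lit 0) (nat_lit 21) [nat_lit 1795, nat_lit 0x80306080203] (BT.dead (nat_lit 33) (BT.frm (nat_lit 0) (nat_lit 0) (nat_lit 1287) [nat_lit 5] (BT.pln (nat_lit 0) (nat_lit 1) (BT.frm (nat_lit 2) (nat_lit 0x233b1b1d1113) (nat_lit 0x232b1d261117210507) [nat_lit 2, nat_lit 5, nat_lit 6, nat_lit 7] (BT.pln (nat_lit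 0) (nat_lit 16) (BT.and (nat_lit 2) (nat_lit 0) (BT.img (nat_lit 1) (nat_lit 5) (BT.frm (nat_lit 3) (nat_lit 0x33233b1b1d1113) (nat_lit 0x252f232b1d261117210507) [nat_lit 0, nat_lit 6, nat_lit 9, nat_lit 10, nat_lit 11] (BT.pln (nat_lit 0) (nat_lit 6) (BT.dif (nat_lit 3) (nat_lit 0) (BT.br (nat_lit 0) (nat_lit 189) [nat_lit 0x503060204] (BT.dead (nat_lit 69) (BT.dif (nat_lit 18) (nat_lit 2) (BT.pln (nat_lit 4) (nat_lit 5) (BT.and (nat_lit 1) (nat_lit 0) (BT.pln (nat_lit 6) (nat_lit 7) (BT.dif (nat_lit 1) (nat_lit 0) (BT.pln (nat_lit 8) (nat_lit 8) (BT.dif (nat_lit 1) (nat_lit 0) (BT.pln (nat_lit 10) (nat_lit 9) (BT.dif (nat_lit 1) (nat_lit 0) (BT.dif (nat_lit 0) (nat_lit 17) (BT.frm (nat_lit 4) (nat_lit 0x33233b1b1d1113) (nat_lit 0x3f252f232b1d261117210507) [nat_lit 10, nat_lit 14, nat_lit 20, nat_lit 23, nat_lit 24, nat_lit 25] (BT.pln (nat_lit 0) (nat_lit 7) (BT.dif (nat_lit 2) (nat_lit 0) (BT.pln (nat_lit 20) (nat_lit 11) (BT.img (nat_lit 1) (nat_lit 0) (BT.and (nat_lit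 0) (nat_lit 3) (BT.img (nat_lit 1) (nat_lit 0) (BT.dif (nat_lit 4) (nat_lit 0) (BT.pln (nat_lit 25) (nat_lit 14) (BT.pln (nat_lit 8) (nat_lit 6) (BT.and (nat_lit 1) (nat_lit 0) (BT.img (nat_lit 1) (nat_lit 2) (BT.img (nat_lit 1) (nat_lit 0) (BT.dif (nat_lit 0) (nat_lit 3) (BT.and (nat_lit 2) (nat_lit 4) (BT.img (nat_lit 1) (nat_lit 0) (BT.and (nat_lit 2) (nat_lit 0) (BT.img (nat_lit 1) (nat_lit 0) (BT.and (nat_lit 7) (nat_lit 0) (BT.frm (nat_lit 5) (nat_lit 0x33233b1b1d1113) (nat_lit 0x47213f252f232b1d261117210507) [nat_lit 0, nat_lit 29, nat_lit 33, nat_lit 39, nat_lit 42, nat_lit 43, nat_lit 44] (BT.pln (nat_lit 0) (nat_lit 9) (BT.and (nat_lit 13) (nat_lit 0) (BT.br (nat_lit 0) (nat_lit 75) [nat_lit 67330] (BT.dead (nat_lit 131) (BT.frm (nat_lit 6) (nat_lit 0x33233b1b1d1113) (nat_lit 0x47213f252f232b1d261117210507) [nat_lit 0, nat_lit 4, nat_lit 33, nat_lit 37, nat_lit 43, nat_lit 46, nat_lit 47, nat_lit 48] (BT.pln (nat_lit 0) (nat_lit 8) (BT.img (nat_lit 1) (nat_lit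 2) (BT.and (nat_lit 1) (nat_lit 0) (BT.cnt (nat_lit 0)))))) BT.nil)))))))))))))))))))))))))))))))))) BT.nil))))))))))) BT.nil)))))) (BT.dead (nat_lit 0) (BT.frm (nat_lit 0) (nat_lit 0) (nat_lit 0) [nat_lit 0] (BT.pln (nat_lit 0) (nat_lit 1) (BT.img (nat_lit 1) (nat_lit 2) (BT.and (nat_lit 1) (nat_lit 0) (BT.cnt (nat_lit 0)))))) BT.nil)))

theorem ot_nc8_7_cnt : Cnt 351 (grp 351 o_O) [o_g215] [o_g202] 0 0 0 0 0 :=
  BT.sound ot_nc8_7_cnt_P Known.nil (t := ot_nc8_7_cnt_t) (d := 0) (by decide +kernel)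

theorem ot_nc8_7 : ¬ CjIn (grp 351 o_O) (Net.toPerm 351 o_g215) (Net.toPerm 351 o_g202) :=
  not_cjIn ot_nc8_7_cnt

noncomputable def ot_nc28_27_cnt_L : List ℕ := [1, 2, o_T76_s1_O, 0, 0, 2, 7, o_T76_s2_O, 0, 0, 3, 19, o_T76_s83_O, 0, 0, 5, 13, o_T76_s85_O, 0, 0]

theorem ot_nc28_27_cnt_P : Prob 351 9 (grp 351 o_O) ot_nc28_27_cnt_EG [o_g449] [o_g444] ot_c27_K ot_nc28_27_cnt_L 0 0 :=
  Sym.prob o_hn o_hk ot_c27_sym ot_nc28_27_cnt_EG_ok (grp_cons_le o_b_o_T76 (grp_cons_le o_c_o_T76 (grp_cons_le o_d_o_T76 (grp_cons_le o_e_o_T76 (grp_cons_le o_f_o_T76 (grp_cons_le o_g_o_T76 (grp_cons_le o_h_o_T76 (grp_cons_le o_i_o_T76 (grp_cons_le o_g1_o_T76 (grp_cons_le o_g2_o_T76 (grp_cons_le o_g3_o_T76 (grp_cons_le o_g4_o_T76 (grp_cons_le o_g5_o_T76 (grp_cons_le o_g8_o_T76 (grp_cons_le o_g9_o_T76 (grp_cons_le o_g12_o_T76 (grp_cons_le o_g13_o_T76 (grp_cons_le o_g14_o_T76 (grp_cons_le o_g17_o_T76 (grp_cons_le o_g18_o_T76 (grp_cons_le o_g19_o_T76 (grp_cons_le o_g20_o_T76 (grp_cons_le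 o_g23_o_T76 (grp_cons_le o_g24_o_T76 (grp_cons_le o_g25_o_T76 (grp_cons_le o_g26_o_T76 (grp_cons_le o_g27_o_T76 (grp_cons_le o_g30_o_T76 (grp_cons_le o_g31_o_T76 (grp_cons_le o_g32_o_T76 (grp_cons_le o_g35_o_T76 (grp_cons_le o_g88_o_T76 (grp_cons_le o_g89_o_T76 (grp_cons_le o_g90_o_T76 (grp_cons_le o_g91_o_T76 (grp_cons_le o_g92_o_T76 (grp_cons_le o_g93_o_T76 (grp_cons_le o_g94_o_T76 (grp_cons_le o_g455_o_T76 (grp_cons_le o_g456_o_T76 (grp_cons_le o_g457_o_T76 (grp_cons_le o_g454_o_T76 (grp_nil_le _))))))))))))))))))))))))))))))))))))))))))) (Frames.cons o_T76_s1_F (Frames.cons o_T76_s2_F (Frames.cons o_T76_s83_F (Frames.cons o_T76_s85_F Frames.nil)))) (okE_cons.2 ⟨o_g449_ok, okE_nil _⟩) _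

noncomputable def ot_nc28_27_cnt_t : BT := (BT.fix (nat_lit 65793) (BT.br (nat_lit 0) (nat_lit 60) [nat_lit 1, nat_lit 3, nat_lit 5] (BT.dead (nat_lit 65) (BT.img (nat_lit 1) (nat_lit 0) (BT.frm (nat_lit 1) (nat_lit 0x111329010514) (nat_lit 0x13181d012029) [nat_lit 0, nat_lit 1] (BT.pln (nat_lit 0) (nat_lit 3) (BT.and (nat_lit 4) (nat_lit 0) (BT.br (nat_lit 0) (nat_lit 124) [nat_lit 8] (BT.dead (nat_lit 195) (BT.frm (nat_lit 2) (nat_lit 0x40493f111329010514) (nat_lit 0x3f413f13181d012029) [nat_lit 0, nat_lit 4, nat_lit 5] (BT.pln (nat_lit 0) (nat_lit 9) (BT.pln (nat_lit 1) (nat_lit 10) (BT.img (nat_lit 1) (nat_lit 0) (BT.and (nat_lit 2) (nat_lit 0) (BT.br (nat_lit 0) (nat_lit 154) [nat_lit 0x804060401] (BT.dead (nat_lit 253) (BT.dif (nat_lit 7) (nat_lit 6) (BT.pln (nat_lit 6) (nat_lit 3) (BT.and (nat_lit 14) (nat_lit 0) (BT.img (nat_lit 1) (nat_lit 9) (BT.img (nat_lit 1) (nat_lit 0) (BT.dif (nat_lit 2) (nat_lit 0) (BT.img (nat_lit 1) (nat_lit 0) (BT.and (nat_lit 6)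 (nat_lit 0) (BT.frm (nat_lit 3) (nat_lit 0x4d4d5440493f111329010514) (nat_lit 0x54544d543f413f13181d012029) [nat_lit 8, nat_lit 0, nat_lit 14, nat_lit 18, nat_lit 19] (BT.pln (nat_lit 0) (nat_lit 5) (BT.img (nat_lit 1) (nat_lit 10) (BT.and (nat_lit 1) (nat_lit 0) (BT.cnt (nat_lit 0)))))))))))))) BT.nil))))))) BT.nil)))))) (BT.dead (nat_lit 25) (BT.frm (nat_lit 0) (nat_lit 66836) (nat_lit 0x105111e) [nat_lit 0] (BT.pln (nat_lit 0) (nat_lit 1) (BT.and (nat_lit 0) (nat_lit 3) (BT.cnt (nat_lit 0))))) BT.nil))))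

theorem ot_nc28_27_cnt : Cnt 351 (grp 351 o_O) [o_g449] [o_g444] 0 0 0 0 0 :=
  BT.sound ot_nc28_27_cnt_P Known.nil (t := ot_nc28_27_cnt_t) (d := 0) (by decide +kernel)

theorem ot_nc28_27 : ¬ CjIn (grp 351 o_O) (Net.toPerm 351 o_g449) (Net.toPerm 351 o_g444) :=
  not_cjIn ot_nc28_27_cnt

noncomputable def ot_nc30_29_cnt_L : List ℕ := [1, 2, o_T76_s1_O, 0, 0, 2, 7, o_T76_s2_O, 0, 0, 3, 19, o_T76_s83_O, 0, 0, 4, 10, o_T76_s84_O, 0, 0, 5, 13, o_T76_s88_O, 0, 0]

theorem ot_nc30_29_cnt_P : Prob 351 9 (grp 351 o_O) ot_nc30_29_cnt_EG [o_g473] [o_g464] ot_c29_K ot_nc30_29_cnt_L 0 0 :=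
  Sym.prob o_hn o_hk ot_c29_sym ot_nc30_29_cnt_EG_ok (grp_cons_le o_b_o_T76 (grp_cons_le o_c_o_T76 (grp_cons_le o_d_o_T76 (grp_cons_le o_e_o_T76 (grp_cons_le o_f_o_T76 (grp_cons_le o_g_o_T76 (grp_cons_le o_h_o_T76 (grp_cons_le o_i_o_T76 (grp_cons_le o_g1_o_T76 (grp_cons_le o_g2_o_T76 (grp_cons_le o_g3_o_T76 (grp_cons_le o_g4_o_T76 (grp_cons_le o_g5_o_T76 (grp_cons_le o_g8_o_T76 (grp_cons_le o_g9_o_T76 (grp_cons_le o_g12_o_T76 (grp_cons_le o_g13_o_T76 (grp_cons_le o_g14_o_T76 (grp_cons_le o_g17_o_T76 (grp_cons_le o_g18_o_T76 (grp_cons_le o_g19_o_T76 (grp_cons_le o_g20_o_T76 (grp_cons_le o_g23_o_T76 (grp_cons_le o_g24_o_T76 (grp_cons_le o_g25_o_T76 (grp_cons_le o_g26_o_T76 (grp_cons_le o_g27_o_T76 (grp_cons_le o_g30_o_T76 (grp_cons_le o_g31_o_T76 (grp_cons_le o_g32_o_T76 (grp_cons_le o_g35_o_T76 (grp_cons_le o_g88_o_T76 (grp_cons_le o_g89_o_T76 (grp_cons_le o_g90_o_T76 (grp_cons_le o_g91_o_T76 (grp_cons_le o_g92_o_T76 (grp_cons_le o_g93_o_T76 (grp_cons_le o_g94_o_T76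 (grp_cons_le o_g454_o_T76 (grp_cons_le o_g455_o_T76 (grp_cons_le o_g456_o_T76 (grp_cons_le o_g457_o_T76 (grp_nil_le _))))))))))))))))))))))))))))))))))))))))))) (Frames.cons o_T76_s1_F (Frames.cons o_T76_s2_F (Frames.cons o_T76_s83_F (Frames.cons o_T76_s84_F (Frames.cons o_T76_s88_F Frames.nil))))) (okE_cons.2 ⟨o_g473_ok, okE_nil _⟩) _

noncomputable def ot_nc30_29_cnt_t : BT := (BT.fix (nat_lit 257) (BT.fix (nat_lit 1) (BT.dif (nat_lit 1) (nat_lit 0) (BT.br (nat_lit 0) (nat_lit 82) [nat_lit 1, nat_lit 3] (BT.dead (nat_lit 15) (BT.fix (nat_lit 65793) (BT.img (nat_lit 1) (nat_lit 1) (BT.frm (nat_lit 1) (nat_lit 0x1726011f28) (nat_lit 0x142501050d13) [nat_lit 0, nat_lit 2] (BT.pln (nat_lit 0) (nat_lit 3) (BT.and (nat_lit 3) (nat_lit 0) (BT.br (nat_lit 0) (nat_lit 224) [nat_lit 5] (BT.dead (nat_lit 113) (BT.frm (nat_lit 2) (nat_lit 0x47401726011f28) (nat_lit 0x4149142501050d13) [nat_lit 0, nat_lit 4, nat_lit 6] (BT.pln (nat_lit 0) (nat_lit 12) (BT.dif (nat_lit 0) (nat_lit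 11) (BT.img (nat_lit 1) (nat_lit 3) (BT.frm (nat_lit 3) (nat_lit 0x4d4f47401726011f28) (nat_lit 0x4d4d4d4f4149142501050d13) [nat_lit 0, nat_lit 4, nat_lit 8, nat_lit 10] (BT.pln (nat_lit 0) (nat_lit 4) (BT.and (nat_lit 3) (nat_lit 0) (BT.pln (nat_lit 2) (nat_lit 6) (BT.and (nat_lit 1) (nat_lit 0) (BT.br (nat_lit 0) (nat_lit 52) [nat_lit 7] (BT.dead (nat_lit 243) (BT.pln (nat_lit 9) (nat_lit 3) (BT.pln (nat_lit 6) (nat_lit 5) (BT.dif (nat_lit 1) (nat_lit 0) (BT.dif (nat_lit 0) (nat_lit 5) (BT.frm (nat_lit 4) (nat_lit 0x4f4d4f47401726011f28) (nat_lit 0x514d4d4d4f4149142501050d13) [nat_lit 4, nat_lit 10, nat_lit 14, nat_lit 18, nat_lit 20] (BT.pln (nat_lit 0) (nat_lit 6) (BT.dif (nat_lit 2) (nat_lit 0) (BT.pln (nat_lit 2) (nat_lit 8) (BT.dif (nat_lit 1) (nat_lit 0) (BT.frm (nat_lit 0) (nat_lit 73512) (nat_lit 0x1050d13) [nat_lit 25] (BT.pln (nat_lit 0) (nat_lit 1) (BT.pln (nat_lit 20) (nat_lit 8) (BT.and (nat_lit 1) (nat_lit 0) (BT.pln (nat_lit 8) (nat_lit 11) (BT.and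 (nat_lit 1) (nat_lit 0) (BT.and (nat_lit 0) (nat_lit 9) (BT.img (nat_lit 1) (nat_lit 0) (BT.and (nat_lit 8) (nat_lit 0) (BT.img (nat_lit 1) (nat_lit 0) (BT.pln (nat_lit 14) (nat_lit 5) (BT.and (nat_lit 1) (nat_lit 0) (BT.cnt (nat_lit 0))))))))))))))))))))))) BT.nil))))))))))) BT.nil))))))) BT.nil)))))

theorem ot_nc30_29_cnt : Cnt 351 (grp 351 o_O) [o_g473] [o_g464] 0 0 0 0 0 :=
  BT.sound ot_nc30_29_cnt_P Known.nil (t := ot_nc30_29_cnt_t) (d := 0) (by decide +kernel)

theorem ot_nc30_29 : ¬ CjIn (grp 351 o_O) (Net.toPerm 351 o_g473) (Net.toPerm 351 o_g464) :=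
  not_cjIn ot_nc30_29_cnt

noncomputable def ot_nc34_33_cnt_L : List ℕ := [1, 2, o_T76_s1_O, 0, 0, 4, 20, o_T76_s10_O, 0, 0, 5, 11, o_T76_s11_O, 0, 0, 6, 13, o_T76_s12_O, 0, 0]

theorem ot_nc34_33_cnt_P : Prob 351 9 (grp 351 o_O) ot_nc34_33_cnt_EG [o_g494] [o_g490] ot_c33_K ot_nc34_33_cnt_L 0 0 :=
  Sym.prob o_hn o_hk ot_c33_sym ot_nc34_33_cnt_EG_ok (grp_cons_le o_b_o_T76 (grp_cons_le o_c_o_T76 (grp_cons_le o_d_o_T76 (grp_cons_le o_e_o_T76 (grp_cons_le o_f_o_T76 (grp_cons_le o_g_o_T76 (grp_cons_le o_h_o_T76 (grp_cons_le o_i_o_T76 (grp_cons_le o_g1_o_T76 (grp_cons_le o_g2_o_T76 (grp_cons_le o_g3_o_T76 (grp_cons_le o_g4_o_T76 (grp_cons_le o_g5_o_T76 (grp_cons_le o_g8_o_T76 (grp_cons_le o_g9_o_T76 (grp_cons_le o_g12_o_T76 (grp_cons_le o_g13_o_T76 (grp_cons_le o_g14_o_T76 (grp_cons_le o_g17_o_T76 (grp_cons_le o_g18_o_T76 (grp_cons_le o_g19_o_T76 (grp_cons_le o_g20_o_T76 (grp_cons_le o_g23_o_T76 (grp_cons_le o_g24_o_T76 (grp_cons_le o_g25_o_T76 (grp_cons_le o_g26_o_T76 (grp_cons_le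 o_g27_o_T76 (grp_cons_le o_g30_o_T76 (grp_cons_le o_g31_o_T76 (grp_cons_le o_g32_o_T76 (grp_cons_le o_g35_o_T76 (grp_nil_le _)))))))))))))))))))))))))))))))) (Frames.cons o_T76_s1_F (Frames.cons o_T76_s10_F (Frames.cons o_T76_s11_F (Frames.cons o_T76_s12_F Frames.nil)))) (okE_cons.2 ⟨o_g494_ok, okE_nil _⟩) _

noncomputable def ot_nc34_33_cnt_t : BT := (BT.fix (nat_lit 257) (BT.fix (nat_lit 1) (BT.dif (nat_lit 1) (nat_lit 0) (BT.br (nat_lit 0) (nat_lit 73) [nat_lit 1] (BT.dead (nat_lit 76) (BT.fix (nat_lit 0x1010101) (BT.dif (nat_lit 0) (nat_lit 4) (BT.br (nat_lit 0) (nat_lit 21) [nat_lit 3] (BT.dead (nat_lit 116) (BT.frm (nat_lit 0) (nat_lit 0x1050d2a) (nat_lit 72745) [nat_lit 5] (BT.pln (nat_lit 0) (nat_lit 1) (BT.dif (nat_lit 8) (nat_lit 5) (BT.dif (nat_lit 0) (nat_lit 8) (BT.frm (nat_lit 1) (nat_lit 0x232b1b2411261801050d2a) (nat_lit 0x231b2620151f011c29) [nat_lit 4, nat_lit 0, nat_lit 7, nat_lit 9] (BT.pln (nat_lit 0) (nat_lit 7) (BT.and (nat_lit 4) (nat_lit 0)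 (BT.pln (nat_lit 2) (nat_lit 5) (BT.and (nat_lit 6) (nat_lit 0) (BT.img (nat_lit 1) (nat_lit 0) (BT.dif (nat_lit 3) (nat_lit 0) (BT.br (nat_lit 0) (nat_lit 149) [nat_lit 5] (BT.dead (nat_lit 186) (BT.img (nat_lit 1) (nat_lit 12) (BT.frm (nat_lit 3) (nat_lit 0x2d232b1b2411261801050d2a) (nat_lit 0x3539231b2620151f011c29) [nat_lit 1, nat_lit 0, nat_lit 13, nat_lit 9, nat_lit 16, nat_lit 18] (BT.pln (nat_lit 0) (nat_lit 6) (BT.img (nat_lit 1) (nat_lit 3) (BT.and (nat_lit 1) (nat_lit 0) (BT.cnt (nat_lit 0))))))) (BT.dead (nat_lit 253) (BT.img (nat_lit 1) (nat_lit 12) (BT.frm (nat_lit 3) (nat_lit 0x2d232b1b2411261801050d2a) (nat_lit 0x2d231b2620151f011c29) [nat_lit 1, nat_lit 0, nat_lit 13, nat_lit 9, nat_lit 16, nat_lit 18] (BT.pln (nat_lit 0) (nat_lit 6) (BT.img (nat_lit 1) (nat_lit 3) (BT.and (nat_lit 1) (nat_lit 0) (BT.cnt (nat_lit 0))))))) (BT.dead (nat_lit 245) (BT.img (nat_lit 1) (nat_lit 12) (BT.frm (nat_lit 3) (nat_lit 0x2d232b1b2411261801050d2a) (nat_lit 0x39231b2620151f011c29)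 [nat_lit 1, nat_lit 0, nat_lit 13, nat_lit 9, nat_lit 16, nat_lit 18] (BT.pln (nat_lit 0) (nat_lit 6) (BT.img (nat_lit 1) (nat_lit 3) (BT.and (nat_lit 1) (nat_lit 0) (BT.cnt (nat_lit 0))))))) (BT.dead (nat_lit 275) (BT.img (nat_lit 1) (nat_lit 12) (BT.frm (nat_lit 3) (nat_lit 0x2d232b1b2411261801050d2a) (nat_lit 0x31231b2620151f011c29) [nat_lit 1, nat_lit 0, nat_lit 13, nat_lit 9, nat_lit 16, nat_lit 18] (BT.pln (nat_lit 0) (nat_lit 6) (BT.img (nat_lit 1) (nat_lit 3) (BT.and (nat_lit 1) (nat_lit 0) (BT.cnt (nat_lit 0))))))) BT.nil)))))))))))))))) (BT.dead (nat_lit 256) (BT.img (nat_lit 1) (nat_lit 0) (BT.dif (nat_lit 7) (nat_lit 4) (BT.dif (nat_lit 0) (nat_lit 7) (BT.frm (nat_lit 2) (nat_lit 0x232b1b2411261801050d2a) (nat_lit 0x2623221b2620151f011c29) [nat_lit 2, nat_lit 3, nat_lit 0, nat_lit 6, nat_lit 8] (BT.pln (nat_lit 0) (nat_lit 5) (BT.img (nat_lit 1) (nat_lit 4) (BT.and (nat_lit 1) (nat_lit 0) (BT.cnt (nat_lit 0))))))))) (BT.dead (nat_lit 159) (BT.dif (nat_lit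 6) (nat_lit 3) (BT.dif (nat_lit 0) (nat_lit 6) (BT.frm (nat_lit 1) (nat_lit 0x232b1b2411261801050d2a) (nat_lit 0x232b1b2620151f011c29) [nat_lit 2, nat_lit 0, nat_lit 5, nat_lit 7] (BT.pln (nat_lit 0) (nat_lit 17) (BT.img (nat_lit 1) (nat_lit 4) (BT.and (nat_lit 1) (nat_lit 0) (BT.cnt (nat_lit 0)))))))) (BT.dead (nat_lit 47) (BT.dif (nat_lit 6) (nat_lit 3) (BT.dif (nat_lit 0) (nat_lit 6) (BT.frm (nat_lit 1) (nat_lit 0x232b1b2411261801050d2a) (nat_lit 0x23261b2620151f011c29) [nat_lit 2, nat_lit 0, nat_lit 5, nat_lit 7] (BT.pln (nat_lit 0) (nat_lit 17) (BT.img (nat_lit 1) (nat_lit 4) (BT.and (nat_lit 1) (nat_lit 0) (BT.cnt (nat_lit 0)))))))) (BT.dead (nat_lit 49) (BT.dif (nat_lit 6) (nat_lit 3) (BT.dif (nat_lit 0) (nat_lit 6) (BT.frm (nat_lit 1) (nat_lit 0x232b1b2411261801050d2a) (nat_lit 0x1f1b2620151f011c29) [nat_lit 2, nat_lit 0, nat_lit 5, nat_lit 7] (BT.pln (nat_lit 0) (nat_lit 17) (BT.img (nat_lit 1) (nat_lit 4) (BT.and (nat_lit 1) (nat_lit 0) (BT.cnt (nat_lit 0))))))))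 (BT.dead (nat_lit 233) (BT.dif (nat_lit 6) (nat_lit 3) (BT.dif (nat_lit 0) (nat_lit 6) (BT.frm (nat_lit 1) (nat_lit 0x232b1b2411261801050d2a) (nat_lit 0x1b2620151f011c29) [nat_lit 2, nat_lit 0, nat_lit 5, nat_lit 7] (BT.pln (nat_lit 0) (nat_lit 17) (BT.img (nat_lit 1) (nat_lit 4) (BT.and (nat_lit 1) (nat_lit 0) (BT.cnt (nat_lit 0)))))))) BT.nil))))))))) BT.nil)))))

theorem ot_nc34_33_cnt : Cnt 351 (grp 351 o_O) [o_g494] [o_g490] 0 0 0 0 0 :=
  BT.sound ot_nc34_33_cnt_P Known.nil (t := ot_nc34_33_cnt_t) (d := 0) (by decide +kernel)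

theorem ot_nc34_33 : ¬ CjIn (grp 351 o_O) (Net.toPerm 351 o_g494) (Net.toPerm 351 o_g490) :=
  not_cjIn ot_nc34_33_cnt

noncomputable def ot_nc38_37_cnt_L : List ℕ := [1, 2, o_T76_s1_O, 0, 0, 2, 5, o_T76_s8_O, 0, 0, 3, 10, o_T76_s9_O, 0, 0, 5, 11, o_T76_s11_O, 0, 0]

theorem ot_nc38_37_cnt_P : Prob 351 9 (grp 351 o_O) ot_nc38_37_cnt_EG [o_g526] [o_g519] ot_c37_K ot_nc38_37_cnt_L 0 0 :=
  Sym.prob o_hn o_hk ot_c37_sym ot_nc38_37_cnt_EG_ok (grp_cons_le o_b_o_T76 (grp_cons_le o_c_o_T76 (grp_cons_le o_d_o_T76 (grp_cons_le o_e_o_T76 (grp_cons_le o_f_o_T76 (grp_cons_le o_g_o_T76 (grp_cons_le o_h_o_T76 (grp_cons_le o_i_o_T76 (grp_cons_le o_g1_o_T76 (grp_cons_le o_g2_o_T76 (grp_cons_le o_g3_o_T76 (grp_cons_le o_g4_o_T76 (grp_cons_le o_g5_o_T76 (grp_cons_le o_g8_o_T76 (grp_cons_le o_g9_o_T76 (grp_cons_le o_g12_o_T76 (grp_cons_le o_g13_o_T76 (grp_cons_le o_g14_o_T76 (grp_cons_le o_g17_o_T76 (grp_cons_le o_g18_o_T76 (grp_cons_le o_g19_o_T76 (grp_cons_le o_g20_o_T76 (grp_cons_le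 o_g23_o_T76 (grp_cons_le o_g24_o_T76 (grp_cons_le o_g25_o_T76 (grp_cons_le o_g26_o_T76 (grp_cons_le o_g27_o_T76 (grp_cons_le o_g30_o_T76 (grp_cons_le o_g31_o_T76 (grp_cons_le o_g32_o_T76 (grp_cons_le o_g35_o_T76 (grp_nil_le _)))))))))))))))))))))))))))))))) (Frames.cons o_T76_s1_F (Frames.cons o_T76_s8_F (Frames.cons o_T76_s9_F (Frames.cons o_T76_s11_F Frames.nil)))) (okE_cons.2 ⟨o_g526_ok, okE_nil _⟩) _

noncomputable def ot_nc38_37_cnt_t : BT := (BT.br (nat_lit 2) (nat_lit 0) [nat_lit 1, nat_lit 3] (BT.dead (nat_lit 1) (BT.frm (nat_lit 0) (nat_lit 0) (nat_lit 5) [nat_lit 0] (BT.pln (nat_lit 0) (nat_lit 1) (BT.img (nat_lit 1) (nat_lit 2) (BT.img (nat_lit 1) (nat_lit 0) (BT.img (nat_lit 1) (nat_lit 0) (BT.img (nat_lit 1) (nat_lit 0) (BT.frm (nat_lit 1) (nat_lit 4634) (nat_lit 0x11171f05) [nat_lit 0, nat_lit 6] (BT.pln (nat_lit 0) (nat_lit 4) (BT.and (nat_lit 6) (nat_lit 0) (BT.dif (nat_lit 7) (nat_lit 3) (BT.img (nat_lit 1) (nat_lit 4) (BT.dif (nat_lit 1) (nat_lit 0)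 (BT.img (nat_lit 1) (nat_lit 0) (BT.and (nat_lit 4) (nat_lit 0) (BT.and (nat_lit 12) (nat_lit 1) (BT.img (nat_lit 1) (nat_lit 0) (BT.dif (nat_lit 2) (nat_lit 0) (BT.and (nat_lit 15) (nat_lit 1) (BT.img (nat_lit 1) (nat_lit 0) (BT.and (nat_lit 1) (nat_lit 0) (BT.img (nat_lit 1) (nat_lit 0) (BT.and (nat_lit 3) (nat_lit 0) (BT.frm (nat_lit 2) (nat_lit 0x1b1d121a) (nat_lit 0x1b2f11171f05) [nat_lit 0, nat_lit 16, nat_lit 22] (BT.pln (nat_lit 0) (nat_lit 7) (BT.dif (nat_lit 7) (nat_lit 0) (BT.dif (nat_lit 23) (nat_lit 12) (BT.dif (nat_lit 29) (nat_lit 24) (BT.dif (nat_lit 0) (nat_lit 14) (BT.dif (nat_lit 0) (nat_lit 28) (BT.dif (nat_lit 0) (nat_lit 26) (BT.and (nat_lit 3) (nat_lit 17) (BT.dif (nat_lit 0) (nat_lit 15) (BT.and (nat_lit 1) (nat_lit 13) (BT.and (nat_lit 0) (nat_lit 12) (BT.img (nat_lit 1) (nat_lit 12) (BT.dif (nat_lit 1) (nat_lit 0) (BT.img (nat_lit 1) (nat_lit 0) (BT.and (nat_lit 7) (nat_lit 0) (BT.img (nat_lit 1) (nat_lit 0) (BT.and (nat_lit 13) (nat_lit 0)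 (BT.img (nat_lit 1) (nat_lit 0) (BT.and (nat_lit 9) (nat_lit 0) (BT.img (nat_lit 1) (nat_lit 0) (BT.and (nat_lit 13) (nat_lit 0) (BT.img (nat_lit 1) (nat_lit 0) (BT.and (nat_lit 19) (nat_lit 0) (BT.img (nat_lit 1) (nat_lit 0) (BT.and (nat_lit 22) (nat_lit 0) (BT.and (nat_lit 15) (nat_lit 13) (BT.img (nat_lit 1) (nat_lit 0) (BT.and (nat_lit 24) (nat_lit 0) (BT.frm (nat_lit 3) (nat_lit 0x25232b1b1d121a) (nat_lit 0x1b2f11171f05) [nat_lit 3, nat_lit 0, nat_lit 29, nat_lit 45, nat_lit 51] (BT.pln (nat_lit 0) (nat_lit 5) (BT.and (nat_lit 0) (nat_lit 50) (BT.cnt (nat_lit 0)))))))))))))))))))))))))))))))))))))))))))))))))))))))) (BT.dead (nat_lit 21) (BT.frm (nat_lit 0) (nat_lit 0) (nat_lit 0x105111d) [nat_lit 0] (BT.pln (nat_lit 0) (nat_lit 1) (BT.img (nat_lit 1) (nat_lit 2) (BT.and (nat_lit 1) (nat_lit 0) (BT.cnt (nat_lit 0)))))) (BT.dead (nat_lit 28) (BT.frm (nat_lit 0) (nat_lit 0) (nat_lit 74005) [nat_lit 0] (BT.pln (nat_lit 0) (nat_lit 1) (BT.img (nat_lit 1) (nat_lit 2)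 (BT.img (nat_lit 1) (nat_lit 0) (BT.img (nat_lit 1) (nat_lit 0) (BT.and (nat_lit 3) (nat_lit 0) (BT.cnt (nat_lit 0)))))))) (BT.dead (nat_lit 10) (BT.frm (nat_lit 0) (nat_lit 0) (nat_lit 328461) [nat_lit 0] (BT.pln (nat_lit 0) (nat_lit 1) (BT.img (nat_lit 1) (nat_lit 2) (BT.img (nat_lit 1) (nat_lit 0) (BT.img (nat_lit 1) (nat_lit 0) (BT.and (nat_lit 3) (nat_lit 0) (BT.cnt (nat_lit 0)))))))) (BT.dead (nat_lit 4) (BT.frm (nat_lit 0) (nat_lit 0) (nat_lit 70663) [nat_lit 0] (BT.pln (nat_lit 0) (nat_lit 1) (BT.img (nat_lit 1) (nat_lit 2) (BT.img (nat_lit 1) (nat_lit 0) (BT.img (nat_lit 1) (nat_lit 0) (BT.and (nat_lit 3) (nat_lit 0) (BT.cnt (nat_lit 0)))))))) (BT.dead (nat_lit 3) (BT.frm (nat_lit 0) (nat_lit 0) (nat_lit 77569) [nat_lit 0] (BT.pln (nat_lit 0) (nat_lit 1) (BT.img (nat_lit 1) (nat_lit 2) (BT.img (nat_lit 1) (nat_lit 0) (BT.img (nat_lit 1) (nat_lit 0) (BT.and (nat_lit 3) (nat_lit 0) (BT.cnt (nat_lit 0)))))))) (BT.dead (nat_lit 22) (BT.frm (nat_lit 0) (nat_lit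 0) (nat_lit 77057) [nat_lit 0] (BT.pln (nat_lit 0) (nat_lit 1) (BT.img (nat_lit 1) (nat_lit 2) (BT.img (nat_lit 1) (nat_lit 0) (BT.and (nat_lit 2) (nat_lit 0) (BT.cnt (nat_lit 0))))))) (BT.dead (nat_lit 5) (BT.frm (nat_lit 0) (nat_lit 0) (nat_lit 75785) [nat_lit 0] (BT.pln (nat_lit 0) (nat_lit 1) (BT.img (nat_lit 1) (nat_lit 2) (BT.img (nat_lit 1) (nat_lit 0) (BT.and (nat_lit 2) (nat_lit 0) (BT.cnt (nat_lit 0))))))) (BT.dead (nat_lit 91) (BT.frm (nat_lit 0) (nat_lit 0) (nat_lit 66351) [nat_lit 0] (BT.pln (nat_lit 0) (nat_lit 1) (BT.img (nat_lit 1) (nat_lit 2) (BT.and (nat_lit 1) (nat_lit 0) (BT.cnt (nat_lit 0)))))) (BT.dead (nat_lit 50) (BT.frm (nat_lit 0) (nat_lit 0) (nat_lit 72987) [nat_lit 0] (BT.pln (nat_lit 0) (nat_lit 1) (BT.img (nat_lit 1) (nat_lit 2) (BT.and (nat_lit 1) (nat_lit 0) (BT.cnt (nat_lit 0)))))) (BT.dead (nat_lit 33) (BT.frm (nat_lit 0) (nat_lit 0) (nat_lit 66328) [nat_lit 0] (BT.pln (nat_lit 0) (nat_lit 1) (BT.img (nat_lit 1) (nat_lit 2) (BT.and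 (nat_lit 1) (nat_lit 0) (BT.cnt (nat_lit 0)))))) (BT.dead (nat_lit 16) (BT.frm (nat_lit 0) (nat_lit 0) (nat_lit 341253) [nat_lit 0] (BT.pln (nat_lit 0) (nat_lit 1) (BT.img (nat_lit 1) (nat_lit 2) (BT.and (nat_lit 1) (nat_lit 0) (BT.cnt (nat_lit 0)))))) (BT.dead (nat_lit 9) (BT.frm (nat_lit 0) (nat_lit 0) (nat_lit 1293) [nat_lit 0] (BT.pln (nat_lit 0) (nat_lit 1) (BT.img (nat_lit 1) (nat_lit 2) (BT.and (nat_lit 1) (nat_lit 0) (BT.cnt (nat_lit 0)))))) (BT.dead (nat_lit 8) (BT.frm (nat_lit 0) (nat_lit 0) (nat_lit 1333) [nat_lit 0] (BT.pln (nat_lit 0) (nat_lit 1) (BT.img (nat_lit 1) (nat_lit 2) (BT.and (nat_lit 1) (nat_lit 0) (BT.cnt (nat_lit 0)))))) (BT.dead (nat_lit 0) (BT.frm (nat_lit 0) (nat_lit 0) (nat_lit 0) [nat_lit 0] (BT.pln (nat_lit 0) (nat_lit 1) (BT.img (nat_lit 1) (nat_lit 2) (BT.img (nat_lit 1) (nat_lit 0) (BT.and (nat_lit 2) (nat_lit 0) (BT.cnt (nat_lit 0))))))) BT.nil))))))))))))))))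

theorem ot_nc38_37_cnt : Cnt 351 (grp 351 o_O) [o_g526] [o_g519] 0 0 0 0 0 :=
  BT.sound ot_nc38_37_cnt_P Known.nil (t := ot_nc38_37_cnt_t) (d := 0) (by decide +kernel)

theorem ot_nc38_37 : ¬ CjIn (grp 351 o_O) (Net.toPerm 351 o_g526) (Net.toPerm 351 o_g519) :=
  not_cjIn ot_nc38_37_cnt

noncomputable def ot_nc47_46_cnt_L : List ℕ := [1, 2, o_T76_s1_O, 0, 0, 2, 5, o_T76_s8_O, 0, 0, 4, 20, o_T76_s10_O, 0, 0, 5, 11, o_T76_s11_O, 0, 0]

theorem ot_nc47_46_cnt_P : Prob 351 9 (grp 351 o_O) ot_nc47_46_cnt_EG [o_g582] [o_g578] ot_c46_K ot_nc47_46_cnt_L 0 0 :=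
  Sym.prob o_hn o_hk ot_c46_sym ot_nc47_46_cnt_EG_ok (grp_cons_le o_b_o_T76 (grp_cons_le o_c_o_T76 (grp_cons_le o_d_o_T76 (grp_cons_le o_e_o_T76 (grp_cons_le o_f_o_T76 (grp_cons_le o_g_o_T76 (grp_cons_le o_h_o_T76 (grp_cons_le o_i_o_T76 (grp_cons_le o_g1_o_T76 (grp_cons_le o_g2_o_T76 (grp_cons_le o_g3_o_T76 (grp_cons_le o_g4_o_T76 (grp_cons_le o_g5_o_T76 (grp_cons_le o_g8_o_T76 (grp_cons_le o_g9_o_T76 (grp_cons_le o_g12_o_T76 (grp_cons_le o_g13_o_T76 (grp_cons_le o_g14_o_T76 (grp_cons_le o_g17_o_T76 (grp_cons_le o_g18_o_T76 (grp_cons_le o_g19_o_T76 (grp_cons_le o_g20_o_T76 (grp_cons_le o_g23_o_T76 (grp_cons_le o_g24_o_T76 (grp_cons_le o_g25_o_T76 (grp_cons_le o_g26_o_T76 (grp_cons_le o_g27_o_T76 (grp_cons_le o_g30_o_T76 (grp_cons_le o_g31_o_T76 (grp_cons_le o_g32_o_T76 (grp_cons_le o_g35_o_T76 (grp_nil_le _)))))))))))))))))))))))))))))))) (Frames.cons o_T76_s1_F (Frames.cons o_T76_s8_F (Frames.cons o_T76_s10_F (Frames.cons o_T76_s11_F Frames.nil)))) (okE_cons.2 ⟨o_g582_ok,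 okE_nil _⟩) _

noncomputable def ot_nc47_46_cnt_t : BT := (BT.fix (nat_lit 65793) (BT.br (nat_lit 0) (nat_lit 128) [nat_lit 1] (BT.dead (nat_lit 43) (BT.fix (nat_lit 0x10101010101) (BT.dif (nat_lit 0) (nat_lit 2) (BT.br (nat_lit 0) (nat_lit 22) [nat_lit 3] (BT.dead (nat_lit 23) (BT.img (nat_lit 1) (nat_lit 0) (BT.img (nat_lit 1) (nat_lit 0) (BT.img (nat_lit 1) (nat_lit 0) (BT.dif (nat_lit 7) (nat_lit 6) (BT.img (nat_lit 1) (nat_lit 7) (BT.dif (nat_lit 1) (nat_lit 0) (BT.frm (nat_lit 3) (nat_lit 0x2623221b2615010507092c) (nat_lit 0x261f221d22181b011f22) [nat_lit 3, nat_lit 6, nat_lit 0, nat_lit 1, nat_lit 9] (BT.pln (nat_lit 0) (nat_lit 5) (BT.frm (nat_lit 1) (nat_lit 0x15010507092c) (nat_lit 0x181b011f22) [nat_lit 3, nat_lit 11] (BT.pln (nat_lit 0) (nat_lit 2) (BT.frm (nat_lit 2) (nat_lit 0x23221b2615010507092c) (nat_lit 0x1f221d22181b011f22) [nat_lit 10, nat_lit 4, nat_lit 5, nat_lit 13] (BT.pln (nat_lit 0) (nat_lit 8) (BT.and (nat_lit 2) (nat_lit 0) (BT.frm (nat_lit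 0) (nat_lit 0x10507092c) (nat_lit 73506) [nat_lit 16] (BT.pln (nat_lit 0) (nat_lit 1) (BT.pln (nat_lit 4) (nat_lit 7) (BT.and (nat_lit 1) (nat_lit 0) (BT.pln (nat_lit 6) (nat_lit 6) (BT.img (nat_lit 1) (nat_lit 5) (BT.and (nat_lit 1) (nat_lit 0) (BT.img (nat_lit 1) (nat_lit 0) (BT.and (nat_lit 4) (nat_lit 0) (BT.img (nat_lit 1) (nat_lit 0) (BT.and (nat_lit 10) (nat_lit 0) (BT.img (nat_lit 1) (nat_lit 0) (BT.and (nat_lit 17) (nat_lit 0) (BT.cnt (nat_lit 0)))))))))))))))))))))))))))) (BT.dead (nat_lit 69) (BT.img (nat_lit 1) (nat_lit 0) (BT.img (nat_lit 1) (nat_lit 0) (BT.img (nat_lit 1) (nat_lit 0) (BT.dif (nat_lit 7) (nat_lit 6) (BT.img (nat_lit 1) (nat_lit 7) (BT.dif (nat_lit 1) (nat_lit 0) (BT.frm (nat_lit 3) (nat_lit 0x2623221b2615010507092c) (nat_lit 0x1f211d22181b011f22) [nat_lit 3, nat_lit 6, nat_lit 0, nat_lit 1, nat_lit 9] (BT.pln (nat_lit 0) (nat_lit 5) (BT.frm (nat_lit 1) (nat_lit 0x15010507092c) (nat_lit 0x181b011f22) [nat_lit 3, nat_lit 11] (BT.pln (nat_lit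 0) (nat_lit 2) (BT.frm (nat_lit 2) (nat_lit 0x23221b2615010507092c) (nat_lit 0x1f211d22181b011f22) [nat_lit 10, nat_lit 4, nat_lit 5, nat_lit 13] (BT.pln (nat_lit 0) (nat_lit 8) (BT.and (nat_lit 2) (nat_lit 0) (BT.frm (nat_lit 0) (nat_lit 0x10507092c) (nat_lit 73506) [nat_lit 16] (BT.pln (nat_lit 0) (nat_lit 1) (BT.pln (nat_lit 4) (nat_lit 7) (BT.and (nat_lit 1) (nat_lit 0) (BT.pln (nat_lit 6) (nat_lit 6) (BT.img (nat_lit 1) (nat_lit 5) (BT.and (nat_lit 1) (nat_lit 0) (BT.img (nat_lit 1) (nat_lit 0) (BT.and (nat_lit 4) (nat_lit 0) (BT.img (nat_lit 1) (nat_lit 0) (BT.and (nat_lit 10) (nat_lit 0) (BT.img (nat_lit 1) (nat_lit 0) (BT.and (nat_lit 17) (nat_lit 0) (BT.cnt (nat_lit 0)))))))))))))))))))))))))))) BT.nil))))) BT.nil)))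

theorem ot_nc47_46_cnt : Cnt 351 (grp 351 o_O) [o_g582] [o_g578] 0 0 0 0 0 :=
  BT.sound ot_nc47_46_cnt_P Known.nil (t := ot_nc47_46_cnt_t) (d := 0) (by decide +kernel)

theorem ot_nc47_46 : ¬ CjIn (grp 351 o_O) (Net.toPerm 351 o_g582) (Net.toPerm 351 o_g578) :=
  not_cjIn ot_nc47_46_cnt

noncomputable def ot_nc50_49_cnt_L : List ℕ := [1, 2, o_T76_s1_O, 0, 0]

theorem ot_nc50_49_cnt_P : Prob 351 9 (grp 351 o_O) ot_nc50_49_cnt_EG [o_g592] [o_g590] ot_c49_K ot_nc50_49_cnt_L 0 0 :=
  Sym.prob o_hn o_hk ot_c49_sym ot_nc50_49_cnt_EG_ok (grp_cons_le o_b_o_T76 (grp_cons_le o_c_o_T76 (grp_cons_le o_d_o_T76 (grp_cons_le o_e_o_T76 (grp_cons_le o_f_o_T76 (grp_cons_le o_g_o_T76 (grp_cons_le o_h_o_T76 (grp_cons_le o_i_o_T76 (grp_cons_le o_g1_o_T76 (grp_cons_le o_g2_o_T76 (grp_cons_le o_g3_o_T76 (grp_cons_le o_g4_o_T76 (grp_cons_le o_g5_o_T76 (grp_cons_le o_g8_o_T76 (grp_cons_le o_g9_o_T76 (grp_cons_le o_g12_o_T76 (grp_cons_le o_g13_o_T76 (grp_cons_le o_g14_o_T76 (grp_cons_le o_g17_o_T76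 (grp_cons_le o_g18_o_T76 (grp_cons_le o_g19_o_T76 (grp_cons_le o_g20_o_T76 (grp_cons_le o_g23_o_T76 (grp_cons_le o_g24_o_T76 (grp_cons_le o_g25_o_T76 (grp_cons_le o_g26_o_T76 (grp_cons_le o_g27_o_T76 (grp_cons_le o_g30_o_T76 (grp_cons_le o_g31_o_T76 (grp_cons_le o_g32_o_T76 (grp_cons_le o_g35_o_T76 (grp_nil_le _)))))))))))))))))))))))))))))))) (Frames.cons o_T76_s1_F Frames.nil) (okE_cons.2 ⟨o_g592_ok, okE_nil _⟩) _

noncomputable def ot_nc50_49_cnt_t : BT := (BT.br (nat_lit 2) (nat_lit 0) [nat_lit 1] (BT.dead (nat_lit 29) (BT.frm (nat_lit 0) (nat_lit 0) (nat_lit 0x105211a) [nat_lit 0] (BT.pln (nat_lit 0) (nat_lit 1) (BT.img (nat_lit 1) (nat_lit 2) (BT.img (nat_lit 1) (nat_lit 0) (BT.img (nat_lit 1) (nat_lit 0) (BT.img (nat_lit 1) (nat_lit 0) (BT.and (nat_lit 4) (nat_lit 0) (BT.cnt (nat_lit 0))))))))) (BT.dead (nat_lit 23) (BT.frm (nat_lit 0) (nat_lit 0) (nat_lit 0x1032301) [nat_lit 0] (BT.pln (nat_lit 0) (nat_lit 1) (BT.img (nat_lit 1) (nat_lit 2) (BT.img (nat_lit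 1) (nat_lit 0) (BT.img (nat_lit 1) (nat_lit 0) (BT.and (nat_lit 3) (nat_lit 0) (BT.cnt (nat_lit 0)))))))) (BT.dead (nat_lit 15) (BT.frm (nat_lit 0) (nat_lit 0) (nat_lit 0x1050d13) [nat_lit 0] (BT.pln (nat_lit 0) (nat_lit 1) (BT.img (nat_lit 1) (nat_lit 2) (BT.img (nat_lit 1) (nat_lit 0) (BT.img (nat_lit 1) (nat_lit 0) (BT.and (nat_lit 3) (nat_lit 0) (BT.cnt (nat_lit 0)))))))) (BT.dead (nat_lit 59) (BT.frm (nat_lit 0) (nat_lit 0) (nat_lit 0x1052215) [nat_lit 0] (BT.pln (nat_lit 0) (nat_lit 1) (BT.img (nat_lit 1) (nat_lit 2) (BT.img (nat_lit 1) (nat_lit 0) (BT.and (nat_lit 2) (nat_lit 0) (BT.cnt (nat_lit 0))))))) (BT.dead (nat_lit 47) (BT.frm (nat_lit 0) (nat_lit 0) (nat_lit 0x1051d17) [nat_lit 0] (BT.pln (nat_lit 0) (nat_lit 1) (BT.img (nat_lit 1) (nat_lit 2) (BT.img (nat_lit 1) (nat_lit 0) (BT.and (nat_lit 2) (nat_lit 0) (BT.cnt (nat_lit 0))))))) (BT.dead (nat_lit 31) (BT.frm (nat_lit 0) (nat_lit 0) (nat_lit 0x105390f) [nat_lit 0] (BT.pln (nat_lit 0) (nat_lit 1) (BT.img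 (nat_lit 1) (nat_lit 2) (BT.img (nat_lit 1) (nat_lit 0) (BT.and (nat_lit 2) (nat_lit 0) (BT.cnt (nat_lit 0))))))) (BT.dead (nat_lit 84) (BT.frm (nat_lit 0) (nat_lit 0) (nat_lit 0x1181d29) [nat_lit 0] (BT.pln (nat_lit 0) (nat_lit 1) (BT.img (nat_lit 1) (nat_lit 2) (BT.and (nat_lit 1) (nat_lit 0) (BT.cnt (nat_lit 0)))))) (BT.dead (nat_lit 18) (BT.frm (nat_lit 0) (nat_lit 0) (nat_lit 0x1052115) [nat_lit 0] (BT.pln (nat_lit 0) (nat_lit 1) (BT.img (nat_lit 1) (nat_lit 2) (BT.and (nat_lit 1) (nat_lit 0) (BT.cnt (nat_lit 0)))))) (BT.dead (nat_lit 6) (BT.frm (nat_lit 0) (nat_lit 0) (nat_lit 0x1031801) [nat_lit 0] (BT.pln (nat_lit 0) (nat_lit 1) (BT.img (nat_lit 1) (nat_lit 2) (BT.and (nat_lit 1) (nat_lit 0) (BT.cnt (nat_lit 0)))))) (BT.dead (nat_lit 42) (BT.frm (nat_lit 0) (nat_lit 0) (nat_lit 71460) [nat_lit 0] (BT.pln (nat_lit 0) (nat_lit 1) (BT.img (nat_lit 1) (nat_lit 2) (BT.img (nat_lit 1) (nat_lit 0) (BT.img (nat_lit 1) (nat_lit 0) (BT.img (nat_lit 1) (nat_lit 0) (BT.and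 (nat_lit 4) (nat_lit 0) (BT.cnt (nat_lit 0))))))))) (BT.dead (nat_lit 20) (BT.frm (nat_lit 0) (nat_lit 0) (nat_lit 74010) [nat_lit 0] (BT.pln (nat_lit 0) (nat_lit 1) (BT.img (nat_lit 1) (nat_lit 2) (BT.img (nat_lit 1) (nat_lit 0) (BT.img (nat_lit 1) (nat_lit 0) (BT.img (nat_lit 1) (nat_lit 0) (BT.and (nat_lit 4) (nat_lit 0) (BT.cnt (nat_lit 0))))))))) (BT.dead (nat_lit 54) (BT.frm (nat_lit 0) (nat_lit 0) (nat_lit 66871) [nat_lit 0] (BT.pln (nat_lit 0) (nat_lit 1) (BT.img (nat_lit 1) (nat_lit 2) (BT.img (nat_lit 1) (nat_lit 0) (BT.and (nat_lit 2) (nat_lit 0) (BT.cnt (nat_lit 0))))))) (BT.dead (nat_lit 4) (BT.frm (nat_lit 0) (nat_lit 0) (nat_lit 70663) [nat_lit 0] (BT.pln (nat_lit 0) (nat_lit 1) (BT.img (nat_lit 1) (nat_lit 2) (BT.img (nat_lit 1) (nat_lit 0) (BT.and (nat_lit 2) (nat_lit 0) (BT.cnt (nat_lit 0))))))) (BT.dead (nat_lit 3) (BT.frm (nat_lit 0) (nat_lit 0) (nat_lit 77569) [nat_lit 0] (BT.pln (nat_lit 0) (nat_lit 1) (BT.img (nat_lit 1) (nat_lit 2) (BT.img (nat_lit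 1) (nat_lit 0) (BT.and (nat_lit 2) (nat_lit 0) (BT.cnt (nat_lit 0))))))) (BT.dead (nat_lit 62) (BT.frm (nat_lit 0) (nat_lit 0) (nat_lit 71715) [nat_lit 0] (BT.pln (nat_lit 0) (nat_lit 1) (BT.img (nat_lit 1) (nat_lit 2) (BT.and (nat_lit 1) (nat_lit 0) (BT.cnt (nat_lit 0)))))) (BT.dead (nat_lit 41) (BT.frm (nat_lit 0) (nat_lit 0) (nat_lit 66339) [nat_lit 0] (BT.pln (nat_lit 0) (nat_lit 1) (BT.img (nat_lit 1) (nat_lit 2) (BT.and (nat_lit 1) (nat_lit 0) (BT.cnt (nat_lit 0)))))) (BT.dead (nat_lit 17) (BT.frm (nat_lit 0) (nat_lit 0) (nat_lit 70674) [nat_lit 0] (BT.pln (nat_lit 0) (nat_lit 1) (BT.img (nat_lit 1) (nat_lit 2) (BT.and (nat_lit 1) (nat_lit 0) (BT.cnt (nat_lit 0)))))) (BT.dead (nat_lit 14) (BT.frm (nat_lit 0) (nat_lit 0) (nat_lit 66835) [nat_lit 0] (BT.pln (nat_lit 0) (nat_lit 1) (BT.img (nat_lit 1) (nat_lit 2) (BT.and (nat_lit 1) (nat_lit 0) (BT.cnt (nat_lit 0)))))) (BT.dead (nat_lit 10) (BT.frm (nat_lit 0) (nat_lit 0) (nat_lit 328461) [nat_lit 0] (BT.pln (nat_lit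 0) (nat_lit 1) (BT.img (nat_lit 1) (nat_lit 2) (BT.and (nat_lit 1) (nat_lit 0) (BT.cnt (nat_lit 0)))))) (BT.dead (nat_lit 53) (BT.frm (nat_lit 0) (nat_lit 0) (nat_lit 291) [nat_lit 0] (BT.pln (nat_lit 0) (nat_lit 1) (BT.img (nat_lit 1) (nat_lit 2) (BT.img (nat_lit 1) (nat_lit 0) (BT.and (nat_lit 2) (nat_lit 0) (BT.cnt (nat_lit 0))))))) (BT.dead (nat_lit 12) (BT.frm (nat_lit 0) (nat_lit 0) (nat_lit 276) [nat_lit 0] (BT.pln (nat_lit 0) (nat_lit 1) (BT.img (nat_lit 1) (nat_lit 2) (BT.img (nat_lit 1) (nat_lit 0) (BT.and (nat_lit 2) (nat_lit 0) (BT.cnt (nat_lit 0))))))) (BT.dead (nat_lit 8) (BT.frm (nat_lit 0) (nat_lit 0) (nat_lit 1333) [nat_lit 0] (BT.pln (nat_lit 0) (nat_lit 1) (BT.img (nat_lit 1) (nat_lit 2) (BT.img (nat_lit 1) (nat_lit 0) (BT.and (nat_lit 2) (nat_lit 0) (BT.cnt (nat_lit 0))))))) (BT.dead (nat_lit 2) (BT.frm (nat_lit 0) (nat_lit 0) (nat_lit 1287) [nat_lit 0] (BT.pln (nat_lit 0) (nat_lit 1) (BT.img (nat_lit 1) (nat_lit 2) (BT.img (nat_lit 1) (nat_lit 0)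 (BT.and (nat_lit 2) (nat_lit 0) (BT.cnt (nat_lit 0))))))) (BT.dead (nat_lit 11) (BT.frm (nat_lit 0) (nat_lit 0) (nat_lit 1283) [nat_lit 0] (BT.pln (nat_lit 0) (nat_lit 1) (BT.img (nat_lit 1) (nat_lit 2) (BT.and (nat_lit 1) (nat_lit 0) (BT.cnt (nat_lit 0)))))) (BT.dead (nat_lit 30) (BT.frm (nat_lit 0) (nat_lit 0) (nat_lit 1) [nat_lit 0] (BT.pln (nat_lit 0) (nat_lit 1) (BT.img (nat_lit 1) (nat_lit 2) (BT.img (nat_lit 1) (nat_lit 0) (BT.img (nat_lit 1) (nat_lit 0) (BT.and (nat_lit 3) (nat_lit 0) (BT.cnt (nat_lit 0)))))))) (BT.dead (nat_lit 1) (BT.frm (nat_lit 0) (nat_lit 0) (nat_lit 5) [nat_lit 0] (BT.pln (nat_lit 0) (nat_lit 1) (BT.img (nat_lit 1) (nat_lit 2) (BT.img (nat_lit 1) (nat_lit 0) (BT.and (nat_lit 2) (nat_lit 0) (BT.cnt (nat_lit 0))))))) (BT.dead (nat_lit 0) (BT.frm (nat_lit 0) (nat_lit 0) (nat_lit 0) [nat_lit 0] (BT.pln (nat_lit 0) (nat_lit 1) (BT.img (nat_lit 1) (nat_lit 2) (BT.img (nat_lit 1) (nat_lit 0) (BT.and (nat_lit 2) (nat_lit 0) (BT.cnt (nat_lit 0)))))))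 BT.nil))))))))))))))))))))))))))))

theorem ot_nc50_49_cnt : Cnt 351 (grp 351 o_O) [o_g592] [o_g590] 0 0 0 0 0 :=
  BT.sound ot_nc50_49_cnt_P Known.nil (t := ot_nc50_49_cnt_t) (d := 0) (by decide +kernel)

theorem ot_nc50_49 : ¬ CjIn (grp 351 o_O) (Net.toPerm 351 o_g592) (Net.toPerm 351 o_g590) :=
  not_cjIn ot_nc50_49_cnt

noncomputable def ot_nc54_53_cnt_L : List ℕ := [3, 8, o_T76_s3_O, 0, 0]

theorem ot_nc54_53_cnt_P : Prob 351 9 (grp 351 o_O) ot_nc54_53_cnt_EG [o_g603] [o_g599] ot_c53_K ot_nc54_53_cnt_L 0 0 :=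
  Sym.prob o_hn o_hk ot_c53_sym ot_nc54_53_cnt_EG_ok (grp_cons_le o_g88_o_T76 (grp_cons_le o_g89_o_T76 (grp_cons_le o_g90_o_T76 (grp_cons_le o_g91_o_T76 (grp_cons_le o_g92_o_T76 (grp_cons_le o_g93_o_T76 (grp_cons_le o_g94_o_T76 (grp_cons_le o_g1_o_T76 (grp_cons_le o_g_o_T76 (grp_cons_le o_g2_o_T76 (grp_cons_le o_g3_o_T76 (grp_cons_le o_g4_o_T76 (grp_cons_le o_g5_o_T76 (grp_cons_le o_g8_o_T76 (grp_cons_le o_g9_o_T76 (grp_cons_le o_g12_o_T76 (grp_cons_le o_g13_o_T76 (grp_cons_le o_g14_o_T76 (grp_cons_le o_g17_o_T76 (grp_cons_le o_g18_o_T76 (grp_cons_le o_g19_o_T76 (grp_cons_le o_g20_o_T76 (grp_cons_le o_g23_o_T76 (grp_cons_le o_g24_o_T76 (grp_cons_le o_g25_o_T76 (grp_cons_le o_g26_o_T76 (grp_cons_le o_c_o_T76 (grp_cons_le o_g27_o_T76 (grp_cons_le o_g30_o_T76 (grp_cons_le o_g31_o_T76 (grp_cons_le o_g32_o_T76 (grp_cons_le o_g35_o_T76 (grp_cons_le o_b_o_T76 (grp_cons_le o_d_o_T76 (grp_cons_le o_e_o_T76 (grp_cons_le o_f_o_T76 (grp_cons_le o_h_o_T76 (grp_cons_le o_i_o_T76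 (grp_nil_le _))))))))))))))))))))))))))))))))))))))) (Frames.cons o_T76_s3_F Frames.nil) (okE_cons.2 ⟨o_g603_ok, okE_nil _⟩) _

noncomputable def ot_nc54_53_cnt_t : BT := (BT.fix (nat_lit 0x10101010101) (BT.fix (nat_lit 65793) (BT.dif (nat_lit 1) (nat_lit 0) (BT.fix (nat_lit 257) (BT.dif (nat_lit 1) (nat_lit 0) (BT.br (nat_lit 0) (nat_lit 20) [nat_lit 1] (BT.dead (nat_lit 20) (BT.img (nat_lit 1) (nat_lit 0) (BT.img (nat_lit 1) (nat_lit 0) (BT.frm (nat_lit 0) (nat_lit 0x10103071a2a41211a) (nat_lit 0x103072b1741211a) [nat_lit 0, nat_lit 1, nat_lit 2] (BT.pln (nat_lit 0) (nat_lit 3) (BT.and (nat_lit 0) (nat_lit 6) (BT.cnt (nat_lit 0))))))) BT.nil)))))))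

theorem ot_nc54_53_cnt : Cnt 351 (grp 351 o_O) [o_g603] [o_g599] 0 0 0 0 0 :=
  BT.sound ot_nc54_53_cnt_P Known.nil (t := ot_nc54_53_cnt_t) (d := 0) (by decide +kernel)

theorem ot_nc54_53 : ¬ CjIn (grp 351 o_O) (Net.toPerm 351 o_g603) (Net.toPerm 351 o_g599) :=
  not_cjIn ot_nc54_53_cnt

theorem ot_exc : Exc 351 (grp 351 o_O) ot_xs [54053, 50049, 47046, 38037, 34033, 30029, 28027, 8007] :=
  (Exc.cons 54 53 (by decide) ot_nc54_53 (Exc.cons 50 49 (by decide) ot_nc50_49 (Exc.cons 47 46 (by decide) ot_nc47_46 (Exc.cons 38 37 (by decide) ot_nc38_37 (Exc.cons 34 33 (by decide) ot_nc34_33 (Exc.cons 30 29 (by decide) ot_nc30_29 (Exc.cons 28 27 (by decide) ot_nc28_27 (Exc.cons 8 7 (by decide) ot_nc8_7 Exc.nil))))))))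

theorem ot : Table 351 (grp 351 o_O) ot_xs ot_cs ot_os :=
  Reps.table (D := 2) o_hn o_hk ot_reps ot_exc o_card (by decide +kernel)

theorem real0 : CjIn (grp 351 o_O) (Net.toPerm 351 o_g142) (Net.toPerm 351 o_g623) :=
  o_eq ▸ cjIn_of_cjB o_hn o_hk o_lb_E_ok o_g142_ok o_g623_ok (w := (nat_lit 0x432f39261f2811152401050d2a)) (by decide +kernel)

theorem real1 : CjIn (grp 351 o_O) (Net.toPerm 351 o_g160) (Net.toPerm 351 o_g624) :=
  o_eq ▸ cjIn_of_cjB o_hn o_hk o_lb_E_ok o_g160_ok o_g624_ok (w := (nat_lit 0x452f2825221d1f3b17260103212c)) (by decide +kernel)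

theorem real2 : CjIn (grp 351 o_O) (Net.toPerm 351 o_g181) (Net.toPerm 351 o_g625) :=
  o_eq ▸ cjIn_of_cjB o_hn o_hk o_lb_E_ok o_g181_ok o_g625_ok (w := (nat_lit 0x4325281d2e1a2001053d12)) (by decide +kernel)

theorem real3 : CjIn (grp 351 o_O) (Net.toPerm 351 o_g202) (Net.toPerm 351 o_g626) :=
  o_eq ▸ cjIn_of_cjB o_hn o_hk o_lb_E_ok o_g202_ok o_g626_ok (w := (nat_lit 0x313928253f1d1115011a22)) (by decide +kernel)

theorem real4 : CjIn (grp 351 o_O) (Net.toPerm 351 o_g215) (Net.toPerm 351 o_g627) :=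
  o_eq ▸ cjIn_of_cjB o_hn o_hk o_lb_E_ok o_g215_ok o_g627_ok (w := (nat_lit 0x453b3127211d241e1a01222b)) (by decide +kernel)

theorem real5 : CjIn (grp 351 o_O) (Net.toPerm 351 o_g226) (Net.toPerm 351 o_g628) :=
  o_eq ▸ cjIn_of_cjB o_hn o_hk o_lb_E_ok o_g226_ok o_g628_ok (w := (nat_lit 0x453b271e2811152e)) (by decide +kernel)

theorem real6 : CjIn (grp 351 o_O) (Net.toPerm 351 o_g235) (Net.toPerm 351 o_g629) :=
  o_eq ▸ cjIn_of_cjB o_hn o_hk o_lb_E_ok o_g235_ok o_g629_ok (w := (nat_lit 0x433b37392821241d25192401050726)) (by decide +kernel)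

end Cfsg.Agent.H47.O7
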