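import Mathlib
import Cfsg.Agent.H43.Cent
import Cfsg.Agent.H47.J2H
import Cfsg.Agent.H43.Bridge

set_option autoImplicit false
set_option maxRecDepth 200000
set_option linter.style.longLine false

namespace Cfsg.Agent.H47.J2P

open Cfsg.Agent.H43

theorem v_hn : NOk 63 := by decide

theorem v_hk : 63 ≤ 2 ^ 6 := by decide

noncomputable def v_g1 : Net := (Net.cons (nat_lit 1) (nat_lit 0x1040100504110141) (Net.cons (nat_lit 2) (nat_lit 0x301130010013312) (Net.cons (nat_lit 4) (nat_lit 0x60a030a080a0c00) (Net.cons (nat_lit 8) (nat_lit 0x52000e00200000) (Net.cons (nat_lit 16) (nat_lit 0x5f0200008000) (Net.cons (nat_lit 32) (nat_lit 0x20f9ff93) (Net.cons (nat_lit 16) (nat_lit 0x14b7000022ad) (Net.cons (nat_lit 8) (nat_lit 0x11000b000200a3) (Net.cons (nat_lit 4) (nat_lit 0x704080d01050e09) (Net.cons (nat_lit 2) (nat_lit 0x133311313303130) (Net.cons (nat_lit 1) (nat_lit 0x1115555545104451) Net.nil)))))))))))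

theorem v_g1_ok : Net.ok 63 v_g1 = true := by decide +kernel

noncomputable def v_g2 : Net := (Net.cons (nat_lit 1) (nat_lit 0x51401115541140) (Net.cons (nat_lit 2) (nat_lit 0x1300021223201320) (Net.cons (nat_lit 4) (nat_lit 0x5090102020b0108) (Net.cons (nat_lit 8) (nat_lit 0x70008800240000) (Net.cons (nat_lit 16) (nat_lit 0x355800000000) (Net.cons (nat_lit 32) (nat_lit 0xe1afbe0) (Net.cons (nat_lit 16) (nat_lit 0x2305000042f4) (Net.cons (nat_lit 8) (nat_lit 0x5a00a100140017) (Net.cons (nat_lit 4) (nat_lit 0x20b000c09090100) (Net.cons (nat_lit 2) (nat_lit 0x1330310131211130) (Net.cons (nat_lit 1) (nat_lit 0x1040115504411441) Net.nil)))))))))))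

theorem v_g2_ok : Net.ok 63 v_g2 = true := by decide +kernel

noncomputable def v_E : List Net := [v_g1, v_g2]

theorem v_E_ok : okE 63 v_E = true := (okE_cons.2 ⟨v_g1_ok, (okE_cons.2 ⟨v_g2_ok, (okE_nil 63)⟩)⟩)

noncomputable def v_g3 : Net := (Net.cons (nat_lit 1) (nat_lit 0x40445101514010) (Net.cons (nat_lit 2) (nat_lit 0x20321100002300) (Net.cons (nat_lit 4) (nat_lit 0x60a0706040a0b00) (Net.cons (nat_lit 8) (nat_lit 0x22003d00200000) (Net.cons (nat_lit 16) (nat_lit 0x10100000000) (Net.cons (nat_lit 32) (nat_lit 0x34256b0a) (Net.cons (nat_lit 16) (nat_lit 0x3b450000631c) (Net.cons (nat_lit 8) (nat_lit 0x2c001400140038) (Net.cons (nat_lit 4) (nat_lit 0x40804050c0c0a00) (Net.cons (nat_lit 2) (nat_lit 0x1321131221033110) (Net.cons (nat_lit 1) (nat_lit 0x540005411451400) Net.nil)))))))))))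

theorem v_g3_ok : Net.ok 63 v_g3 = true := by decide +kernel

noncomputable def v_g4 : Net := (Net.cons (nat_lit 1) (nat_lit 0x451555040000010) (Net.cons (nat_lit 2) (nat_lit 0x2200022200220) (Net.cons (nat_lit 4) (nat_lit 0x10f060e000b0008) (Net.cons (nat_lit 8) (nat_lit 0x54000000a20000) (Net.cons (nat_lit 16) (nat_lit 0x8200000000) (Net.cons (nat_lit 32) (nat_lit 0x50a20010) (Net.cons (nat_lit 16) (nat_lit 0x694400007096) (Net.cons (nat_lit 8) (nat_lit 0x3c006000ff005c) (Net.cons (nat_lit 4) (nat_lit 0x50a050407060c) (Net.cons (nat_lit 2) (nat_lit 0x1011232223012300) (Net.cons (nat_lit 1) (nat_lit 0x500054451111010) Net.nil)))))))))))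

theorem v_g4_ok : Net.ok 63 v_g4 = true := by decide +kernel

noncomputable def v_V5 : List Net := [v_g3, v_g4]

theorem v_V5_ok : okE 63 v_V5 = true := (okE_cons.2 ⟨v_g3_ok, (okE_cons.2 ⟨v_g4_ok, (okE_nil 63)⟩)⟩)

noncomputable def v_g7 : Net := (Net.cons (nat_lit 1) (nat_lit 0x1154141000000510) (Net.cons (nat_lit 2) (nat_lit 0x320320121211200) (Net.cons (nat_lit 4) (nat_lit 0x20208080a030700) (Net.cons (nat_lit 8) (nat_lit 0x3b002700550000) (Net.cons (nat_lit 16) (nat_lit 0x513a00000000) (Net.cons (nat_lit 32) (nat_lit 0x1460c71e) (Net.cons (nat_lit 16) (nat_lit 0x51470000c31e) (Net.cons (nat_lit 8) (nat_lit 0x6900250070008e) (Net.cons (nat_lit 4) (nat_lit 0x303000c0b0e0b08) (Net.cons (nat_lit 2) (nat_lit 0x1210200001202200) (Net.cons (nat_lit 1) (nat_lit 0x1114115144144450) Net.nil)))))))))))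

theorem v_g7_ok : Net.ok 63 v_g7 = true := by decide +kernel

noncomputable def v_g8 : Net := (Net.cons (nat_lit 1) (nat_lit 0x545050455440400) (Net.cons (nat_lit 2) (nat_lit 0x1200001201111210) (Net.cons (nat_lit 4) (nat_lit 0x40d000608040d00) (Net.cons (nat_lit 8) (nat_lit 0x31001800680000) (Net.cons (nat_lit 16) (nat_lit 0x100600000000) (Net.cons (nat_lit 32) (nat_lit 0x1160002e) (Net.cons (nat_lit 16) (nat_lit 0x51df00004820) (Net.cons (nat_lit 8) (nat_lit 0x12003900ec0090) (Net.cons (nat_lit 4) (nat_lit 0x707030108050900) (Net.cons (nat_lit 2) (nat_lit 0x323132021132212) (Net.cons (nat_lit 1) (nat_lit 0x41551544151544) Net.nil)))))))))))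

theorem v_g8_ok : Net.ok 63 v_g8 = true := by decide +kernel

noncomputable def v_V9 : List Net := [v_g7, v_g8]

theorem v_V9_ok : okE 63 v_V9 = true := (okE_cons.2 ⟨v_g7_ok, (okE_cons.2 ⟨v_g8_ok, (okE_nil 63)⟩)⟩)

noncomputable def v_g11 : Net := (Net.cons (nat_lit 1) (nat_lit 0x540405404450014) (Net.cons (nat_lit 2) (nat_lit 0x313333301300010) (Net.cons (nat_lit 4) (nat_lit 0x2070c0d09000000) (Net.cons (nat_lit 8) (nat_lit 0x24008000980080) (Net.cons (nat_lit 16) (nat_lit 0x64100008000) (Net.cons (nat_lit 32) (nat_lit 0x5fe7f880) (Net.cons (nat_lit 16) (nat_lit 0x53150000d800) (Net.cons (nat_lit 8) (nat_lit 0x2300c5005b0080) (Net.cons (nat_lit 4) (nat_lit 0x3010f0400090004) (Net.cons (nat_lit 2) (nat_lit 0x210120020210012) (Net.cons (nat_lit 1) (nat_lit 0x1555000040115010) Net.nil)))))))))))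

theorem v_g11_ok : Net.ok 63 v_g11 = true := by decide +kernel

noncomputable def v_V12 : List Net := [v_g11, v_g11]

theorem v_V12_ok : okE 63 v_V12 = true := (okE_cons.2 ⟨v_g11_ok, (okE_cons.2 ⟨v_g11_ok, (okE_nil 63)⟩)⟩)

noncomputable def v_lb_E : List Net := [v_g1, v_g2, v_g3, v_g4, v_g7, v_g8, v_g11, v_g11]

theorem v_lb_E_ok : okE 63 v_lb_E = true := (okE_cons.2 ⟨v_g1_ok, (okE_cons.2 ⟨v_g2_ok, (okE_cons.2 ⟨v_g3_ok, (okE_cons.2 ⟨v_g4_ok, (okE_cons.2 ⟨v_g7_ok, (okE_cons.2 ⟨v_g8_ok, (okE_cons.2 ⟨v_g11_ok, (okE_cons.2 ⟨v_g11_ok, (okE_nil 63)⟩)⟩)⟩)⟩)⟩)⟩)⟩)⟩)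

theorem u_hn : NOk 100 := by decide

theorem u_hk : 100 ≤ 2 ^ 7 := by decide

noncomputable def u_g1 : Net := (Net.cons (nat_lit 1) (nat_lit 0x5455445041104041054110540) (Net.cons (nat_lit 2) (nat_lit 0x1311220200221031011330020) (Net.cons (nat_lit 4) (nat_lit 0x4050409030e000b0600060a) (Net.cons (nat_lit 8) (nat_lit 0xc300e9006b008500dc0003) (Net.cons (nat_lit 16) (nat_lit 0x5c440000044800000004) (Net.cons (nat_lit 32) (nat_lit 0xa00000000022cc070) (Net.cons (nat_lit 64) (nat_lit 0x5a3bfdc7f) (Net.cons (nat_lit 32) (nat_lit 0xd00000000cc078211) (Net.cons (nat_lit 16) (nat_lit 0x75a2000099530000dc07) (Net.cons (nat_lit 8) (nat_lit 0x74001500dc00d000bb006b) (Net.cons (nat_lit 4) (nat_lit 0x3050e09010a07080f09080c) (Net.cons (nat_lit 2) (nat_lit 0x123222211123020322130230) (Net.cons (nat_lit 1) (nat_lit 0x5411550010450151511115414) Net.nil)))))))))))))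

theorem u_g1_ok : Net.ok 100 u_g1 = true := by decide +kernel

noncomputable def u_g2 : Net := (Net.cons (nat_lit 1) (nat_lit 0x110005515414511001440) (Net.cons (nat_lit 2) (nat_lit 0x1331232111000023130020110) (Net.cons (nat_lit 4) (nat_lit 0x40c030d0502080904010300) (Net.cons (nat_lit 8) (nat_lit 0x1f00f00090008000840000) (Net.cons (nat_lit 16) (nat_lit 0x84310000dc4000000009) (Net.cons (nat_lit 32) (nat_lit 0x40000000002730900) (Net.cons (nat_lit 64) (nat_lit 0xdbef70bc0) (Net.cons (nat_lit 32) (nat_lit 0xa000000000437dbd9) (Net.cons (nat_lit 16) (nat_lit 0xdd0b0000609b00006373) (Net.cons (nat_lit 8) (nat_lit 0xcc000100b30002004700be) (Net.cons (nat_lit 4) (nat_lit 0xc050d07040305010605060e) (Net.cons (nat_lit 2) (nat_lit 0x221023002032301120220310) (Net.cons (nat_lit 1) (nat_lit 0x4540104011011450014540404) Net.nil)))))))))))))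

theorem u_g2_ok : Net.ok 100 u_g2 = true := by decide +kernel

noncomputable def u_E : List Net := [u_g1, u_g2]

theorem u_E_ok : okE 100 u_E = true := (okE_cons.2 ⟨u_g1_ok, (okE_cons.2 ⟨u_g2_ok, (okE_nil 100)⟩)⟩)

noncomputable def u_g4 : Net := (Net.cons (nat_lit 1) (nat_lit 0x1101144515015115414445014) (Net.cons (nat_lit 2) (nat_lit 0x333231002000030222132000) (Net.cons (nat_lit 4) (nat_lit 0xd0a0a0a0a010401080d0804) (Net.cons (nat_lit 8) (nat_lit 0x4100e60056008600410008) (Net.cons (nat_lit 16) (nat_lit 0x22b20000ed0200000008) (Net.cons (nat_lit 32) (nat_lit 0x200000000b20011f0) (Net.cons (nat_lit 64) (nat_lit 0xfb786b1f4) (Net.cons (nat_lit 32) (nat_lit 0xd00000000bf83d15e) (Net.cons (nat_lit 16) (nat_lit 0x97200004b28000047a0) (Net.cons (nat_lit 8) (nat_lit 0x6200f8006300d900c900a8) (Net.cons (nat_lit 4) (nat_lit 0x40404030405010608080702) (Net.cons (nat_lit 2) (nat_lit 0x212211001132220030231120) (Net.cons (nat_lit 1) (nat_lit 0x1100044515015105050554114)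 Net.nil)))))))))))))

theorem u_g4_ok : Net.ok 100 u_g4 = true := by decide +kernel

noncomputable def u_V5 : List Net := [h_g50, u_g4]

theorem u_V5_ok : okE 100 u_V5 = true := (okE_cons.2 ⟨h_g50_ok, (okE_cons.2 ⟨u_g4_ok, (okE_nil 100)⟩)⟩)

noncomputable def u_g7 : Net := (Net.cons (nat_lit 1) (nat_lit 0x5545151150541554410444110) (Net.cons (nat_lit 2) (nat_lit 0x1222130300333310012302200) (Net.cons (nat_lit 4) (nat_lit 0xf000605080c0300020c0101) (Net.cons (nat_lit 8) (nat_lit 0x200016005b009800030009) (Net.cons (nat_lit 16) (nat_lit 0x33060000ab150000000c) (Net.cons (nat_lit 32) (nat_lit 0x200000000020d74f0) (Net.cons (nat_lit 64) (nat_lit 0x6430df4f9) (Net.cons (nat_lit 32) (nat_lit 0xb000000005e9fc3d5) (Net.cons (nat_lit 16) (nat_lit 0xf4f50000e1260000b3c6) (Net.cons (nat_lit 8) (nat_lit 0xa2009500fb00d30007002a) (Net.cons (nat_lit 4) (nat_lit 0x5030a0c0b020d0c0c0d0203) (Net.cons (nat_lit 2) (nat_lit 0x333320112200112022322120) (Net.cons (nat_lit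 1) (nat_lit 0x4010504001100440140445510) Net.nil)))))))))))))

theorem u_g7_ok : Net.ok 100 u_g7 = true := by decide +kernel

noncomputable def u_g8 : Net := (Net.cons (nat_lit 1) (nat_lit 0x400411410455150501005500) (Net.cons (nat_lit 2) (nat_lit 0x3032011111031033020322320) (Net.cons (nat_lit 4) (nat_lit 0x70c020e0d0a080306080508) (Net.cons (nat_lit 8) (nat_lit 0xd0051005000270004000c) (Net.cons (nat_lit 16) (nat_lit 0x240d0000116000000009) (Net.cons (nat_lit 32) (nat_lit 0x500000000bffd4a80) (Net.cons (nat_lit 64) (nat_lit 0x4bffddbeb) (Net.cons (nat_lit 32) (nat_lit 0x800000000440d01a6) (Net.cons (nat_lit 16) (nat_lit 0xc3950000dbed0000490d) (Net.cons (nat_lit 8) (nat_lit 0xef0001005d00af00840044) (Net.cons (nat_lit 4) (nat_lit 0x503050a0c05000b090a0908) (Net.cons (nat_lit 2) (nat_lit 0x1120233000212122102011200) (Net.cons (nat_lit 1) (nat_lit 0x5015555514445404455044450) Net.nil)))))))))))))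

theorem u_g8_ok : Net.ok 100 u_g8 = true := by decide +kernel

noncomputable def u_V9 : List Net := [u_g7, u_g8]

theorem u_V9_ok : okE 100 u_V9 = true := (okE_cons.2 ⟨u_g7_ok, (okE_cons.2 ⟨u_g8_ok, (okE_nil 100)⟩)⟩)

noncomputable def u_V11 : List Net := [h_g50, u_g7]

theorem u_V11_ok : okE 100 u_V11 = true := (okE_cons.2 ⟨h_g50_ok, (okE_cons.2 ⟨u_g7_ok, (okE_nil 100)⟩)⟩)

noncomputable def u_V13 : List Net := [h_a0, h_g53]

theorem u_V13_ok : okE 100 u_V13 = true := (okE_cons.2 ⟨h_a0_ok, (okE_cons.2 ⟨h_g53_ok, (okE_nil 100)⟩)⟩)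

noncomputable def u_V15 : List Net := [h_a0, h_a0]

theorem u_V15_ok : okE 100 u_V15 = true := (okE_cons.2 ⟨h_a0_ok, (okE_cons.2 ⟨h_a0_ok, (okE_nil 100)⟩)⟩)

noncomputable def u_lb_E : List Net := [u_g1, u_g2, h_g50, u_g4, u_g7, u_g8, h_g50, u_g7, h_a0, h_g53, h_a0, h_a0]

theorem u_lb_E_ok : okE 100 u_lb_E = true := (okE_cons.2 ⟨u_g1_ok, (okE_cons.2 ⟨u_g2_ok, (okE_cons.2 ⟨h_g50_ok, (okE_cons.2 ⟨u_g4_ok, (okE_cons.2 ⟨u_g7_ok, (okE_cons.2 ⟨u_g8_ok, (okE_cons.2 ⟨h_g50_ok, (okE_cons.2 ⟨u_g7_ok, (okE_cons.2 ⟨h_a0_ok, (okE_cons.2 ⟨h_g53_ok, (okE_cons.2 ⟨h_a0_ok, (okE_cons.2 ⟨h_a0_ok, (okE_nil 100)⟩)⟩)⟩)⟩)⟩)⟩)⟩)⟩)⟩)⟩)⟩)⟩)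

theorem v_le6 : grp 63 v_V5 ≤ grp 63 v_E :=
  grp_le_of_memB v_hn v_hk v_E_ok v_V5_ok (ws := [nat_lit 0x302020203030202020303, nat_lit 0x1040202020203]) (by decide +kernel)

theorem v_le10 : grp 63 v_V9 ≤ grp 63 v_V5 :=
  grp_le_of_memB v_hn v_hk v_V5_ok v_V9_ok (ws := [nat_lit 0x2030202020401, nat_lit 0x1030203]) (by decide +kernel)

theorem v_le13 : grp 63 v_V12 ≤ grp 63 v_V9 :=
  grp_le_of_memB v_hn v_hk v_V9_ok v_V12_ok (ws := [nat_lit 0x2020202020302, nat_lit 0x3020301040202]) (by decide +kernel)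

theorem v_lb_le : grp 63 v_lb_E ≤ grp 63 v_E :=
  (grp_cons_le ((le_refl (grp 63 v_E)) (toPerm_mem_grp (E := v_E) (by simp [v_E]))) (grp_cons_le ((le_refl (grp 63 v_E)) (toPerm_mem_grp (E := v_E) (by simp [v_E]))) (grp_cons_le ((v_le6.trans (le_refl (grp 63 v_E))) (toPerm_mem_grp (E := v_V5) (by simp [v_V5]))) (grp_cons_le ((v_le6.trans (le_refl (grp 63 v_E))) (toPerm_mem_grp (E := v_V5) (by simp [v_V5]))) (grp_cons_le ((v_le10.trans (v_le6.trans (le_refl (grp 63 v_E)))) (toPerm_mem_grp (E := v_V9) (by simp [v_V9]))) (grp_cons_le ((v_le10.trans (v_le6.trans (le_refl (grp 63 v_E)))) (toPerm_mem_grp (E := v_V9) (by simp [v_V9]))) (grp_cons_le ((v_le13.trans (v_le10.trans (v_le6.trans (le_refl (grp 63 v_E))))) (toPerm_mem_grp (E := v_V12) (by simp [v_V12]))) (grp_cons_le ((v_le13.trans (v_le10.trans (v_le6.trans (le_refl (grp 63 v_E))))) (toPerm_mem_grp (E := v_V12) (by simp [v_V12]))) (grp_nil_le _)))))))))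

noncomputable def v_lb_ch : Ch := (Ch.cons (nat_lit 0) [nat_lit 1, nat_lit 3] (Ch.cons (nat_lit 4) [nat_lit 5, nat_lit 7] (Ch.cons (nat_lit 6) [nat_lit 9, nat_lit 11] (Ch.cons (nat_lit 1) [nat_lit 13, nat_lit 15] Ch.nil))))

theorem v_lb_chk : Ch.chk 63 6 (lab 63 6) v_lb_E v_lb_ch 6048 = true :=
  by decide +kernel

theorem v_lb_ge : 6048 ≤ Nat.card (grp 63 v_E) :=
  (Ch.le_card_grp v_hn v_lb_E_ok v_lb_chk).trans (Subgroup.card_le_of_le v_lb_le)

theorem u_le3 : grp 100 u_E ≤ grp 100 h_E1 :=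
  grp_le_of_memB u_hn u_hk h_E1_ok u_E_ok (ws := [nat_lit 0xf141209020d, nat_lit 0x130b020d]) (by decide +kernel)

theorem u_le6 : grp 100 u_V5 ≤ grp 100 u_E :=
  grp_le_of_memB u_hn u_hk u_E_ok u_V5_ok (ws := [nat_lit 0x1040104040204040202, nat_lit 0x402020303]) (by decide +kernel)

theorem u_le10 : grp 100 u_V9 ≤ grp 100 u_V5 :=
  grp_le_of_memB u_hn u_hk u_V5_ok u_V9_ok (ws := [nat_lit 0x10302020204, nat_lit 0x20402030302030203]) (by decide +kernel)

theorem u_le12 : grp 100 u_V11 ≤ grp 100 u_V9 :=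
  grp_le_of_memB u_hn u_hk u_V9_ok u_V11_ok (ws := [nat_lit 0x30204020204, nat_lit 0x4040203]) (by decide +kernel)

theorem u_le14 : grp 100 u_V13 ≤ grp 100 u_V11 :=
  grp_le_of_memB u_hn u_hk u_V11_ok u_V13_ok (ws := [nat_lit 0x3030104020402, nat_lit 0x3010402]) (by decide +kernel)

theorem u_le16 : grp 100 u_V15 ≤ grp 100 u_V13 :=
  grp_le_of_memB u_hn u_hk u_V13_ok u_V15_ok (ws := [nat_lit 197123, nat_lit 0x204010104]) (by decide +kernel)

theorem u_lb_le : grp 100 u_lb_E ≤ grp 100 u_E :=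
  (grp_cons_le ((le_refl (grp 100 u_E)) (toPerm_mem_grp (E := u_E) (by simp [u_E]))) (grp_cons_le ((le_refl (grp 100 u_E)) (toPerm_mem_grp (E := u_E) (by simp [u_E]))) (grp_cons_le ((u_le6.trans (le_refl (grp 100 u_E))) (toPerm_mem_grp (E := u_V5) (by simp [u_V5]))) (grp_cons_le ((u_le6.trans (le_refl (grp 100 u_E))) (toPerm_mem_grp (E := u_V5) (by simp [u_V5]))) (grp_cons_le ((u_le10.trans (u_le6.trans (le_refl (grp 100 u_E)))) (toPerm_mem_grp (E := u_V9) (by simp [u_V9]))) (grp_cons_le ((u_le10.trans (u_le6.trans (le_refl (grp 100 u_E)))) (toPerm_mem_grp (E := u_V9) (by simp [u_V9]))) (grp_cons_le ((u_le12.trans (u_le10.trans (u_le6.trans (le_refl (grp 100 u_E))))) (toPerm_mem_grp (E := u_V11) (by simp [u_V11]))) (grp_cons_le ((u_le12.trans (u_le10.trans (u_le6.trans (le_refl (grp 100 u_E))))) (toPerm_mem_grp (E := u_V11) (by simp [u_V11]))) (grp_cons_le ((u_le14.trans (u_le12.trans (u_le10.trans (u_le6.trans (le_refl (grp 100 u_E)))))) (toPerm_mem_grp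 (E := u_V13) (by simp [u_V13]))) (grp_cons_le ((u_le14.trans (u_le12.trans (u_le10.trans (u_le6.trans (le_refl (grp 100 u_E)))))) (toPerm_mem_grp (E := u_V13) (by simp [u_V13]))) (grp_cons_le ((u_le16.trans (u_le14.trans (u_le12.trans (u_le10.trans (u_le6.trans (le_refl (grp 100 u_E))))))) (toPerm_mem_grp (E := u_V15) (by simp [u_V15]))) (grp_cons_le ((u_le16.trans (u_le14.trans (u_le12.trans (u_le10.trans (u_le6.trans (le_refl (grp 100 u_E))))))) (toPerm_mem_grp (E := u_V15) (by simp [u_V15]))) (grp_nil_le _)))))))))))))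

noncomputable def u_lb_ch : Ch := (Ch.cons (nat_lit 2) [nat_lit 1, nat_lit 3] (Ch.cons (nat_lit 3) [nat_lit 5, nat_lit 7] (Ch.cons (nat_lit 15) [nat_lit 9, nat_lit 11] (Ch.cons (nat_lit 1) [nat_lit 13, nat_lit 15] (Ch.cons (nat_lit 4) [nat_lit 17, nat_lit 19] (Ch.cons (nat_lit 8) [nat_lit 21, nat_lit 23] Ch.nil))))))

theorem u_lb_chk : Ch.chk 100 7 (lab 100 7) u_lb_E u_lb_ch 6048 = true :=
  by decide +kernel

theorem u_lb_ge : 6048 ≤ Nat.card (grp 100 u_E) :=
  (Ch.le_card_grp u_hn u_lb_E_ok u_lb_chk).trans (Subgroup.card_le_of_le u_lb_le)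

theorem u_eq : grp 100 u_E = grp 100 h_E1 :=
  Subgroup.eq_of_le_of_card_ge u_le3 (h_card1.le.trans u_lb_ge)

noncomputable def u_M : List ℕ := [nat_lit 2, nat_lit 512, nat_lit 2048, nat_lit 4096, nat_lit 32768, nat_lit 65536, nat_lit 262144, nat_lit 0x100000, nat_lit 0x800000, nat_lit 0x2000000, nat_lit 0x8000000, nat_lit 0x10000000, nat_lit 0x20000000, nat_lit 0x40000000, nat_lit 0x80000000, nat_lit 0x100000000, nat_lit 0x200000000, nat_lit 0x400000000, nat_lit 0x800000000, nat_lit 0x1000000000, nat_lit 0x2000000000, nat_lit 0x4000000000, nat_lit 0x8000000000, nat_lit 0x10000000000, nat_lit 0x20000000000, nat_lit 0x40000000000, nat_lit 0x80000000000, nat_lit 0x200000000000, nat_lit 0x800000000000, nat_lit 0x4000000000000, nat_lit 0x8000000000000, nat_lit 0x10000000000000, nat_lit 0x40000000000000, nat_lit 0x100000000000000, nat_lit 0x200000000000000, nat_lit 0x4000000000000000, nat_lit 0x8000000000000000, nat_lit 0x20000000000000000, nat_lit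 0x80000000000000000, nat_lit 0x100000000000000000, nat_lit 0x200000000000000000, nat_lit 0x400000000000000000, nat_lit 0x1000000000000000000, nat_lit 0x2000000000000000000, nat_lit 0x4000000000000000000, nat_lit 0x8000000000000000000, nat_lit 0x20000000000000000000, nat_lit 0x40000000000000000000, nat_lit 0x80000000000000000000, nat_lit 0x100000000000000000000, nat_lit 0x200000000000000000000, nat_lit 0x1000000000000000000000, nat_lit 0x4000000000000000000000, nat_lit 0x10000000000000000000000, nat_lit 0x20000000000000000000000, nat_lit 0x40000000000000000000000, nat_lit 0x80000000000000000000000, nat_lit 0x100000000000000000000000, nat_lit 0x400000000000000000000000, nat_lit 0x800000000000000000000000, nat_lit 0x1000000000000000000000000, nat_lit 0x2000000000000000000000000, nat_lit 0x8000000000000000000000000]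

theorem u_M_inj : Function.Injective (rows 63 100 (nthN u_M)) :=
  rows_injective_of_rowsB (by decide +kernel)

open Pointwise in
theorem u_M_acts : List.Forall₂ (fun o o' => Acts (rows 63 100 (nthN u_M)) (Net.toPerm 100 o) (Net.toPerm 63 o')) u_E v_E :=
  (.cons (inc_of_incB v_g1_ok u_g1_ok (allN_iff.1 (by decide +kernel))).acts_rows (.cons (inc_of_incB v_g2_ok u_g2_ok (allN_iff.1 (by decide +kernel))).acts_rows .nil))

theorem u_orb36 : (MulAction.orbit (grp 100 u_E) (⟨2, by decide⟩ : Fin 100)).ncard = 36 :=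
  (ncard_orbit_eq (by norm_num) (den_app (rep_F1 100) u_E_ok) (by decide) (by decide +kernel)).trans (by decide +kernel)

theorem u_orb63 : (MulAction.orbit (grp 100 u_E) (⟨1, by decide⟩ : Fin 100)).ncard = 63 :=
  (ncard_orbit_eq (by norm_num) (den_app (rep_F1 100) u_E_ok) (by decide) (by decide +kernel)).trans (by decide +kernel)

noncomputable def u_vec : ℕ := (nat_lit 0x1021481551301871061641471341581721751861451741571811371011511251281761841431031381781821141101651610010181771681601411851241561671110271310731421831100521541881151201711441461531351210171)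

noncomputable def u_A : ℕ := (nat_lit 0x1030300)

noncomputable def u_B : ℕ := (nat_lit 0x628624740)

noncomputable def u_cA : ℕ := (nat_lit 0x165827115284475487238664752247331133411576813624573887364558263)

noncomputable def u_cB : ℕ := (nat_lit 0x485742751142486885341381745766476141528322472488737534857862566)

end Cfsg.Agent.H47.J2P
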