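import Cfsg.Agent.Lead.T3Chain

/-!
S2193, piece `PLX`, geometry: the root groups of a plane residue act as transvections.
-/

set_option autoImplicit false
set_option linter.style.haveILetI false
set_option linter.unusedSectionVars false

namespace Cfsg.Agent.H47.Plx

open Cfsg.Agent.H35 Cfsg.Agent.Lead.T3 Cfsg.Agent.Lead.T3.Bld Equiv Matrix Cfsg.Agent.H83.T3S
open Cfsg.Agent.Lead

universe u

variable {I W : Type} [Group W] [Finite W] {X : Cox I W} {C : Type u} [Finite C] {B : Bld X C}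
  {σ : W → C} {i j : I} {F : Type} [Field F] {κ κ' : C → F} {p l : C → Fin 3 → F}

/-- the linear action on the flags -/
def Act (B : Bld X C) (σ : W → C) (i j : I) (p l : C → Fin 3 → F) (ρ : GL (Fin 3) F →* Perm C) :
    Prop :=
  ∀ g, ∀ x ∈ B.res {i, j} (σ 1), ρ g x ∈ B.res {i, j} (σ 1) ∧ Par (p (ρ g x)) (g.val *ᵥ p x) ∧
    Par (l (ρ g x)) (l x ᵥ* (g⁻¹).val)

theorem stp0 (hσ : B.Apt σ) (hm : X.m i j = 3) (h : B.PCD σ i j F κ κ' p l) :
    ∃ ρ : GL (Fin 3) F →* Perm C, (∀ g, ρ g ∈ B.Aut {i, j} (σ 1)) ∧ Act B σ i j p l ρ ∧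
      StP B σ {i, j} i j κ κ' fun a b t => ρ (tv a b t) := by
  have fr : FreeStmt.{u} := @T3.Ch.free.{u}
  obtain ⟨ρ, out, hρ⟩ := ex_rho hm h
  have m := fun c d => apt_mem hσ (om_mem (X := X) (i := i) (j := j) c d)
  have ax := om_ax hm h hσ
  have ext := @fl_ext _ _ _ _ _ _ _ _ _ _ _ _ _ _ _ hm h
  have aut : ∀ g, ρ g ∈ B.Aut {i, j} (σ 1) := fun g => ⟨out g,
    ((H3.T3Ba3.ba3Stmt H7.T3Cx.cxStmt H62.T3B.ba1Stmt B B).1 {i, j} (σ 1) (ρ g) (by
      intro x hx k hk y hy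
      obtain ⟨a1, a2, a3⟩ := hρ g x hx
      have ne : B.δ (ρ g x) (ρ g y) ≠ 1 := fun e => by
        rw [B.eq_one, (ρ g).apply_eq_iff_eq] at e
        subst e
        have := H7.T3Cx.len_s X k
        rw [← show B.δ x x = _ from hy, H62.T3B.self] at this
        simp at this
      refine ((H7.T3Cx.mem_WJ_single X _ _).1 ?_).resolve_left ne
      rcases hk with rfl | rfl
      · obtain ⟨k1, k2⟩ := pan_i h hx hy
        obtain ⟨b1, b2, b3⟩ := hρ g y k1
        exact (h.ln _ a1 _ b1).2 (par_trans a3 (par_trans (par_vecMul _ k2) (par_symm b3)))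
      · obtain ⟨k1, k2⟩ := pan_j h hx hy
        obtain ⟨b1, b2, b3⟩ := hρ g y k1
        exact (h.pt _ a1 _ b1).2 (par_trans a2 (par_trans (par_mulVec _ k2) (par_symm b2))))).1⟩
  have fix : ∀ a b, a ≠ b → ∀ t, ∀ x ∈ B.res {i, j} (σ 1), p x b = 0 → l x a = 0 →
      ρ (tv a b t) x = x := fun a b ab t x hx e1 e2 => by
    obtain ⟨a1, a2, a3⟩ := hρ (tv a b t) x hx
    rw [show (tv a b t).val *ᵥ p x = p x from funext fun k => by simp [tv_mulVec ab, e1]] at a2
    rw [show l x ᵥ* ((tv a b t)⁻¹).val = l x from funext fun k => by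
      rw [vecMul_tv ab]; simp [e2]] at a3
    exact ext a1 hx a2 a3
  have mem : ∀ a b, a ≠ b → ∀ t,
      ρ (tv a b t) ∈ B.R σ {i, j} (prt X i j a b).1 (prt X i j a b).2 := fun a b ab t => by
    refine ⟨aut _, fun w hw ha => ?_, fun w hw k hk ha ha' x hx => ?_⟩
    · obtain ⟨c, d, cd, rfl⟩ := ex_om hm hw
      obtain ⟨k1, k2⟩ := (om_rt hm a b c d ab cd).1 ha
      exact fix a b ab t _ (m c d) ((ax c d cd).1.2 b k1.symm) ((ax c d cd).2.2 a k2.symm)
    · obtain ⟨c, d, cd, rfl⟩ := ex_om hm hw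
      obtain ⟨k1, k2⟩ := (om_rt hm a b c d ab cd).1 ha
      obtain ⟨e, e1, e2⟩ := third c d
      rcases hk with rfl | rfl
      · rw [(om_s hm c e d e1.symm e2 cd).1] at ha'
        obtain rfl : d = b := by have := ((om_rt hm a b e d ab e2).1 ha').1; omega
        obtain ⟨y1, y2⟩ := pan_i h (m c d) hx
        have := (ax c d cd).2.of_par y2
        exact fix a d ab t x y1 (this.dot (h.ne x y1).2.2) (this.2 a ab)
      · rw [(om_s hm d e c e2.symm e1 cd.symm).2] at ha'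
        obtain rfl : c = a := by have := ((om_rt hm a b c e ab e1.symm).1 ha').2; omega
        obtain ⟨y1, y2⟩ := pan_j h (m c d) hx
        have := (ax c d cd).1.of_par y2
        exact fix c b ab t x y1 (this.2 b ab.symm)
          (this.dot (dot_symm (h.ne x y1).2.2))
  have tri : ∀ a b c, a ≠ b → b ≠ c → a ≠ c → ∀ y ∈ B.pan (σ (om X i j a c)) i,
      ∃ t, ρ (tv a b t) (σ (om X i j b c)) = y := fun a b c ab bc ac y hy => by
    obtain ⟨y1, y2⟩ := pan_i h (m a c) hy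
    have ly := (ax a c ac).2.of_par y2
    have pc := ly.dot (h.ne y y1).2.2
    have pb : p y b ≠ 0 := fun e => by
      have : Ax (p y) a := ⟨(h.ne y y1).1, fun k hk => by
        rcases show k = b ∨ k = c by omega with rfl | rfl <;> assumption⟩
      have e' := ext (m a c) y1 ((ax a c ac).1.par this) y2
      have := H7.T3Cx.len_s X i
      rw [← show B.δ _ y = _ from hy, e', H62.T3B.self] at this
      simp at this
    obtain ⟨a1, a2, a3⟩ := hρ (tv a b (p y a / p y b)) _ (m b c)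
    obtain ⟨b1, b2⟩ := ax b c bc
    refine ⟨_, ext a1 y1 (par_trans a2 ⟨p y b / p (σ (om X i j b c)) b, div_ne_zero pb b1.ne,
      funext fun k => ?_⟩) (par_trans a3 (Ax.par ?_ ly))⟩
    · have := b1.ne
      rcases show k = a ∨ k = b ∨ k = c by omega with rfl | rfl | rfl
      · simp [tv_mulVec ab, b1.2 k ab]; field_simp
      · simp [tv_mulVec ab, ab.symm, this]
      · simp [tv_mulVec ab, ac.symm, pc, b1.2 k bc.symm]
    · exact ⟨ne_vecMul _ b2.1, fun k hk => by rw [vecMul_tv ab]; simp [b2.2 k hk, b2.2 a ac]⟩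
  have trj : ∀ a b c, a ≠ b → b ≠ c → a ≠ c → ∀ y ∈ B.pan (σ (om X i j c b)) j,
      ∃ t, ρ (tv a b t) (σ (om X i j c a)) = y := fun a b c ab bc ac y hy => by
    obtain ⟨y1, y2⟩ := pan_j h (m c b) hy
    have py := (ax c b bc.symm).1.of_par y2
    have lc := py.dot (dot_symm (h.ne y y1).2.2)
    have la : l y a ≠ 0 := fun e => by
      have : Ax (l y) b := ⟨(h.ne y y1).2.1, fun k hk => by
        rcases show k = a ∨ k = c by omega with rfl | rfl <;> assumption⟩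
      have e' := ext (m c b) y1 y2 ((ax c b bc.symm).2.par this)
      have := H7.T3Cx.len_s X j
      rw [← show B.δ _ y = _ from hy, e', H62.T3B.self] at this
      simp at this
    obtain ⟨a1, a2, a3⟩ := hρ (tv a b (-(l y b / l y a))) _ (m c a)
    obtain ⟨b1, b2⟩ := ax c a ac.symm
    refine ⟨_, ext a1 y1 (par_trans a2 (Ax.par ?_ py)) (par_trans a3
      ⟨l y a / l (σ (om X i j c a)) a, div_ne_zero la b2.ne, funext fun k => ?_⟩)⟩
    · exact ⟨ne_mulVec _ b1.1, fun k hk => by simp [tv_mulVec ab, b1.2 k hk, b1.2 b bc]⟩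
    · have := b2.ne
      rw [Pi.smul_apply, vecMul_tv ab]
      rcases show k = a ∨ k = b ∨ k = c by omega with rfl | rfl | rfl
      · simp [ab, this]
      · simp [b2.2 k ab.symm]; field_simp
      · simp [bc.symm, lc, b2.2 k ac.symm]
  have pan : ∀ {K : Set I} {g : Perm C} {v : W} {k : I}, v ∈ X.WJ K → k ∈ K → g ∈ B.R σ K v k →
      g (σ (v * X.s k)) ∈ B.pan (σ v) k := fun {K g v k} hv hk hg => by
    have e := hg.2.1 v hv (by simp [Cox.rt, H7.T3Cx.len_s])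
    have := hg.1.2 _ (apt_mem hσ hv) _ (apt_mem hσ (mul_mem hv (H7.T3Cx.s_mem X hk)))
    rw [e] at this
    exact this.trans (apt_pan hσ v k)
  have r := tv_rel (F := F)
  refine ⟨ρ, aut, hρ, ⟨fun a b ab s t => by rw [r.add a b ab, map_mul],
    fun a b ab s e => ?_, fun a b c h1 h2 h3 s t => by
      rw [← r.com a b c h1 h2 h3]; simp only [map_mul, map_inv],
    fun a b c h1 h2 h3 s t => by rw [← map_mul, r.cm1 a b c h1 h2 h3, map_mul],
    fun a b c h1 h2 h3 s t => by rw [← map_mul, r.cm2 a b c h1 h2 h3, map_mul]⟩,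
    fun a b ab g => ⟨fun hg => ?_, by rintro ⟨t, rfl⟩; exact mem a b ab t⟩, fun s => ?_,
    fun t => ?_, fun a b ab t ht w hw => ?_⟩
  · obtain ⟨-, a2, -⟩ := hρ (tv a b s) _ (m b a)
    have b1 := (ax b a ab.symm).1
    rw [e, Perm.one_apply] at a2
    simpa [tv_mulVec ab, b1.2 a ab, b1.ne] using (b1.of_par a2).2 a ab
  · have k := mem a b ab
    obtain ⟨c, bc, ac, e | e⟩ := om_prt (X := X) (i := i) (j := j) a b ab <;> rw [e] at hg k
    · have y := pan (om_mem a c) (by simp) hg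
      obtain ⟨t, ht⟩ := tri a b c ab bc ac _ y
      refine ⟨t, inv_mul_eq_one.1 ((fr B σ {i, j} hσ).1 _ (om_mem a c) i (by simp)
        ⟨j, by simp, hm.ge⟩ _ (mul_mem (inv_mem (k t)) hg) _ (apt_pan hσ _ i) ?_)⟩
      rw [Perm.mul_apply, ← ht, (om_s hm a b c ab bc ac).1]
      exact Equiv.symm_apply_apply _ _
    · have y := pan (om_mem c b) (by simp) hg
      obtain ⟨t, ht⟩ := trj a b c ab bc ac _ y
      refine ⟨t, inv_mul_eq_one.1 ((fr B σ {i, j} hσ).1 _ (om_mem c b) j (by simp)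
        ⟨i, by simp, (H7.T3Cx.m_symm X i j ▸ hm).ge⟩ _ (mul_mem (inv_mem (k t)) hg) _
        (apt_pan hσ _ j) ?_)⟩
      rw [Perm.mul_apply, ← ht, (om_s hm b a c ab.symm ac bc).2]
      exact Equiv.symm_apply_apply _ _
  · have y := pan (k := i) (one_mem _) (by simp) (mem 0 1 (by decide) s)
    rw [one_mul] at y
    obtain ⟨-, a2, -⟩ := hρ (tv 0 1 s) _ (m 1 2)
    have b1 := (ax 1 2 (by decide)).1
    obtain ⟨u, hu, e⟩ := par_trans (par_symm (h.ki _ y)) a2
    have e0 := congrFun e 0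
    have e1 := congrFun e 1
    rw [tv_mulVec (by decide)] at e0 e1
    simp [b1.2 0 (by decide)] at e0 e1
    rw [e1, mul_comm] at e0
    exact (mul_left_cancel₀ hu e0).symm
  · have y := pan (k := j) (one_mem _) (by simp) (mem 1 2 (by decide) t)
    rw [one_mul] at y
    obtain ⟨-, -, a3⟩ := hρ (tv 1 2 t) _ (m 0 1)
    have b2 := (ax 0 1 (by decide)).2
    obtain ⟨u, hu, e⟩ := par_trans (par_symm (h.kj _ y)) a3
    have e1 := congrFun e 1
    have e2 := congrFun e 2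
    rw [vecMul_tv (by decide)] at e1 e2
    simp [b2.2 2 (by decide)] at e1 e2
    rw [e1, mul_comm] at e2
    exact (mul_left_cancel₀ hu e2).symm
  · obtain ⟨c, d, cd, rfl⟩ := ex_om hm hw
    obtain ⟨a1, a2, a3⟩ := hρ (nn tv a b t) _ (m c d)
    have cd' := (swap a b).injective.ne cd
    rw [om_rf hm a b c d ab cd, show nn (fun a b t => ρ (tv a b t)) a b t = ρ (nn tv a b t) by
      simp only [nn, map_mul]]
    exact ext a1 (m _ _) (par_trans a2 ((nn_pt ab ht (ax c d cd).1).par (ax _ _ cd').1))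
      (par_trans a3 ((nn_ln ab ht (ax c d cd).2).par (ax _ _ cd').2))

theorem lift (hσ : B.Apt σ) (hm : X.m i j = 3) (h : B.PCD σ i j F κ κ' p l)
    (hM : B.Mou Set.univ (σ 1)) :
    ∃ (ρ : GL (Fin 3) F →* Perm C) (x : Fin 3 → Fin 3 → F → Perm C),
      (∀ g, ρ g ∈ B.Aut {i, j} (σ 1)) ∧ Act B σ i j p l ρ ∧ StP B σ Set.univ i j κ κ' x ∧
      ∀ a b, a ≠ b → ∀ t, ∀ c ∈ B.res {i, j} (σ 1), x a b t c = ρ (tv a b t) c := by
  obtain ⟨ρ, aut, hρ, h0⟩ := stp0 hσ hm h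
  obtain ⟨x, hx⟩ := T3.Ch.stp B σ Set.univ i j F κ κ' hσ trivial trivial hM ⟨hm, p, l, h⟩
  obtain ⟨S, r, -, hr, hR⟩ := (T3.Ch.res B).2 σ {i, j} Set.univ hσ (Set.subset_univ _)
  refine ⟨ρ, x, aut, hρ, hx, ?_⟩
  let D : Perm C → GL (Fin 3) F → Prop := fun g A => ∀ c ∈ B.res {i, j} (σ 1), g c = ρ A c
  have mul : ∀ {g g' A A'}, D g A → D g' A' → D (g * g') (A * A') := fun {g g' A A'} a b c hc => by
    rw [Perm.mul_apply, b c hc, a _ (hρ A' c hc).1, map_mul, Perm.mul_apply]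
  have inv : ∀ {g A}, D g A → D g⁻¹ A⁻¹ := fun {g A} a c hc => by
    rw [Perm.inv_eq_iff_eq, a _ (hρ A⁻¹ c hc).1, ← Perm.mul_apply, ← map_mul, mul_inv_cancel,
      map_one, Perm.one_apply]
  have ex : ∀ a b, a ≠ b → ∀ t, ∃ f, D (x a b t) (tv a b f) := fun a b ab t => by
    obtain ⟨k1, k2⟩ := H3.T3Stp.prt_mem X (i := i) (j := j) a b
    have k3 := (hx.mem a b ab _).2 ⟨t, rfl⟩
    obtain ⟨r1, r2, -⟩ := hR _ k1 _ k2
    obtain ⟨f, hf⟩ := (h0.mem a b ab _).1 (r2 ⟨_, r1 k3⟩ k3)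
    exact ⟨f, fun c hc => by rw [hf, (hr ⟨_, r1 k3⟩).2 c hc]⟩
  have mi : σ (X.s i) ∈ B.res {i, j} (σ 1) := apt_mem hσ (H7.T3Cx.s_mem X (by simp))
  have mj : σ (X.s j) ∈ B.res {i, j} (σ 1) := apt_mem hσ (H7.T3Cx.s_mem X (by simp))
  have u01 : ∀ t f, D (x 0 1 t) (tv 0 1 f) → t = f := fun t f d => by
    rw [← hx.ki t, d _ mi, h0.ki]
  have u12 : ∀ t f, D (x 1 2 t) (tv 1 2 f) → t = f := fun t f d => by
    rw [← hx.kj t, d _ mj, h0.kj]
  have com : ∀ a b c, a ≠ b → b ≠ c → a ≠ c → ∀ s t s' t', D (x a b s) (tv a b s') →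
      D (x b c t) (tv b c t') → D (x a c (s * t)) (tv a c (s' * t')) :=
    fun a b c ab bc ac s t s' t' d1 d2 => by
      rw [← hx.rel.com a b c ab bc ac, ← tv_rel.com a b c ab bc ac]
      exact mul (mul (mul d1 d2) (inv d1)) (inv d2)
  have d01 : ∀ t, D (x 0 1 t) (tv 0 1 t) := fun t => by
    obtain ⟨f, hf⟩ := ex 0 1 (by decide) t
    obtain rfl := u01 t f hf
    exact hf
  have d12 : ∀ t, D (x 1 2 t) (tv 1 2 t) := fun t => by
    obtain ⟨f, hf⟩ := ex 1 2 (by decide) t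
    obtain rfl := u12 t f hf
    exact hf
  have d02 : ∀ t, D (x 0 2 t) (tv 0 2 t) := fun t => by
    simpa using com 0 1 2 (by decide) (by decide) (by decide) t 1 t 1 (d01 t) (d12 1)
  have d10 : ∀ t, D (x 1 0 t) (tv 1 0 t) := fun t => by
    obtain ⟨f, hf⟩ := ex 1 0 (by decide) t
    have := u12 _ _ (com 1 0 2 (by decide) (by decide) (by decide) t 1 f 1 hf (d02 1))
    obtain rfl : t = f := by simpa using this
    exact hf
  have d21 : ∀ t, D (x 2 1 t) (tv 2 1 t) := fun t => by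
    obtain ⟨f, hf⟩ := ex 2 1 (by decide) t
    have := u01 _ _ (com 0 2 1 (by decide) (by decide) (by decide) 1 t 1 f (d02 1) hf)
    obtain rfl : t = f := by simpa using this
    exact hf
  have d20 : ∀ t, D (x 2 0 t) (tv 2 0 t) := fun t => by
    simpa using com 2 1 0 (by decide) (by decide) (by decide) t 1 t 1 (d21 t) (d10 1)
  intro a b ab
  fin_cases a <;> fin_cases b <;> (try exact absurd rfl ab)
  exacts [d01, d02, d10, d12, d20, d21]

variable {ρ : GL (Fin 3) F →* Perm C}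

theorem scalar_iff (hm : X.m i j = 3) (h : B.PCD σ i j F κ κ' p l) (hρ : Act B σ i j p l ρ)
    (A : GL (Fin 3) F) : (∀ c ∈ B.res {i, j} (σ 1), c = ρ A c) ↔
      ∃ c : F, (A : Matrix (Fin 3) (Fin 3) F) = c • 1 := by
  constructor
  · intro hA
    have key : ∀ a b : Fin 3 → F, a ≠ 0 → b ≠ 0 → b ⬝ᵥ a = 0 → Par a (A.val *ᵥ a) := by
      intro a b ha hb hab
      obtain ⟨c, hc, h1, -⟩ := h.sur a b ha hb hab
      have h2 := (hρ A c hc).2.1
      rw [← hA c hc] at h2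
      exact par_trans (par_symm h1) (par_trans h2 (par_mulVec _ h1))
    have ne : ∀ (v : Fin 3 → F) k, v k = 1 → v ≠ 0 := fun v k e z => by simp [z] at e
    obtain ⟨s0, -, e0⟩ := key ![1, 0, 0] ![0, 1, 0] (ne _ 0 rfl) (ne _ 1 rfl) (by simp)
    obtain ⟨s1, -, e1⟩ := key ![0, 1, 0] ![1, 0, 0] (ne _ 1 rfl) (ne _ 0 rfl) (by simp)
    obtain ⟨s2, -, e2⟩ := key ![0, 0, 1] ![1, 0, 0] (ne _ 2 rfl) (ne _ 0 rfl) (by simp)
    obtain ⟨s3, -, e3⟩ := key ![1, 1, 1] ![1, -1, 0] (ne _ 0 rfl) (ne _ 0 rfl) (by simp)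
    have a0 := congrFun e0
    have a1 := congrFun e1
    have a2 := congrFun e2
    have a3 := congrFun e3
    simp [Fin.forall_fin_succ, mulVec, dotProduct, Fin.sum_univ_three] at a0 a1 a2 a3
    refine ⟨s3, ?_⟩
    ext a b
    fin_cases a <;> fin_cases b <;> simp_all
  · rintro ⟨s, hs⟩ c hc
    have s0 : s ≠ 0 := by
      rintro rfl
      exact A.ne_zero (by rw [hs, zero_smul])
    obtain ⟨a1, a2, a3⟩ := hρ A c hc
    refine (fl_ext hm h a1 hc (par_trans a2 (par_symm ⟨s, s0, ?_⟩))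
      (par_trans a3 ⟨s, s0, ?_⟩)).symm
    · rw [hs, smul_mulVec, one_mulVec]
    · have : l c ᵥ* (A⁻¹).val ᵥ* A.val = l c := by rw [vecMul_vecMul, Units.inv_mul, vecMul_one]
      rw [hs, vecMul_smul, vecMul_one] at this
      exact this.symm

theorem borel_iff (hσ : B.Apt σ) (hm : X.m i j = 3) (h : B.PCD σ i j F κ κ' p l)
    (hρ : Act B σ i j p l ρ) (A : GL (Fin 3) F) :
    ρ A (σ 1) = σ 1 ↔ (A : Matrix (Fin 3) (Fin 3) F).BlockTriangular id := by
  obtain ⟨p0, l0⟩ : Ax (p (σ 1)) 0 ∧ Ax (l (σ 1)) 2 := om_ax hm h hσ 0 2 (by decide)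
  have m1 : σ 1 ∈ B.res {i, j} (σ 1) := H62.T3B.mem_res B _ _
  obtain ⟨a1, a2, a3⟩ := hρ A _ m1
  have e : l (σ 1) ᵥ* (A⁻¹).val ᵥ* A.val = l (σ 1) := by
    rw [vecMul_vecMul, Units.inv_mul, vecMul_one]
  have z1 := p0.2 1 (by decide)
  have z2 := p0.2 2 (by decide)
  have y0 := l0.2 0 (by decide)
  have y1 := l0.2 1 (by decide)
  constructor
  · intro hA
    rw [hA] at a2 a3
    have b1 := (p0.of_par a2).2 1 (by decide)
    have b2 := (p0.of_par a2).2 2 (by decide)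
    have b0 := par_vecMul A.val (par_symm a3)
    rw [e] at b0
    have b3 := (l0.of_par b0).2 1 (by decide)
    simp [mulVec, vecMul, dotProduct, Fin.sum_univ_three, z1, z2, y0, y1, p0.ne, l0.ne] at b1 b2 b3
    intro a b hab
    fin_cases a <;> fin_cases b <;> simp_all
  · intro hA
    have c1 : A.val 1 0 = 0 := hA (by decide)
    have c2 : A.val 2 0 = 0 := hA (by decide)
    have c3 : A.val 2 1 = 0 := hA (by decide)
    have q1 : Ax (A.val *ᵥ p (σ 1)) 0 := ⟨ne_mulVec A p0.1, fun k hk => by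
      fin_cases k <;> simp_all [mulVec, dotProduct, Fin.sum_univ_three]⟩
    have q2 : Ax (l (σ 1) ᵥ* A.val) 2 := ⟨ne_vecMul A l0.1, fun k hk => by
      fin_cases k <;> simp_all [vecMul, dotProduct, Fin.sum_univ_three]⟩
    refine fl_ext hm h a1 m1 (par_trans a2 (q1.par p0)) (par_trans a3 ?_)
    have := par_vecMul (A⁻¹).val (l0.par q2)
    rwa [vecMul_vecMul, Units.mul_inv, vecMul_one] at this

/-- diagonal matrices -/
def dg (d : Fin 3 → F) (hd : ∀ k, d k ≠ 0) : GL (Fin 3) F :=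
  ⟨diagonal d, diagonal fun k => (d k)⁻¹,
    by rw [diagonal_mul_diagonal]; simp [hd], by rw [diagonal_mul_diagonal]; simp [hd]⟩

theorem dg_tv (d : Fin 3 → F) (hd : ∀ k, d k ≠ 0) {a b : Fin 3} (ab : a ≠ b) (s t : F)
    (e : d a * s = t * d b) : dg d hd * tv a b s = tv a b t * dg d hd := by
  refine Units.ext ?_
  rw [Units.val_mul, Units.val_mul, tv_val ab, tv_val ab]
  change diagonal d * _ = _ * diagonal d
  rw [mul_add, add_mul, mul_one, one_mul]
  congr 1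
  ext u v
  rw [diagonal_mul, mul_diagonal, single_apply, single_apply]
  split_ifs with h
  · rw [← h.1, ← h.2, e]
  · rw [mul_zero, zero_mul]

theorem dg_fix (hσ : B.Apt σ) (hm : X.m i j = 3) (h : B.PCD σ i j F κ κ' p l)
    (hρ : Act B σ i j p l ρ) (d : Fin 3 → F) (hd : ∀ k, d k ≠ 0) {w : W} (hw : w ∈ X.WJ {i, j}) :
    ρ (dg d hd) (σ w) = σ w := by
  obtain ⟨c, e, ce, rfl⟩ := ex_om hm hw
  obtain ⟨p0, l0⟩ := om_ax hm h hσ c e ce
  have m1 := apt_mem hσ hw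
  obtain ⟨a1, a2, a3⟩ := hρ (dg d hd) _ m1
  refine fl_ext hm h a1 m1 (par_trans a2 (Ax.par ⟨ne_mulVec _ p0.1, fun k hk => ?_⟩ p0))
    (par_trans a3 (Ax.par ⟨ne_vecMul _ l0.1, fun k hk => ?_⟩ l0))
  · change (diagonal d *ᵥ _) k = 0
    rw [mulVec_diagonal, p0.2 k hk, mul_zero]
  · change (_ ᵥ* diagonal fun k => (d k)⁻¹) k = 0
    rw [vecMul_diagonal, l0.2 k hk, zero_mul]

end Cfsg.Agent.H47.Plx
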