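import Cfsg.Agent.H74.CksDefs
import Cfsg.Agent.H47.PlxGeo

/-!
S2193, piece `PLX`: planes for the simple bonds of a system.
-/

set_option autoImplicit false
set_option linter.style.haveILetI false
set_option linter.unusedSectionVars false

namespace Cfsg.Agent.H47.Plx

open Cfsg.Agent.H35 Cfsg.Agent.Lead.T3 Cfsg.Agent.Lead.T3.Bld Equiv Matrix Cfsg.Agent.H83.T3S
open Cfsg.Agent.Lead Cfsg.Agent.H74.Cks

variable {G : Type} [Group G] [Finite G] {p n : ℕ} [Fact p.Prime] {S : Sys G p n}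
  {W : Type} [Group W] [Finite W] {X : Cox (Fin n) W} {T : Typed S.bn X} {σ : W → G ⧸ S.bn.B}

/-- the action on the chambers -/
abbrev ac (S : Sys G p n) : G →* Perm (G ⧸ S.bn.B) := MulAction.toPermHom G (G ⧸ S.bn.B)

/-- the building of a system -/
structure Cx (S : Sys G p n) (X : Cox (Fin n) W) (T : Typed S.bn X) (σ : W → G ⧸ S.bn.B) :
    Prop where
  e : T.e = S.e
  inj : Function.Injective (ac S)
  apt : T.bld.Apt σ
  mou : T.bld.Mou Set.univ (σ 1)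
  sm : ∀ m (hm : m ∈ S.bn.N), σ (T.φ (BN.mkW S.bn m hm)) = (m : G ⧸ S.bn.B)
  root : ∀ m (hm : m ∈ S.bn.N) i, T.bld.R σ Set.univ (T.φ (BN.mkW S.bn m hm)) i =
    (cn m (S.X i)).map (ac S)

theorem ac_mk (g x : G) : ac S g (x : G ⧸ S.bn.B) = ((g * x : G) : G ⧸ S.bn.B) := rfl

theorem ac_δ (g : G) (x y : G ⧸ S.bn.B) : T.bld.δ (ac S g x) (ac S g y) = T.bld.δ x y :=
  congrArg T.φ (BN.wdist_smul g x y)

theorem mem_univ (X : Cox (Fin n) W) (w : W) : w ∈ X.WJ Set.univ := by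
  rw [Cox.WJ, Set.image_univ, X.closure_eq]; trivial

theorem U_inf_T (S : Sys G p n) : S.T ⊓ S.U = ⊥ := by
  simpa using S.levi ∅

namespace Cx

variable (c : Cx S X T σ)
include c

theorem s1 : σ 1 = ((1 : G) : G ⧸ S.bn.B) := by
  rw [← c.sm 1 (one_mem _), BN.mkW_one, map_one]

theorem φs (k : Fin n) : T.φ (BN.mkW S.bn (S.s k) (S.bn.subset (S.e k).2)) = X.s k := by
  rw [← T.φ_s, c.e]; rfl

theorem exm (w : W) : ∃ m hm, w = T.φ (BN.mkW S.bn m hm) := by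
  obtain ⟨m, hm, e⟩ := BN.exists_mkW (P := S.bn) (T.φ.symm w)
  exact ⟨m, hm, by rw [e, MulEquiv.apply_symm_apply]⟩

theorem memWJ (J : Finset (Fin n)) (w : BN.W S.bn) :
    T.φ w ∈ X.WJ J ↔ w ∈ BN.WJ S.bn (J.map S.e.toEmbedding) := by
  have : X.WJ J = (BN.WJ S.bn (J.map S.e.toEmbedding)).map T.φ.toMonoidHom := by
    rw [BN.WJ, MonoidHom.map_closure, Cox.WJ, Finset.coe_map, Set.image_image, Set.image_image]
    congr 1
    refine Set.image_congr fun k _ => ?_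
    rw [← T.φ_s, c.e]; rfl
  rw [this]
  exact Subgroup.mem_map_iff_mem (f := T.φ.toMonoidHom) T.φ.injective

theorem res_iff (J : Finset (Fin n)) (g : G) :
    (g : G ⧸ S.bn.B) ∈ T.bld.res J (σ 1) ↔ g ∈ S.P J := by
  rw [c.s1]
  change T.φ (BN.wdist _ _ _) ∈ X.WJ J ↔ _
  rw [BN.wdist_mk, inv_one, one_mul, c.memWJ, BN.mem_PJ_iff]

theorem B_iff (g : G) : ac S g (σ 1) = σ 1 ↔ g ∈ S.B := by
  rw [c.s1, ac_mk, mul_one, QuotientGroup.eq, mul_one, inv_mem_iff]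

theorem fixQT (J : Finset (Fin n)) {g : G} (hg : g ∈ S.B)
    (h : ac S g (σ (X.wJ J)) = σ (X.wJ J)) : g ∈ S.Q J ⊔ S.T := by
  have hl : (BN.gens S.bn).IsLongest (J.map S.e.toEmbedding : Finset S.bn.S)
      (T.φ.symm (X.wJ J)) := by
    refine ⟨(c.memWJ J _).1 (by simpa using H7.T3Cx.wJ_mem X _), fun v hv => ?_⟩
    rw [← T.len, ← T.len, MulEquiv.apply_symm_apply]
    exact (X.wJ_spec J).2 _ ((c.memWJ J v).2 hv)
  rw [← S.sp.B_inf_cj hl]
  refine ⟨hg, H35.mem_cj.2 ?_⟩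
  have e := c.sm _ (BN.rep_mem (P := S.bn) (T.φ.symm (X.wJ J)))
  rw [BN.mkW_rep, MulEquiv.apply_symm_apply] at e
  rw [e, ac_mk, eq_comm, QuotientGroup.eq, ← mul_assoc] at h
  exact h

theorem fixT {g : G} (h : ∀ w, ac S g (σ w) = σ w) : g ∈ S.T := by
  have := c.fixQT Finset.univ ((c.B_iff g).1 (h 1)) (h _)
  rwa [show S.Q Finset.univ = ⊥ from S.sp.U_univ _ fun i => by simp, bot_sup_eq] at this

theorem Tfix {t : G} (ht : t ∈ S.T) (w : W) : ac S t (σ w) = σ w := by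
  obtain ⟨m, hm, rfl⟩ := c.exm w
  rw [c.sm, ac_mk, eq_comm, QuotientGroup.eq, ← mul_assoc]
  exact BN.conj_mem_B hm ht

theorem Qfix {J : Finset (Fin n)} {g : G} (hg : g ∈ S.Q J) :
    ∀ x ∈ T.bld.res J (σ 1), ac S g x = x := by
  intro x hx
  obtain ⟨y, rfl⟩ := QuotientGroup.mk_surjective x
  rw [ac_mk, eq_comm, QuotientGroup.eq, ← mul_assoc]
  exact S.sp.U_le _ (S.sp.conj_mem ((c.res_iff J y).1 hx) hg)

theorem Pres {J : Finset (Fin n)} {g : G} (hg : g ∈ S.P J) :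
    ∀ x ∈ T.bld.res J (σ 1), ac S g x ∈ T.bld.res J (σ 1) := by
  intro x hx
  obtain ⟨y, rfl⟩ := QuotientGroup.mk_surjective x
  rw [ac_mk, c.res_iff]
  exact mul_mem hg ((c.res_iff J y).1 hx)

theorem pull {v : W} {k : Fin n} {h : Perm (G ⧸ S.bn.B)} (hh : h ∈ T.bld.R σ Set.univ v k) :
    ∃ g, ac S g = h := by
  obtain ⟨m, hm, rfl⟩ := c.exm v
  rw [c.root] at hh
  obtain ⟨g, -, e⟩ := hh
  exact ⟨g, e⟩

theorem root1 (k : Fin n) (g : G) : ac S g ∈ T.bld.R σ Set.univ 1 k ↔ g ∈ S.X k := by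
  have := c.root 1 (one_mem _) k
  rw [BN.mkW_one, map_one] at this
  rw [this, Subgroup.mem_map_iff_mem c.inj]
  simp [cn]

theorem roots (k : Fin n) (g : G) :
    ac S g ∈ T.bld.R σ Set.univ (X.s k) k ↔ g ∈ cn (S.s k) (S.X k) := by
  rw [← c.φs k, c.root, Subgroup.mem_map_iff_mem c.inj]

theorem step (v : W) (k : Fin n) {g : G} (hg : ac S g (σ v) = σ v) :
    ∃ y : G, ac S y ∈ T.bld.R σ Set.univ v k ∧
      ac S (y⁻¹ * g) (σ (v * X.s k)) = σ (v * X.s k) := by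
  have h1 := apt_pan c.apt v k
  have h2 : ac S g (σ (v * X.s k)) ∈ T.bld.pan (σ v) k := by
    change T.bld.δ _ _ = _
    rw [← hg, ac_δ]
    exact h1
  obtain ⟨h, hh, e⟩ := c.mou σ c.apt (H62.T3B.mem_res _ _ _) v (mem_univ X v) k trivial
    _ h1 _ h2
  obtain ⟨y, rfl⟩ := c.pull hh
  refine ⟨y, hh, ?_⟩
  rw [map_mul, map_inv, Perm.mul_apply, Perm.inv_eq_iff_eq, e]

end Cx

theorem plane (c : Cx S X T σ) {i j : Fin n} (hm : X.m i j = 3) :
    ∃ (F : Type) (_ : Field F) (_ : Finite F), Nonempty (S.Plane i j F) := by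
  have hσ := c.apt
  obtain ⟨F, _, _, κ, κ', -, pt, ln, h⟩ := T3.Ch.pce T.bld σ i j hσ hm
    ((T3.Ch.res T.bld).1 _ _ _ (Set.subset_univ _) c.mou)
  obtain ⟨ρ, x', aut, hρ, hx', act⟩ := lift hσ hm h c.mou
  have cJ : (({i, j} : Finset (Fin n)) : Set (Fin n)) = {i, j} := Finset.coe_pair
  have resi := c.res_iff {i, j}
  have Pres := @Cx.Pres _ _ _ _ _ _ _ _ _ _ _ _ _ c {i, j}
  have Qfix := @Cx.Qfix _ _ _ _ _ _ _ _ _ _ _ _ _ c {i, j}
  have fixQT := @Cx.fixQT _ _ _ _ _ _ _ _ _ _ _ _ _ c {i, j}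
  rw [cJ] at resi Pres Qfix fixQT
  have m1 : σ 1 ∈ T.bld.res {i, j} (σ 1) := H62.T3B.mem_res _ _ _
  have hex : ∀ (a b : Fin 3) (t : F), ∃ g : G, a ≠ b → ac S g = x' a b t := fun a b t => by
    by_cases ab : a = b
    · exact ⟨1, fun h => absurd ab h⟩
    · obtain ⟨g, hg⟩ := c.pull ((hx'.mem a b ab _).2 ⟨t, rfl⟩)
      exact ⟨g, fun _ => hg⟩
  choose x hx using hex
  have mem : ∀ a b, a ≠ b → ∀ g, ac S g ∈ T.bld.R σ Set.univ (prt X i j a b).1 (prt X i j a b).2 ↔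
      ∃ t, x a b t = g := fun a b ab g => by
    rw [hx'.mem a b ab]
    exact exists_congr fun t => by rw [← hx a b t ab, c.inj.eq_iff]
  have rel : StRel x := by
    have r := hx'.rel
    refine ⟨fun a b ab s t => c.inj ?_, fun a b ab s e => r.inj a b ab s ?_,
      fun a b d ab bd ad s t => c.inj ?_, fun a b d ab bd ad s t => c.inj ?_,
      fun a b d ab bd ad s t => c.inj ?_⟩
    · rw [map_mul, hx _ _ _ ab, hx _ _ _ ab, hx _ _ _ ab, r.add a b ab]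
    · rw [← hx _ _ _ ab, e, map_one]
    · simp only [map_mul, map_inv, hx _ _ _ ab, hx _ _ _ bd, hx _ _ _ ad, r.com a b d ab bd ad]
    · simp only [map_mul, hx _ _ _ ab, hx _ _ _ ad, r.cm1 a b d ab bd ad]
    · simp only [map_mul, hx _ _ _ bd, hx _ _ _ ad, r.cm2 a b d ab bd ad]
  have m01 : ∀ g, g ∈ S.X i ↔ ∃ t, x 0 1 t = g := fun g => by
    rw [← c.root1, ← mem 0 1 (by decide)]; rfl
  have m12 : ∀ g, g ∈ S.X j ↔ ∃ t, x 1 2 t = g := fun g => by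
    rw [← c.root1, ← mem 1 2 (by decide)]; rfl
  have m10 : ∀ g, g ∈ cn (S.s i) (S.X i) ↔ ∃ t, x 1 0 t = g := fun g => by
    rw [← c.roots, ← mem 1 0 (by decide)]; rfl
  have m21 : ∀ g, g ∈ cn (S.s j) (S.X j) ↔ ∃ t, x 2 1 t = g := fun g => by
    rw [← c.roots, ← mem 2 1 (by decide)]; rfl
  have hT : ∀ a b, a ≠ b → ∀ t, t ≠ 0 → hh x a b t ∈ S.T := fun a b ab t ht => by
    refine c.fixT fun w => ?_
    have e : ∀ u, ac S (nn x a b u) = nn x' a b u := fun u => by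
      simp only [nn, map_mul, hx _ _ _ ab, hx _ _ _ ab.symm]
    obtain ⟨v, rfl⟩ : ∃ v, w = X.rf (prt X i j a b).1 (prt X i j a b).2 * v :=
      ⟨_, (mul_inv_cancel_left _ w).symm⟩
    rw [hh, map_mul, map_inv, e, e, Perm.mul_apply,
      Perm.inv_eq_iff_eq.2 (hx'.nσ a b ab 1 one_ne_zero v (mem_univ X v)).symm,
      hx'.nσ a b ab t ht v (mem_univ X v)]
  let D : Subgroup (G × GL (Fin 3) F) :=
    { carrier := {z | z.1 ∈ S.P {i, j} ∧ ∀ y ∈ T.bld.res {i, j} (σ 1), ac S z.1 y = ρ z.2 y}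
      one_mem' := ⟨one_mem _, fun y _ => by simp⟩
      mul_mem' := fun {a b} ha hb => ⟨mul_mem ha.1 hb.1, fun y hy => by
        rw [Prod.fst_mul, Prod.snd_mul, map_mul, map_mul, Perm.mul_apply, Perm.mul_apply,
          hb.2 y hy, ha.2 _ (hρ b.2 y hy).1]⟩
      inv_mem' := fun {a} ha => ⟨inv_mem ha.1, fun y hy => by
        rw [Prod.fst_inv, Prod.snd_inv, map_inv, Perm.inv_eq_iff_eq, ha.2 _ (hρ a.2⁻¹ y hy).1,
          ← Perm.mul_apply, ← map_mul, mul_inv_cancel, map_one, Perm.one_apply]⟩ }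
  have mkD : ∀ g A, (∀ y ∈ T.bld.res {i, j} (σ 1), ac S g y = ρ A y) → (g, A) ∈ D :=
    fun g A e => ⟨by
      have := (hρ A _ m1).1
      rwa [← e _ m1, show ac S g (σ 1) = (g : G ⧸ S.bn.B) by rw [c.s1, ac_mk, mul_one],
        resi] at this, e⟩
  have el : ∀ a b, a ≠ b → ∀ t, (x a b t, tv a b t) ∈ D := fun a b ab t =>
    mkD _ _ fun y hy => by rw [hx _ _ _ ab, act a b ab t y hy]
  let M : Subgroup G := D.map (MonoidHom.fst _ _)
  have xM : ∀ a b, a ≠ b → ∀ t, x a b t ∈ M := fun a b ab t => ⟨_, el a b ab t, rfl⟩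
  have QM : S.Q {i, j} ≤ M := fun g hg =>
    ⟨(g, 1), mkD _ _ fun y hy => by rw [Qfix hg y hy, map_one, Perm.one_apply], rfl⟩
  have sc : ∀ (Y : Subgroup G) (a b d : Fin 3), a ≠ d → d ≠ b → a ≠ b →
      (∀ g, g ∈ Y ↔ ∃ t, x a b t = g) → S.T ≤ Subgroup.normalizer (Y : Set G) → ∀ t ∈ S.T,
      ∃ α : F, α ≠ 0 ∧ ∀ s, t * x a b s * t⁻¹ = x a b (α * s) := by
    intro Y a b d ad db ab hY hN t ht
    obtain ⟨α, hα⟩ := (hY _).1 ((Subgroup.mem_normalizer_iff.1 (hN ht) _).1 ((hY _).2 ⟨1, rfl⟩))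
    have z : x a b 0 = 1 := H3.T3Stp.add_zero' (rel.add a b ab)
    refine ⟨α, fun e => ?_, fun s => ?_⟩
    · rw [e, z, eq_comm, conj_eq_one_iff] at hα
      exact one_ne_zero (rel.inj a b ab 1 hα)
    · by_cases hs : s = 0
      · simp [hs, z]
      have k := fun u => (T3.Ch.sth x rel a d b ad db ab s hs u).1
      have cm := S.comm _ ht _ (hT a d ad s hs)
      have k1 := k 1
      rw [mul_one] at k1
      rw [mul_comm α s, ← k α, hα, ← k1]
      calc t * (hh x a d s * x a b 1 * (hh x a d s)⁻¹) * t⁻¹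
          = (t * hh x a d s) * x a b 1 * (t * hh x a d s)⁻¹ := by group
        _ = _ := by rw [cm]; group
  have TM : S.T ≤ M := fun t ht => by
    obtain ⟨α, α0, hα⟩ := sc _ 0 1 2 (by decide) (by decide) (by decide) m01 (S.X_T i) t ht
    obtain ⟨β, β0, hβ⟩ := sc _ 1 2 0 (by decide) (by decide) (by decide) m12 (S.X_T j) t ht
    have hd : ∀ k, (![α * β, β, 1] : Fin 3 → F) k ≠ 0 := fun k => by
      fin_cases k <;> simp [α0, β0]
    refine ⟨(t, dg _ hd), mkD _ _ ?_, rfl⟩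
    have fx := fun w hw => dg_fix hσ hm h hρ _ hd (w := w) hw
    have pan : ∀ (k : Fin n) (a b : Fin 3) (γ : F), k ∈ ({i, j} : Set (Fin n)) → a ≠ b →
        (∀ g, g ∈ S.X k ↔ ∃ t, x a b t = g) → (∀ s, t * x a b s * t⁻¹ = x a b (γ * s)) →
        (![α * β, β, 1] : Fin 3 → F) a = γ * (![α * β, β, 1] : Fin 3 → F) b →
        ∀ y ∈ T.bld.pan (σ 1) k, ac S t y = ρ (dg _ hd) y := by
      intro k a b γ hk ab hX hγ e y hy
      have h1 := apt_pan hσ 1 k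
      rw [one_mul] at h1
      obtain ⟨g, hg, rfl⟩ := c.mou σ hσ (H62.T3B.mem_res _ _ _) 1 (one_mem _) k trivial _ h1 _ hy
      obtain ⟨g, rfl⟩ := c.pull hg
      obtain ⟨s, rfl⟩ := (hX g).1 ((c.root1 k g).1 hg)
      have sk := H7.T3Cx.s_mem X hk
      have mk := apt_mem hσ sk
      rw [← Perm.mul_apply, ← map_mul, mul_inv_eq_iff_eq_mul.1 (hγ s), map_mul, Perm.mul_apply,
        c.Tfix ht, (el a b ab _).2 _ mk, (el a b ab _).2 _ mk, ← Perm.mul_apply, ← map_mul,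
        dg_tv _ hd ab s (γ * s) (by rw [e]; ring), map_mul, Perm.mul_apply, fx _ sk]
    refine (T3.Ch.ba3 T.bld T.bld).2 {i, j} (σ 1) (σ (X.wJ {i, j})) (ac S t) (ρ (dg _ hd))
      (fun a _ b _ => ac_δ t a b) (aut _).2 (by rw [hσ, inv_one, one_mul])
      (by rw [c.Tfix ht, fx _ (one_mem _)]) (by rw [c.Tfix ht, fx _ (H7.T3Cx.wJ_mem X _)]) ?_
    rintro k (rfl | rfl)
    · exact pan _ 0 1 α (by simp) (by decide) m01 hα (by simp)
    · exact pan _ 1 2 β (by simp) (by decide) m12 hβ (by simp)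
  have BM : S.B ≤ M := fun g hg => by
    have fix : ∀ a b, a ≠ b → 0 ≠ b → 2 ≠ a → ∀ y, ac S y ∈
        T.bld.R σ Set.univ (prt X i j a b).1 (prt X i j a b).2 → y ∈ S.B ⊓ M :=
      fun a b ab h0 h2 y hy => by
        refine ⟨(c.B_iff y).1 (hy.2.1 1 (one_mem _)
          ((om_rt hm a b 0 2 ab (by decide)).2 ⟨h0, h2⟩)), ?_⟩
        obtain ⟨t, rfl⟩ := (mem a b ab y).1 hy
        exact xM a b ab t
    obtain ⟨y1, a1, b1⟩ := c.step 1 i ((c.B_iff g).2 hg)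
    rw [one_mul] at b1
    obtain ⟨y2, a2, b2⟩ := c.step _ j b1
    obtain ⟨y3, a3, b3⟩ := c.step _ i b2
    have a3' : ac S y3 ∈ T.bld.R σ Set.univ 1 j := by
      have := H3.T3Stp.rt_swap X hm (X.s i)
      rw [X.s_mul_s] at this
      change _ ∈ T.bld.U σ _ _ at a3 ⊢
      rwa [this] at a3
    have f1 := fix 0 1 (by decide) (by decide) (by decide) y1 a1
    have f2 := fix 0 2 (by decide) (by decide) (by decide) y2 a2
    have f3 := fix 1 2 (by decide) (by decide) (by decide) y3 a3'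
    have e : X.wJ {i, j} = X.s i * X.s j * X.s i := by
      rw [H7.T3Cx.wJ_pair, hm]; simp [InvGen.altw, mul_assoc]
    have k := fixQT (mul_mem (inv_mem f3.1) (mul_mem (inv_mem f2.1) (mul_mem (inv_mem f1.1) hg)))
      (by rw [e]; exact b3)
    have k' := mul_mem f1.2 (mul_mem f2.2 (mul_mem f3.2 (sup_le QM TM k)))
    simpa using k'
  have sM : ∀ k (a b : Fin 3), a ≠ b → (∀ g, g ∈ S.X k ↔ ∃ t, x a b t = g) →
      (∀ g, g ∈ cn (S.s k) (S.X k) ↔ ∃ t, x b a t = g) → S.s k ∈ M := fun k a b ab h1 h2 => by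
    refine sup_le TM (sup_le (fun g hg => ?_) fun g hg => ?_) (S.s_mem k)
    · obtain ⟨t, rfl⟩ := (h1 g).1 hg
      exact xM a b ab t
    · obtain ⟨t, rfl⟩ := (h2 g).1 hg
      exact xM b a ab.symm t
  have PM : S.P {i, j} ≤ M := by
    refine sup_le BM ((Subgroup.closure_le _).2 ?_)
    rintro _ ⟨s, hs, rfl⟩
    obtain ⟨k, hk, rfl⟩ := Finset.mem_map.1 hs
    rcases Finset.mem_insert.1 hk with rfl | hk
    · exact sM _ 0 1 (by decide) m01 m10
    · obtain rfl := Finset.mem_singleton.1 hk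
      exact sM _ 1 2 (by decide) m12 m21
  refine ⟨F, inferInstance, inferInstance, ⟨⟨x, rel, m01, m12,
    fun t => Subgroup.mem_sup_right ((m10 _).2 ⟨t, rfl⟩),
    fun t => Subgroup.mem_sup_right ((m21 _).2 ⟨t, rfl⟩), hT 0 1 (by decide), hT 1 2 (by decide),
    D, fun g => ⟨fun hg => ?_, fun ⟨A, hA⟩ => hA.1⟩, fun A => ?_, fun g A hA => ?_,
    fun a b ab t => ⟨tv a b t, tv_val ab t, el a b ab t⟩, fun g hg => ⟨fun hD => ?_, fun hQ => ?_⟩⟩⟩⟩
  · obtain ⟨⟨g, A⟩, hA, rfl⟩ := PM hg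
    exact ⟨A, hA⟩
  · rw [← scalar_iff hm h hρ A]
    exact ⟨fun hA y hy => by simpa using hA.2 y hy, fun hA => mkD _ _ fun y hy => by
      simpa using hA y hy⟩
  · rw [← borel_iff hσ hm h hρ A, ← c.B_iff, hA.2 _ m1]
  · have k := fixQT (S.sp.U_le _ hg)
      (by simpa using hD.2 _ (apt_mem hσ (H7.T3Cx.wJ_mem X _)))
    have hn : S.T ≤ Subgroup.normalizer (S.Q {i, j} : Set G) :=
      inf_le_left.trans ((BN.B_le_PJ _).trans (S.sp.U_normal _))
    have k2 : g ∈ ((S.Q {i, j} ⊔ S.T : Subgroup G) : Set G) := k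
    rw [Subgroup.coe_mul_of_right_le_normalizer_left _ _ hn] at k2
    obtain ⟨q, hq, t, ht, rfl⟩ := k2
    have hqU : q ∈ S.U := S.anti ∅ _ (Finset.empty_subset _) hq
    have : t ∈ S.T ⊓ S.U := ⟨ht, (S.U.mul_mem_cancel_left hqU).1 hg⟩
    rw [U_inf_T, Subgroup.mem_bot] at this
    simpa [this] using hq
  · exact mkD _ _ fun y hy => by rw [Qfix hQ y hy, map_one, Perm.one_apply]

theorem plx (rgx : RgxStmt) : PlxStmt := by
  intro G _ _ _ p n _ S hc i j hm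
  obtain ⟨W, _, _, X, T, e, hX, inj, -, σ, apt, mou, sm, root⟩ := rgx S hc i.pos
  exact plane ⟨e, inj, apt, mou, sm, root⟩ ((hX i j).trans hm)

end Cfsg.Agent.H47.Plx
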