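import Mathlib
import Cfsg.Agent.H49.Large
import Cfsg.Prelude.Def_LieTwisted

/-!
# Interface for the recognition of the twisted group of type E6 over the field with four elements

`UD W` collects what the local analysis uses about `W = U₆(2)` or `U₆(2).2`.  In the matrix model
(hyperbolic basis `e₁ e₂ e₃ f₁ f₂ f₃`): `Rp = {u(h)}` is the unipotent radical of the stabiliser of
`⟨e₁, e₂, e₃⟩`, `L = {diag(a, a⁻*)}`, `w` swaps `eᵢ` and `fᵢ`, `τ = u(E₁₁)`, and `T0` is the Sylow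
subgroup of `L` fixing the plane `⟨e₂, e₃⟩` of `⟨e₁, e₂, e₃⟩`.
-/

set_option autoImplicit false

namespace Cfsg.Agent.H47.E6

open Subgroup H49
open scoped commutatorElement

universe u

/-- Facts on `U₆(2)` inside `W`. -/
structure UD (W : Type*) [Group W] where
  N : Subgroup W
  Rp : Subgroup W
  L : Subgroup W
  T0 : Subgroup W
  w : W
  τ : W
  normal : N.Normal
  index_le : N.index ≤ 2
  Rp_le : Rp ≤ N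
  L_le : L ≤ N
  w_mem : w ∈ N
  card_Rp : Nat.card Rp = 2 ^ 9
  Rp_sq : ∀ a ∈ Rp, a * a = 1
  big : ∀ A : Subgroup W, (∀ a ∈ A, a * a = 1) → 2 ^ 9 ≤ Nat.card A → ∃ n ∈ N, A = cj Rp n
  L_norm : L ≤ normalizer (Rp : Set W)
  L_norm' : L ≤ normalizer (cj Rp w : Set W)
  ww : w * w = 1
  disj : Rp ⊓ cj Rp w = ⊥
  disjL : cj Rp w ⊓ L = ⊥
  irr : ∀ A : Subgroup W, A ≤ Rp → L ≤ normalizer (A : Set W) → A = ⊥ ∨ A = Rp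
  eleven : ∃ g₁ g₂ g₃ g₄ : W, ∃ a₁ ∈ Rp, ∃ a₂ ∈ Rp, ∃ a₃ ∈ Rp, ∃ a₄ ∈ Rp,
    orderOf (g₁ * a₁ * g₁⁻¹ * (g₂ * a₂ * g₂⁻¹) * (g₃ * a₃ * g₃⁻¹) * (g₄ * a₄ * g₄⁻¹)) = 11
  τ_mem : τ ∈ Rp
  τ_ne : τ ≠ 1
  braid : (τ * (w * τ * w⁻¹)) ^ 3 = 1
  fixp : ∀ y ∈ Rp, (∀ l ∈ L, Commute l τ → Commute l y) → y = 1 ∨ y = τ
  fixm : ∀ y ∈ cj Rp w, (∀ l ∈ L, Commute l τ → Commute l y) → y = 1
  fixb : ∀ y ∈ cj Rp (τ * (w * τ * w⁻¹) * τ * w), (∀ l ∈ L, Commute l τ → Commute l y) →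
    y = 1 ∨ y = τ
  comm_τ : Rp ≤ ⁅Rp, L ⊓ centralizer {τ}⁆
  meet : ∃ y ∈ cj Rp w, y ≠ 1 ∧ Commute τ y
  norm_le : N ⊓ normalizer (Rp : Set W) ≤ Rp ⊔ L
  max : ∀ J : Subgroup W, Rp ⊔ L ≤ J → ∀ x ∈ J, x ∈ N → x ∉ normalizer (Rp : Set W) → N ≤ J
  T0_le : T0 ≤ L
  T0_two : IsPGroup 2 T0
  T0_odd : Odd ((Rp ⊔ T0).relIndex N)
  T0_norm : T0 ≤ normalizer (cj Rp (τ * (w * τ * w⁻¹) * τ) : Set W)
  T0_comm : (⁅Rp, T0⁆ : Subgroup W).relIndex Rp ≤ 2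

namespace UD

variable {W : Type u} [Group W] (U : UD W)

/-- The opposite transvection `v(E₁₁)`. -/
def τm : W := U.w * U.τ * U.w⁻¹

/-- The reflection swapping `e₁` and `f₁`. -/
def n1 : W := U.τ * U.τm * U.τ

section

variable {Γ : Type u} [Group Γ] (κ : W →* Γ) (s t' : Γ)

/-- `x_{θ-α₁}`, where `s = x_{α₁}` and `t' = x_{-α₁}`. -/
def t : Γ := κ U.w * s * (κ U.w)⁻¹

/-- `x_{α₁-θ}`. -/
def sb : Γ := κ U.w * t' * (κ U.w)⁻¹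

/-- `x_θ`. -/
def z : Γ := ⁅s, U.t κ s⁆

/-- `x_{-θ}`. -/
def z' : Γ := ⁅U.sb κ t', t'⁆

/-- `x_{θ-α₁-α₂}`, where `κ τ = x_{α₂}`. -/
def a1 : Γ := κ U.n1 * U.t κ s * (κ U.n1)⁻¹

/-- The extraspecial group `O₂(C(x_θ))`. -/
def Qc : Subgroup Γ := closure {x | ∃ n ∈ U.N, κ n * s * (κ n)⁻¹ = x}

/-- The parabolic subgroup `C(x_θ)`. -/
def Hc : Subgroup Γ := U.N.map κ ⊔ zpowers s

/-- The Curtis–Tits relations. -/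
structure Rel : Prop where
  inj : Function.Injective κ
  s_ne : s ≠ 1
  ss : s * s = 1
  tt : t' * t' = 1
  st : (s * t') ^ 3 = 1
  s_Rm : ∀ y ∈ cj U.Rp U.w, Commute s (κ y)
  s_L : ∀ l ∈ U.L, Commute s (κ l)
  t_Rp : ∀ y ∈ U.Rp, Commute t' (κ y)
  t_L : ∀ l ∈ U.L, Commute t' (κ l)
  p1 : Commute s ⁅s, κ U.τ⁆
  p2 : ⁅⁅s, κ U.τ⁆, κ U.τm⁆ = s
  p3 : ⁅⁅s, κ U.τ⁆, t'⁆ = κ U.τ
  m1 : Commute t' ⁅t', κ U.τm⁆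
  m2 : ⁅⁅t', κ U.τm⁆, κ U.τ⁆ = t'
  m3 : ⁅⁅t', κ U.τm⁆, s⁆ = κ U.τm

/-- What is used about the group generated. -/
structure Concl (G0 : Subgroup Γ) : Prop where
  gen : G0 = U.Hc κ s ⊔ zpowers t'
  cent : ∀ g ∈ G0, Commute g (U.z κ s) → g ∈ U.Hc κ s
  odd : Odd ((U.Hc κ s).relIndex G0)
  pairs : ∀ g ∈ G0, ∃ h ∈ U.Hc κ s, h * (g * U.z κ s * g⁻¹) * h⁻¹ ∈
    ({U.z κ s, U.t κ s, κ U.τ, t', U.z' κ t'} : Set Γ)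
  invol : ∀ x ∈ G0, x * x = 1 → ∃ g ∈ G0, g * x * g⁻¹ ∈ U.Qc κ s
  short : ∃ u ∈ U.Qc κ s, Commute u s ∧ Commute u t' ∧ Commute u (κ U.τ) ∧ Commute u (κ U.τm) ∧
    (∃ g ∈ G0, g * (U.z κ s * κ U.τ) * g⁻¹ = u) ∧
    u ∉ closure ({U.z κ s, U.t κ s, U.a1 κ s} : Set Γ)

end

/-- The Curtis–Tits theorem and the facts on the model. -/
def CT (F : Type*) [Field F] : Prop :=
  ∀ (Γ : Type u) [Group Γ] [Finite Γ] (κ : W →* Γ) (s t' : Γ), U.Rel κ s t' →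
    ∃ G0 : Subgroup Γ, U.Concl κ s t' G0 ∧ Nonempty (G0 ≃* Lie.twistedE6 F 2)

end UD

end Cfsg.Agent.H47.E6
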