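import Cfsg.Agent.H17.KnDef2

/-! Project KN, piece C2E. -/

set_option autoImplicit false
set_option maxRecDepth 100000
set_option synthInstance.maxSize 2000

namespace Cfsg.Agent.H47.KnC2e

open Equiv Subgroup Cfsg.Agent.H63 Cfsg.Agent.H17.Kn
open Cfsg.Agent.H89.Rec (Syl)

universe u

section Abs

variable {G : Type u} [Group G]

/-- `l` acts on `B` as a transvection with centre `z` or trivially. -/
def Tr (B : Subgroup G) (z l : G) : Prop := ∀ b ∈ B, l * b * l⁻¹ = b ∨ l * b * l⁻¹ = b * z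

theorem Tr.fix {B : Subgroup G} {z l : G} (h : Tr B z l) (zB : z ∈ B) (z2 : z * z = 1)
    (z1 : z ≠ 1) : l * z * l⁻¹ = z :=
  (h z zB).resolve_right fun e => z1 (by simpa [z2] using e)

theorem Tr.mem {B : Subgroup G} {z l : G} (h : Tr B z l) (zB : z ∈ B) {b : G} (hb : b ∈ B) :
    l * b * l⁻¹ ∈ B := by
  rcases h b hb with e | e <;> rw [e]
  exacts [hb, mul_mem hb zB]

theorem Tr.sq {B : Subgroup G} {z l : G} (h : Tr B z l) (zB : z ∈ B) (z2 : z * z = 1)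
    (z1 : z ≠ 1) {b : G} (hb : b ∈ B) : l * (l * b * l⁻¹) * l⁻¹ = b := by
  rcases h b hb with e | e
  · rw [e, e]
  · rw [e, ← conj_mul, e, h.fix zB z2 z1, mul_assoc, z2, mul_one]

theorem Tr.mul {B : Subgroup G} {z l m : G} (h : Tr B z l) (k : Tr B z m) (zB : z ∈ B)
    (z2 : z * z = 1) (z1 : z ≠ 1) : Tr B z (l * m) := fun b hb => by
  rw [show l * m * b * (l * m)⁻¹ = l * (m * b * m⁻¹) * l⁻¹ by group]
  rcases k b hb with e | e <;> rw [e]
  · exact h b hb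
  · rw [← conj_mul, h.fix zB z2 z1]
    rcases h b hb with e | e <;> rw [e]
    · exact Or.inr rfl
    · exact Or.inl (by rw [mul_assoc, z2, mul_one])

theorem Tr.inv {B : Subgroup G} {z l : G} (h : Tr B z l) (zB : z ∈ B) (z2 : z * z = 1)
    (z1 : z ≠ 1) : Tr B z l⁻¹ := fun b hb => by
  have : l⁻¹ * b * l⁻¹⁻¹ = l * b * l⁻¹ := by
    conv_lhs => rw [← h.sq zB z2 z1 hb]
    group
  rw [this]
  exact h b hb

theorem Tr.conj {B : Subgroup G} {z l g : G} (h : Tr B z l) (hg : g ∈ normalizer (B : Set G))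
    (gz : Commute g z) : Tr B z (g * l * g⁻¹) := fun b hb => by
  have := h _ ((mem_normalizer_iff.1 (inv_mem hg) b).1 hb)
  rw [show g * l * g⁻¹ * b * (g * l * g⁻¹)⁻¹ = g * (l * (g⁻¹ * b * g⁻¹⁻¹) * l⁻¹) * g⁻¹ by group]
  rcases this with e | e <;> rw [e]
  · left; group
  · right
    rw [← conj_mul, gz.eq]; group

theorem syl_conj [Finite G] {S Y : Subgroup G} (h : Syl S ⊤) (hY : IsPGroup 2 Y) :
    ∃ g, ∀ y ∈ Y, g * y * g⁻¹ ∈ S := by
  have : Fact (Nat.Prime 2) := ⟨Nat.prime_two⟩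
  let P : Sylow 2 G := h.grp.toSylow (by
    rw [← even_iff_two_dvd, Nat.not_even_iff_odd, ← relIndex_top_right]; exact h.odd)
  obtain ⟨Q, hQ⟩ := hY.exists_le_sylow
  obtain ⟨g, hg⟩ := MulAction.exists_smul_eq G Q P
  refine ⟨g, fun y hy => ?_⟩
  have : g * y * g⁻¹ ∈ (g • Q : Sylow 2 G) := smul_mem_pointwise_smul y (MulAut.conj g) _ (hQ hy)
  rwa [hg] at this

theorem core [Finite G] {B S : Subgroup G} {z : G} (zB : z ∈ B) (z2 : z * z = 1) (z1 : z ≠ 1)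
    (ab : ∀ a ∈ B, ∀ b ∈ B, a * b = b * a) (B2 : IsPGroup 2 B) (syl : Syl S ⊤)
    (star : ∀ g, (∀ b ∈ B, g * b * g⁻¹ ∈ S) →
      ∃ c ∈ S, c * g ∈ normalizer (B : Set G) ∧ Commute (c * g) z)
    {l : G} (hl : Tr B z l) : ∃ s ∈ S, ∀ b ∈ B, l * b * l⁻¹ = s * b * s⁻¹ := by
  have : Fact (Nat.Prime 2) := ⟨Nat.prime_two⟩
  let L : Subgroup G :=
    { carrier := {l | Tr B z l}
      one_mem' := fun b _ => Or.inl (by simp)
      mul_mem' := fun h k => h.mul k zB z2 z1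
      inv_mem' := fun h => h.inv zB z2 z1 }
  let K : Subgroup L := (centralizer (B : Set G)).subgroupOf L
  have nK : K.Normal := ⟨fun k hk m => mem_centralizer_iff.2 fun b hb => by
    have := mem_centralizer_iff.1 hk _ (Tr.mem (inv_mem m.2) zB hb)
    change b * (m.1 * k.1 * m.1⁻¹) = (m.1 * k.1 * m.1⁻¹) * b
    change m.1⁻¹ * b * m.1⁻¹⁻¹ * k.1 = k.1 * (m.1⁻¹ * b * m.1⁻¹⁻¹) at this
    calc b * (m.1 * k.1 * m.1⁻¹) = m.1 * (m.1⁻¹ * b * m.1⁻¹⁻¹ * k.1) * m.1⁻¹ := by group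
      _ = _ := by rw [this]; group⟩
  have q2 : IsPGroup 2 (L ⧸ K) := fun q => by
    obtain ⟨m, rfl⟩ := QuotientGroup.mk_surjective q
    refine ⟨1, ?_⟩
    rw [pow_one, ← QuotientGroup.mk_pow, QuotientGroup.eq_one_iff, pow_two]
    refine mem_centralizer_iff.2 fun b hb => ?_
    have := Tr.sq m.2 zB z2 z1 hb
    change b * (m * m : G) = (m * m : G) * b
    conv_lhs => rw [← this]
    group
  obtain ⟨Y, hY⟩ := (B2.comap_subtype (K := L)).exists_le_sylow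
  have top : (Y : Subgroup L) ⊔ K = ⊤ := by
    obtain ⟨n, hn⟩ := IsPGroup.iff_card.1 q2
    have d1 : ((Y : Subgroup L) ⊔ K).index ∣ 2 ^ n := hn ▸ index_dvd_of_le le_sup_right
    have d2 := index_dvd_of_le (le_sup_left : (Y : Subgroup L) ≤ (Y : Subgroup L) ⊔ K)
    obtain ⟨i, -, e⟩ := (Nat.dvd_prime_pow Nat.prime_two).1 d1
    rcases i with _ | i
    · exact index_eq_one.1 e
    · exact absurd ((e ▸ dvd_pow_self 2 i.succ_ne_zero).trans d2) Y.not_dvd_index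
  obtain ⟨g, hg⟩ := syl_conj syl (Y.isPGroup'.map L.subtype)
  have bL : ∀ b ∈ B, b ∈ L := fun b hb a ha => Or.inl (by rw [ab b hb a ha, mul_inv_cancel_right])
  obtain ⟨c, cS, n, cz⟩ := star g fun b hb => hg _ ⟨⟨b, bL b hb⟩, hY hb, rfl⟩
  have l' : (c * g)⁻¹ * l * (c * g)⁻¹⁻¹ ∈ L := hl.conj (inv_mem n) cz.inv_left
  obtain ⟨y, hy, k, hk, e⟩ := mem_sup_of_normal_right.1 (top.ge (mem_top (⟨_, l'⟩ : L)))
  have e' : (y : G) * k = (c * g)⁻¹ * l * (c * g)⁻¹⁻¹ := congrArg Subtype.val e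
  refine ⟨c * (g * y * g⁻¹) * c⁻¹, mul_mem (mul_mem cS (hg _ ⟨y, hy, rfl⟩)) (inv_mem cS),
    fun b hb => ?_⟩
  have kb := mem_centralizer_iff.1 hk _ ((mem_normalizer_iff.1 (inv_mem n) b).1 hb)
  change _ * (k : G) = (k : G) * _ at kb
  have el : l = c * g * (y * k) * (c * g)⁻¹ := by rw [e']; group
  calc l * b * l⁻¹
      = c * g * y * (k * ((c * g)⁻¹ * b * (c * g)⁻¹⁻¹)) * (k : G)⁻¹ * (y : G)⁻¹ * (c * g)⁻¹ := by
        rw [el]; group
    _ = _ := by rw [← kb]; group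

theorem card_two [Finite G] {A B : Subgroup G} {t : G} (hAB : A ≤ B) (ht : t ∈ B) (hn : t ∉ A)
    (h : ∀ b ∈ B, b ∈ A ∨ b * t ∈ A) : Nat.card B = Nat.card A * 2 := by
  have i : (A.subgroupOf B).index = 2 := index_eq_two_iff.2 ⟨⟨t, ht⟩, fun b => by
    rcases h b b.2 with k | k
    · exact Or.inr ⟨k, fun k' => hn ((A.mul_mem_cancel_left k).1 k')⟩
    · exact Or.inl ⟨k, fun k' => hn ((A.mul_mem_cancel_left k').1 k)⟩⟩
  rw [← (A.subgroupOf B).card_mul_index, i, Nat.card_congr (subgroupOfEquivOfLe hAB).toEquiv]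

end Abs

/-- The fixed points of the graph automorphism. -/
def fx (a b c e : ZMod 2) : N2 := zp a * xc b 1 3 * (xc c 0 3 * xc c 1 4) * (xc e 0 1 * xc e 3 4)

abbrev V3 : Type := Multiplicative (ZMod 2 × ZMod 2 × ZMod 2)

/-- The first elementary subgroup of order eight. -/
def e1 : V3 →* N2 :=
  MonoidHom.mk' (fun p => fx p.toAdd.1 0 p.toAdd.2.1 p.toAdd.2.2) (by decide +kernel)

/-- The second elementary subgroup of order eight. -/
def e2 : V3 →* N2 :=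
  MonoidHom.mk' (fun p => fx p.toAdd.1 p.toAdd.2.1 p.toAdd.2.2 0) (by decide +kernel)

/-- An element that maps `t` to `t z`. -/
def n0 : N2 := xe 0 2 * xe 2 4

theorem eqns : True := by
  have := @fx.eq_1; have := @e1.eq_1; have := @e2.eq_1; have := @n0.eq_1; have := @Tr.eq_1.{0}
  trivial

theorem card_V3 : Nat.card V3 = 8 := by simp [V3]

theorem card_e1 : Nat.card e1.range = 8 := by
  rw [← card_V3]
  exact (Nat.card_congr (MonoidHom.ofInjective (f := e1)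
    ((injective_iff_map_eq_one _).2 (by decide +kernel))).toEquiv).symm

theorem card_e2 : Nat.card e2.range ≤ 8 := by
  rw [← card_V3]
  exact Nat.card_le_card_of_surjective _ e2.rangeRestrict_surjective

theorem mem_e1 {u : N2} : u ∈ e1.range ↔ ∃ a c e, fx a 0 c e = u :=
  ⟨fun ⟨_, h⟩ => ⟨_, _, _, h⟩, fun ⟨a, c, e, h⟩ => ⟨Multiplicative.ofAdd (a, c, e), h⟩⟩

theorem mem_e2 (a b c : ZMod 2) : fx a b c 0 ∈ e2.range := ⟨Multiplicative.ofAdd (a, b, c), rfl⟩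

theorem f1 : ∀ a c e, fx a 0 c e ∈ T0 ∧ fx a 0 c e * fx a 0 c e = 1 ∧
    (tv (fx a 0 c e) → fx a 0 c e = z2) ∧ Commute n0 (fx a 0 c e) := by decide +kernel

theorem f2 : ∀ a c e a' b' c' e', fx a 1 c e * fx a 1 c e = 1 →
    Commute (fx a 1 c e) (fx a' b' c' e') → e' = 0 := by decide +kernel

theorem f3 : fx 1 0 0 0 = z2 ∧ tv (fx 0 1 0 0) ∧ fx 0 1 0 0 ≠ z2 ∧ tv z2 ∧ z2 * z2 = 1 ∧ z2 ≠ 1 ∧
    z2 ∈ T0 ∧ xe 0 2 ∈ T0 ∧ xe 2 4 ∈ T0 ∧ xe 2 4 * xe 0 2 = n0 * z2 ∧ xe 1 4 ∈ AA ∧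
    xe 0 3 ∉ AA := by decide +kernel

theorem f4 : ∀ a b c e, (fx a b c e * fx 0 0 0 1 * (fx a b c e)⁻¹ = fx 0 0 0 1 ∨
    fx a b c e * fx 0 0 0 1 * (fx a b c e)⁻¹ = fx 0 0 0 1 * z2) → b = 0 := by decide +kernel

theorem z01 (b : ZMod 2) : b = 0 ∨ b = 1 := by revert b; decide

theorem e1_T0 : e1.range ≤ T0 := fun _ hu => by
  obtain ⟨a, c, e, rfl⟩ := mem_e1.1 hu
  exact (f1 a c e).1

theorem e1_comm {u v : N2} (hu : u ∈ e1.range) (hv : v ∈ e1.range) : u * v = v * u := by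
  obtain ⟨a, rfl⟩ := hu
  obtain ⟨b, rfl⟩ := hv
  rw [← map_mul, ← map_mul, mul_comm]

section Main

variable {G : Type u} [Group G] {J : N2 → G} {t : G}

/-- The preimage of a subgroup in `T0`. -/
def pb (h : Em J T0) (X : Subgroup G) : Subgroup N2 := (X.comap h.hom).map T0.subtype

theorem eqns2 : True := by
  have := @pb.eq_1.{0}
  trivial

theorem mem_pb {h : Em J T0} {X : Subgroup G} {u : N2} : u ∈ pb h X ↔ u ∈ T0 ∧ J u ∈ X :=
  ⟨fun ⟨v, hv, e⟩ => e ▸ ⟨v.2, hv⟩, fun ⟨a, b⟩ => ⟨⟨u, a⟩, b, rfl⟩⟩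

theorem pb_le {h : Em J T0} {X : Subgroup G} : pb h X ≤ T0 := fun _ hu => (mem_pb.1 hu).1

theorem im_pb (h : Em J T0) (X : Subgroup G) : im J (pb h X) = X ⊓ im J T0 :=
  le_antisymm (im_le fun _ hu => ⟨(mem_pb.1 hu).2, mem_im (mem_pb.1 hu).1⟩) fun x hx => by
    obtain ⟨u, hu, rfl⟩ := h.mem.1 hx.2
    exact mem_im (mem_pb.2 ⟨hu, hx.1⟩)

theorem card_pb (h : Em J T0) (X : Subgroup G) :
    Nat.card (pb h X) = Nat.card (X ⊓ im J T0 : Subgroup G) := by
  rw [← im_pb h, (h.mono pb_le).card]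

theorem form (em : Em J T0) (act : ∀ u ∈ T0, R J t u (gm u)) (t2 : t * t = 1) {X : Subgroup N2}
    (hX : X ≤ T0) (gX : ∀ u ∈ X, gm u ∈ X) {s : G} (hs : s ∈ im J X ⊔ zpowers t) :
    ∃ u ∈ X, s = J u ∨ s = J u * t := by
  have ti : t⁻¹ = t := inv_eq_of_mul_eq_one_right t2
  have tu : ∀ u ∈ X, t * J u = J (gm u) * t := fun u hu =>
    mul_inv_eq_iff_eq_mul.1 (act u (hX hu))
  have m := (em.mono hX).mul
  let D : Subgroup G :=
    { carrier := {s | ∃ u ∈ X, s = J u ∨ s = J u * t}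
      one_mem' := ⟨1, one_mem _, Or.inl em.one.symm⟩
      mul_mem' := by
        rintro _ _ ⟨u, hu, rfl | rfl⟩ ⟨v, hv, rfl | rfl⟩
        · exact ⟨u * v, mul_mem hu hv, Or.inl (m u hu v hv).symm⟩
        · exact ⟨u * v, mul_mem hu hv, Or.inr (by rw [m u hu v hv, mul_assoc])⟩
        · exact ⟨u * gm v, mul_mem hu (gX v hv), Or.inr (by
            rw [m u hu _ (gX v hv), mul_assoc, tu v hv, mul_assoc])⟩
        · exact ⟨u * gm v, mul_mem hu (gX v hv), Or.inl (by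
            rw [m u hu _ (gX v hv), mul_assoc, ← mul_assoc t, tu v hv, mul_assoc, t2, mul_one])⟩
      inv_mem' := by
        rintro _ ⟨u, hu, rfl | rfl⟩
        · exact ⟨u⁻¹, inv_mem hu, Or.inl (em.inv (hX hu)).symm⟩
        · exact ⟨gm u⁻¹, gX _ (inv_mem hu), Or.inr (by
            rw [← tu _ (inv_mem hu), mul_inv_rev, ti, em.inv (hX hu)])⟩ }
  exact (sup_le (im_le fun u hu => ⟨u, hu, Or.inl rfl⟩)
    (zpowers_le.2 ⟨1, one_mem _, Or.inr (by rw [em.one, one_mul])⟩) : _ ≤ D) hs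

end Main

theorem c2e (hB : Base.{u}) (he : E16Stmt) : C2eStmt.{u} := by
  intro G _ _ J φ t tg syl t2 cc h hz ht hc
  have m3 := hB.m3
  have em := tg.em
  have act := tg.act
  obtain ⟨fz, tv13, n13, tvz, zz, z1, zT, x02, x24, gn, x14, x03⟩ := f3
  have ti : t⁻¹ = t := inv_eq_of_mul_eq_one_right t2
  have Jz : J z2 * J z2 = 1 := by rw [← em.mul _ zT _ zT, zz, em.one]
  have Jz1 : J z2 ≠ 1 := fun e => z1 (em.inj _ zT _ (one_mem _) (e.trans em.one.symm))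
  have tT : t ∉ im J T0 := fun k => by
    obtain ⟨y, hy, rfl⟩ := em.mem.1 k
    have a := act _ (AA_le_T0 x14)
    have b := em.self hy (AA_le_T0 x14)
    have c := ((hB.m2.nrm y).2.2.2.1 hy.1).1 _ x14
    rw [R] at a b
    rw [m3.gmx 1 4 (by decide)] at a
    have := em.inj _ (AA_le_T0 c) _ (by decide +kernel) (b.symm.trans a)
    rw [this] at c
    exact x03 c
  have fS : ∀ s ∈ TT J t, ∃ u ∈ T0, s = J u ∨ s = J u * t := fun s hs =>
    form em act t2 le_rfl m3.gma.mem hs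
  have tS : t ∈ TT J t := mem_sup_right (mem_zpowers t)
  have TS : im J T0 ≤ TT J t := le_sup_left
  have sqJ : ∀ u ∈ T0, J u * J u = 1 → u * u = 1 := fun u hu e =>
    em.inj _ (mul_mem hu hu) _ (one_mem _) (by rw [em.mul _ hu _ hu, e, em.one])
  -- outer involutions
  have out : ∀ s ∈ TT J t, s ∉ im J T0 → s * s = 1 → ∃ c ∈ im J T0, c * t * c⁻¹ = s :=
    fun s hs hn s2 => by
      obtain ⟨u, hu, rfl | rfl⟩ := fS s hs
      · exact absurd (mem_im hu) hn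
      have gu := m3.gma.mem u hu
      have : u * gm u = 1 := em.inj _ (mul_mem hu gu) _ (one_mem _) (by
        rw [em.mul _ hu _ gu, ← act u hu, em.one, ← s2, ti]; group)
      obtain ⟨c, hc, rfl⟩ := m3.gmc u hu this
      have gc := m3.gma.mem c hc
      refine ⟨J c, mem_im hc, ?_⟩
      rw [em.mul _ hc _ (inv_mem gc), em.inv gc, ← act c hc]
      group
  have cls : ∀ u ∈ T0, u * u = 1 → (IsConj (J z2) (J u) ↔ tv u) := fun u hu u2 => by
    refine ⟨fun k => ?_, fun k => ?_⟩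
    · by_contra n
      by_cases u1 : u = 1
      · rw [u1, em.one, isConj_one_left] at k
        exact Jz1 k
      obtain ⟨g, hg⟩ := cc.two u hu u2 u1 n
      obtain ⟨g', hg'⟩ := isConj_iff.1 (k.trans (isConj_iff.2 ⟨g, hg⟩))
      exact cc.ne g' hg'
    · obtain ⟨g, hg⟩ := cc.one u hu u2 k
      exact (isConj_iff.2 ⟨g, hg⟩).symm
  have gE : ∀ u ∈ e1.range, gm u = u := fun u hu => by
    obtain ⟨a, c, e, rfl⟩ := mem_e1.1 hu
    exact (m3.gmf _ (f1 a c e).1).2 ⟨a, 0, c, e, rfl⟩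
  have tE : ∀ u ∈ e1.range, t * J u = J u * t := fun u hu => by
    have := act u (e1_T0 hu)
    rw [R, gE u hu] at this
    exact mul_inv_eq_iff_eq_mul.1 this
  have sE : ∀ u ∈ e1.range, J u * J u = 1 := fun u hu => by
    rw [← em.mul _ (e1_T0 hu) _ (e1_T0 hu)]
    obtain ⟨a, c, e, rfl⟩ := mem_e1.1 hu
    rw [(f1 a c e).2.1, em.one]
  have tvE : ∀ u ∈ e1.range, IsConj (J z2) (J u) → u = z2 := fun u hu k => by
    obtain ⟨a, c, e, rfl⟩ := mem_e1.1 hu
    exact (f1 a c e).2.2.1 ((cls _ (f1 a c e).1 (f1 a c e).2.1).1 k)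
  have zE : z2 ∈ e1.range := mem_e1.2 ⟨1, 0, 0, fz⟩
  set B : Subgroup G := im J e1.range ⊔ zpowers t with hBd
  have fB : ∀ b ∈ B, ∃ u ∈ e1.range, b = J u ∨ b = J u * t := fun b hb =>
    form em act t2 e1_T0 (fun u hu => (gE u hu).symm ▸ hu) hb
  have tB : t ∈ B := mem_sup_right (mem_zpowers t)
  have EB : ∀ u ∈ e1.range, J u ∈ B := fun u hu => mem_sup_left (mem_im hu)
  have BS : B ≤ TT J t := sup_le_sup_right (im_mono e1_T0) _
  have sB : ∀ b ∈ B, b * b = 1 := fun b hb => by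
    obtain ⟨u, hu, rfl | rfl⟩ := fB b hb
    · exact sE u hu
    · rw [mul_assoc, ← mul_assoc t, tE u hu, mul_assoc, t2, mul_one, sE u hu]
  have ab : ∀ a ∈ B, ∀ b ∈ B, a * b = b * a := fun a ha b hb => by
    rw [← inv_eq_of_mul_eq_one_right (sB _ (mul_mem ha hb)), mul_inv_rev,
      inv_eq_of_mul_eq_one_right (sB a ha), inv_eq_of_mul_eq_one_right (sB b hb)]
  have cE : Nat.card (im J e1.range) = 8 := by rw [(em.mono e1_T0).card, card_e1]
  have cB : Nat.card B = 16 := by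
    rw [card_two (A := im J e1.range) le_sup_left tB (fun k => tT (im_mono e1_T0 k)) fun b hb => ?_,
      cE]
    obtain ⟨u, hu, rfl | rfl⟩ := fB b hb
    · exact Or.inl (mem_im hu)
    · exact Or.inr (by rw [mul_assoc, t2, mul_one]; exact mem_im hu)
  have oB : ∀ u ∈ e1.range, IsConj t (J u * t) := fun u hu => by
    obtain ⟨c, -, e⟩ := out _ (BS (mul_mem (EB u hu) tB))
      (fun k => tT ((Subgroup.mul_mem_cancel_left _ (mem_im (e1_T0 hu))).1 k))
      (sB _ (mul_mem (EB u hu) tB))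
    exact isConj_iff.2 ⟨c, e⟩
  have hB' : ∀ b ∈ B, h * b * h⁻¹ ∈ TT J t := fun b hb => hc b (BS hb) (ab b hb t tB)
  have hz' : h * J z2 * h⁻¹ = J z2 := by
    rw [mem_centralizer_singleton_iff.1 hz, mul_inv_cancel_right]
  have cardc : ∀ (g : G) (X : Subgroup G),
      Nat.card (X.map (MulAut.conj g).toMonoidHom) = Nat.card X := fun g X =>
    card_map_of_injective (MulAut.conj g).injective
  by_cases tz : IsConj (J z2) t
  · have hE : ∀ u ∈ e1.range, h * J u * h⁻¹ ∈ im J T0 := fun u hu => by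
      by_contra n
      obtain ⟨c, -, e⟩ := out _ (hB' _ (EB u hu)) n (by rw [conj_mul, sE u hu]; simp)
      have := tvE u hu ((tz.trans (isConj_iff.2 ⟨c, e⟩)).trans (isConj_iff.2 ⟨h, rfl⟩).symm)
      rw [this, hz'] at n
      exact n (mem_im zT)
    obtain ⟨y, hy, ey⟩ := em.mem.1 ht
    have mH : ∀ u ∈ pb em ((im J e1.range).map (MulAut.conj h).toMonoidHom),
        u ∈ T0 ∧ ∃ v ∈ e1.range, J u = h * J v * h⁻¹ := fun u hu => by
      obtain ⟨a, _, b, e⟩ := mem_pb.1 hu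
      obtain ⟨v, hv, rfl⟩ := (em.mono e1_T0).mem.1 b
      exact ⟨a, v, hv, e.symm⟩
    obtain ⟨u, hu, k⟩ := he.2 (pb em ((im J e1.range).map (MulAut.conj h).toMonoidHom)) y pb_le hy
      (fun u hu => by
        obtain ⟨a, v, hv, e⟩ := mH u hu
        exact sqJ u a (by rw [e, conj_mul, sE v hv]; simp))
      (by
        rw [card_pb, inf_eq_left.2, cardc, cE]
        rintro _ ⟨_, b, rfl⟩
        obtain ⟨v, hv, rfl⟩ := (em.mono e1_T0).mem.1 b
        exact hE v hv)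
      (mem_pb.2 ⟨zT, _, mem_im zE, hz'⟩)
      (fun u hu => by
        obtain ⟨a, v, hv, e⟩ := mH u hu
        exact em.inj _ (mul_mem hy a) _ (mul_mem a hy) (by
          rw [em.mul _ hy _ a, em.mul _ a _ hy, e, ey, conj_mul, conj_mul, tE v hv]))
      (fun u hu k => by
        obtain ⟨a, v, hv, e⟩ := mH u hu
        have := (cls u a (sqJ u a (by rw [e, conj_mul, sE v hv]; simp))).2 k
        rw [e] at this
        rw [tvE v hv (this.trans (isConj_iff.2 ⟨h, rfl⟩).symm), hz'] at e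
        exact em.inj _ a _ zT e)
    obtain ⟨a, v, hv, e⟩ := mH u hu
    have yu : J (y * u) = h * (J v * t) * h⁻¹ := by
      rw [em.mul _ hy _ a, e, ey, conj_mul, tE v hv]
    refine k ⟨(cls _ (mul_mem hy a) (sqJ _ (mul_mem hy a) ?_)).1 ?_, fun n => ?_⟩
    · rw [yu, conj_mul, sB _ (mul_mem (EB v hv) tB)]; simp
    · rw [yu]
      exact (tz.trans (oB v hv)).trans (isConj_iff.2 ⟨h, rfl⟩)
    · obtain ⟨-, w, hw, e'⟩ := mH _ n
      rw [yu] at e'
      have : J v * t = J w := by simpa using e'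
      exact tT ((Subgroup.mul_mem_cancel_left _ (mem_im (e1_T0 hv))).1 (this ▸ mem_im (e1_T0 hw)))
  have uz : ∀ b ∈ B, IsConj (J z2) b → b = J z2 := fun b hb k => by
    obtain ⟨u, hu, rfl | rfl⟩ := fB b hb
    · rw [tvE u hu k]
    · exact absurd (k.trans (oB u hu).symm) tz
  have star : ∀ g, (∀ b ∈ B, g * b * g⁻¹ ∈ TT J t) →
      ∃ c ∈ im J T0, c * g ∈ normalizer (B : Set G) ∧ Commute (c * g) (J z2) := fun g hg => by
    have two : ∀ (g : G) (u v : N2), u ∈ pb em (B.map (MulAut.conj g).toMonoidHom) →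
        v ∈ pb em (B.map (MulAut.conj g).toMonoidHom) → tv u → tv v → u = v := fun g u v hu hv a b => by
      have key : ∀ u ∈ pb em (B.map (MulAut.conj g).toMonoidHom), tv u →
          J u = g * J z2 * g⁻¹ := fun u hu a => by
        obtain ⟨uT, x, hx, e⟩ := mem_pb.1 hu
        have e' : g * x * g⁻¹ = J u := e
        have := (cls u uT (sqJ u uT (by rw [← e', conj_mul, sB x hx]; simp))).2 a
        rw [← e', uz x hx (this.trans (isConj_iff.2 ⟨g, e'⟩).symm)]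
      exact em.inj _ (pb_le hu) _ (pb_le hv) ((key u hu a).trans (key v hv b).symm)
    have sq : ∀ (g : G), ∀ u ∈ pb em (B.map (MulAut.conj g).toMonoidHom), u * u = 1 :=
      fun g u hu => by
        obtain ⟨uT, x, hx, e⟩ := mem_pb.1 hu
        have e' : g * x * g⁻¹ = J u := e
        exact sqJ u uT (by rw [← e', conj_mul, sB x hx]; simp)
    have ex : ∃ b ∈ B, g * b * g⁻¹ ∉ im J T0 := by
      by_contra! n
      obtain ⟨u, hu, v, hv, ne, a, b⟩ := he.1 (pb em (B.map (MulAut.conj g).toMonoidHom)) pb_le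
        (sq g) (by
          rw [card_pb, inf_eq_left.2, cardc, cB]
          rintro _ ⟨b, hb, rfl⟩
          exact n b hb)
      exact ne (two g u v hu hv a b)
    obtain ⟨b0, hb0, n0'⟩ := ex
    obtain ⟨c, cT, ec⟩ := out _ (hg b0 hb0) n0' (by rw [conj_mul, sB b0 hb0]; simp)
    have e0 : c⁻¹ * g * b0 * (c⁻¹ * g)⁻¹ = t := by
      rw [show c⁻¹ * g * b0 * (c⁻¹ * g)⁻¹ = c⁻¹ * (g * b0 * g⁻¹) * c by group, ← ec]; group
    have hg' : ∀ b ∈ B, c⁻¹ * g * b * (c⁻¹ * g)⁻¹ ∈ TT J t := fun b hb => by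
      rw [show c⁻¹ * g * b * (c⁻¹ * g)⁻¹ = c⁻¹ * (g * b * g⁻¹) * c by group]
      exact mul_mem (mul_mem (inv_mem (TS cT)) (hg b hb)) (TS cT)
    refine ⟨c⁻¹, inv_mem cT, ?_⟩
    generalize c⁻¹ * g = k at e0 hg' ⊢
    set X := B.map (MulAut.conj k).toMonoidHom with hX
    have tX : t ∈ X := ⟨b0, hb0, e0⟩
    have fX : ∀ x ∈ X, ∃ u ∈ pb em X, x = J u ∨ x = J u * t := by
      rintro _ ⟨b, hb, rfl⟩
      obtain ⟨u, hu, e | e⟩ := fS _ (hg' b hb)
      · exact ⟨u, mem_pb.2 ⟨hu, b, hb, e⟩, Or.inl e⟩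
      · exact ⟨u, mem_pb.2 ⟨hu, (Subgroup.mul_mem_cancel_right _ tX).1 ⟨b, hb, e⟩⟩, Or.inr e⟩
    have c8 : Nat.card (pb em X) = 8 := by
      have := card_two (A := X ⊓ im J T0) inf_le_left tX (fun k => tT k.2) fun x hx => by
        obtain ⟨u, hu, rfl | rfl⟩ := fX x hx
        · exact Or.inl ⟨hx, mem_im (pb_le hu)⟩
        · exact Or.inr ⟨mul_mem hx tX, by rw [mul_assoc, t2, mul_one]; exact mem_im (pb_le hu)⟩
      rw [hX, cardc, cB, ← hX, ← card_pb em] at this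
      omega
    have abX : ∀ x ∈ X, ∀ y ∈ X, x * y = y * x := by
      rintro _ ⟨a, ha, rfl⟩ _ ⟨b, hb, rfl⟩
      rw [← map_mul, ← map_mul, ab a ha b hb]
    have fixX : ∀ u ∈ pb em X, ∃ a b c e, u = fx a b c e := fun u hu => by
      obtain ⟨uT, uX⟩ := mem_pb.1 hu
      refine (m3.gmf u uT).1 (em.inj _ (m3.gma.mem u uT) _ uT ?_)
      rw [← act u uT, abX t tX _ uX, mul_inv_cancel_right]
    have le1 : ∀ u ∈ pb em X, u ∈ e1.range := fun u hu => by
      obtain ⟨a, b, c, e, rfl⟩ := fixX u hu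
      rcases z01 b with rfl | rfl
      · exact mem_e1.2 ⟨a, c, e, rfl⟩
      exfalso
      have le2 : pb em X ≤ e2.range := fun v hv => by
        obtain ⟨a', b', c', e', rfl⟩ := fixX v hv
        rw [f2 a c e a' b' c' e' (sq k _ hu) (em.inj _ (pb_le (mul_mem hu hv)) _
          (pb_le (mul_mem hv hu)) (by
            rw [em.mul _ (pb_le hu) _ (pb_le hv), em.mul _ (pb_le hv) _ (pb_le hu),
              abX _ (mem_pb.1 hu).2 _ (mem_pb.1 hv).2]))]
        exact mem_e2 a' b' c'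
      have eq2 := eq_of_le_of_card_ge le2 (c8 ▸ card_e2)
      exact n13 (two k _ _ (eq2.ge (mem_e2 0 1 0)) (eq2.ge (fz ▸ mem_e2 1 0 0)) tv13 tvz)
    have nB : ∀ b ∈ B, k * b * k⁻¹ ∈ B := fun b hb => by
      obtain ⟨u, hu, e | e⟩ := fX _ ⟨b, hb, rfl⟩
      · exact (show k * b * k⁻¹ = J u from e) ▸ EB u (le1 u hu)
      · exact (show k * b * k⁻¹ = J u * t from e) ▸ mul_mem (EB u (le1 u hu)) tB
    exact ⟨mem_normalizer_fintype nB,
      mul_inv_eq_iff_eq_mul.1 (uz _ (nB _ (EB _ zE)) (isConj_iff.2 ⟨k, rfl⟩))⟩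
  have nT : n0 ∈ T0 := mul_mem x02 x24
  have gn0 : gm n0 = n0 * z2 := by
    rw [← gn, n0, m3.gma.mul _ x02 _ x24, m3.gmx 0 2 (by decide), m3.gmx 2 4 (by decide)]
    rfl
  have cz : ∀ u ∈ T0, J u * J z2 = J z2 * J u := fun u hu => by
    rw [← em.mul _ hu _ zT, ← em.mul _ zT _ hu, (hB.m2.ab.2.2.2.2.2.2 u).eq]
  have tzc : t * J z2 = J z2 * t := tE _ zE
  have nE : ∀ u ∈ e1.range, J n0 * J u = J u * J n0 := fun u hu => by
    rw [← em.mul _ nT _ (e1_T0 hu), ← em.mul _ (e1_T0 hu) _ nT]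
    obtain ⟨a, c, e, rfl⟩ := mem_e1.1 hu
    rw [(f1 a c e).2.2.2.eq]
  have nt : J n0 * t * (J n0)⁻¹ = t * J z2 := by
    have := act n0 nT
    rw [R, gn0, em.mul _ nT _ zT, mul_inv_eq_iff_eq_mul] at this
    rw [mul_inv_eq_iff_eq_mul, mul_assoc t, ← cz _ nT, ← mul_assoc, this, mul_assoc, mul_assoc,
      tzc, ← mul_assoc (J z2), Jz, one_mul]
  have trn : Tr B (J z2) (J n0) := fun b hb => by
    obtain ⟨u, hu, rfl | rfl⟩ := fB b hb
    · exact Or.inl (by rw [nE u hu, mul_inv_cancel_right])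
    · exact Or.inr (by rw [← conj_mul, nE u hu, mul_inv_cancel_right, nt, mul_assoc])
  have zB := EB _ zE
  have fin : ∀ s ∈ TT J t, Tr B (J z2) s → ∀ v ∈ e1.range, s * J v * s⁻¹ = J v := by
    have k1 : ∀ y ∈ T0, Tr B (J z2) (J y) → J y * t * (J y)⁻¹ = t →
        ∀ v ∈ e1.range, J y * J v * (J y)⁻¹ = J v := fun y hy tr e v hv => by
      obtain ⟨a, b, c, d, rfl⟩ : ∃ a b c e, y = fx a b c e :=
        (m3.gmf y hy).1 (em.inj _ (m3.gma.mem y hy) _ hy (by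
          rw [← act y hy, ← mul_inv_eq_iff_eq_mul.1 e, mul_inv_cancel_right]))
      have aE : fx 0 0 0 1 ∈ e1.range := mem_e1.2 ⟨0, 0, 1, rfl⟩
      have aT := e1_T0 aE
      have s := em.self hy aT
      have m := mul_mem (mul_mem hy aT) (inv_mem hy)
      rw [R] at s
      have b0 := f4 a b c d ((tr _ (EB _ aE)).imp
        (fun k => em.inj _ m _ aT (s.symm.trans k))
        fun k => em.inj _ m _ (mul_mem aT zT) (by rw [← s, k, em.mul _ aT _ zT]))
      subst b0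
      rw [ab _ (EB _ (mem_e1.2 ⟨a, c, d, rfl⟩)) _ (EB v hv), mul_inv_cancel_right]
    have k2 : ∀ y ∈ T0, Tr B (J z2) (J y) → ∀ v ∈ e1.range, J y * J v * (J y)⁻¹ = J v :=
      fun y hy tr v hv => by
        rcases tr t tB with e | e
        · exact k1 y hy tr e v hv
        have m := em.mul _ nT _ hy
        have := k1 _ (mul_mem nT hy) (m ▸ trn.mul tr zB Jz Jz1) (by
          rw [m, show J n0 * J y * t * (J n0 * J y)⁻¹ = J n0 * (J y * t * (J y)⁻¹) * (J n0)⁻¹ by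
            group, e, ← conj_mul, nt, cz _ nT, mul_inv_cancel_right, mul_assoc, Jz, mul_one]) v hv
        rw [m] at this
        calc J y * J v * (J y)⁻¹
            = (J n0)⁻¹ * (J n0 * J y * J v * (J n0 * J y)⁻¹) * J n0 := by group
          _ = J v := by rw [this, mul_assoc, ← nE v hv, inv_mul_cancel_left]
    intro s hs tr v hv
    obtain ⟨y, hy, rfl | rfl⟩ := fS s hs
    · exact k2 y hy tr v hv
    · have trt : Tr B (J z2) t := fun b hb => Or.inl (by rw [ab t tB b hb, mul_inv_cancel_right])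
      have := k2 y hy (by
        have := tr.mul trt zB Jz Jz1
        rwa [mul_assoc, t2, mul_one] at this) v hv
      rw [show J y * t * J v * (J y * t)⁻¹ = J y * (t * J v * t⁻¹) * (J y)⁻¹ by group, tE v hv,
        mul_inv_cancel_right, this]
  obtain ⟨c, cT, nh, hcz⟩ := star h hB'
  have tr1 := trn.conj nh hcz
  obtain ⟨s, sS, es⟩ := core zB Jz Jz1 ab (syl.grp.to_le BS) syl
    (fun g hg => (star g hg).imp fun c k => ⟨TS k.1, k.2⟩) tr1
  have m1 : c * h * t * (c * h)⁻¹ ∈ B := (mem_normalizer_iff.1 nh t).1 tB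
  have m2 : c * h * t * (c * h)⁻¹ ∈ im J T0 := by
    rw [show c * h * t * (c * h)⁻¹ = c * (h * t * h⁻¹) * c⁻¹ by group]
    exact mul_mem (mul_mem cT ht) (inv_mem cT)
  obtain ⟨v, hv, e | e⟩ := fB _ m1
  · have := es _ m1
    rw [e, fin s sS (fun b hb => es b hb ▸ tr1 b hb) v hv, ← e,
      show c * h * J n0 * (c * h)⁻¹ * (c * h * t * (c * h)⁻¹) * (c * h * J n0 * (c * h)⁻¹)⁻¹ =
        c * h * (J n0 * t * (J n0)⁻¹) * (c * h)⁻¹ by group, nt] at this
    exact Jz1 (by simpa using this)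
  · rw [e] at m2
    exact tT ((Subgroup.mul_mem_cancel_left _ (mem_im (e1_T0 hv))).1 m2)

end Cfsg.Agent.H47.KnC2e
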