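import Cfsg.Agent.H76.K0Defs
import Cfsg.Agent.S0907
import Cfsg.Agent.H11.Inner
import Cfsg.Agent.H12.Values
import Cfsg.Agent.H13.Complete
import Cfsg.Agent.H21.Basic

/-! The regular character of the principal block is divisible by the order of a Sylow subgroup. -/

set_option autoImplicit false

namespace Cfsg.Agent.H47.K0R

open Cfsg Cfsg.Agent.H76.K0

universe u

theorem r : RStmt.{u} := by
  intro G _ _ p hp M hM P g
  classical
  haveI : Finite (IrrCharacter G) := H13.finite_irrCharacter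
  haveI : Fintype (P : Subgroup G) := Fintype.ofFinite _
  have one : IsIrrCharacter G (fun _ => (1 : ℂ)) := H11.isIrrCharacter_one
  have hB : IsPBlock M (principalBlock M G) := ⟨⟨_, one⟩, rfl⟩
  have orth : ∀ x y : G, ¬ p ∣ orderOf x → p ∣ orderOf y →
      ∑ χ ∈ (Set.toFinite (principalBlock M G)).toFinset,
        (χ : G → ℂ) x * (starRingEnd ℂ) ((χ : G → ℂ) y) = 0 := fun x y hx hy => by
    rw [← finsum_mem_eq_finite_toFinset_sum _ (Set.toFinite _)]
    exact S0907.result p M hM _ hB x y hx hy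
  have c1 : ∀ χ : IrrCharacter G, (starRingEnd ℂ) ((χ : G → ℂ) 1) = charDegree (χ : G → ℂ) :=
    fun χ => by rw [← H21.cast_deg χ]; simp
  rw [finsum_mem_eq_finite_toFinset_sum _ (Set.toFinite _)]
  by_cases hg : p ∣ orderOf g
  · refine ⟨0, isIntegral_zero, ?_⟩
    have h0 := congrArg (starRingEnd ℂ) (orth 1 g (by simpa using hp.out.one_lt.ne') hg)
    rw [map_sum, map_zero] at h0
    rw [mul_zero, ← h0]
    refine Finset.sum_congr rfl fun χ _ => ?_
    rw [map_mul, c1, Complex.conj_conj]
  · have hn : ∀ χ : IrrCharacter G, ∃ n : ℕ,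
        ∑ z : (P : Subgroup G), (starRingEnd ℂ) ((χ : G → ℂ) z) = (Nat.card P : ℂ) * n := fun χ => by
      obtain ⟨n, hn⟩ := H11.exists_nat_classInner (G := (P : Subgroup G)) H11.isCharacter_one
        (H11.isCharacter_restrict (H11.isCharacter_of_irr χ.2) (P : Subgroup G))
      refine ⟨n, ?_⟩
      have c0 : (Nat.card (P : Subgroup G) : ℂ) ≠ 0 := Nat.cast_ne_zero.2 Nat.card_pos.ne'
      rw [← hn]
      simp only [classInner, one_mul]
      exact (mul_inv_cancel_left₀ c0 _).symm
    choose n hn using hn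
    refine ⟨∑ χ ∈ (Set.toFinite (principalBlock M G)).toFinset, (χ : G → ℂ) g * n χ, ?_, ?_⟩
    · refine IsIntegral.sum _ fun χ _ => IsIntegral.mul ?_ ?_
      · obtain ⟨m, ρ, -, e⟩ := χ.2
        rw [← e]
        exact H12.isIntegral_character ρ g
      · exact_mod_cast isIntegral_algebraMap (R := ℤ) (A := ℂ) (x := (n χ : ℤ))
    · have e1 : ∑ z : (P : Subgroup G), ∑ χ ∈ (Set.toFinite (principalBlock M G)).toFinset,
          (χ : G → ℂ) g * (starRingEnd ℂ) ((χ : G → ℂ) z) =
          ∑ χ ∈ (Set.toFinite (principalBlock M G)).toFinset,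
          (χ : G → ℂ) g * (starRingEnd ℂ) ((χ : G → ℂ) ((1 : (P : Subgroup G)) : G)) := by
        refine Finset.sum_eq_single (1 : (P : Subgroup G)) (fun z _ hz => orth g z hg ?_) (by simp)
        obtain ⟨k, hk⟩ := IsPGroup.iff_orderOf.1 P.isPGroup' z
        rw [Subgroup.orderOf_coe, hk]
        refine dvd_pow_self p fun k0 => hz ?_
        rw [k0, pow_zero] at hk
        exact orderOf_eq_one_iff.1 hk
      rw [Finset.sum_comm] at e1
      rw [Finset.mul_sum]
      refine Eq.trans ?_ (e1.symm.trans ?_)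
      · refine Finset.sum_congr rfl fun χ _ => ?_
        rw [OneMemClass.coe_one, c1, mul_comm]
      · refine Finset.sum_congr rfl fun χ _ => ?_
        rw [← Finset.mul_sum, hn, mul_left_comm]

end Cfsg.Agent.H47.K0R
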