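import Cfsg.Agent.H45.IvDefs

/-! Project CY (row S3256), chapter IV, piece NOF. -/

set_option autoImplicit false

namespace Cfsg.Agent.H47.CyNof

open Subgroup MulAction Cfsg.Agent.H11.Cy Cfsg.Agent.H45.Iv
open scoped commutatorElement

theorem nof : NofStmt := by
  intro G _ _ Ω _ _ p A h ep sk ls x y hxy z hz b hb c hc hzc
  have hzz : z * z = 1 := (ls x y hxy).2.2.1.zsq z hz
  have hzi : z⁻¹ = z := inv_eq_of_mul_eq_one_right hzz
  have hbb : b ≠ z • b := fun e => hb e.symm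
  obtain ⟨la, lb, -, -⟩ := ls b (z • b) hbb
  obtain ⟨l1, l2⟩ := sk.ln b (z • b)
  have hzb : z • z • b = b := by rw [← mul_smul, hzz, one_smul]
  obtain ⟨eR, -, -⟩ := sk.sp b (z • b) hbb (z • b) l2 b l1 hb
  have zfix : ∀ k ∈ Zl A b (z • b), ∀ w ∈ Ln A b (z • b), k • w = w := fun k hk =>
    (ep.kfix b (z • b) hbb k).1 (mem_inf.1 hk).2
  have cjR : ∀ r ∈ Rl A b (z • b), z * r * z⁻¹ ∈ Rl A b (z • b) := by
    intro r hr
    have := (sk.cj z b (z • b) r).2.1 hr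
    rwa [hzb, eR] at this
  have rle : Rl A b (z • b) ≤ Fl A b (z • b) := by
    rw [← la.sup]; exact le_sup_left
  have key : ∃ r ∈ Rl A b (z • b), r ∉ Zl A b (z • b) ∧ z * r * z⁻¹ * r⁻¹ ∈ Zl A b (z • b) := by
    obtain ⟨r, hr, hrb⟩ := la.tr (z • b) l2
    have hrz : r ∉ Zl A b (z • b) := fun e => hb (by rw [← hrb]; exact zfix r e b l1)
    by_cases e : z * r * z⁻¹ * r⁻¹ ∈ Zl A b (z • b)
    · exact ⟨r, hr, hrz, e⟩
    · have h2 : z * r * z⁻¹ * r⁻¹ ∈ Rl A b (z • b) := mul_mem (cjR r hr) (inv_mem hr)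
      refine ⟨_, h2, e, ?_⟩
      have h3 := inv_mem (lb.sq _ h2)
      have h4 : z * (z * r * z⁻¹ * r⁻¹) * z⁻¹ * (z * r * z⁻¹ * r⁻¹)⁻¹ =
          (z * r * z⁻¹ * r⁻¹ * (z * r * z⁻¹ * r⁻¹))⁻¹ := by
        have : z * (z * r * z⁻¹ * r⁻¹) = r * z * r⁻¹ := by
          rw [hzi]
          calc z * (z * r * z * r⁻¹) = (z * z) * r * z * r⁻¹ := by group
            _ = _ := by rw [hzz, one_mul]
        rw [this]; group
      rw [h4]; exact h3
  obtain ⟨r, hr, hrz, hk⟩ := key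
  have hrc : r • c ∈ Ln A b (z • b) :=
    (ep.nrm b (z • b) hbb r).1 (le_normalizer (rle hr)) c hc
  have hne : c ≠ r • c := fun e => hrz (lb.stab r hr c hc e.symm)
  have hfx : z • r • c = r • c := by
    have h1 := zfix _ hk _ hrc
    have h2 : z⁻¹ • c = c := by rw [hzi, hzc]
    calc z • r • c = z • r • z⁻¹ • c := by rw [h2]
      _ = (z * r * z⁻¹ * r⁻¹) • r • c := by simp only [mul_smul, inv_smul_smul]
      _ = _ := h1
  obtain ⟨sub, -, -⟩ := sk.fx x y hxy z hz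
  have h5 := sub c hzc (r • c) hfx hne
  rw [(sk.sp b (z • b) hbb c hc (r • c) hrc hne).2.2] at h5
  exact hb (h5 l1)

end Cfsg.Agent.H47.CyNof
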