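import Cfsg.Agent.H47.BuDefs

/-! The sublattices orthogonal to `vU`, `vX` modulo two: generators and invariant functions. -/

set_option autoImplicit false
set_option maxRecDepth 100000

namespace Cfsg.Agent.H47.Bu

open Cfsg Subgroup Cfsg.Agent.H48 Cfsg.Agent.H49

/-- a basis of the lattice modulo two -/
def bT : List (List ℤ) :=
  [[2, 0, 2, 0, 0, 0, 0, 0, 0, 0, 0, 0, 0, 2, 2, 2, 2, 2, 0, 0, 2, 0, 0, 0],
   [2, 0, 0, 2, 0, 0, 0, 0, 0, 0, 0, 0, 0, 2, 2, 0, 2, 0, 0, 2, 0, 2, 0, 2],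
   [4, 4, 0, 0, 0, 0, 0, 0, 0, 0, 0, 0, 0, 0, 0, 0, 0, 0, 0, 0, 0, 0, 0, 0],
   [0, 0, 4, 0, 0, 0, 0, 0, 0, 0, 0, 0, 0, 0, 0, 0, 0, 0, 0, 0, 0, 0, 0, 4],
   [0, 0, -4, 0, 0, 0, 0, 0, 0, 0, 0, 0, 0, 0, 0, 0, 0, 0, 0, 0, 0, 0, 0, 4],
   [0, 0, 0, 4, 0, 0, 0, 0, 0, 0, 0, 0, 0, 0, 0, 0, 0, 0, 0, 0, 0, 0, 0, 4],
   [0, 0, 0, 0, 4, 0, 0, 0, 0, 0, 0, 0, 0, 0, 0, 0, 0, 0, 0, 0, 0, 0, 0, 4],
   [0, 0, 0, 0, 0, 4, 0, 0, 0, 0, 0, 0, 0, 0, 0, 0, 0, 0, 0, 0, 0, 0, 0, 4],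
   [0, 0, 0, 0, 0, 0, 4, 0, 0, 0, 0, 0, 0, 0, 0, 0, 0, 0, 0, 0, 0, 0, 0, 4],
   [0, 0, 0, 0, 0, 0, 0, 4, 0, 0, 0, 0, 0, 0, 0, 0, 0, 0, 0, 0, 0, 0, 0, 4],
   [0, 0, 0, 0, 0, 0, 0, 0, 4, 0, 0, 0, 0, 0, 0, 0, 0, 0, 0, 0, 0, 0, 0, 4],
   [0, 0, 0, 0, 0, 0, 0, 0, 0, 4, 0, 0, 0, 0, 0, 0, 0, 0, 0, 0, 0, 0, 0, 4],
   [0, 0, 0, 0, 0, 0, 0, 0, 0, 0, 4, 0, 0, 0, 0, 0, 0, 0, 0, 0, 0, 0, 0, 4],
   [0, 0, 0, 0, 0, 0, 0, 0, 0, 0, 0, 4, 0, 0, 0, 0, 0, 0, 0, 0, 0, 0, 0, 4],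
   [2, 2, 0, 0, 0, 0, 0, 0, 0, 0, 0, 0, 0, 2, 0, 2, 0, 2, 2, 2, 0, 0, 0, 2],
   [2, 2, 2, 0, 2, 0, 0, 0, 0, 0, 0, 0, 0, 2, 0, 0, 2, 0, 0, 0, 0, 0, 2, 2],
   [2, 2, 2, 2, 0, 2, 0, 0, 0, 0, 0, 0, 0, 0, 2, 0, 0, 2, 0, 0, 0, 0, 0, 2],
   [2, 2, 0, 0, 0, 2, 2, 0, 0, 0, 0, 0, 0, 0, 0, 0, 0, 0, 2, 0, 2, 0, 2, 2],
   [2, 2, 2, 0, 0, 0, 2, 2, 0, 0, 0, 0, 0, 0, 0, 0, 0, 0, 0, 2, 0, 2, 0, 2],
   [2, 2, 0, 0, 0, 0, 0, 0, 2, 0, 0, 0, 0, 0, 0, 0, 2, 2, 0, 0, 2, 2, 0, 2],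
   [2, 2, 0, 2, 0, 0, 0, 2, 0, 2, 0, 0, 0, 0, 0, 0, 2, 0, 2, 0, 0, 0, 0, 2],
   [2, 2, 0, 0, 2, 0, 0, 0, 0, 0, 2, 0, 0, 0, 2, 0, 0, 0, 2, 0, 0, 2, 0, 2],
   [2, 2, 0, 2, 2, 0, 0, 0, 0, 0, 0, 2, 0, 0, 0, 0, 0, 0, 0, 2, 2, 0, 0, 2],
   [1, 1, -1, -1, 1, 1, 1, 1, 1, 1, 1, 1, 1, 1, 1, -1, 1, -1, 1, -1, -1, -1, 1, 3]]

/-- the dual basis -/
def dT : List (List ℤ) :=
  [[4, 0, 0, 0, 0, 0, 0, 0, 0, 0, 0, 0, 0, 0, 0, 0, 0, 0, 0, 0, 0, 0, 0, 4],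
   [0, 4, 0, 0, 0, 0, 0, 0, 0, 0, 0, 0, 0, 0, 0, 0, 0, 0, 0, 0, 0, 0, 0, 4],
   [4, -6, 0, 0, 0, 0, 0, 0, 0, 0, 0, 0, 2, -2, 2, 2, 2, 0, 0, 2, 0, 0, 2, 0],
   [1, -1, -1, 1, 1, 1, 1, 1, 1, 1, 1, 1, -3, 1, -1, 1, -1, 1, -1, -1, -1, 1, 1, -1],
   [1, -1, -1, -1, -1, -1, -1, 3, -1, 3, -1, 3, 1, -1, 1, -1, 1, 1, 1, -1, -1, -1, 1, 1],
   [4, 0, 0, 2, 0, 0, 0, 0, 0, 0, 0, 0, 2, -2, 0, 0, 0, -2, -2, -2, 0, 2, 2, 4],
   [2, -2, 0, 0, -2, 0, 0, 0, 0, 0, 0, 0, -2, 0, 0, -2, -2, 0, 2, 0, 2, 0, 4, 0],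
   [2, 2, 4, 4, 0, 2, 0, 0, 0, 0, 0, 0, 0, 0, 2, -2, 0, 0, 0, -2, 2, 2, 0, 0],
   [2, 2, 4, 4, 0, 0, 2, 0, 0, 0, 0, 0, 0, -2, -2, 0, 0, -2, 0, 0, 0, -2, 2, 0],
   [0, 0, 0, 0, 0, 0, 0, 2, 0, 0, 0, 0, -6, 0, 2, -2, 0, -2, -2, -2, 2, 0, 0, 0],
   [0, 0, 0, 0, 0, 0, 0, 0, 2, 0, 0, 0, 0, -2, 0, -2, 2, 0, -2, -2, 2, 2, 0, 0],
   [4, 0, 0, 0, 0, 0, 0, 0, 0, 2, 0, 0, 0, 0, 2, 0, -2, -2, 0, 2, -2, -2, 2, -4],
   [-2, 2, 0, 0, 0, 0, 0, 0, 0, 0, 2, 0, 2, 2, -2, 0, 2, -2, 2, 2, 2, 2, 0, 4],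
   [6, 2, 0, 0, 4, 0, 0, 0, 0, 0, 0, 2, 0, 0, 0, 0, 2, 0, -2, 2, 0, -2, 2, 0],
   [4, 0, 0, 0, 0, 0, 0, 0, 0, 0, 0, 0, 4, 0, 0, 4, 0, 0, 0, 0, 0, 0, 0, 4],
   [4, 0, 0, 0, 0, 0, 0, 0, 0, 0, 0, 0, 0, 0, 0, 0, 0, 4, 4, 4, 0, 0, 0, 0],
   [4, 4, 0, 0, 0, 0, 0, 0, 0, 0, 4, 0, 0, 0, 4, 0, 0, 0, 0, 0, 0, 0, 0, 0],
   [4, 0, 0, 4, 0, 0, 0, 0, 0, 0, 0, 0, 0, 4, 0, 0, 0, 0, 0, 0, 0, 4, 0, 0],
   [0, 0, 0, 0, 0, 0, 0, 4, 0, -4, 0, 0, 0, 0, 0, 0, 0, 0, 0, 0, 0, 0, 0, 0],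
   [0, 0, 0, 0, 0, 0, 0, 0, 4, 0, 0, 0, -4, 0, 0, 0, 0, 0, 0, 0, 0, 0, 0, 0],
   [0, 0, 0, 0, 0, 0, 0, 0, 0, 4, 0, 0, -4, 0, 0, 0, 0, 0, 0, 0, 0, 0, 0, 0],
   [0, 0, 0, 0, 0, 0, 0, 0, 0, 0, 4, 0, -4, 0, 0, 0, 0, 0, 0, 0, 0, 0, 0, 0],
   [0, 0, 0, 0, 0, 0, 0, 0, 0, 0, 0, 4, -4, 0, 0, 0, 0, 0, 0, 0, 0, 0, 0, 0],
   [8, 0, 0, 0, 0, 0, 0, 0, 0, 0, 0, 0, 0, 0, 0, 0, 0, 0, 0, 0, 0, 0, 0, 0]]

theorem bT_ok : ∀ i : Fin 24, memL (bT.getD i []) = true := by decide +kernel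

theorem dT_ok : ∀ i : Fin 24, memL (dT.getD i []) = true := by decide +kernel

/-- the basis vectors -/
def bv (i : Fin 24) : Lam := lam _ (bT_ok i)

/-- the dual vectors -/
def dv (i : Fin 24) : Lam := lam _ (dT_ok i)

theorem gram (i j : Fin 24) : dotInt (bv i).1 (dv j).1 % 16 = if i = j then 8 else 0 := by
  rw [bv, dv, lam_val, lam_val, dot_vec _ _ (memL_length (bT_ok i))]
  revert i j
  decide +kernel

theorem dv_zero : dv 0 = vU := Subtype.ext (by decide +kernel)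

theorem dv_one : dv 1 = vX := Subtype.ext (by decide +kernel)

theorem bv_spec : ∀ i : Fin 24, sqNorm (bv i).1 = 32 ∧ (i ≠ 0 → dotInt (bv i).1 vU.1 = 16) ∧
    (i ≠ 0 → i ≠ 1 → dotInt (bv i).1 vX.1 = 16) := by decide +kernel

/-- the inner product with `d` -/
def dh (d : Lam) : Lam →+ ℤ :=
  AddMonoidHom.mk' (fun v => dotInt v.1 d.1) fun _ _ => H48.dotInt_add_left _ _ _

theorem dot_comb (c : Fin 24 → ℕ) (j : Fin 24) :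
    16 ∣ dotInt (∑ i, c i • bv i).1 (dv j).1 - 8 * c j := by
  have e : dotInt (∑ i, c i • bv i).1 (dv j).1 = ∑ i, (c i : ℤ) * dotInt (bv i).1 (dv j).1 := by
    change dh (dv j) _ = _
    rw [map_sum]
    simp only [map_nsmul, nsmul_eq_mul]
    rfl
  have e2 : (8 * c j : ℤ) = ∑ i, (c i : ℤ) * (if i = j then 8 else 0) := by
    simp [mul_comm]
  rw [e, e2, ← Finset.sum_sub_distrib]
  refine Finset.dvd_sum fun i _ => ?_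
  rw [← mul_sub, ← gram]
  exact Dvd.dvd.mul_left (Int.dvd_self_sub_of_emod_eq rfl) _

theorem exists_comb (v : Lam) : ∃ c : Fin 24 → ℕ, cong (∑ i, c i • bv i) v := by
  have hfin : Finite (Lam ⧸ twoLam) :=
    Nat.finite_of_card_ne_zero (by rw [← AddSubgroup.index_eq_card, index_twoLam]; norm_num)
  let F : (Fin 24 → Fin 2) → Lam ⧸ twoLam := fun c => QuotientAddGroup.mk (∑ i, (c i : ℕ) • bv i)
  have key : ∀ a b : Lam, (QuotientAddGroup.mk a : Lam ⧸ twoLam) = QuotientAddGroup.mk b →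
      cong a b := fun a b e => by
    obtain ⟨u, hu⟩ := mem_twoLam.1 (QuotientAddGroup.eq.1 e)
    exact ⟨u, by rw [← two_nsmul, ← hu]; abel⟩
  have inj : Function.Injective F := fun c c' e => by
    funext j
    have h1 := (key _ _ e).dot_mod (dv j)
    have h2 := dot_comb (fun i => c i) j
    have h3 := dot_comb (fun i => c' i) j
    have := (c j).2
    have := (c' j).2
    apply Fin.ext
    omega
  have bij := inj.bijective_of_nat_card_le (by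
    rw [← AddSubgroup.index_eq_card, index_twoLam]; simp)
  obtain ⟨c, hc⟩ := bij.2 (QuotientAddGroup.mk v)
  exact ⟨_, key _ _ hc⟩

theorem gen_aux (P : Lam → Prop) (h0 : ∀ u, P (u + u)) (hadd : ∀ v w, P v → P w → P (v + w))
    (S : Fin 24 → Prop) (h : ∀ i, ¬ S i → P (bv i)) (v : Lam)
    (hv : ∀ i, S i → 16 ∣ dotInt v.1 (dv i).1) : P v := by
  obtain ⟨c, hc⟩ := exists_comb v
  have z : P 0 := by simpa using h0 0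
  have ns : ∀ (n : ℕ) w, P w → P (n • w) := fun n w hw => by
    induction n with
    | zero => simpa using z
    | succ n ih => rw [succ_nsmul]; exact hadd _ _ ih hw
  have : P (∑ i, c i • bv i) := by
    refine Finset.sum_induction _ P hadd z fun i _ => ?_
    by_cases hi : S i
    · have h1 := hc.dot_mod (dv i)
      have h2 := dot_comb c i
      have h3 := hv i hi
      obtain ⟨k, hk⟩ : ∃ k, c i = k + k := ⟨c i / 2, by omega⟩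
      rw [hk, add_nsmul]
      exact h0 _
    · exact ns _ _ (h i hi)
  obtain ⟨u, rfl⟩ := hc
  exact hadd _ _ this (h0 u)

/-- The lattice `W` is generated by the doubles and the 891 vectors. -/
theorem gen_W' (P : Lam → Prop) (h0 : ∀ u, P (u + u)) (hadd : ∀ v w, P v → P w → P (v + w))
    (h : ∀ w : Lam, sqNorm w.1 = 32 → dotInt w.1 vU.1 = 16 → dotInt w.1 vX.1 = 16 → P w) :
    ∀ v, PW v → P v := fun v hv => by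
  refine gen_aux P h0 hadd (fun i => i = 0 ∨ i = 1) (fun i hi => ?_) v ?_
  · obtain ⟨a, b, c⟩ := bv_spec i
    rw [not_or] at hi
    exact h _ a (b hi.1) (c hi.1 hi.2)
  · rintro _ (rfl | rfl)
    · rw [dv_zero]; exact hv.1
    · rw [dv_one]; exact hv.2

theorem gen_W (P : Lam → Prop) (h0 : ∀ u, P (u + u)) (hadd : ∀ v w, P v → P w → P (v + w))
    (_ : P vU) (_ : P vX)
    (h : ∀ w : Lam, sqNorm w.1 = 32 → dotInt w.1 vU.1 = 16 → dotInt w.1 vX.1 = 16 → P w) :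
    ∀ v, PW v → P v := gen_W' P h0 hadd h

/-- The lattice orthogonal to `vU` is generated by the doubles and the 4600 vectors. -/
theorem gen_U (P : Lam → Prop) (h0 : ∀ u, P (u + u)) (hadd : ∀ v w, P v → P w → P (v + w))
    (h : ∀ w : Lam, sqNorm w.1 = 32 → dotInt w.1 vU.1 = 16 → P w) :
    ∀ v, PU v → P v := fun v hv => by
  refine gen_aux P h0 hadd (fun i => i = 0) (fun i hi => ?_) v ?_
  · obtain ⟨a, b, -⟩ := bv_spec i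
    exact h _ a (b hi)
  · rintro _ rfl
    rw [dv_zero]; exact hv

/-- The lattice is generated by the doubles and the minimal vectors. -/
theorem gen_all (P : Lam → Prop) (h0 : ∀ u, P (u + u)) (hadd : ∀ v w, P v → P w → P (v + w))
    (h : ∀ w : Lam, sqNorm w.1 = 32 → P w) (v : Lam) : P v :=
  gen_aux P h0 hadd (fun _ => False) (fun i _ => h _ (bv_spec i).1) v fun _ e => e.elim

/-- The form modulo two is non-degenerate. -/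
theorem cong_zero_of_dot {v : Lam} (h : ∀ w : Lam, 16 ∣ dotInt v.1 w.1) : cong 0 v :=
  gen_aux (cong 0) (fun u => (cong_add_self u).symm) (fun _ _ a b => by simpa using a.add b)
    (fun _ => True) (fun _ e => (e trivial).elim) v fun _ _ => h _

theorem PU.add {v w : Lam} (a : PU v) (b : PU w) : PU (v + w) := by
  unfold PU at *
  rw [AddSubgroup.coe_add, H48.dotInt_add_left]
  exact dvd_add a b

theorem PW.add {v w : Lam} (a : PW v) (b : PW w) : PW (v + w) := by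
  unfold PW at *
  rw [AddSubgroup.coe_add, H48.dotInt_add_left, H48.dotInt_add_left]
  exact ⟨dvd_add a.1 b.1, dvd_add a.2 b.2⟩

theorem PW.pu {v : Lam} (a : PW v) : PU v := a.1

theorem PW.cong {v w : Lam} (a : PW v) (c : cong v w) : PW w := by
  have h1 := c.dot_mod vU
  have h2 := c.dot_mod vX
  obtain ⟨a1, a2⟩ := a
  exact ⟨by omega, by omega⟩

theorem PU.cong {v w : Lam} (a : PU v) (c : cong v w) : PU w := by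
  have h1 := c.dot_mod vU
  unfold PU at *
  omega

theorem PW_zero : PW 0 := by simp [PW, dotInt]

theorem PW_two (u : Lam) : PW (u + u) := PW_zero.cong (cong_add_self u).symm

theorem PW_U : PW vU := by unfold PW; decide +kernel

theorem PW_X : PW vX := by unfold PW; decide +kernel

theorem PU.smul {g : Co0} (hg : g ∈ St vU) {v : Lam} (a : PU v) : PU (g • v) := by
  unfold PU at *
  rwa [dotInt_comm, dot_smul_of_fix hg, dotInt_comm]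

theorem PW.smul {g : Co0} (hg : g ∈ St vU ⊓ St vX) {v : Lam} (a : PW v) : PW (g • v) := by
  unfold PW at *
  rwa [dotInt_comm, dot_smul_of_fix hg.1, dotInt_comm, dotInt_comm _ vX.1, dot_smul_of_fix hg.2,
    dotInt_comm vX.1]

/-- `U₆(2)` is transitive on the 891 vectors. -/
theorem trans_O15 {v w : Lam} (hv : sqNorm v.1 = 32) (hv1 : dotInt v.1 vU.1 = 16)
    (hv2 : dotInt v.1 vX.1 = 16) (hw : sqNorm w.1 = 32) (hw1 : dotInt w.1 vU.1 = 16)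
    (hw2 : dotInt w.1 vX.1 = 16) : ∃ g ∈ St vU ⊓ St vX, g • v = w :=
  trans_cut cls_U62_4600 ⟨hv, (dotInt_comm _ _).trans hv1⟩ ⟨hw, (dotInt_comm _ _).trans hw1⟩
    (by rw [dotInt_comm, hv2, dotInt_comm, hw2])

/-- `Co₂` is transitive on the minimal vectors with a given inner product. -/
theorem trans_U {v w : Lam} (hv : sqNorm v.1 = 32) (hw : sqNorm w.1 = 32)
    (e : dotInt v.1 vU.1 = dotInt w.1 vU.1) : ∃ g ∈ St vU, g • v = w :=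
  trans_cut cls_Co2 hv hw (by rw [dotInt_comm, e, dotInt_comm])

/-- seven of the 891 vectors -/
def sT : List (List ℤ) :=
  [[2, 2, 2, 0, 2, 0, 0, 0, 0, 0, 0, 0, 0, 2, 0, 0, 2, 0, 0, 0, 0, 0, 2, 2],
   [2, 2, 2, 2, 0, 2, 0, 0, 0, 0, 0, 0, 0, 0, 2, 0, 0, 2, 0, 0, 0, 0, 0, 2],
   [2, 2, 2, 0, 0, 0, 2, 2, 0, 0, 0, 0, 0, 0, 0, 0, 0, 0, 0, 2, 0, 2, 0, 2],
   [2, 2, 2, 0, 0, 0, 0, 0, 0, 2, 2, 0, 0, 0, 0, 2, 0, 0, 0, 0, 2, 0, 0, 2],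
   [2, 2, 2, 0, 0, 0, 0, 0, 2, 0, 0, 2, 2, 0, 0, 0, 0, 0, 2, 0, 0, 0, 0, 2],
   [0, 0, 4, 0, 0, 0, 0, 0, 0, 0, 0, 0, 0, 0, 0, 0, 0, 0, 0, 0, 0, 0, 0, 4],
   [0, 0, -4, 0, 0, 0, 0, 0, 0, 0, 0, 0, 0, 0, 0, 0, 0, 0, 0, 0, 0, 0, 0, 4]]

theorem sT_ok : ∀ i : Fin 7, memL (sT.getD i []) = true := by decide +kernel

/-- seven of the 891 vectors -/
def sv (i : Fin 7) : Lam := lam _ (sT_ok i)

theorem sv_spec : ∀ i : Fin 7, sqNorm (sv i).1 = 32 ∧ dotInt (sv i).1 vU.1 = 16 ∧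
    dotInt (sv i).1 vX.1 = 16 := by decide +kernel

theorem sv_sum : ∃ u : Lam, sv 0 + sv 1 + sv 2 + sv 3 + sv 4 + sv 5 + sv 6 = u + u :=
  ⟨lam [5, 5, 5, 1, 1, 1, 1, 1, 1, 1, 1, 1, 1, 1, 1, 1, 1, 1, 1, 1, 1, 1, 1, 9] (by decide +kernel),
    Subtype.ext (by decide +kernel)⟩

/-- An additive function on `W` that is constant on the 891 vectors is trivial. -/
theorem const_fun {A : Type*} [Group A] (f : Lam → A)
    (hadd : ∀ v w, PW v → PW w → f (v + w) = f v * f w) (h2 : ∀ u, f (u + u) = 1) (c : A)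
    (hc : ∀ w : Lam, sqNorm w.1 = 32 → dotInt w.1 vU.1 = 16 → dotInt w.1 vX.1 = 16 → f w = c) :
    ∀ v, PW v → f v = 1 := by
  have p : ∀ i, PW (sv i) := fun i => by
    obtain ⟨-, a, b⟩ := sv_spec i
    exact ⟨by rw [a], by rw [b]⟩
  have e : ∀ i, f (sv i) = c := fun i => hc _ (sv_spec i).1 (sv_spec i).2.1 (sv_spec i).2.2
  have c2 : c * c = 1 := by rw [← e 0, ← hadd _ _ (p 0) (p 0), h2]
  have c1 : c = 1 := by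
    obtain ⟨u, hu⟩ := sv_sum
    have := h2 u
    rw [← hu, hadd _ _ ((((((p 0).add (p 1)).add (p 2)).add (p 3)).add (p 4)).add (p 5)) (p 6),
      hadd _ _ (((((p 0).add (p 1)).add (p 2)).add (p 3)).add (p 4)) (p 5),
      hadd _ _ ((((p 0).add (p 1)).add (p 2)).add (p 3)) (p 4),
      hadd _ _ (((p 0).add (p 1)).add (p 2)) (p 3), hadd _ _ ((p 0).add (p 1)) (p 2),
      hadd _ _ (p 0) (p 1)] at this
    simp only [e] at this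
    rwa [c2, one_mul, c2, one_mul, c2, one_mul] at this
  intro v hv
  refine (gen_W' (fun v => PW v ∧ f v = 1) (fun u => ⟨PW_two u, h2 u⟩)
    (fun v w a b => ⟨a.1.add b.1, by rw [hadd _ _ a.1 b.1, a.2, b.2, one_mul]⟩)
    (fun w a b d => ⟨⟨by rw [b], by rw [d]⟩, (hc w a b d).trans c1⟩) v hv).2

/-- An invariant additive function on `W` is trivial. -/
theorem inv_fun {A : Type*} [Group A] (f : Lam → A)
    (hadd : ∀ v w, PW v → PW w → f (v + w) = f v * f w) (h2 : ∀ u, f (u + u) = 1)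
    (hinv : ∀ g ∈ St vU ⊓ St vX, ∀ v, PW v → f (g • v) = f v) : ∀ v, PW v → f v = 1 := by
  refine const_fun f hadd h2 (f (sv 0)) fun w a b c => ?_
  obtain ⟨a', b', c'⟩ := sv_spec 0
  obtain ⟨g, hg, rfl⟩ := trans_O15 a' b' c' a b c
  exact hinv g hg _ ⟨by rw [b'], by rw [c']⟩

/-- An invariant additive function on the vectors orthogonal to `vU` is trivial. -/
theorem inv_fun_U {A : Type*} [Group A] (f : Lam → A)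
    (hadd : ∀ v w, PU v → PU w → f (v + w) = f v * f w) (h2 : ∀ u, f (u + u) = 1)
    (hinv : ∀ g ∈ St vU, ∀ v, PU v → f (g • v) = f v) : ∀ v, PU v → f v = 1 := by
  have h1 := inv_fun f (fun v w a b => hadd v w a.1 b.1) h2 fun g hg v a => hinv g hg.1 v a.1
  intro v hv
  refine (gen_U (fun v => PU v ∧ f v = 1) (fun u => ⟨(PW_two u).1, h2 u⟩)
    (fun v w a b => ⟨a.1.add b.1, by rw [hadd _ _ a.1 b.1, a.2, b.2, one_mul]⟩)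
    (fun w a b => ⟨show _ ∣ _ by rw [b], ?_⟩) v hv).2
  obtain ⟨g, hg, rfl⟩ := trans_U sqNorm_vX a (by rw [b]; decide +kernel)
  rw [hinv g hg _ PW_X.1, h1 _ PW_X]

end Cfsg.Agent.H47.Bu
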