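import Cfsg.Agent.H35.L3Defs

/-!
# Standard subgroups of type `L₃(q)`: the piece STA
-/

set_option autoImplicit false
set_option linter.unusedSectionVars false

namespace Cfsg.Agent.H47.L3Sta

open Cfsg Cfsg.Agent.H63 Cfsg.Agent.H63.SL Cfsg.Agent.H63.WR Cfsg.Agent.H35.L3 Subgroup
open scoped commutatorElement

universe u v

section Gen

variable {G : Type u} [Group G]

theorem mem_cj {g y : G} {H : Subgroup G} : y ∈ cj g H ↔ g⁻¹ * y * g ∈ H := by
  unfold cj
  rw [Subgroup.mem_map]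
  constructor
  · rintro ⟨a, ha, rfl⟩
    simpa [mul_assoc] using ha
  · intro h
    exact ⟨_, h, by simp [mul_assoc]⟩

theorem cj_mem {g y : G} {H : Subgroup G} (h : y ∈ H) : g * y * g⁻¹ ∈ cj g H := by
  rw [mem_cj]; simpa [mul_assoc] using h

theorem card_cj (g : G) (H : Subgroup G) : Nat.card (cj g H) = Nat.card H :=
  Subgroup.card_map_of_injective (MulAut.conj g).injective

theorem cj_sup (g : G) (A B : Subgroup G) : cj g (A ⊔ B) = cj g A ⊔ cj g B :=
  Subgroup.map_sup _ _ _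

theorem cj_mono (g : G) {A B : Subgroup G} (h : A ≤ B) : cj g A ≤ cj g B :=
  Subgroup.map_mono h

theorem cj_inj (g : G) {A B : Subgroup G} (h : cj g A = cj g B) : A = B :=
  Subgroup.map_injective (f := (MulAut.conj g).toMonoidHom) (MulAut.conj g).injective h

theorem mem_N_of_cj {g : G} {H : Subgroup G} (h : cj g H = H) : g ∈ N[H] := by
  rw [Subgroup.mem_normalizer_iff]
  intro y
  constructor
  · intro hy
    have := cj_mem (g := g) hy
    rwa [h] at this
  · intro hy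
    have h2 : g * y * g⁻¹ ∈ cj g H := by rw [h]; exact hy
    rw [mem_cj] at h2
    simpa [mul_assoc] using h2

theorem mem_c1 {a b : G} : a ∈ C1[b] ↔ Commute a b := by
  rw [Subgroup.mem_centralizer_singleton_iff]; rfl

theorem com_of_C {k l : G} {L : Subgroup G} (hk : k ∈ C[L]) (hl : l ∈ L) : Commute k l :=
  (Subgroup.mem_centralizer_iff.1 hk l hl).symm

theorem mem_tA {t : G} {A : Subgroup G} (t2 : t * t = 1) (hA : ∀ a ∈ A, Commute t a) {g : G}
    (hg : g ∈ zpowers t ⊔ A) : ∃ a ∈ A, g = a ∨ g = t * a := by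
  let B : Subgroup G :=
    { carrier := {g | ∃ a ∈ A, g = a ∨ g = t * a}
      one_mem' := ⟨1, A.one_mem, Or.inl rfl⟩
      mul_mem' := by
        rintro _ _ ⟨a, ha, h1 | h1⟩ ⟨b, hb, h2 | h2⟩ <;> subst h1 h2
        · exact ⟨_, A.mul_mem ha hb, Or.inl rfl⟩
        · refine ⟨_, A.mul_mem ha hb, Or.inr ?_⟩
          rw [← mul_assoc, ← (hA _ ha).eq, mul_assoc]
        · exact ⟨_, A.mul_mem ha hb, Or.inr (mul_assoc _ _ _)⟩
        · refine ⟨_, A.mul_mem ha hb, Or.inl ?_⟩
          calc t * a * (t * b) = t * (a * t) * b := by simp only [mul_assoc]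
            _ = (t * t) * a * b := by rw [← (hA _ ha).eq]; simp only [mul_assoc]
            _ = a * b := by rw [t2, one_mul]
      inv_mem' := by
        rintro _ ⟨a, ha, h1 | h1⟩ <;> subst h1
        · exact ⟨_, A.inv_mem ha, Or.inl rfl⟩
        · refine ⟨_, A.inv_mem ha, Or.inr ?_⟩
          rw [mul_inv_rev, inv_eq_of_mul_eq_one_right t2, (hA _ (A.inv_mem ha)).eq] }
  have : zpowers t ⊔ A ≤ B := by
    refine sup_le ?_ fun a ha => ⟨a, ha, Or.inl rfl⟩
    rw [Subgroup.zpowers_le]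
    exact ⟨1, A.one_mem, Or.inr (mul_one _).symm⟩
  exact this hg

theorem two_card_le [Finite G] {A B : Subgroup G} (h : A ≤ B) {t : G} (hB : t ∈ B) (hA : t ∉ A) :
    2 * Nat.card A ≤ Nat.card B := by
  obtain ⟨k, hk⟩ := Subgroup.card_dvd_of_le h
  have h0 : Nat.card B ≠ 0 := Nat.card_pos.ne'
  have k0 : k ≠ 0 := by rintro rfl; simp at hk; exact h0 (by simpa using hk)
  have k1 : k ≠ 1 := by
    rintro rfl
    have := Subgroup.eq_of_le_of_card_ge h (by omega)
    exact hA (this ▸ hB)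
  rw [hk, mul_comm]
  exact Nat.mul_le_mul_left _ (by omega)

theorem pgroup_of_sq {P : Subgroup G} (h : ∀ g ∈ P, g * g = 1) : IsPGroup 2 P := by
  intro g
  refine ⟨1, Subtype.ext ?_⟩
  simpa [pow_two] using h g g.2

theorem sq_closure {S : Set G} (h1 : ∀ s ∈ S, s * s = 1) (h2 : ∀ s ∈ S, ∀ s' ∈ S, Commute s s') :
    ∀ g ∈ closure S, g * g = 1 := by
  have a1 : ∀ s ∈ S, ∀ g ∈ closure S, Commute g s := by
    intro s hs g hg
    have : closure S ≤ C1[s] := by
      rw [Subgroup.closure_le]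
      intro s' hs'
      exact mem_c1.2 (h2 s' hs' s hs)
    exact mem_c1.1 (this hg)
  have a2 : ∀ g ∈ closure S, ∀ g' ∈ closure S, Commute g' g := by
    intro g hg g' hg'
    have : closure S ≤ C1[g] := by
      rw [Subgroup.closure_le]
      intro s' hs'
      exact mem_c1.2 (a1 s' hs' g hg).symm
    exact mem_c1.1 (this hg')
  intro g hg
  induction hg using Subgroup.closure_induction with
  | mem s hs => exact h1 s hs
  | one => simp
  | mul a b ha hb ia ib =>
    calc a * b * (a * b) = a * (b * a) * b := by simp only [mul_assoc]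
      _ = (a * a) * (b * b) := by rw [(a2 a ha b hb).eq]; simp only [mul_assoc]
      _ = 1 := by rw [ia, ib, one_mul]
  | inv a _ ia => rw [← mul_inv_rev, ia, inv_one]

theorem is2_of_sq {g : G} (h : g * g = 1) : Is2 g := ⟨1, by simpa [pow_two] using h⟩

theorem dt_conj {t d : G} (h : G) (hd : d ∈ Dt t) : h * d * h⁻¹ ∈ Dt t := by
  obtain ⟨g, rfl⟩ := hd
  exact ⟨h * g, by group⟩

theorem dt_conj' {t d : G} (h : G) (hd : h * d * h⁻¹ ∈ Dt t) : d ∈ Dt t := by
  have := dt_conj h⁻¹ hd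
  simpa [mul_assoc] using this

theorem dt_sq {t d : G} (t2 : t * t = 1) (hd : d ∈ Dt t) : d * d = 1 := by
  obtain ⟨g, rfl⟩ := hd
  calc g * t * g⁻¹ * (g * t * g⁻¹) = g * (t * t) * g⁻¹ := by group
    _ = 1 := by rw [t2]; group

theorem dt_ne {t d : G} (t1 : t ≠ 1) (hd : d ∈ Dt t) : d ≠ 1 := by
  obtain ⟨g, rfl⟩ := hd
  intro h
  apply t1
  calc t = g⁻¹ * (g * t * g⁻¹) * g := by group
    _ = 1 := by rw [h]; group

theorem conj_comm (h a b : G) : h * ⁅a, b⁆ * h⁻¹ = ⁅h * a * h⁻¹, h * b * h⁻¹⁆ := by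
  simp only [commutatorElement_def]; group

theorem conj_of_comm (a b : G) : a * b * a⁻¹ = ⁅a, b⁆ * b := by
  simp only [commutatorElement_def]; group

theorem conj_of_commute {a b : G} (h : Commute a b) : a * b * a⁻¹ = b := by
  rw [h.eq]; group

end Gen

section St

variable {A : Type v} [CommRing A] {G : Type u} [Group G] {x : Fin 3 → Fin 3 → A → G}

theorem x0 (s : St3 x) {i j : Fin 3} (h : i ≠ j) : x i j 0 = 1 := by
  have := s.add i j h 0 0
  rw [add_zero] at this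
  exact left_eq_mul.1 this

theorem xsq (s : St3 x) {i j : Fin 3} (h : i ≠ j) (a : A) : x i j a * x i j a = 1 := by
  rw [← s.add i j h, ← two_mul, s.two, zero_mul, x0 s h]

theorem xinv (s : St3 x) {i j : Fin 3} (h : i ≠ j) (a : A) : (x i j a)⁻¹ = x i j a :=
  inv_eq_of_mul_eq_one_right (xsq s h a)

theorem cj_rel (s : St3 x) {i j k : Fin 3} (h1 : i ≠ j) (h2 : j ≠ k) (h3 : i ≠ k) (a b : A) :
    x i j a * x j k b * (x i j a)⁻¹ = x i k (a * b) * x j k b := by
  rw [conj_of_comm, s.rel i j k h1 h2 h3]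

theorem cj_rel' (s : St3 x) {i j k : Fin 3} (h1 : i ≠ j) (h2 : j ≠ k) (h3 : i ≠ k) (a b : A) :
    x j k b * x i j a * (x j k b)⁻¹ = x i k (a * b) * x i j a := by
  rw [conj_of_comm, ← commutatorElement_inv, s.rel i j k h1 h2 h3, xinv s h3]

/-- `n(k) = x₀₂(k) x₂₀(m) x₀₂(k)`. -/
def nk (x : Fin 3 → Fin 3 → A → G) (k m : A) : G := x 0 2 k * x 2 0 m * x 0 2 k

theorem conj3 (a b c y : G) : a * b * c * y * (a * b * c)⁻¹ = a * (b * (c * y * c⁻¹) * b⁻¹) * a⁻¹ := by
  group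

theorem conj_mul2 (a y z : G) : a * (y * z) * a⁻¹ = (a * y * a⁻¹) * (a * z * a⁻¹) := by group

theorem nk21 (s : St3 x) {k m : A} (h : m * k = 1) (a : A) :
    nk x k m * x 2 1 a * (nk x k m)⁻¹ = x 0 1 (k * a) := by
  unfold nk
  rw [conj3, cj_rel s (i := 0) (j := 2) (k := 1) (by decide) (by decide) (by decide), conj_mul2 (x 2 0 m),
    cj_rel s (i := 2) (j := 0) (k := 1) (by decide) (by decide) (by decide),
    conj_of_commute (s.row 2 0 1 (by decide) (by decide) m a), ← mul_assoc m, h, one_mul,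
    (s.col 2 0 1 (by decide) (by decide) a (k * a)).eq, mul_assoc (x 0 1 _), xsq s (by decide),
    mul_one, conj_of_commute (s.row 0 2 1 (by decide) (by decide) _ _)]

theorem nk10 (s : St3 x) {k m : A} (h : m * k = 1) (a : A) :
    nk x k m * x 1 0 a * (nk x k m)⁻¹ = x 1 2 (k * a) := by
  unfold nk
  rw [conj3, cj_rel' s (i := 1) (j := 0) (k := 2) (by decide) (by decide) (by decide),
    conj_mul2 (x 2 0 m),
    cj_rel' s (i := 1) (j := 2) (k := 0) (by decide) (by decide) (by decide),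
    conj_of_commute (s.col 2 1 0 (by decide) (by decide) m a), mul_assoc a, mul_comm k m, h, mul_one,
    (s.row 1 0 2 (by decide) (by decide) a (a * k)).eq, mul_assoc (x 1 2 _), xsq s (by decide),
    mul_one, conj_of_commute (s.col 0 1 2 (by decide) (by decide) _ _), mul_comm a k]

theorem hk02 (s : St3 x) (p : Pin3 x) {k m : A} (h : m * k = 1) (a : A) :
    nk x k m * n3 x 0 2 * x 0 2 a * (nk x k m * n3 x 0 2)⁻¹ = x 0 2 (k * k * a) := by
  have e : x 0 2 a = ⁅x 0 1 a, x 1 2 1⁆ := by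
    rw [s.rel 0 1 2 (by decide) (by decide) (by decide), mul_one]
  have c2 : ∀ y : G, nk x k m * n3 x 0 2 * y * (nk x k m * n3 x 0 2)⁻¹ =
      nk x k m * (n3 x 0 2 * y * (n3 x 0 2)⁻¹) * (nk x k m)⁻¹ := fun y => by group
  have e1 : n3 x 0 2 * x 0 1 a * (n3 x 0 2)⁻¹ = x 2 1 a := by
    rw [p.nn 0 2 (by decide) 0 1 (by decide)]; rfl
  have e2 : n3 x 0 2 * x 1 2 1 * (n3 x 0 2)⁻¹ = x 1 0 1 := by
    rw [p.nn 0 2 (by decide) 1 2 (by decide)]; rfl
  rw [e, conj_comm, c2, c2, e1, e2, nk21 s h, nk10 s h,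
    s.rel 0 1 2 (by decide) (by decide) (by decide)]
  congr 1; ring

theorem memU (p : Pin3 x) {g : G} : g ∈ U3 x ↔ ∃ a b c, g = x 0 1 a * x 1 2 b * x 0 2 c :=
  p.memY 0 1 2 (by decide) (by decide) (by decide) g

theorem cU (s : St3 x) (p : Pin3 x) (c : A) : x 0 2 c ∈ U3 x :=
  (memU p).2 ⟨0, 0, c, by rw [x0 s (by decide), x0 s (by decide), one_mul, one_mul]⟩

theorem aU (s : St3 x) (p : Pin3 x) (c : A) : x 0 1 c ∈ U3 x :=
  (memU p).2 ⟨c, 0, 0, by rw [x0 s (by decide), x0 s (by decide), mul_one, mul_one]⟩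

theorem bU (s : St3 x) (p : Pin3 x) (c : A) : x 1 2 c ∈ U3 x :=
  (memU p).2 ⟨0, c, 0, by rw [x0 s (by decide), x0 s (by decide), mul_one, one_mul]⟩

theorem U_c (s : St3 x) (p : Pin3 x) {u : G} (hu : u ∈ U3 x) (c : A) : Commute u (x 0 2 c) := by
  obtain ⟨a, b, e, rfl⟩ := (memU p).1 hu
  exact ((s.row 0 1 2 (by decide) (by decide) _ _).mul_left
    (s.col 1 0 2 (by decide) (by decide) _ _)).mul_left (s.row 0 2 2 (by decide) (by decide) _ _)

theorem comm_U (s : St3 x) (p : Pin3 x) {u u' : G} (hu : u ∈ U3 x) (hu' : u' ∈ U3 x) :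
    ∃ c, ⁅u, u'⁆ = x 0 2 c := by
  obtain ⟨a, b, c, rfl⟩ := (memU p).1 hu
  obtain ⟨a', b', c', rfl⟩ := (memU p).1 hu'
  refine ⟨a' * b + a * b', ?_⟩
  have m := p.mul 0 1 2 (by decide) (by decide) (by decide)
  have h1 := m a b c a' b' c'
  have h2 := m a' b' c' a b c
  have h3 : x 0 1 a * x 1 2 b * x 0 2 c * (x 0 1 a' * x 1 2 b' * x 0 2 c') =
      x 0 2 (a' * b + a * b') * (x 0 1 a' * x 1 2 b' * x 0 2 c' * (x 0 1 a * x 1 2 b * x 0 2 c)) := by
    rw [← (U_c s p (mul_mem hu' hu) _).eq, h1, h2, mul_assoc (x 0 1 _ * x 1 2 _) (x 0 2 _),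
      ← s.add 0 2 (by decide), add_comm a a', add_comm b b']
    congr 2
    linear_combination (-(a * b')) * s.two
  rw [commutatorElement_def]
  calc _ = (x 0 1 a * x 1 2 b * x 0 2 c * (x 0 1 a' * x 1 2 b' * x 0 2 c')) *
      (x 0 1 a' * x 1 2 b' * x 0 2 c' * (x 0 1 a * x 1 2 b * x 0 2 c))⁻¹ := by group
    _ = _ := by rw [h3]; group

theorem U_le_All (x : Fin 3 → Fin 3 → A → G) : U3 x ≤ All x := by
  unfold U3 Y3 Row Col All
  refine sup_le (closure_mono ?_) (closure_mono ?_)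
  · rintro _ ⟨j, hj, a, rfl⟩; exact ⟨_, _, hj, a, rfl⟩
  · rintro _ ⟨j, hj, a, rfl⟩; exact ⟨_, _, hj, a, rfl⟩

theorem x_mem_All {i j : Fin 3} (h : i ≠ j) (a : A) : x i j a ∈ All x :=
  subset_closure ⟨i, j, h, a, rfl⟩

theorem row_sq (s : St3 x) (p : Pin3 x) {g : G} (hg : g ∈ Row x 0) : g * g = 1 := by
  obtain ⟨a, b, rfl⟩ := (p.memR 0 1 2 (by decide) (by decide) (by decide) g).1 hg
  have := (s.row 0 1 2 (by decide) (by decide) a b).eq
  calc x 0 1 a * x 0 2 b * (x 0 1 a * x 0 2 b) = x 0 1 a * (x 0 2 b * x 0 1 a) * x 0 2 b := by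
        simp only [mul_assoc]
    _ = (x 0 1 a * x 0 1 a) * (x 0 2 b * x 0 2 b) := by rw [← this]; simp only [mul_assoc]
    _ = 1 := by rw [xsq s (by decide), xsq s (by decide), one_mul]

theorem col_sq (s : St3 x) (p : Pin3 x) {g : G} (hg : g ∈ Col x 2) : g * g = 1 := by
  obtain ⟨a, b, rfl⟩ := (p.memC 0 1 2 (by decide) (by decide) (by decide) g).1 hg
  have := (s.col 1 0 2 (by decide) (by decide) a b).eq
  calc x 1 2 a * x 0 2 b * (x 1 2 a * x 0 2 b) = x 1 2 a * (x 0 2 b * x 1 2 a) * x 0 2 b := by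
        simp only [mul_assoc]
    _ = (x 1 2 a * x 1 2 a) * (x 0 2 b * x 0 2 b) := by rw [← this]; simp only [mul_assoc]
    _ = 1 := by rw [xsq s (by decide), xsq s (by decide), one_mul]

theorem tA_sq {t : G} {B : Subgroup G} (t2 : t * t = 1) (hA : ∀ a ∈ B, Commute t a)
    (hB : ∀ a ∈ B, a * a = 1) : ∀ g ∈ zpowers t ⊔ B, g * g = 1 := by
  intro g hg
  obtain ⟨a, ha, rfl | rfl⟩ := mem_tA t2 hA hg
  · exact hB _ ha
  · calc t * a * (t * a) = t * (a * t) * a := by simp only [mul_assoc]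
      _ = (t * t) * (a * a) := by rw [← (hA a ha).eq]; simp only [mul_assoc]
      _ = 1 := by rw [t2, hB a ha, one_mul]

end St

section Main

variable {F : Type v} [Field F] [Finite F] {G : Type u} [Group G] [Finite G] {L : Subgroup G}
  {x : Fin 3 → Fin 3 → F → G} {t : G}

omit [Finite F] [Finite G] in
theorem tsq (T : Tc L t) : t * t = 1 := by rw [← pow_two, ← T.t2, pow_orderOf_eq_one]

omit [Finite F] [Finite G] in
theorem tne (T : Tc L t) : t ≠ 1 := by
  intro h; have := T.t2; rw [h, orderOf_one] at this; omega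

omit [Finite F] [Finite G] in
theorem UL (m : M3 L x) : U3 x ≤ L := m.gen ▸ U_le_All x

/-- Step (1). -/
theorem step1 (m : M3 L x) (p : Pin3 x) (ka : KA L x) (kb : KB L x) (T : Tc L t) (g : G) (e : F)
    (h : g * t * g⁻¹ = x 0 2 e ∨ g * t * g⁻¹ = t * x 0 2 e) (hne : g * t * g⁻¹ ≠ t) :
    Start0 x t := by
  have s := m.st
  have t2 := tsq T
  have tU : ∀ a ∈ U3 x, Commute t a := fun a ha => com_of_C T.tc (UL m ha)
  have tc : Commute t (x 0 2 e) := tU _ (cU s p e)
  have hJ : zpowers t ⊔ U3 x ≤ C1[g * t * g⁻¹] := by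
    refine sup_le ?_ ?_
    · rw [Subgroup.zpowers_le, mem_c1]
      rcases h with h | h <;> rw [h]
      · exact tc
      · exact (Commute.refl t).mul_right tc
    · intro a ha
      rw [mem_c1]
      rcases h with h | h <;> rw [h]
      · exact U_c s p ha e
      · exact (tU a ha).symm.mul_right (U_c s p ha e)
  have hJ2 : IsPGroup 2 ↥(zpowers t ⊔ U3 x) := by
    refine IsPGroup.to_sup_of_normal_right' (pgroup_of_sq ?_) (p.two 0 2 (by decide)) ?_
    · intro a ha
      have := tA_sq (B := ⊥) t2 (fun a ha => by rw [mem_bot.1 ha]; exact Commute.one_right _)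
        (fun a ha => by rw [mem_bot.1 ha]; exact mul_one _) a (by simpa using ha)
      exact this
    · rw [Subgroup.zpowers_le]
      apply Subgroup.centralizer_le_normalizer
      rw [Subgroup.mem_centralizer_iff]
      intro a ha
      exact (tU a ha).symm.eq
  obtain ⟨l, hl, hs⟩ := kb.side t T g _ hJ hJ2
  set k := l * g⁻¹ with hk
  have rowU : Row x 0 ≤ U3 x := le_sup_left
  have colU : Col x 2 ≤ U3 x := le_sup_right
  have key : ∀ B : Subgroup G, B ≤ U3 x → (∀ a ∈ B, a * a = 1) → Nat.card B = Nat.card F ^ 2 →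
      cj k (zpowers t ⊔ B) = zpowers t ⊔ Row x 0 ∨ cj k (zpowers t ⊔ B) = zpowers t ⊔ Col x 2 := by
    intro B hB hsq hc
    refine kb.at2 t T _ ((cj_mono k (sup_le_sup_left hB _)).trans hs) ?_ ?_
    · intro a ha
      have := tA_sq t2 (fun a ha => tU a (hB ha)) hsq _ (mem_cj.1 ha)
      calc a * a = k * (k⁻¹ * a * k * (k⁻¹ * a * k)) * k⁻¹ := by group
        _ = 1 := by rw [this]; group
    · rw [card_cj, ← hc]
      exact two_card_le le_sup_right (mem_sup_left (mem_zpowers t))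
        (fun ht => ka.tn t T (UL m (hB ht)))
  have k1 := key _ rowU (fun a ha => row_sq s p ha) (p.cardR 0)
  have k2 := key _ colU (fun a ha => col_sq s p ha) (p.cardC 2)
  have hdiff : zpowers t ⊔ Row x 0 ≠ zpowers t ⊔ Col x 2 := by
    intro hh
    have a1 : x 0 1 1 ∈ zpowers t ⊔ Col x 2 := by
      rw [← hh]; exact mem_sup_right (subset_closure ⟨1, by decide, 1, rfl⟩)
    have b1 : x 1 2 1 ∈ zpowers t ⊔ Col x 2 := mem_sup_right (subset_closure ⟨1, by decide, 1, rfl⟩)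
    have sq := tA_sq t2 (fun a ha => tU a (colU ha)) (fun a ha => col_sq s p ha) _ (mul_mem a1 b1)
    have r := s.rel 0 1 2 (by decide) (by decide) (by decide) 1 1
    rw [commutatorElement_def, xinv s (by decide), xinv s (by decide), mul_assoc (x 0 1 1 * x 1 2 1),
      sq] at r
    have := s.inj 0 2 (by decide) _ r.symm
    simp at this
  have hJJ : cj k (zpowers t ⊔ U3 x) = zpowers t ⊔ U3 x := by
    have e0 : zpowers t ⊔ U3 x = (zpowers t ⊔ Row x 0) ⊔ (zpowers t ⊔ Col x 2) := by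
      unfold U3 Y3
      rw [sup_sup_distrib_left]
    rw [e0, cj_sup]
    rcases k1 with k1 | k1 <;> rcases k2 with k2 | k2
    · exact absurd (cj_inj k (k1.trans k2.symm)) hdiff
    · rw [k1, k2]
    · rw [k1, k2, sup_comm]
    · exact absurd (cj_inj k (k1.trans k2.symm)) hdiff
  have kN : k ∈ N[zpowers t ⊔ U3 x] := mem_N_of_cj hJJ
  have lt : l⁻¹ * t * l = t := by
    rw [mul_assoc, (com_of_C T.tc hl).eq]; group
  have kt : k⁻¹ * t * k⁻¹⁻¹ = g * t * g⁻¹ := by
    rw [hk]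
    calc (l * g⁻¹)⁻¹ * t * (l * g⁻¹)⁻¹⁻¹ = g * (l⁻¹ * t * l) * g⁻¹ := by group
      _ = _ := by rw [lt]
  rcases h with h | h
  · exfalso
    have e1 : t = ⁅k * x 0 1 e * k⁻¹, k * x 1 2 1 * k⁻¹⁆ := by
      rw [← conj_comm, s.rel 0 1 2 (by decide) (by decide) (by decide), mul_one, ← h, ← kt]; group
    have m1 : k * x 0 1 e * k⁻¹ ∈ zpowers t ⊔ U3 x := by
      rw [← hJJ]; exact cj_mem (mem_sup_right (aU s p e))
    have m2 : k * x 1 2 1 * k⁻¹ ∈ zpowers t ⊔ U3 x := by
      rw [← hJJ]; exact cj_mem (mem_sup_right (bU s p 1))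
    obtain ⟨u1, hu1, q1⟩ := mem_tA t2 tU m1
    obtain ⟨u2, hu2, q2⟩ := mem_tA t2 tU m2
    have c1 := (tU _ hu1).eq
    have c2 := (tU _ hu2).eq
    have e2 : t = ⁅u1, u2⁆ := by
      have z1 : ∀ y : G, Commute t y → ⁅t * u1, y⁆ = ⁅u1, y⁆ := by
        intro y hy
        have : Commute t ⁅u1, y⁆ := by
          rw [commutatorElement_def]
          exact (((tU _ hu1).mul_right hy).mul_right (tU _ hu1).inv_right).mul_right hy.inv_right
        calc ⁅t * u1, y⁆ = t * ⁅u1, y⁆ * (y * t⁻¹ * y⁻¹) := by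
              simp only [commutatorElement_def]; group
          _ = t * ⁅u1, y⁆ * t⁻¹ := by rw [← hy.inv_left.eq]; group
          _ = _ := conj_of_commute this
      have z2 : ⁅u1, t * u2⁆ = ⁅u1, u2⁆ := by
        calc ⁅u1, t * u2⁆ = (u1 * t) * u2 * u1⁻¹ * u2⁻¹ * t⁻¹ := by
              simp only [commutatorElement_def]; group
          _ = t * ⁅u1, u2⁆ * t⁻¹ := by rw [← c1]; simp only [commutatorElement_def]; group
          _ = _ := by
            apply conj_of_commute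
            rw [commutatorElement_def]
            exact (((tU _ hu1).mul_right (tU _ hu2)).mul_right (tU _ hu1).inv_right).mul_right
              (tU _ hu2).inv_right
      rcases q1 with q1 | q1 <;> rcases q2 with q2 | q2 <;> rw [q1, q2] at e1
      · exact e1
      · exact e1.trans z2
      · exact e1.trans (z1 _ (tU _ hu2))
      · exact e1.trans ((z1 _ ((Commute.refl t).mul_right (tU _ hu2))).trans z2)
    apply ka.tn t T
    rw [e2, commutatorElement_def]
    exact UL m (mul_mem (mul_mem (mul_mem hu1 hu2) (inv_mem hu1)) (inv_mem hu2))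
  · refine ⟨k⁻¹, inv_mem kN, e, ?_, kt.trans h⟩
    rintro rfl
    rw [x0 s (by decide), mul_one] at h
    exact hne h

/-- Step (2). -/
theorem step2 (m : M3 L x) (p : Pin3 x) (ka : KA L x) (kb : KB L x) (T : Tc L t)
    (hn : ¬ Start0 x t) {l : G} (hl : l ∈ L) (l2 : l * l = 1) (l1 : l ≠ 1) :
    l ∉ Dt t ∧ t * l ∉ Dt t := by
  obtain ⟨l', hl', e⟩ := ka.cls l hl l2 l1 1 one_ne_zero
  have s := m.st
  constructor
  · intro hd
    obtain ⟨g, hg⟩ := dt_conj l' hd
    rw [e] at hg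
    refine hn (step1 m p ka kb T g 1 (Or.inl hg.symm) ?_)
    rw [← hg]
    intro h
    exact ka.tn t T (h ▸ UL m (cU s p 1))
  · intro hd
    obtain ⟨g, hg⟩ := dt_conj l' hd
    have : l' * (t * l) * l'⁻¹ = t * x 0 2 1 := by
      rw [← e, ← mul_assoc, ← (com_of_C T.tc hl').eq]; group
    rw [this] at hg
    refine hn (step1 m p ka kb T g 1 (Or.inr hg.symm) ?_)
    rw [← hg]
    intro h
    have := s.inj 0 2 (by decide) 1 (mul_eq_left.1 h)
    simp at this

theorem outer (m : M3 L x) (p : Pin3 x) (ka : KA L x) (kb : KB L x) (T : Tc L t)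
    (hn : ¬ Start0 x t) {d : G} (hd : d ∈ Dt t) (hc : Commute d t) (hne : d ≠ t) :
    d ∉ L ⊔ C[L] := by
  intro h
  obtain ⟨l, hl, l2, h1 | h1⟩ := ka.dec t T d h (dt_sq (tsq T) hd) hc
  · subst h1
    exact (step2 m p ka kb T hn hl l2 (dt_ne (tne T) hd)).1 hd
  · subst h1
    refine (step2 m p ka kb T hn hl l2 ?_).2 hd
    rintro rfl
    exact hne (mul_one _)

omit [Finite G] in
theorem exists_k (h4 : 4 ≤ Nat.card F) (two : (2 : F) = 0) : ∃ k : F, k ≠ 0 ∧ k * k + 1 ≠ 0 := by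
  classical
  by_contra hh
  push Not at hh
  have : ∀ k : F, k ∈ ({0, 1} : Finset F) := by
    intro k
    by_cases h0 : k = 0
    · simp [h0]
    · have h1 := hh k h0
      have : (k + 1) * (k + 1) = 0 := by linear_combination h1 + k * two
      have h2 : k + 1 = 0 := by simpa using this
      have : k = 1 := by linear_combination h2 - two
      simp [this]
  have := Fintype.ofFinite F
  have h3 : (Finset.univ : Finset F) ⊆ {0, 1} := fun k _ => ‹∀ k : F, k ∈ ({0, 1} : Finset F)› k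
  have h5 := Finset.card_le_card h3
  have h6 : ({0, 1} : Finset F).card ≤ 2 := Finset.card_le_two
  rw [Finset.card_univ, ← Nat.card_eq_fintype_card] at h5
  omega

theorem main (m : M3 L x) (p : Pin3 x) (ka : KA L x) (kb : KB L x) (T : Tc L t)
    (h : ∃ g, Commute (g * t * g⁻¹) t ∧ g * t * g⁻¹ ≠ t) : Start0 x t := by
  by_contra hn
  have s := m.st
  have t2 := tsq T
  have tU : ∀ a ∈ U3 x, Commute t a := fun a ha => com_of_C T.tc (UL m ha)
  have tNU : t ∈ N[U3 x] := by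
    apply Subgroup.centralizer_le_normalizer
    rw [Subgroup.mem_centralizer_iff]
    intro a ha
    exact (tU a ha).symm.eq
  obtain ⟨g0, hc0, hne0⟩ := h
  set u := g0 * t * g0⁻¹ with hu
  have uD : u ∈ Dt t := ⟨g0, rfl⟩
  have uN : u ∈ N[L] := T.cN (mem_c1.2 hc0)
  have u2 := dt_sq t2 uD
  obtain ⟨l, hl, hlu⟩ := ka.two (zpowers u) (by rwa [Subgroup.zpowers_le]) (pgroup_of_sq (by
    intro a ha
    exact tA_sq (B := ⊥) u2 (fun a ha => by rw [mem_bot.1 ha]; exact Commute.one_right _)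
        (fun a ha => by rw [mem_bot.1 ha]; exact mul_one _) a (by simpa using ha)))
  have conjL : ∀ w ∈ L, ∀ d : G, d ∈ Dt t → Commute d t → d ≠ t →
      w * d * w⁻¹ ∈ Dt t ∧ Commute (w * d * w⁻¹) t ∧ w * d * w⁻¹ ≠ t := by
    intro w hw d hd hc hne
    have wt := (com_of_C T.tc hw).symm
    refine ⟨dt_conj w hd, (wt.mul_left hc).mul_left wt.inv_left, fun h => hne ?_⟩
    calc d = w⁻¹ * (w * d * w⁻¹) * w := by group
      _ = t := by rw [h, mul_assoc, ← wt.eq]; group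
  obtain ⟨rD, rc, rne⟩ := conjL l hl u uD hc0 hne0
  set r := l * u * l⁻¹ with hr
  have rN : r ∈ N[L] ⊓ N[U3 x] := ⟨T.cN (mem_c1.2 rc), hlu (cj_mem (mem_zpowers u))⟩
  have r2 := dt_sq t2 rD
  obtain ⟨u0, hu0, ε, φ, fr, fsq⟩ := kb.lift r rN (by rw [r2]; exact one_mem _)
  obtain ⟨w, hw, hw2⟩ := kb.j3' r rN (by rw [r2]; exact one_mem _)
    (outer m p ka kb T hn rD rc rne) u0 hu0 fsq
  obtain ⟨fD, fc, fne⟩ := conjL w (UL m hw) r rD rc rne
  rw [← hw2] at fD fc fne
  have fN : u0 * r ∈ N[L] ⊓ N[U3 x] :=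
    ⟨T.cN (mem_c1.2 fc), mul_mem (Subgroup.le_normalizer hu0) rN.2⟩
  set f := u0 * r with hf
  have f2 := dt_sq t2 fD
  have fo := outer m p ka kb T hn fD fc fne
  -- the element `z`
  have hz : ∃ c : F, c ≠ 0 ∧ ∃ p1 p2, Commute p1 f ∧ Commute p2 f ∧ x 0 2 c = ⁅p1, p2⁆ := by
    by_cases hφ : φ = 1
    · subst hφ
      have hε : ε = true := by
        cases ε
        · exact (fo (ka.typ_one f ⟨1, one_mem _, by rwa [one_mul]⟩ (is2_of_sq f2))).elim
        · rfl
      subst hε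
      obtain ⟨g1, g2⟩ := kb.fixG f fr fsq
      have cf : ∀ c, Commute (x 0 2 c) f := fun c => by
        have : x 0 2 c ∈ U3 x ⊓ C1[f] := by rw [g1]; exact subset_closure ⟨c, rfl⟩
        exact mem_c1.1 this.2
      have cf' : ∀ c, Commute (x 2 0 c) f := fun c =>
        (com_of_C g2 (subset_closure ⟨c, rfl⟩)).symm
      obtain ⟨k, k0, k1⟩ := exists_k m.four s.two
      refine ⟨k * k + 1, k1, nk x k k⁻¹ * n3 x 0 2, x 0 2 1, ?_, cf 1, ?_⟩
      · exact (((cf _).mul_left (cf' _)).mul_left (cf _)).mul_left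
          (((cf _).mul_left (cf' _)).mul_left (cf _))
      · rw [commutatorElement_def, hk02 s p (inv_mul_cancel₀ k0), xinv s (by decide),
          ← s.add 0 2 (by decide), mul_one]
    · obtain ⟨-, u1, h1, u2, h2, hnc⟩ := kb.fixF f ε φ fr hφ fsq
      obtain ⟨c, hc⟩ := comm_U s p h1.1 h2.1
      refine ⟨c, ?_, u1, u2, mem_c1.1 h1.2, mem_c1.1 h2.2, hc.symm⟩
      rintro rfl
      rw [x0 s (by decide)] at hc
      exact hnc (commutatorElement_eq_one_iff_commute.1 hc)
  obtain ⟨c, c0, p1, p2, q1, q2, hz⟩ := hz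
  set z := x 0 2 c with hzd
  have zU : z ∈ U3 x := cU s p c
  have z2 : z * z = 1 := xsq s (by decide) c
  have z1 : z ≠ 1 := fun h => c0 (s.inj 0 2 (by decide) c h)
  have zf : Commute z f := by
    rw [hz, commutatorElement_def]
    exact ((q1.mul_left q2).mul_left q1.inv_left).mul_left q2.inv_left
  have tz : Commute t z := tU z zU
  obtain ⟨g, hg⟩ := fD
  have fD : f ∈ Dt t := ⟨g, hg⟩
  have hP : closure ({f, t, z} : Set G) ≤ C1[g * t * g⁻¹] := by
    rw [Subgroup.closure_le, ← hg]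
    rintro a (rfl | rfl | rfl)
    · exact mem_c1.2 (Commute.refl _)
    · exact mem_c1.2 fc.symm
    · exact mem_c1.2 zf
  have hP2 : IsPGroup 2 (closure ({f, t, z} : Set G)) := by
    refine pgroup_of_sq (sq_closure ?_ ?_)
    · rintro a (rfl | rfl | rfl)
      · exact f2
      · exact t2
      · exact z2
    · rintro a (rfl | rfl | rfl) b (rfl | rfl | rfl)
      all_goals first
        | exact Commute.refl _
        | assumption
        | exact fc.symm
        | exact zf.symm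
        | exact tz.symm
  obtain ⟨l1, hl1, hs⟩ := kb.side t T g _ hP hP2
  set k := l1 * g⁻¹ with hk
  have kf : k * f * k⁻¹ = t := by
    rw [hg, hk]
    calc l1 * g⁻¹ * (g * t * g⁻¹) * (l1 * g⁻¹)⁻¹ = l1 * t * l1⁻¹ := by group
      _ = t := conj_of_commute (com_of_C T.tc hl1).symm
  have t' : k * t * k⁻¹ ∈ N[L] ⊓ N[U3 x] ⊓ C1[t] := hs (cj_mem (subset_closure (by simp)))
  have z' : k * z * k⁻¹ ∈ N[L] ⊓ N[U3 x] ⊓ C1[t] := hs (cj_mem (subset_closure (by simp)))
  have t'D : k * t * k⁻¹ ∈ Dt t := ⟨k, rfl⟩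
  have t'ne : k * t * k⁻¹ ≠ t := by
    intro h
    apply fne
    have : k * f * k⁻¹ = k * t * k⁻¹ := kf.trans h.symm
    simpa using this
  have t'o := outer m p ka kb T hn t'D (mem_c1.1 t'.2) t'ne
  have pN : ∀ q : G, Commute q f → k * q * k⁻¹ ∈ N[L] := by
    intro q hq
    apply T.cN
    rw [mem_c1, ← kf]
    exact hq.conj k
  have z'2 : k * z * k⁻¹ * (k * z * k⁻¹) = 1 := by
    calc _ = k * (z * z) * k⁻¹ := by group
      _ = 1 := by rw [z2]; group
  have z'L : k * z * k⁻¹ ∈ L ⊔ C[L] := by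
    refine ka.typ_one _ (ka.ab _ ?_) (is2_of_sq z'2)
    rw [hz, conj_comm]
    exact commutator_mem_commutator (pN _ q1) (pN _ q2)
  obtain ⟨l0, hl0, l02, e0⟩ := ka.dec t T _ z'L z'2 (mem_c1.1 z'.2)
  rcases e0 with e0 | e0
  · have l0U : l0 ∈ U3 x := ka.memU l0 hl0 (e0 ▸ z'.1.2) (is2_of_sq l02)
    have sq : l0 * (k * t * k⁻¹) * (l0 * (k * t * k⁻¹)) = 1 := by
      rw [← e0]
      calc _ = k * (z * (t * z) * t) * k⁻¹ := by group
        _ = k * ((z * z) * (t * t)) * k⁻¹ := by rw [tz.eq]; group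
        _ = 1 := by rw [z2, t2]; group
    obtain ⟨w1, -, hw1⟩ := kb.j3' _ t'.1 (by rw [dt_sq t2 t'D]; exact one_mem _) t'o l0 l0U
      (by rw [sq]; exact one_mem _)
    refine (step2 m p ka kb T hn (UL m zU) z2 z1).2 (dt_conj' k ?_)
    have : k * (t * z) * k⁻¹ = l0 * (k * t * k⁻¹) := by rw [← e0, tz.eq]; group
    rw [this, hw1]
    exact dt_conj _ t'D
  · have sq : z * f * (z * f) = 1 := by
      calc _ = z * (f * z) * f := by group
        _ = (z * z) * (f * f) := by rw [← zf.eq]; group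
        _ = 1 := by rw [z2, f2, one_mul]
    obtain ⟨w1, -, hw1⟩ := kb.j3' f fN (by rw [f2]; exact one_mem _) fo z zU
      (by rw [sq]; exact one_mem _)
    have l0D : l0 ∈ Dt t := by
      have : l0 = k * (z * f) * k⁻¹ := by
        calc l0 = t * (t * l0) := by rw [← mul_assoc, t2, one_mul]
          _ = (k * f * k⁻¹) * (k * z * k⁻¹) := by rw [kf, e0]
          _ = k * (f * z) * k⁻¹ := by group
          _ = _ := by rw [zf.eq]
      rw [this, hw1]
      exact dt_conj _ (dt_conj _ fD)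
    exact (step2 m p ka kb T hn hl0 l02 (dt_ne (tne T) l0D)).1 l0D

end Main

/-- **STA** -/
theorem sta (hp : PinStmt3.{u, v}) (ha : KAStmt.{u, v}) (hb : KBStmt.{u, v}) : StAStmt.{u, v} := by
  intro F _ _ G _ _ L x m t T h
  exact main m (hp x m.st) (ha L x m) (hb L x m) T h

end Cfsg.Agent.H47.L3Sta
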