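import Cfsg.Agent.H47.BuDefs

/-! The Baby Monster from the centralizer of a transposition: the statements of the pieces. -/

set_option autoImplicit false

namespace Cfsg.Agent.H47.B6

open Cfsg Subgroup Cfsg.Agent.H48 Cfsg.Agent.H49 Cfsg.Agent.H97.Gr Cfsg.Agent.H97.Yt
  Cfsg.Agent.H47.Bu

universe u

/-- the involutions of the centralizer of a pure four-group -/
def ClStmt : Prop := ∀ (A : Type) [Group A] [Finite A] (Q : Subgroup A) (z : A)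
  (θ : centralizer ({z} : Set A) →* Spor.Co1) (R : Lam → A → Prop), MD Q z θ R →
    ∀ s y : A, R vU s → R vX y → ∀ x ∈ centralizer ({s, y} : Set A),
      x * x ∈ closure ({s, y} : Set A) → x * x = 1 ∧ (x ∈ closure ({s, y} : Set A) ∨
        (∃ k ∈ centralizer ({s, y} : Set A), ∃ v ∈ closure ({s, y} : Set A), k * x * k⁻¹ = z * v) ∨
        ∃ a ∈ centralizer ({s, y} : Set A), ∃ b ∈ centralizer ({s, y} : Set A), a * a = 1 ∧
          b * b = 1 ∧ (a * b * (a * b) = x ∨ a * b * (a * b) = x * s))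

/-- three independent commutators of an involution -/
def L3Stmt : Prop := ∀ g : Co0, g * g = 1 → g ∉ center Co0 → ∀ B : AddSubgroup Lam,
  B.index ≠ 0 → B.index ≤ 8 → ∃ a ∈ B, ∃ b ∈ B, ∃ c ∈ B,
    ∀ v ∈ [a, b, c, a + b, a + c, b + c, a + b + c], ¬ cong2 0 (v + g • v)

/-- affine families of commuting transpositions -/
def GStmt : Prop := ∀ w : Fin 4 → Lam, (∀ i, w i ∈ T4600) →
  (∀ i j, 16 ∣ dotInt (w i).1 (w j).1) → (∀ i j, i ≠ j → ¬ cong2 (w i) (w j)) →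
  (∀ i j, ∃ x ∈ T4600, cong2 x (w 0 + w i + w j)) → cong2 0 (w 0 + w 1 + w 2 + w 3)

/-- two commuting pairs of transpositions with the same product -/
def TTStmt : Prop := ∀ w ∈ T4600, ∀ w' ∈ T4600, ∀ v ∈ T4600, ∀ v' ∈ T4600,
  16 ∣ dotInt w.1 w'.1 → ¬ cong2 w w' → cong2 (w + w') (v + v') → 16 ∣ dotInt w.1 v.1

/-- involutions of class 2B are squares in the centralizer of an involution of class 2A -/
def SqStmt : Prop := ∀ s ∈ DD, ∀ w ∈ ZZ, w * s = s * w → ∃ n : M, n * s = s * n ∧ n * n = w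

/-- The hypotheses of the generation lemma. -/
structure Hy {G : Type*} [Group G] (M Q : Subgroup G) (z : G) (D : Set G) : Prop where
  xs : XS Q z
  le : Q ≤ M
  nm : ∀ m ∈ M, Commute m z → ∀ q ∈ Q, m * q * m⁻¹ ∈ Q
  cl : ∀ a ∈ D, ∀ g, Commute g z → g * a * g⁻¹ ∈ D
  uD : ∀ a ∈ D, a ∈ M → ∀ g, Commute g z → g * a * g⁻¹ ∈ M → g ∈ M
  fx : ∀ v ∈ M, Commute v z → v * v ∈ Q → ∃ a ∈ Q, a ∈ D ∧ (v * a * v⁻¹ = a ∨ v * a * v⁻¹ = a * z)
  odd : ∀ d ∈ Q, ∃ b ∈ Q, b ∈ D ∧ b * d = d * b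
  quad : ∃ a : Fin 4 → G, (∀ i, a i ∈ Q ∧ a i ∈ D) ∧ ∀ i j, i ≠ j → ∀ g ∈ M, Commute g z →
    (g * ((a i)⁻¹ * a j) * g⁻¹ = (a i)⁻¹ * a j ∨ g * ((a i)⁻¹ * a j) * g⁻¹ = (a i)⁻¹ * a j * z) →
      Commute (g * a i * g⁻¹) (a i)

/-- the generation lemma -/
def HyStmt : Prop := ∀ (G : Type u) [Group G] [Finite G] (M Q : Subgroup G) (z : G) (D : Set G),
  Hy M Q z D → ∀ x, Commute x z → x ∈ M

end Cfsg.Agent.H47.B6
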