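import Cfsg.Agent.H47.BuRel
import Cfsg.Agent.H47.B6Defs

/-! The Baby Monster from the centralizer of a transposition: the action on the component. -/

set_option autoImplicit false

namespace Cfsg.Agent.H47.B6

open Cfsg Subgroup Cfsg.Agent.H48 Cfsg.Agent.H49 Cfsg.Agent.H48.Mid Cfsg.Agent.H98
  Cfsg.Agent.H34.MidA Cfsg.Agent.H80 Cfsg.Agent.H47.Bu

universe u

section generic

variable {A G : Type*} [Group A] [Group G]

theorem hom_eq_of_comm (hp : commutator A = ⊤) {f g : A →* G} {u : G} (c : ∀ a, Commute u (f a))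
    (h : ∀ a, g a = f a ∨ g a = f a * u) (a : A) : g a = f a := by
  have k : ∀ a, ∃ d, g a = f a * d ∧ Commute d u ∧ ∀ b, Commute d (f b) := fun a =>
    (h a).elim (fun e => ⟨1, by rw [e, mul_one], Commute.one_left _, fun _ => Commute.one_left _⟩)
      fun e => ⟨u, e, Commute.refl _, c⟩
  refine (hp.ge.trans (commutator_le.2 fun a _ b _ => ?_) : ⊤ ≤ g.eqLocus f) (mem_top a)
  obtain ⟨d, e1, d1, d2⟩ := k a
  obtain ⟨d', e2, -, d3⟩ := k b
  have d4 : Commute d (g b) := by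
    rcases h b with e | e <;> rw [e]
    exacts [d2 b, (d2 b).mul_right d1]
  change g (a * b * a⁻¹ * b⁻¹) = f (a * b * a⁻¹ * b⁻¹)
  simp only [map_mul, map_inv]
  calc _ = f a * (d * g b * d⁻¹) * (f a)⁻¹ * (g b)⁻¹ := by rw [e1]; group
    _ = f a * f b * (d' * (f a)⁻¹ * d'⁻¹) * (f b)⁻¹ := by rw [d4.eq, e2]; group
    _ = _ := by rw [(d3 a).inv_right.eq, mul_inv_cancel_right]

theorem good_memV {s y : A} {t : G} {N : Subgroup G} {f : A → G} (h : Good s y t N f)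
    (f4 : Four s y) {a : A} (ha : a ∈ centralizer ({s, y} : Set A)) :
    a ∈ closure ({s, y} : Set A) ↔ f a = 1 ∨ f a = t := by
  rw [f4.mem_closure, h.ker a ha, ← h.ft, eq_comm (a := f a), h.eq_iff h.my ha, ← h.sy, or_assoc]

/-- `k` acts on the component like `n`. -/
structure Act (s y : A) (f : A → G) (k : G) (n : A) : Prop where
  cs : n * s = s * n
  cy : n * y * n⁻¹ = y ∨ n * y * n⁻¹ = s * y
  eq : ∀ a ∈ centralizer ({s, y} : Set A), k * f a * k⁻¹ = f (n * a * n⁻¹)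

/-- The local situation. -/
structure Cx (s y z : A) (t : G) (N : Subgroup G) (f : A → G) : Prop where
  g : Good s y t N f
  t1 : t ≠ 1
  hC : ∀ k, (∀ n ∈ N, k * n = n * k) → k = 1 ∨ k = t
  f4 : Four s y
  pf : commutator (centralizer ({s, y} : Set A)) = ⊤
  act : ∀ k, k * t = t * k → ∃ n, Act s y f k n
  cl : ∀ x ∈ centralizer ({s, y} : Set A),
    x * x ∈ closure ({s, y} : Set A) → x * x = 1 ∧ (x ∈ closure ({s, y} : Set A) ∨
      (∃ k ∈ centralizer ({s, y} : Set A), ∃ v ∈ closure ({s, y} : Set A), k * x * k⁻¹ = z * v) ∨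
      ∃ a ∈ centralizer ({s, y} : Set A), ∃ b ∈ centralizer ({s, y} : Set A), a * a = 1 ∧
        b * b = 1 ∧ (a * b * (a * b) = x ∨ a * b * (a * b) = x * s))

variable {s y z : A} {t : G} {N : Subgroup G} {f : A → G}

theorem Act.mem {k : G} {n a : A} (h : Act s y f k n) (ha : a ∈ centralizer ({s, y} : Set A)) :
    n * a * n⁻¹ ∈ centralizer ({s, y} : Set A) := conj_mem_c2 h.cs h.cy ha

theorem Act.mul (ss : s * s = 1) {k k' : G} {n n' : A} (h : Act s y f k n) (h' : Act s y f k' n') :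
    Act s y f (k * k') (n * n') := by
  refine ⟨(Commute.mul_left h.cs h'.cs).eq, ?_, fun a ha => ?_⟩
  · rw [show n * n' * y * (n * n')⁻¹ = n * (n' * y * n'⁻¹) * n⁻¹ by group]
    rcases h'.cy with e | e <;> rw [e]
    · exact h.cy
    · rw [← conj_mul, mul_inv_eq_iff_eq_mul.2 h.cs]
      exact h.cy.symm.imp (fun e => by rw [e, ← mul_assoc, ss, one_mul]) fun e => by rw [e]
  · rw [show n * n' * a * (n * n')⁻¹ = n * (n' * a * n'⁻¹) * n⁻¹ by group, ← h.eq _ (h'.mem ha),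
      ← h'.eq a ha]; group

/-- conjugation as a homomorphism -/
def Act.hom {k : G} {n : A} (h : Act s y f k n) :
    centralizer ({s, y} : Set A) →* centralizer ({s, y} : Set A) :=
  MonoidHom.mk' (fun a => ⟨_, h.mem a.2⟩) fun _ _ => Subtype.ext conj_mul.symm

namespace Cx

variable (h : Cx s y z t N f)
include h

theorem tt : t * t = 1 := by
  rw [← h.g.ft, ← h.g.mul _ h.g.my _ h.g.my, h.f4.xx]; exact map_one (h.g.hom le_rfl)

theorem tN : t ∈ N := (h.g.rng t).2 ⟨y, h.g.my, h.g.ft⟩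

theorem mem {a : A} (ha : a ∈ centralizer ({s, y} : Set A)) : f a ∈ N := (h.g.rng _).2 ⟨a, ha, rfl⟩

theorem comm_t {n : G} (hn : n ∈ N) : n * t = t * n := by
  obtain ⟨a, ha, rfl⟩ := (h.g.rng n).1 hn
  exact h.g.comm_t ha

theorem self {m : A} (hm : m ∈ centralizer ({s, y} : Set A)) : Act s y f (f m) m :=
  ⟨(mem_c2.1 hm).1, Or.inl (mul_inv_eq_iff_eq_mul.2 (mem_c2.1 hm).2),
    fun _ ha => (h.g.conj hm ha).symm⟩

theorem uniq {k k' : G} {n n' : A} (a : Act s y f k n) (b : Act s y f k' n')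
    (e : ∀ x ∈ N, k * x * k⁻¹ = k' * x * k'⁻¹) {x : A} (hx : x ∈ centralizer ({s, y} : Set A)) :
    n' * x * n'⁻¹ = n * x * n⁻¹ :=
  congrArg Subtype.val (hom_eq_of_comm h.pf (f := a.hom) (g := b.hom) (u := ⟨s, h.g.ms⟩)
    (fun x => Subtype.ext (mem_c2.1 (a.hom x).2).1.symm) (fun x =>
      ((h.g.eq_iff (a.mem x.2) (b.mem x.2)).1 (by
        rw [← a.eq _ x.2, ← b.eq _ x.2, e _ (h.mem x.2)])).imp Subtype.ext Subtype.ext) ⟨x, hx⟩)

theorem mem_iff {k : G} {n : A} (a : Act s y f k n) : k ∈ N ↔ n * y * n⁻¹ = y := by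
  refine ⟨fun hk => ?_, fun e => ?_⟩
  · obtain ⟨m, hm, rfl⟩ := (h.g.rng k).1 hk
    rw [h.uniq (h.self hm) a (fun _ _ => rfl) h.g.my, (mem_c2.1 hm).2, mul_inv_cancel_right]
  · have hn : n ∈ centralizer ({s, y} : Set A) := mem_c2.2 ⟨a.cs, mul_inv_eq_iff_eq_mul.1 e⟩
    rcases h.hC ((f n)⁻¹ * k) fun x hx => by
      obtain ⟨m, hm, rfl⟩ := (h.g.rng x).1 hx
      rw [← mul_inv_eq_iff_eq_mul]
      calc _ = (f n)⁻¹ * (k * f m * k⁻¹) * f n := by group
        _ = _ := by rw [a.eq m hm, h.g.conj hn hm]; group with e | e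
    · exact inv_mul_eq_one.1 e ▸ h.mem hn
    · exact inv_mul_eq_iff_eq_mul.1 e ▸ mul_mem (h.mem hn) h.tN

theorem swap {k : G} {n : A} (a : Act s y f k n) (hk : k ∉ N) : n * y * n⁻¹ = s * y :=
  a.cy.resolve_left (mt (h.mem_iff a).2 hk)

theorem mul_mem_of_not {a b : G} (ca : a * t = t * a) (cb : b * t = t * b) (ha : a ∉ N)
    (hb : b ∉ N) : a * b ∈ N := by
  obtain ⟨n, p⟩ := h.act a ca
  obtain ⟨m, q⟩ := h.act b cb
  rw [h.mem_iff (p.mul h.g.ss q), show n * m * y * (n * m)⁻¹ = n * (m * y * m⁻¹) * n⁻¹ by group,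
    h.swap q hb, ← conj_mul, h.swap p ha, mul_inv_eq_iff_eq_mul.2 p.cs, ← mul_assoc, h.g.ss, one_mul]

theorem sq_cent {k : G} {n : A} (a : Act s y f k n) (e : k * k = 1 ∨ k * k = t) {x : A}
    (hx : x ∈ centralizer ({s, y} : Set A)) : n * n * x = x * (n * n) := by
  have := h.uniq (h.self (one_mem _)) (a.mul h.g.ss a) (fun x hx => by
    rw [show f 1 = 1 from map_one (h.g.hom le_rfl)]
    rcases e with e | e <;> rw [e]
    rw [← h.comm_t hx]; simp) hx
  rwa [one_mul, inv_one, mul_one, mul_inv_eq_iff_eq_mul] at this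

theorem outer_ne {a b : G} (ca : a * t = t * a) (cb : b * t = t * b) (ha : a ∉ N)
    (e : a * a = 1 ∨ a * a = t) : b * a * b⁻¹ ≠ a * t := fun c => by
  wlog hb : b ∈ N generalizing b
  · exact this (b := b * a) (Commute.mul_left cb ca).eq (by rw [← c]; group)
      (h.mul_mem_of_not cb ca hb ha)
  obtain ⟨n, p⟩ := h.act a ca
  obtain ⟨m, hm, rfl⟩ := (h.g.rng b).1 hb
  have hm' := p.mem (inv_mem hm)
  have e1 : f y = f (m * (n * m⁻¹ * n⁻¹)) := by
    rw [h.g.mul _ hm _ hm', ← p.eq _ (inv_mem hm), h.g.ft,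
      show f m⁻¹ = (f m)⁻¹ from map_inv (h.g.hom le_rfl) ⟨m, hm⟩, ← mul_assoc, ← mul_assoc, c, ca,
      mul_inv_cancel_right]
  have e2 := h.sq_cent p e hm
  have e3 := h.swap p ha
  have key : ∀ v, v * (n * v * n⁻¹) = s → m * (n * m⁻¹ * n⁻¹) ≠ v := fun v e4 e5 => h.f4.z1 (by
    have : m * n * m⁻¹ = v * n := by rw [← e5]; group
    calc s = v * n * (v * n) * (n * n)⁻¹ := by rw [← e4]; group
      _ = 1 := by rw [← this, conj_mul, ← e2]; group)
  rcases (h.g.eq_iff h.g.my (mul_mem hm hm')).1 e1 with e | e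
  · exact key y (by rw [e3, h.g.sy, ← mul_assoc, h.f4.xx, one_mul]) e
  · exact key _ (by
      rw [← conj_mul, e3, mul_inv_eq_iff_eq_mul.2 p.cs, ← mul_assoc, ← mul_assoc, mul_assoc y,
        h.g.ss, mul_one, h.f4.xx, one_mul]) e

theorem sq_N {a : G} (ha : a ∈ N) (e : a * a = 1 ∨ a * a = t) : a * a = 1 := by
  obtain ⟨m, hm, rfl⟩ := (h.g.rng a).1 ha
  rw [← h.g.mul _ hm _ hm] at e ⊢
  rw [(h.cl m hm ((good_memV h.g h.f4 (mul_mem hm hm)).2 e)).1]
  exact map_one (h.g.hom le_rfl)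

/-- `t` is not the central involution of a dihedral group of order eight. -/
theorem not_d8 {a b : G} (aa : a * a = 1) (bb : b * b = 1) : a * b * (a * b) ≠ t := fun e => by
  have k : ∀ {a b : G}, a * a = 1 → b * b = 1 → a * b * (a * b) = t →
      a * t = t * a ∧ b * a * (b * a) = t ∧ b * a * b⁻¹ = a * t := fun {a b} aa bb e => by
    have e' : b * a * (b * a) = t := by
      rw [← inv_eq_of_mul_eq_one_right h.tt, ← e, mul_inv_rev, mul_inv_rev,
        inv_eq_of_mul_eq_one_right aa, inv_eq_of_mul_eq_one_right bb]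
    have e2 : b * a * b⁻¹ = a * t := by
      rw [← e, inv_eq_of_mul_eq_one_right bb, ← mul_assoc, ← mul_assoc, ← mul_assoc, aa, one_mul]
    refine ⟨?_, e', e2⟩
    rw [← e2, ← e', inv_eq_of_mul_eq_one_right bb, mul_assoc _ (b * a), mul_assoc b a a, aa, mul_one]
  obtain ⟨c1, e1, c2⟩ := k aa bb e
  obtain ⟨c3, -, c4⟩ := k bb aa e1
  by_cases ha : a ∈ N
  · by_cases hb : b ∈ N
    · exact h.t1 (e.symm.trans (h.sq_N (mul_mem ha hb) (Or.inr e)))
    · exact h.outer_ne c3 c1 hb (Or.inl bb) c4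
  · exact h.outer_ne c1 c3 ha (Or.inl aa) c2

theorem not_d8' {a b g : G} (aa : a * a = 1) (bb : b * b = 1) : a * b * (a * b) ≠ g * t * g⁻¹ :=
  fun e => h.not_d8 (a := g⁻¹ * a * g⁻¹⁻¹) (b := g⁻¹ * b * g⁻¹⁻¹)
    (by rw [conj_mul, aa]; simp) (by rw [conj_mul, bb]; simp) (by
      rw [conj_mul, conj_mul, e]; group)

/-- the conjugates of `t` in the component -/
theorem cls (mz : z ∈ centralizer ({s, y} : Set A)) (nz : ¬ IsConj t (f z)) {g : G}
    (hg : g * t * g⁻¹ ∈ N) : g * t * g⁻¹ = t ∨ ∃ k ∈ N, k * (g * t * g⁻¹) * k⁻¹ = t * f z := by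
  obtain ⟨x, hx, e⟩ := (h.g.rng _).1 hg
  have mV : ∀ v ∈ closure ({s, y} : Set A), v ∈ centralizer ({s, y} : Set A) := fun v hv => by
    rcases h.f4.mem_closure.1 hv with rfl | rfl | rfl | rfl
    exacts [one_mem _, h.g.ms, h.g.my, mul_mem h.g.ms h.g.my]
  obtain ⟨-, c | ⟨k, hk, v, hv, c⟩ | ⟨a, ha, b, hb, aa, bb, c⟩⟩ := h.cl x hx
    ((good_memV h.g h.f4 (mul_mem hx hx)).2 (Or.inl (by
      rw [h.g.mul _ hx _ hx, e, conj_mul, h.tt, mul_one, mul_inv_cancel])))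
  · exact Or.inl (e ▸ ((good_memV h.g h.f4 hx).1 c).resolve_left fun c =>
      h.t1 (conj_eq_one_iff.1 (e.symm.trans c)))
  · have e1 := h.g.conj hk hx
    rw [c, h.g.mul _ mz _ (mV v hv), e] at e1
    rcases (good_memV h.g h.f4 (mV v hv)).1 hv with c | c <;> rw [c] at e1
    · exact absurd (isConj_iff.2 ⟨f k * g, by rw [← mul_one (f z), e1]; group⟩) nz
    · exact Or.inr ⟨_, h.mem hk, by rw [← e1, h.g.comm_t mz]⟩
  · have m := mul_mem ha hb
    refine absurd ?_ (h.not_d8' (g := g) (a := f a) (b := f b)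
      (by rw [← h.g.mul _ ha _ ha, aa]; exact map_one (h.g.hom le_rfl))
      (by rw [← h.g.mul _ hb _ hb, bb]; exact map_one (h.g.hom le_rfl)))
    rw [← h.g.mul _ ha _ hb, ← h.g.mul _ m _ m, ← e, eq_comm, h.g.eq_iff hx (mul_mem m m)]
    exact c

end Cx

end generic

variable {A : Type} [Group A] [Finite A] {Q : Subgroup A} {z : A}
  {θ : centralizer ({z} : Set A) →* Spor.Co1} {R : Lam → A → Prop} (hM : MD Q z θ R)
  {G : Type u} [Group G] {s y : A} {t : G} {N : Subgroup G}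
include hM

/-- Two local maps with the same target differ by a conjugation. -/
theorem good_uniq (fl : Fl R s y) {α β : A → G} (g1 : Good s y t N α) (g2 : Good s y t N β) :
    ∃ n, n * s = s * n ∧ (n * y * n⁻¹ = y ∨ n * y * n⁻¹ = s * y) ∧
      ∀ a ∈ centralizer ({s, y} : Set A), β a = α (n * a * n⁻¹) := by
  have f4 := fl_four hM fl
  let _ : Fintype (GaloisField 2 2) := Fintype.ofFinite _
  have hF : Fintype.card (GaloisField 2 2) = 4 := by
    rw [← Nat.card_eq_fintype_card, GaloisField.card 2 2 two_ne_zero]; rfl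
  obtain ⟨σ, s1, s2, s3, s4⟩ := exists_proj hM fl _ hF
  have : Group.IsPerfect (centralizer ({s, y} : Set A)) := ⟨s4⟩
  have k1 : ∀ a, σ a = 1 ↔ a.1 ∈ closure ({s, y} : Set A) := fun a => by
    rw [← mem_subgroupOf, ← s2, MonoidHom.mem_ker]
  choose f f1 f2 using fun a : centralizer ({s, y} : Set A) =>
    (g1.rng _).1 ((g2.rng _).2 ⟨a.1, a.2, rfl⟩)
  have k2 : ∀ a b : centralizer ({s, y} : Set A), α a = α b → σ a = σ b := fun a b e => by
    rw [← inv_mul_eq_one, ← map_inv, ← map_mul, k1]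
    rcases (g1.eq_iff a.2 b.2).1 e with e | e <;> simp [e, f4.mem_closure]
  let σ' : centralizer ({s, y} : Set A) →* Lie.twistedE6 (GaloisField 2 2) 2 :=
    MonoidHom.mk' (fun a => σ ⟨f a, f1 a⟩) fun a b => by
      rw [← map_mul]
      exact k2 _ _ (by
        rw [f2, coe_mul, coe_mul, g1.mul _ (f1 a) _ (f1 b), f2, f2, g2.mul _ a.2 _ b.2])
  have k3 : σ'.ker = σ.ker := by
    ext a
    change σ _ = 1 ↔ σ _ = 1
    rw [k1, k1, good_memV g1 f4 (f1 a), good_memV g2 f4 a.2, f2]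
  have k4 : ∀ a, σ a = 1 → a * a = 1 := fun a ha => Subtype.ext (by
    rcases f4.mem_closure.1 ((k1 a).1 ha) with e | e | e | e <;> rw [coe_mul, e]
    exacts [mul_one _, f4.zz, f4.xx, H70.Mid.t2_sq hM fl.2.2])
  obtain ⟨γ, a1, a2⟩ := exists_over (σ := σ') (ξ := σ) (S2109.result hF) ⟨fun x => by
      obtain ⟨a, rfl⟩ := s1 x
      obtain ⟨b, hb, e⟩ := (g2.rng _).1 ((g1.rng _).2 ⟨a.1, a.2, rfl⟩)
      exact ⟨⟨b, hb⟩, k2 _ _ ((f2 _).trans e)⟩, k3 ▸ s3.ge⟩ ⟨s1, s3.ge⟩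
    (fun a ha => k4 a (k3.le ha)) k4
    (by rw [k3, s2, Nat.card_congr (subgroupOfEquivOfLe (le_cent hM fl)).toEquiv, f4.card_closure])
  have a3 : ∀ a : centralizer ({s, y} : Set A), β a = α (γ a) :=
    hom_eq_of_comm s4 (f := (g1.hom le_rfl).comp γ) (g := g2.hom le_rfl) (u := t)
      (fun a => (g1.comm_t (γ a).2).symm) fun a => by
        have m := mul_mem (inv_mem (γ a).2) (f1 a)
        have := (good_memV g1 f4 m).1 ((k1 ((γ a)⁻¹ * ⟨f a, f1 a⟩)).1 (by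
          rw [map_mul, map_inv, a2]; exact inv_mul_cancel _))
        rwa [g1.mul _ (inv_mem (γ a).2) _ (f1 a), f2, show α (γ a).1⁻¹ = (α (γ a))⁻¹ from
          map_inv (g1.hom le_rfl) (γ a), inv_mul_eq_one, eq_comm, inv_mul_eq_iff_eq_mul] at this
  let e := MulEquiv.ofBijective γ (Finite.injective_iff_bijective.1
    (Finite.injective_iff_surjective.2 a1))
  have b1 : (γ ⟨s, g1.ms⟩).1 = s := ((g1.ker _ (γ _).2).1 ((a3 ⟨s, g1.ms⟩).symm.trans g2.fs)).resolve_left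
    fun c => f4.z1 (congrArg Subtype.val (e.map_eq_one_iff.1 (Subtype.ext c)))
  rcases (g1.eq_iff g1.my (γ ⟨y, g1.my⟩).2).1 (g1.ft.trans (g2.ft.symm.trans (a3 ⟨y, g1.my⟩)))
    with b2 | b2
  · obtain ⟨l, hl⟩ := aut A Q z θ R hM s y fl e (by
      rintro c (a | a)
      · rw [show c = ⟨s, g1.ms⟩ from Subtype.ext a]; exact Subtype.ext b1
      · rw [show c = ⟨y, g1.my⟩ from Subtype.ext a]; exact Subtype.ext b2)
    exact ⟨l, (mem_c2.1 l.2).1, Or.inl (mul_inv_eq_iff_eq_mul.2 (mem_c2.1 l.2).2), fun a ha =>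
      (a3 ⟨a, ha⟩).trans (congrArg (fun x => α x.1) (hl ⟨a, ha⟩))⟩
  · obtain ⟨n, -, n1, n2⟩ := trans_fl hM fl (fl_mul hM fl)
    have n3 := mul_inv_eq_iff_eq_mul.1 n1
    let δ := (centralizer ({s, y} : Set A)).normalizerMonoidHom ⟨n, mem_normalizer_of_conj_mem
      fun a ha => conj_mem_c2 n3 (Or.inr n2) ha⟩
    have d : ∀ a, (δ a).1 = n * a * n⁻¹ := fun _ => rfl
    obtain ⟨l, hl⟩ := aut A Q z θ R hM s y fl (e.trans δ.symm) (by
      rintro c (a | a) <;> rw [MulEquiv.trans_apply, MulEquiv.symm_apply_eq]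
      · rw [show c = ⟨s, g1.ms⟩ from Subtype.ext a]; exact Subtype.ext (b1.trans n1.symm)
      · rw [show c = ⟨y, g1.my⟩ from Subtype.ext a]
        exact Subtype.ext (b2.trans (n2.trans g1.sy).symm))
    refine ⟨n * l, (Commute.mul_left n3 (mem_c2.1 l.2).1).eq, Or.inr ?_, fun a ha => ?_⟩
    · rw [mul_assoc n, (mem_c2.1 l.2).2, ← n2]; group
    · have := hl ⟨a, ha⟩
      rw [MulEquiv.trans_apply, MulEquiv.symm_apply_eq] at this
      rw [a3 ⟨a, ha⟩, show (γ ⟨a, ha⟩).1 = _ from (congrArg Subtype.val this).trans (d _)]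
      congr 1; simp only [coe_mul, coe_inv]; group

theorem exists_cx (hCl : ClStmt) (rx : R vU s) (ry : R vX y) {α : A → G} (g : Good s y t N α)
    (t1 : t ≠ 1) (hC : ∀ k, (∀ n ∈ N, k * n = n * k) → k = 1 ∨ k = t) : Cx s y z t N α := by
  have fl := fl_std hM rx ry
  let _ : Fintype (GaloisField 2 2) := Fintype.ofFinite _
  obtain ⟨-, -, -, -, s4⟩ := exists_proj hM fl (GaloisField 2 2) (by
    rw [← Nat.card_eq_fintype_card, GaloisField.card 2 2 two_ne_zero]; rfl)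
  refine ⟨g, t1, hC, fl_four hM fl, s4, fun k hk => ?_, hCl A Q z θ R hM s y rx ry⟩
  have key : ∀ k, k * t = t * k → ∀ x ∈ N, k * x * k⁻¹ ∈ N := fun k hk x hx => by
    obtain ⟨a, ha, rfl⟩ := (g.rng x).1 hx
    exact (mul_mem_cancel_right (inv_mem hx)).1 (g.big _ _ hk (g.comm_t ha))
  have e : cj N k = N := by
    ext x
    rw [mem_cj]
    exact ⟨fun c => by simpa [mul_assoc] using key k hk _ c,
      fun c => by simpa using key k⁻¹ (Commute.inv_left hk).eq _ c⟩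
  obtain ⟨n, n1, n2, n3⟩ := good_uniq hM fl g (e ▸ g.conjR k (mul_inv_eq_iff_eq_mul.2 hk))
  exact ⟨n, n1, n2, n3⟩

end Cfsg.Agent.H47.B6
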