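import Cfsg.Agent.H47.BuMain

/-! The Baby Monster from the centralizer of a transposition: the embedding. -/

set_option autoImplicit false
set_option maxHeartbeats 2000000

namespace Cfsg.Agent.H47.B6

open Cfsg Subgroup Cfsg.Agent.H48 Cfsg.Agent.H49 Cfsg.Agent.H48.Mid Cfsg.Agent.H80.Y
  Cfsg.Agent.H47.YB Cfsg.Agent.H97.Gr Cfsg.Agent.H97.Gr.B6b Cfsg.Agent.H97.Mj Cfsg.Agent.H97.Yt
  Cfsg.Agent.H47.Bu

universe u

theorem exists_rel {A : Type} [Group A] [Finite A] {G : Type u} [Group G] {T : ℕ → A}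
    (hT : Rel V15 T) (h16 : T 16 = 1) {Q₁ Q₂ : Subgroup A}
    {θ₁ : centralizer ({T 11 * T 6 * T 9} : Set A) →* Spor.Co1} {R₁ R₂ : Lam → A → Prop}
    {θ₂ : centralizer ({T 11 * T 9 * T 14} : Set A) →* Spor.Co1}
    (h₁ : MD Q₁ (T 11 * T 6 * T 9) θ₁ R₁) (f₁ : Fl R₁ (T 11) (T 6))
    (h₂ : MD Q₂ (T 11 * T 9 * T 14) θ₂ R₂) (f₂ : Fl R₂ (T 11) (T 9))
    (hn : ∃ n, n * T 11 * n⁻¹ = T 11 ∧ n * T 6 * n⁻¹ = T 9 ∧ n * T 9 * n⁻¹ = T 6)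
    (hm : ∃ m, m * T 11 * m⁻¹ = T 11 ∧ m * T 6 * m⁻¹ = T 6 ∧ m * T 9 * m⁻¹ = T 14)
    (cen : ∀ n, n * T 11 = T 11 * n → n * (T 11 * T 9 * T 14) = T 11 * T 9 * T 14 * n →
      (∀ k, k * T 11 = T 11 * k → k * T 6 = T 6 * k → k * T 9 = T 9 * k → k * T 14 = T 14 * k →
        n * k * n⁻¹ = k ∨ n * k * n⁻¹ = k * T 11) → n ∈ closure ({T 11, T 6, T 9, T 14} : Set A))
    {N : Subgroup G} {t q : G} {α : A → G} (g1 : Good (T 11) (T 6) t N α)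
    (eq : q * t * q⁻¹ = t * α (T 11 * T 6 * T 9))
    (ez : q * α (T 11 * T 6 * T 9) = α (T 11 * T 6 * T 9) * q) :
    ∃ e, RelB fun x => if x = 5 then e else α (T x) := by
  have c : ∀ x y, x ∈ V15 ∧ y ∈ V15 ∧ adj x y = false → T x * T y = T y * T x := fun x y k =>
    hT.cox.cm x k.1 y k.2.1 k.2.2
  have m : ∀ x y, x ∈ V15 ∧ y ∈ V15 ∧ adj x 11 = false ∧ adj x y = false →
      T x ∈ centralizer ({T 11, T y} : Set A) := fun x y k =>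
    mem_c2.2 ⟨c x 11 ⟨k.1, by decide, k.2.2.1⟩, c x y ⟨k.1, k.2.1, k.2.2.2⟩⟩
  have mz := mul_mem (mul_mem g1.ms g1.my) (m 9 6 (by decide))
  have zz : α (T 11 * T 6 * T 9) * α (T 11 * T 6 * T 9) = 1 := by
    rw [← g1.mul _ mz _ mz, h₁.hQ.zz]; exact map_one (g1.hom le_rfl)
  have tt : t * t = 1 := by
    rw [← g1.ft, ← g1.mul _ g1.my _ g1.my, hT.cox.sq 6 (by decide)]; exact map_one (g1.hom le_rfl)
  have a9 : α (T 9) = t * α (T 11 * T 6 * T 9) := by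
    rw [g1.mul _ (mul_mem g1.ms g1.my) _ (m 9 6 (by decide)), g1.mul _ g1.ms _ g1.my, g1.fs,
      g1.ft, one_mul, ← mul_assoc, tt, one_mul]
  generalize α (T 11 * T 6 * T 9) = z at eq ez zz a9
  obtain ⟨n, n1, n2, n3⟩ := hn
  obtain ⟨β, g2, e2⟩ := adjust h₁ f₁ g1 ((g1.conjL n1 n2).conjR q eq) (by
    rw [← n3, show n⁻¹ * (n * T 9 * n⁻¹) * n = T 9 by group, a9, ← conj_mul, eq, ez,
      mul_inv_cancel_right, mul_assoc, zz, mul_one]) a9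
  obtain ⟨k, k1, k2, k3⟩ := hm
  have hk : k ∈ centralizer ({T 11, T 6} : Set A) :=
    mem_c2.2 ⟨mul_inv_eq_iff_eq_mul.1 k1, mul_inv_eq_iff_eq_mul.1 k2⟩
  have g3 := (g2.conjL k1 k3).conjR (α k) (t' := α (T 14)) (by
    rw [← a9, ← k3, g1.conj hk (m 9 6 (by decide))])
  have e3 : ∀ p ∈ centralizer ({T 11, T 6} : Set A), p * T 14 = T 14 * p →
      (fun x => α k * β (k⁻¹ * x * k) * (α k)⁻¹) p = α p := fun p hp a => by
    have hp' := mul_mem (mul_mem (inv_mem hk) hp) hk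
    beta_reduce
    rw [e2 _ hp' (mem_c2.1 ((conj_c2 k1 k3).2 (mem_c2.2 ⟨(mem_c2.1 hp).1, a⟩))).2, ← g1.conj hk hp']
    congr 1; group
  generalize (fun x => α k * β (k⁻¹ * x * k) * (α k)⁻¹) = δ at g3 e3
  obtain ⟨r, r1, r2, r3, r4⟩ := pair h₂ f₂ rfl g2 g3
    ((e3 _ (m 9 6 (by decide)) (c 9 14 (by decide))).trans a9)
    (e2 _ (m 14 6 (by decide)) (c 14 9 (by decide)))
  have r5 := fun p => conj_mem_c2 (p := p) r2 (third g2.ss g2.sy r1 r2 r3)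
  have hr := cen r r2 r1 fun p p1 p2 p3 p4 =>
    (g3.eq_iff (mem_c2.2 ⟨p1, p4⟩) (r5 p (mem_c2.2 ⟨p1, p4⟩))).1 (by
      rw [r4 p (mem_c2.2 ⟨p1, p3⟩) p4, e2 p (mem_c2.2 ⟨p1, p2⟩) p3, e3 p (mem_c2.2 ⟨p1, p2⟩) p4])
  have cD : ∀ x, x ∈ V15 ∧ adj x 5 = false ∧ adj x 6 = false →
      T x ∈ centralizer (closure ({T 5, T 6} : Set A) : Set A) := fun x k =>
    centralizer_closure ({T 5, T 6} : Set A) ▸
      mem_c2.2 ⟨c x 5 ⟨k.1, by decide, k.2.1⟩, c x 6 ⟨k.1, by decide, k.2.2⟩⟩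
  have nD : closure ({T 11, T 6, T 9, T 14} : Set A) ≤
      normalizer (closure ({T 5, T 6} : Set A) : Set A) := (closure_le _).2 (by
    rintro _ (rfl | rfl | rfl | rfl)
    exacts [centralizer_le_normalizer _ (cD 11 (by decide)), le_normalizer (subset_closure (by simp)),
      centralizer_le_normalizer _ (cD 9 (by decide)), centralizer_le_normalizer _ (cD 14 (by decide))])
  refine ⟨β (T 5), relB_of hT h16 g1 g2 e2 ?_⟩
  rw [← r4 _ (m 5 9 (by decide)) (c 5 14 (by decide)), ← e3 _ (m 8 6 (by decide)) (c 8 14 (by decide))]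
  exact g3.comm (r5 _ (m 5 14 (by decide))) (m 8 14 (by decide))
    (cD 8 (by decide) _ (conj_mem_of_mem_normalizer (nD hr) (subset_closure (by simp))))

/-- The local map extends to the centralizer of `tU`. -/
theorem exists_iota {G : Type u} [Group G] {T : ℕ → M} (h : Tp T) (e1 : T 11 = tU)
    (e2 : T 11 * T 6 * T 9 = zA) (hB : Nonempty (Spor.BabyMonster ≃* BB)) {N : Subgroup G}
    {t q : G} {α : M → G} (g : Good tU (T 6) t N α) (t1 : t ≠ 1) (eq : q * t * q⁻¹ = t * α zA)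
    (ez : q * α zA = α zA * q) : ∃ ι : BB →* G, Function.Injective ι ∧
      ∀ a : KK, a.1 ∈ centralizer ({tU, T 6} : Set M) → ι (pB a) = α a := by
  have n1 := h.nl (a := 11) (b := 6) (c := 9) 8 7 (by decide)
  have n2 := h.nl (a := 11) (b := 9) (c := 6) 5 4 (by decide)
  have n3 := h.nl (a := 11) (b := 6) (c := 14) 13 12 (by decide)
  have n4 := h.nl (a := 11) (b := 9) (c := 14) 13 12 (by decide)
  have n5 := h.nl (a := 6) (b := 9) (c := 14) 13 12 (by decide)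
  obtain ⟨Q₁, θ₁, R₁, h₁, f₁⟩ := nl_md n1
  obtain ⟨Q₂, θ₂, R₂, h₂, f₂⟩ := nl_md n4
  obtain ⟨e, r⟩ := exists_rel h.rel h.f3 h₁ f₁ h₂ f₂ (H70.YtP.tri _ _ _ _ _ _ n1 n2)
    (H70.YtP.tri _ _ _ _ _ _ n1 n3) (H70.BuC.cenBStmt _ n1.1.1 _ n1.1.2.1 _ n4.1.2.1 _ n3.2.1.2.1
      n1.1.2.2 n4.1.2.2 n3.2.1.2.2 n5.1.2.2 n5.2.1.2.2 n5.2.2.1.2.2 (H70.YtP.nl_mem n1)
      (H70.YtP.nl_mem n3) (H70.YtP.nl_mem n4) (H70.YtP.nl_mem n5)) (e1 ▸ g) (e2 ▸ eq) (e2 ▸ ez)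
  obtain ⟨ρ, hρ⟩ := exists_homB r
  obtain ⟨ψ, hψ⟩ := h.exists_psi e1 hB
  have hS := sub_V3' h.rel (h.mem 1 (by decide)) (h.adj' (x := 1) (y := 3) (by decide)).2.2
  rw [Set.pair_comm, e1] at hS
  obtain ⟨ι, hι⟩ : ∃ ι : BB →* G, ∀ x ∈ V3, ∀ hx, ι (pB ⟨T x, hx⟩) = α (T x) :=
    ⟨ρ.comp ψ.symm.toMonoidHom, fun x hx hx' => by
      obtain ⟨m, m'⟩ := (by decide : ∀ x ∈ V3, x ∈ V11 ∧ x ≠ 5) x hx
      rw [← hψ x m hx']
      exact (congrArg ρ (ψ.symm_apply_apply _)).trans ((hρ x m).trans (if_neg m'))⟩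
  have ag : ∀ a : KK, a.1 ∈ centralizer ({tU, T 6} : Set M) → ι (pB a) = α a := fun a ha =>
    g.agree (ι.comp pB) hS (fun a ha => mem_centralizer_singleton_iff.2 (mem_c2.1 ha).1)
      (by rintro _ ⟨x, hx, rfl⟩ hx'; exact hι x hx hx') ha
  have := isB_BB.1
  exact ⟨ι, (MonoidHom.ker_eq_bot_iff ι).1
    ((inferInstance : ι.ker.Normal).eq_bot_or_eq_top.resolve_right fun e => t1
      (((ag ⟨T 6, mem_centralizer_singleton_iff.2 g.sy.symm⟩ g.my).trans g.ft).symm.trans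
        (e.ge (mem_top _)))), ag⟩

end Cfsg.Agent.H47.B6
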