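import Cfsg.Agent.H47.BuFusD
import Cfsg.Agent.H34.BuAut1

/-! Fusion in groups of Baby Monster type. -/

set_option autoImplicit false
set_option maxRecDepth 100000

namespace Cfsg.Agent.H47.Bu

open Cfsg Subgroup Cfsg.Agent.H48 Cfsg.Agent.H49 Cfsg.Agent.H43.MidCo2 Cfsg.Agent.H10.Co

universe u

/-- a basis modulo two -/
def bK : List (List ℤ) :=
  [[4, 0, 0, 0, 0, 0, 0, 0, 0, 0, 0, 0, 0, 0, 0, 0, 0, 0, 0, 0, 0, 0, 0, 4],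
   [0, 0, 0, 0, 0, 0, 0, 0, 0, 0, 0, 0, 0, 0, 0, 0, 0, 0, 0, 0, 0, 0, 0, 8],
   [0, -2, -2, 2, -2, 0, 0, 0, 0, 0, 4, -2, 0, -2, 2, 2, 2, 2, 0, 2, 4, 0, 0, -2],
   [-3, 3, 1, -3, 3, -1, -3, 3, 3, -1, 3, 1, 1, -3, -1, 1, -1, -3, -1, 3, 1, -3, 1, 3],
   [1, 1, -1, -3, -3, 3, -3, -1, -3, -3, 5, -1, 1, -1, 1, -1, 3, -1, -1, -1, -1, 1, -3, -1],
   [1, -1, -3, 3, -1, 3, 1, 1, 1, -1, 3, 1, 1, -3, -3, 1, -3, 1, 1, -3, 1, -3, 3, 3],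
   [0, 0, 0, 0, -4, -4, 0, -2, -2, 0, 2, 2, 0, 0, 0, 0, 2, 0, 0, 0, -2, -2, 2, 0],
   [-4, 2, -2, 2, 2, 2, -2, -2, 2, 0, -2, 2, 0, -2, -2, 2, -2, -2, -4, 0, 4, 0, 2, 4],
   [-2, 2, 2, 0, 0, -2, -2, -2, 4, 2, 0, -2, 0, 0, -4, -2, 0, -2, -2, 4, 0, 0, 4, 2],
   [2, -2, -2, 2, -2, -2, -2, 2, 0, 0, 0, 0, 0, -2, -2, 0, -2, -2, 0, 2, 0, 2, 2, -2],
   [0, 0, 0, -4, 0, 2, -2, 2, 0, 0, -2, 2, 0, 0, 4, 0, 0, 2, 2, 4, 2, 4, 0, 0],
   [0, -2, 2, 2, 0, -2, 2, 2, -4, 2, 0, -2, 0, -2, 2, 2, -2, 2, -2, -2, 4, 2, 4, 0],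
   [-2, 0, 2, 0, -2, 2, 2, 0, 0, 0, 2, 2, 0, 0, 0, -4, 0, 4, -4, 0, 0, 0, -4, 2],
   [2, 0, 0, 0, 0, 4, 2, 2, -2, -2, 4, 2, 0, -4, -4, 0, 0, 0, 0, 0, -2, 0, 0, -2],
   [0, -4, -4, 0, 0, 0, 0, 0, 0, 0, -4, 4, 0, 0, -4, 0, 0, 0, 0, -4, 0, 0, 0, 0],
   [0, 0, 0, 0, 0, 0, 0, 4, 0, 4, 0, 4, 0, -4, 0, 0, -4, 0, 0, 0, 0, 0, -4, 0],
   [0, -4, 0, -4, 0, -4, 0, 0, 0, 0, 4, 4, 0, 0, 0, 0, 0, 0, -4, 0, 0, 0, 0, 0],
   [0, 0, 0, -4, 0, 0, 4, 0, 4, 4, 0, 0, 0, 0, -4, 0, 0, -4, 0, 0, 0, 0, 0, 0],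
   [-4, 0, 0, 0, 0, 0, 0, 0, 0, 0, 0, 0, 0, 0, 0, 0, 0, -4, 0, 0, 0, 0, 0, 0],
   [0, 0, 0, 0, 0, 0, 0, 0, 0, 0, 0, 0, 0, 0, 0, 0, 0, 0, -4, 0, 0, 0, 0, -4],
   [0, 0, -4, 0, 0, 0, 0, 0, 4, 4, 4, 4, 0, -4, 0, 0, 0, 0, 0, -4, 0, 0, -4, 0],
   [-4, 0, 0, 0, 0, 0, 0, 0, 0, 0, 0, 0, 0, 0, 0, 0, 0, 0, 0, 0, -4, 0, 0, 0],
   [0, 0, 0, 0, -4, 0, 0, 0, 0, 4, 4, 4, 0, 0, 0, 0, 0, -4, 0, 0, -4, 0, 0, 0],
   [4, 0, -4, 0, 0, 0, 0, 0, 0, 0, 0, 4, 0, 0, -4, 0, 0, 0, 0, 0, -4, -4, 0, 0]]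

/-- the dual basis -/
def dK : List (List ℤ) :=
  [[2, 0, 2, 0, 0, 0, 0, 0, 0, 0, 0, 0, 0, 2, 2, 2, 2, 2, 0, 0, 2, 0, 0, 0],
   [1, 1, -1, -1, 1, 1, 1, 1, 1, 1, 1, 1, 1, 1, 1, -1, 1, -1, 1, -1, -1, -1, 1, 3],
   [4, 0, 0, 0, 0, 0, 0, 0, 0, 0, 0, 0, 0, 0, 0, 0, 0, 0, 0, 0, 0, 0, 0, 4],
   [0, 0, 0, -4, 0, 0, 0, 0, 0, 0, 0, 0, 0, -4, 0, 0, 0, 0, 0, 0, 0, 0, 0, 0],
   [0, 0, 0, -4, 0, 0, 0, 0, 0, 0, 0, 0, 0, 0, -4, 0, 0, 0, 0, 0, 0, 0, 0, 0],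
   [0, 0, 0, 0, 0, 0, 0, 0, 0, 0, 0, 0, 0, -4, -4, 0, 0, 0, 0, 0, 0, 0, 0, 0],
   [0, 0, 0, -4, 0, 0, 0, 0, 0, 0, 0, 0, 0, 0, 0, 0, -4, 0, 0, 0, 0, 0, 0, 0],
   [0, 0, 0, -4, 0, 0, 0, 0, 0, 0, 0, 0, 0, 0, 0, 0, 0, 0, 0, -4, 0, 0, 0, 0],
   [0, -4, 0, 0, 0, 0, 0, 0, 0, 0, 0, 0, 0, -4, 0, 0, 0, 0, 0, 0, 0, 0, 0, 0],
   [0, -4, 0, 0, 0, 0, 0, 0, 0, 0, 0, 0, 0, 0, 0, -4, 0, 0, 0, 0, 0, 0, 0, 0],
   [0, -4, 0, 0, 0, 0, 0, 0, 0, 0, 0, 0, 0, 0, 0, 0, 0, -4, 0, 0, 0, 0, 0, 0],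
   [0, -4, -4, 0, -4, 0, 0, 0, 0, 0, 0, 0, 0, -4, 0, 0, 0, 0, 0, 0, 0, 0, 0, 0],
   [0, -4, -4, 0, 0, 0, 0, 0, 0, 0, 0, 0, 0, 0, 0, 0, 0, 0, 0, 0, 0, 0, 0, 0],
   [0, 0, 0, 0, 0, -4, -4, 0, 0, 0, 0, 0, 0, 0, 0, 0, 0, 0, 0, 0, 0, 0, 0, 0],
   [0, -2, 2, 2, -2, -2, 0, 0, -2, 0, 0, -2, 0, -2, 0, 0, 0, 0, 0, 0, 0, 0, 0, 0],
   [0, 0, 2, 2, -2, -2, -2, 0, 0, -2, 0, 0, -2, 0, -2, 0, 0, 0, 0, 0, 0, 0, 0, 0],
   [0, -2, 2, 0, 0, 0, -2, -2, -2, 0, -2, -2, 0, 0, 0, 2, 0, 0, 0, 0, 0, 0, 0, 0],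
   [0, 0, 2, 2, 0, 0, 0, -2, -2, -2, 0, -2, -2, 0, 0, 0, -2, 0, 0, 0, 0, 0, 0, 0],
   [0, -2, 2, 0, 0, -2, 0, 0, 0, -2, -2, -2, -2, 0, 0, 0, 0, 2, 0, 0, 0, 0, 0, 0],
   [0, -2, 0, 0, -2, -2, -2, 0, -2, 0, -2, 0, -2, 0, 0, 0, 0, 0, -2, 0, 0, 0, 0, 0],
   [0, -2, 0, 2, -2, 0, -2, -2, -2, -2, 0, 0, 0, 0, 0, 0, 0, 0, 0, 2, 0, 0, 0, 0],
   [0, 0, 2, 0, -2, -2, 0, -2, -2, -2, -2, 0, 0, 0, 0, 0, 0, 0, 0, 0, 2, 0, 0, 0],
   [0, 0, 0, 2, 0, -2, -2, 0, -2, -2, -2, -2, 0, 0, 0, 0, 0, 0, 0, 0, 0, 2, 0, 0],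
   [0, 0, 0, 0, -2, 0, -2, -2, 0, -2, -2, -2, -2, 0, 0, 0, 0, 0, 0, 0, 0, 0, -2, 0]]

theorem bK_ok : ∀ i : Fin 24, memL (bK.getD i []) = true := by decide +kernel

theorem dK_ok : ∀ i : Fin 24, memL (dK.getD i []) = true := by decide +kernel

theorem gramK (i j : Fin 24) :
    dotInt (lam _ (bK_ok i)).1 (lam _ (dK_ok j)).1 % 16 = if i = j then 8 else 0 := by
  rw [lam_val, lam_val, dot_vec _ _ (memL_length (bK_ok i))]
  revert i j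
  decide +kernel

/-- words that avoid the two points -/
def cK (i : Fin 24) : Finset GolayPt := Finset.univ.filter fun k =>
  ([0, 0, 0, 10558, 21116, 31554, 72588, 525274, 10558, 36294, 138790, 10558, 36294, 21116,
    10558, 21116, 36294, 72588, 138790, 267634, 525274, 1050548, 2101096, 4202192].getD i 0).testBit (ix k)

/-- indices of vectors -/
def jK (i : Fin 24) : Fin 24 :=
  [1, 1, 1, 1, 1, 1, 1, 1, 14, 14, 14, 15, 15, 17, 23, 23, 23, 23, 23, 23, 23, 23, 23, 23].getD i 1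

theorem cK_word : ∀ i, IsWord (cK i) := by simp only [isWord_iff_qr]; decide +kernel

theorem cK_spec : ∀ i, none ∉ cK i ∧ some 0 ∉ cK i ∧ PU (bv (jK i)) ∧
    (3 ≤ i → ∀ k, (if k ∈ cK i then -(bv (jK i)).1 k else (bv (jK i)).1 k) =
      (bv (jK i)).1 k + (lam _ (dK_ok i)).1 k) := by
  unfold PU; decide +kernel

/-- The classes fixed by the sign changes. -/
theorem fixK {v : Lam} (hv : PU v) (h : ∀ c (hc : IsWord c), none ∉ c → some 0 ∉ c →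
    cong2 v (signEl c hc • v)) : cong2 0 v ∨ cong2 (e8 none) v := by
  let A : AddSubgroup Lam :=
    { carrier := {v | cong2 0 v ∨ cong2 (e8 none) v}
      zero_mem' := Or.inl (cong2.refl _)
      add_mem' := by
        rintro a b (ha | ha) (hb | hb)
        · exact Or.inl (by simpa using ha.add hb)
        · exact Or.inr (by simpa using ha.add hb)
        · exact Or.inr (by simpa using ha.add hb)
        · exact Or.inl ((cong2.of (cong_add_self _).symm).trans (ha.add hb))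
      neg_mem' := fun {a} ha => ha.imp (·.trans (cong2.of (cong_neg a)))
        (·.trans (cong2.of (cong_neg a))) }
  refine H34.BuA.mem_of_dual gramK (A := A) (fun u => Or.inl (cong2.of (cong_add_self u).symm))
    fun i => ?_
  by_cases hi : 3 ≤ i
  · obtain ⟨h1, h2, h3, h4⟩ := cK_spec i
    have h6 := (h _ (cK_word i) h1 h2).dot_mod h3
    have h7 : signEl _ (cK_word i) • bv (jK i) = bv (jK i) + lam _ (dK_ok i) :=
      Subtype.ext (funext (h4 hi))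
    rw [co_dot_inv, signEl_inv, h7, AddSubgroup.coe_add, dotInt_add_right, add_sub_cancel_left] at h6
    exact Or.inr h6
  · have e0 : lam _ (bK_ok 0) = 0 + vU := Subtype.ext (by decide +kernel)
    have e1 : lam _ (bK_ok 1) = e8 none := Subtype.ext (by decide +kernel)
    have e2 : lam _ (dK_ok 2) = vU := Subtype.ext (by decide +kernel)
    obtain rfl | rfl | rfl : i = 0 ∨ i = 1 ∨ i = 2 := by omega
    exacts [Or.inl (Or.inl (e0 ▸ cong2_add_U 0)), Or.inl (Or.inr (e1 ▸ cong2.refl _)),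
      Or.inr (e2 ▸ hv)]

theorem card_Sg_St : Nat.card ↥(Sg ⊓ St vU) ≤ 1024 := by
  have hc : IsWord {some 0, some 2, some 13, some 14, some 15, some 16, some 17, some 20} := by
    rw [isWord_iff_qr]; decide +kernel
  have h1 := H42.card_eq_ncard_orbit_mul Sg vU
  have h2 : ({vU, -vU, vU', -vU'} : Set Lam) ⊆ MulAction.orbit Sg vU := by
    have n : negEl ∈ Sg := ⟨_, _, rfl⟩
    have e : signEl _ hc • vU = vU' := Subtype.ext (funext fun i => by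
      rw [signEl_apply]; revert i; decide +kernel)
    rintro _ (rfl | rfl | rfl | rfl) <;> rw [mem_orbit_iff']
    exacts [⟨1, one_mem _, one_smul _ _⟩, ⟨_, n, negEl_smul _⟩, ⟨_, ⟨_, hc, rfl⟩, e⟩,
      ⟨_, mul_mem n ⟨_, hc, rfl⟩, by rw [mul_smul, e, negEl_smul]⟩]
  have h3 := Set.ncard_le_ncard h2 (Set.finite_range _)
  rw [Set.ncard_insert_of_notMem (by simp only [Set.mem_insert_iff, Set.mem_singleton_iff]; decide +kernel),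
    Set.ncard_insert_of_notMem (by simp only [Set.mem_insert_iff, Set.mem_singleton_iff]; decide +kernel),
    Set.ncard_pair (by decide +kernel)] at h3
  rw [card_Sg] at h1
  nlinarith

theorem e8_U' : cong2 (e8 none) vU' := Or.inr ⟨-vU, by rw [← U_add_U']; abel⟩

theorem not_zero_e8 : ¬ cong2 0 (e8 none) := fun c => by
  have := c.zero_cases (sqNorm_e8 none).le
  revert this; decide +kernel

namespace BD

variable {G : Type*} [Group G] [Finite G] {Q : Subgroup G} {z : G}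
  {θ : centralizer ({z} : Set G) →* Co0} {R : Lam → G → Prop} (h : BD Q z θ R)
include h

theorem card_B {S : Subgroup G} {s : G} (p : Pair Q S z s) :
    1024 ≤ Nat.card ((S.subgroupOf (centralizer {z})).map θ) := by
  have c1 := h.hQ.card_mul_card_centralizer_of_mem (U := Q ⊓ S) inf_le_left ⟨h.hQ.mem, p.zS⟩
  have c2 : Nat.card ↥(Q ⊓ S) ≤ Nat.card ↥(Q ⊓ centralizer ((Q ⊓ S : Subgroup G) : Set G)) :=
    card_le_of_le fun e he => ⟨he.1, fun f hf => p.E_comm hf he⟩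
  have c3 := p.card_B
  let φ := θ.subgroupMap (S.subgroupOf (centralizer {z}))
  have c4 := card_eq_card_quotient_mul_card_subgroup φ.ker
  have c5 : Nat.card φ.ker ≤ Nat.card ↥(Q ⊓ S) := Nat.card_le_card_of_injective
    (fun k => ⟨k.1.1.1, (h.ker _).1 (congrArg Subtype.val k.2), k.1.2⟩) fun a b e =>
      Subtype.ext (Subtype.ext (Subtype.ext (congrArg (fun u : ↥(Q ⊓ S) => u.1) e)))
  rw [Nat.card_congr (QuotientGroup.quotientKerEquivOfSurjective φ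
    (θ.subgroupMap_surjective _)).toEquiv, show Nat.card (S.subgroupOf (centralizer {z})) =
      Nat.card ↥(S ⊓ centralizer {z}) by
    rw [← inf_subgroupOf_right, Nat.card_congr (subgroupOfEquivOfLe inf_le_right).toEquiv]] at c4
  rw [h.card] at c1 c3
  have c6 : Nat.card ↥(Q ⊓ S) ≤ 4096 := by nlinarith
  by_contra c
  nlinarith

/-- The normal form of a conjugate of `z` in `Q`. -/
theorem key {s : G} (hs : s ∈ Q) (c : IsConj z s) (n : s ≠ z) :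
    ∃ k, k * z = z * k ∧ ∃ S, KP Q z θ R S (k * s * k⁻¹) := by
  obtain ⟨a, rfl⟩ := isConj_iff.1 c
  have p := h.hQ.pair h.h8 hs n
  obtain ⟨g, hg, e⟩ := e10 (((cj Q a).subgroupOf (centralizer {z})).map θ)
    (by rintro _ ⟨b, -, rfl⟩; exact h.theta_mem b) (by
      rintro _ ⟨b, hb, rfl⟩
      rw [← map_mul, h.ker]
      exact (p.R_sq (mem_sup_left ⟨hb, b.2⟩)).1) (h.card_B p)
  obtain ⟨k, rfl⟩ := h.exists_lift hg
  have hk := mem_centralizer_singleton_iff.1 k.2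
  have e1 : k * (a * z * a⁻¹) * k.1⁻¹ = k * a * z * (k * a)⁻¹ := by group
  have p' := h.hQ.pair h.h8 (g := k * a) (e1 ▸ h.hQ.conj_mem hk hs) fun e2 => n (by
    rw [← e1, mul_inv_eq_iff_eq_mul, ← hk, mul_right_inj] at e2; exact e2)
  have sg : ∀ c (hc : IsWord c), none ∉ c → some 0 ∉ c →
      ∃ b : centralizer ({z} : Set G), b.1 ∈ cj Q (k * a) ∧ θ b = signEl c hc := fun c hc h1 h2 =>
    (eq_of_le_of_card_ge (H := ((cj Q (k * a)).subgroupOf (centralizer {z})).map θ)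
      (K := Sg ⊓ St vU) (by
        rintro _ ⟨b, hb, rfl⟩
        refine ⟨?_, h.theta_mem b⟩
        have := e _ ⟨k⁻¹ * b * k, show (k⁻¹ * b * k).1 ∈ cj Q a from mem_cj.2 (by
          convert mem_cj.1 (mem_subgroupOf.1 hb) using 1
          simp only [coe_mul, coe_inv]; group), rfl⟩
        simpa [mul_assoc] using this) (card_Sg_St.trans (h.card_B p'))).ge
      ⟨⟨c, hc, rfl⟩, sign_mem_St hc h1 h2⟩
  obtain ⟨v, r⟩ := h.ex1 _ p'.xQ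
  refine ⟨k, hk, cj Q (k * a), e1 ▸ ⟨p', h.cg r ((fixK (h.perp r) fun c hc h1 h2 => ?_).resolve_left
    fun c => ((h.zero_iff r).1 c).elim p'.hS.ne p'.ne).symm, sg⟩⟩
  obtain ⟨b, hb, e2⟩ := sg c hc h1 h2
  exact e2 ▸ h.cong_of_comm r b (p'.hS.cen _ hb)

end BD

theorem fus (hP : PureStmt.{u}) (hW : WcTStmt.{u}) : FusStmt.{u} := by
  intro G _ _ Q z θ R h t rt
  obtain ⟨a, a1, a2⟩ := h.wc
  obtain ⟨k, -, S, p⟩ := h.key a1 (isConj_iff.2 ⟨a, rfl⟩) a2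
  refine ⟨fun c => ?_, ?_, fun D hD h2 hn => ?_, fun a ha b hb c1 c2 n1 n2 => ?_,
    hP G Q z θ R h fun v x n d r => ?_, hW G Q z θ R h _ _ p t rt⟩
  · obtain ⟨k, hk, S, p⟩ := h.key (h.mem rt) c (h.t_ne rt).2
    let k' : centralizer ({z} : Set G) := ⟨k, mem_centralizer_singleton_iff.2 hk⟩
    have d : dotInt (θ k' • vX).1 vU.1 = 16 := by
      rw [← show θ k' • vU = vU from h.theta_mem k', co_dot]; decide +kernel
    have n : sqNorm (θ k' • vX).1 = 32 := by rw [co_sqNorm, sqNorm_vX]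
    rcases (h.uniq p.r (h.act k' rt)).2 (Or.inl rfl) with e | e
    · have := e.norm_eq (sqNorm_e8 none).le (by omega)
      rw [sqNorm_e8] at this; omega
    · rcases H34.BuA.pm_of_cong (cong.trans (v := vU') ⟨vU, by rw [← U_add_U']; abel⟩ e)
        sqNorm_leechU' n with e | e <;> rw [e] at d <;> exact absurd d (by decide +kernel)
  · rw [card_eq_card_quotient_mul_card_subgroup θ.ker, mul_comm,
      Nat.card_congr (QuotientGroup.quotientKerEquivRange θ).toEquiv, h.rng, card_Co2',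
      show θ.ker = Q.subgroupOf _ from Subgroup.ext h.ker,
      Nat.card_congr (subgroupOfEquivOfLe h.hQ.le_centralizer).toEquiv, h.card]
  · have := eq_bot_of_normal_stab sqNorm_leechU (N := (D.subgroupOf (centralizer {z})).map θ)
      (h2.comap_subtype.map θ) (by rintro _ ⟨b, -, rfl⟩; exact h.theta_mem b) fun g hg => by
        obtain ⟨k, rfl⟩ := h.exists_lift hg
        refine mem_normalizer_of_conj_mem ?_
        rintro _ ⟨d, hd, rfl⟩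
        exact ⟨k * d * k⁻¹, hn k (mem_centralizer_singleton_iff.1 k.2) d hd, by simp⟩
    exact fun d hd => (h.ker ⟨d, hD hd⟩).1 (this.le ⟨⟨d, hD hd⟩, hd, rfl⟩)
  · obtain ⟨k, hk, _, p⟩ := h.key ha c1 n1
    obtain ⟨k', hk', _, p'⟩ := h.key hb c2 n2
    obtain ⟨l, -, e⟩ := h.exists_conj p.r p'.r not_zero_e8 (one_mem _) (by
      rw [one_smul]; exact cong2.refl _)
    refine ⟨k'⁻¹ * l * k, (((show Commute k' z from hk').inv_left.mul_left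
      (mem_centralizer_singleton_iff.1 l.2)).mul_left hk).eq, ?_⟩
    calc _ = k'⁻¹ * (l * (k * a * k⁻¹) * l.1⁻¹) * k' := by group
      _ = b := by rw [e]; group
  · obtain ⟨g, hg, e⟩ := trans_U sqNorm_leechU' n (d.symm ▸ by decide +kernel)
    obtain ⟨l, -, e'⟩ := h.exists_conj p.r r not_zero_e8 hg (e ▸ e8_U'.smul hg)
    exact isConj_iff.2 ⟨l * k * a, by rw [← e']; group⟩

end Cfsg.Agent.H47.Bu
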