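import Cfsg.Agent.H47.B6Sur
import Cfsg.Agent.H47.B6Emb
import Cfsg.Agent.H48.B6Cl
import Cfsg.Agent.H70.B6Hy
import Cfsg.Agent.H48.MidGlue
import Cfsg.Agent.H48.MidFin

/-! The Baby Monster from the centralizer of a transposition. -/

set_option autoImplicit false
set_option maxHeartbeats 2000000

namespace Cfsg.Agent.H47.B6

open Cfsg Subgroup Cfsg.Agent.H48 Cfsg.Agent.H49 Cfsg.Agent.H48.Mid Cfsg.Agent.H80.Y
  Cfsg.Agent.H47.YB Cfsg.Agent.H97.Gr Cfsg.Agent.H97.Gr.B6b Cfsg.Agent.H97.Mj Cfsg.Agent.H97.Yt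
  Cfsg.Agent.H47.Bu

universe u

theorem baby_of_emb {B : Type*} [Group B] {G : Type u} [Group G] [Finite G] {Q : Subgroup B}
    {z : B} {θ : centralizer ({z} : Set B) →* Co0} {R : Lam → B → Prop} (b : BD Q z θ R)
    (ι : B →* G) (inj : Function.Injective ι) (c : ∀ x, Commute x (ι z) → x ∈ ι.range) :
    IsOfBabyMonsterType G := by
  have k : ∀ x, x ∈ centralizer ({z} : Set B) ↔ ι x ∈ centralizer ({ι z} : Set G) := fun x => by
    rw [mem_centralizer_singleton_iff, mem_centralizer_singleton_iff, ← map_mul, ← map_mul,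
      inj.eq_iff]
  let e := MulEquiv.ofBijective ((ι.comp (centralizer ({z} : Set B)).subtype).codRestrict
    (centralizer {ι z}) fun x => (k x).1 x.2) ⟨fun x y e => Subtype.ext (inj (congrArg Subtype.val e)),
      fun x => by
        obtain ⟨a, ha⟩ := c x (mem_centralizer_singleton_iff.1 x.2)
        exact ⟨⟨a, (k a).2 (ha ▸ x.2)⟩, Subtype.ext ha⟩⟩
  obtain ⟨g, g1, g2⟩ := b.wc
  refine glueB G (Q.map ι) (ι z) (θ.comp e.symm.toMonoidHom) ⟨⟨b.hQ.toXS.map ι inj, fun x hx => ?_,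
    fun x hx => ?_⟩, by rw [card_map_of_injective inj, b.card], ?_, fun x => ?_⟩
    ⟨ι g, ⟨_, g1, by simp⟩, fun e => g2 (inj (by simpa using e))⟩
  · obtain ⟨a, rfl⟩ := c x (hx _ ⟨z, b.hQ.mem, rfl⟩).symm
    exact ⟨a, b.hQ.cQ fun q hq => inj (by rw [map_mul, map_mul, hx _ ⟨q, hq, rfl⟩]), rfl⟩
  · obtain ⟨a, rfl⟩ := c x (mem_centralizer_singleton_iff.1 hx)
    refine mem_normalizer_of_conj_mem ?_
    rintro _ ⟨q, hq, rfl⟩
    exact ⟨_, b.hQ.conj_mem (mem_centralizer_singleton_iff.1 ((k a).2 hx)) hq, by simp⟩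
  · rw [MonoidHom.range_comp, MonoidHom.range_eq_top.2 e.symm.surjective, ← MonoidHom.range_eq_map,
      b.rng]
  · obtain ⟨x, rfl⟩ := e.surjective x
    exact ((congrArg (θ · = 1) (e.symm_apply_apply x)).to_iff.trans (b.ker x)).trans
      (mem_map_iff_mem inj).symm

/-- A group in which the Baby Monster contains the centralizer of `z` is the Baby Monster. -/
theorem iso_of_cent {G : Type u} [Group G] [Finite G] (ι : BB →* G) (inj : Function.Injective ι)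
    (c : ∀ x, Commute x (ι (H97.Gr.pB z0)) → x ∈ ι.range) : Spor.IsoB G := by
  obtain ⟨_, _, _, h, hR⟩ := real_md
  obtain ⟨Q, z, θ, R, b⟩ := bd BB (h.baby (t := tU) (hR _))
  obtain ⟨t, rt⟩ := b.ex2 vX PW_X.1
  have fu := fusB BB Q z θ R b t rt
  obtain ⟨N, l⟩ := H17.BuL.loc BB Q z θ R b t rt fu
  obtain ⟨φ, e⟩ := exists_emb bEquiv b rt fu l
  obtain ⟨ψ, hψ⟩ := exists_equiv_of_ker_eq φ H97.Gr.pB (e.surj H70.BuC.wStmt)
    (QuotientGroup.mk'_surjective _) fun k => by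
      rw [e.ker, ← map_one H97.Gr.pB, eq_comm (a := H97.Gr.pB k), pB_eq_iff, coe_one, mul_one]
      exact or_congr Subtype.ext_iff Subtype.ext_iff
  refine uniqB G (baby_of_emb b (ι.comp ψ.toMonoidHom) (inj.comp ψ.injective) fun x hx => ?_)
  obtain ⟨a, rfl⟩ := c x (by rw [← hψ, e.hz]; exact hx)
  exact ⟨ψ.symm a, by simp⟩

theorem cls_real {y : M} (h1 : y ∈ DD) (h2 : tU * y ∈ DD) (w : M) (c : Commute w tU)
    (ww : w * w = 1) : w = 1 ∨ w = tU ∨ (∃ k, Commute k tU ∧ k * y * k⁻¹ = w) ∨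
      ∃ n, Commute n tU ∧ (n * n = w ∨ n * n = w * tU) := by
  have ss := mrep.sq tU_mem
  rcases H74.Mon.two_real w ww with a | a | a
  · exact Or.inl a
  · rcases H74.Mon.two_real (w * tU) (by
      rw [mul_assoc, ← mul_assoc tU, ← c.eq, mul_assoc, ss, mul_one, ww]) with b | b | b
    · exact Or.inr (Or.inl ((eq_inv_of_mul_eq_one_left b).trans (inv_eq_of_mul_eq_one_right ss)))
    · exact Or.inr (Or.inr (Or.inl (trans_nb tU_mem h1 a h2 (Set.mem_of_eq_of_mem c.eq.symm b))))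
    · exact Or.inr (Or.inr (Or.inr ((H70.B6.sq tU tU_mem _ b (c.mul_left (Commute.refl _))).imp
        fun _ e => ⟨e.1, Or.inr e.2⟩)))
  · exact Or.inr (Or.inr (Or.inr ((H70.B6.sq tU tU_mem _ a c).imp fun _ e => ⟨e.1, Or.inl e.2⟩)))

/-- The standard data in the Monster. -/
theorem exists_data : ∃ (T : ℕ → M) (Q : Subgroup M) (θ : centralizer ({zA} : Set M) →* Spor.Co1)
    (R : Lam → M → Prop), Tp T ∧ T 11 = tU ∧ T 11 * T 6 * T 9 = zA ∧ MD Q zA θ R ∧ R vU tU ∧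
      R vX (T 6) ∧ T 6 ∈ DD ∧ tU * T 6 ∈ DD ∧ ∀ a, IsConj tU a → IsConj tU (a * zA) → T2 R a := by
  obtain ⟨T, h, e1, e2⟩ := exists_tp
  obtain ⟨Q, θ, R, hM, hT⟩ := md_at zA_mem
  obtain ⟨⟨ha, hb, hab⟩, ⟨-, hd, had⟩, ⟨-, -, hbd⟩, -⟩ :=
    h.nl (a := 11) (b := 6) (c := 9) 8 7 (by decide)
  obtain ⟨a1, a2, a3⟩ := tri_aux (mrep.sq ha) (mrep.sq hb) (mrep.comm ha hb hab)
    (mrep.comm ha hd had) (mrep.comm hb hd hbd)
  rw [e2] at a1 a2 a3
  obtain ⟨θ', R', h', rx, ry⟩ := H34.MidA.exists_std hM ⟨hT _ ha (Set.mem_of_eq_of_mem a1 hbd),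
    hT _ hb (Set.mem_of_eq_of_mem a2 had), hT _ hab (Set.mem_of_eq_of_mem a3 hd)⟩
  refine ⟨T, Q, θ', R', h, e1, e2, h', e1 ▸ rx, ry, hb, e1 ▸ hab, fun a c1 c2 => ?_⟩
  have d1 : a ∈ DD := (DD_eq tU_mem).ge c1
  have d2 : a * zA ∈ DD := (DD_eq tU_mem).ge c2
  exact (H34.MidA.t2_iff h').2 ((H34.MidA.t2_iff hM).1 (hT a d1 (Set.mem_of_eq_of_mem
    (comm_of_three (mrep.sq d1) lx.zz (mrep.sq d2)).symm d2)))

open Classical in
/-- the embedding as a function on the Monster -/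
noncomputable def ext {G : Type u} [Group G] (ι : BB →* G) (a : M) : G :=
  if h : a ∈ KK then ι (H97.Gr.pB ⟨a, h⟩) else 1

theorem ext_eq {G : Type u} [Group G] (ι : BB →* G) {a : M} (h : Commute a tU) :
    ext ι a = ι (H97.Gr.pB ⟨a, mem_centralizer_singleton_iff.2 h⟩) :=
  dif_pos (mem_centralizer_singleton_iff.2 h)

theorem em_of {G : Type u} [Group G] {Q : Subgroup M} {θ : centralizer ({zA} : Set M) →* Spor.Co1}
    {R : Lam → M → Prop} {y : M} (hM : MD Q zA θ R) (rx : R vU tU) (ry : R vX y) (h1 : y ∈ DD)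
    (h2 : tU * y ∈ DD) (l : ∀ a, IsConj tU a → IsConj tU (a * zA) → T2 R a) (ι : BB →* G)
    (inj : Function.Injective ι) {H : Subgroup G} (le : ι.range ≤ H)
    (two : ∀ k ∈ H, k ^ 8 = 1 → k ∈ ι.range)
    (inn : ∀ k ∈ H, ∃ m, ∀ a, k * ι a * k⁻¹ = ι (m * a * m⁻¹))
    (ct : ∀ k, Commute k (ext ι y) → k ∈ H) : Em Q zA θ R tU y (ext ι) H where
  md := hM
  rx := rx
  ry := ry
  mul ha hb := by
    rw [ext_eq ι ha, ext_eq ι hb, ext_eq ι (ha.mul_left hb), ← map_mul, ← map_mul]; rfl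
  ker ha := by
    rw [ext_eq ι ha, map_eq_one_iff ι inj, ← map_one H97.Gr.pB, eq_comm (a := H97.Gr.pB _), pB_eq_iff, coe_one,
      mul_one]
  cl0 x hx e := (H48.B6.cl M Q zA θ R hM tU y rx ry x hx e).1
  cls := cls_real h1 h2
  loc := l
  le ha := le ⟨_, (ext_eq ι ha).symm⟩
  two k hk e := by
    obtain ⟨a, rfl⟩ := two k hk e
    obtain ⟨a, rfl⟩ := QuotientGroup.mk'_surjective _ a
    exact ⟨a, mem_centralizer_singleton_iff.1 a.2, ext_eq ι (mem_centralizer_singleton_iff.1 a.2)⟩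
  inn k hk := by
    obtain ⟨m, hm⟩ := inn k hk
    obtain ⟨m, rfl⟩ := QuotientGroup.mk'_surjective _ m
    have c : Commute m.1 tU := mem_centralizer_singleton_iff.1 m.2
    refine ⟨m, c, fun a ha => ?_⟩
    rw [ext_eq ι ha, ext_eq ι ((c.mul_left ha).mul_left c.inv_left), hm, ← map_inv, ← map_mul,
      ← map_mul]; rfl
  ct := ct

/-- A group in which the Baby Monster contains the centralizer of a transposition is the Baby
Monster. -/
theorem iso_of_cent' {G : Type u} [Group G] [Finite G] (ι : BB →* G)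
    (inj : Function.Injective ι) {y : M} (h1 : y ∈ DD) (h2 : tU * y ∈ DD)
    (c : ∀ x, Commute x (ext ι y) → x ∈ ι.range) : Spor.IsoB G := by
  obtain ⟨T, Q, θ, R, -, -, -, hM, rx, ry, d1, d2, l⟩ := exists_data
  obtain ⟨k, k1, k2⟩ := trans_nb tU_mem h1 d1 h2 d2
  have cy : Commute y tU := (mrep.comm tU_mem h1 h2).symm
  have k3 : Commute k tU := k1
  have e : ext ι (T 6) = ext ι k * ext ι y * (ext ι k)⁻¹ := by
    rw [← k2, ext_eq ι ((k3.mul_left cy).mul_left k3.inv_left), ext_eq ι k3, ext_eq ι cy, ← map_inv,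
      ← map_inv, ← map_mul, ← map_mul, ← map_mul, ← map_mul]; rfl
  have m : ext ι k ∈ ι.range := ⟨_, (ext_eq ι k3).symm⟩
  have h := em_of hM rx ry d1 d2 l ι inj le_rfl (fun _ hk _ => hk)
    (by rintro _ ⟨m, rfl⟩; exact ⟨m, fun a => by simp⟩) fun x hx => by
      have := c ((ext ι k)⁻¹ * x * ext ι k) ((conj_comm_iff (ext ι k) _ _).1 (by
        rw [← e]; simpa [mul_assoc] using hx.eq))
      exact (mul_mem_cancel_left (inv_mem m)).1 ((mul_mem_cancel_right m).1 this)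
  exact iso_of_cent ι inj fun x hx => h.cent_z H70.B6H.hy (by rwa [ext_eq ι h.cz])

/-- The characterization of the Baby Monster by the centralizer of a transposition. -/
theorem core {G : Type u} [Group G] [Finite G] {y : M} (h1 : y ∈ DD)
    (h2 : tU * y ∈ DD) {t : G} {N : Subgroup G} {α : M → G} (g : Good tU y t N α) (t1 : t ≠ 1)
    (hC : ∀ k, (∀ n ∈ N, k * n = n * k) → k = 1 ∨ k = t) {k : G} (k1 : k * t * k⁻¹ ≠ t)
    (k2 : k * t * k⁻¹ * t = t * (k * t * k⁻¹)) : Spor.IsoB G := by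
  obtain ⟨T, Q, θ, R, h, e1, e2, hM, rx, ry, d1, d2, -⟩ := exists_data
  obtain ⟨n, n1, n2⟩ := trans_nb tU_mem h1 d1 h2 d2
  have c := exists_cx hM H48.B6.cl rx ry (g.conjL (mul_inv_eq_iff_eq_mul.2 n1) n2) t1 hC
  generalize (fun x => α (n⁻¹ * x * n)) = β at c
  obtain ⟨q, q1, q2⟩ := exists_swap hM rx ry H70.B6.l3 c k1 k2
  obtain ⟨ι, inj, ag⟩ := exists_iota h e1 e2 bEquiv c.g t1 q1 q2
  have ag' : ∀ a ∈ centralizer ({tU, T 6} : Set M), ext ι a = β a := fun a ha =>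
    (ext_eq ι (mem_c2.1 ha).1).trans (ag _ ha)
  refine iso_of_cent' ι inj d1 d2 fun x hx => ?_
  rw [ag' _ c.g.my, c.g.ft] at hx
  obtain ⟨m, p⟩ := c.act x hx
  have m1 : ext ι m ∈ ι.range := ⟨_, (ext_eq ι p.cs).symm⟩
  refine (mul_mem_cancel_left (inv_mem m1)).1 ?_
  rcases hC ((ext ι m)⁻¹ * x) fun b hb => by
    obtain ⟨a, ha, rfl⟩ := (c.g.rng b).1 hb
    have e : β (m * a * m⁻¹) = ext ι m * β a * (ext ι m)⁻¹ := by
      rw [← ag' _ (p.mem ha), ← ag' _ ha, ext_eq ι (mem_c2.1 (p.mem ha)).1, ext_eq ι p.cs,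
        ext_eq ι (mem_c2.1 ha).1, ← map_inv, ← map_inv, ← map_mul, ← map_mul, ← map_mul, ← map_mul]
      rfl
    rw [← mul_inv_eq_iff_eq_mul]
    calc _ = (ext ι m)⁻¹ * (x * β a * x⁻¹) * ext ι m := by group
      _ = _ := by rw [p.eq a ha, e]; group with e | e <;> rw [e]
  · exact one_mem _
  · rw [← c.g.ft, ← ag' _ c.g.my]; exact ⟨_, (ext_eq ι c.g.sy.symm).symm⟩

end Cfsg.Agent.H47.B6
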