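import Cfsg.Agent.H47.B6Swap
import Cfsg.Agent.H70.B6Lat
import Cfsg.Agent.H49.YtF2D

/-! The Baby Monster from the centralizer of a transposition: the centralizer of a 2-central
involution. -/

set_option autoImplicit false

namespace Cfsg.Agent.H47.B6

open Cfsg Subgroup Cfsg.Agent.H48 Cfsg.Agent.H49 Cfsg.Agent.H48.Mid Cfsg.Agent.H98
  Cfsg.Agent.H34.MidA Cfsg.Agent.H47.Bu Cfsg.Agent.H49.Yt Cfsg.Agent.H70.B6

universe u

/-- equal modulo `z` -/
def Ez {G : Type*} [Group G] (z a b : G) : Prop := b = a ∨ b = a * z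

section
variable {G : Type*} [Group G] {z a b c d : G}

theorem Ez.trans (zz : z * z = 1) (h : Ez z a b) (h' : Ez z b c) : Ez z a c := by
  rcases h with rfl | rfl <;> rcases h' with rfl | rfl <;> simp [Ez, mul_assoc, zz]

theorem Ez.symm (zz : z * z = 1) (h : Ez z a b) : Ez z b a := by
  rcases h with rfl | rfl <;> simp [Ez, mul_assoc, zz]

theorem Ez.mul_left (h : Ez z a b) (c : G) : Ez z (c * a) (c * b) :=
  h.imp (congrArg _) fun e => by rw [e, mul_assoc]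

theorem Ez.mul_right (h : Ez z a b) (k : Commute c z) : Ez z (a * c) (b * c) :=
  h.imp (congrArg (· * c)) fun e => by rw [e, mul_assoc, ← k.eq, mul_assoc]

theorem Ez.cancel (h : Ez z (c * a) (c * b)) : Ez z a b := by simpa using h.mul_left c⁻¹

theorem Ez.conj (h : Ez z a b) (k : Commute c z) : Ez z (c * a * c⁻¹) (c * b * c⁻¹) :=
  (h.mul_left c).mul_right k.inv_left

end

variable {A : Type} [Group A] {G : Type u} [Group G]

/-- A homomorphism from the centralizer of `s` whose image controls the centralizer of `f y`. -/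
structure Em (Q : Subgroup A) (z : A) (θ : centralizer ({z} : Set A) →* Spor.Co1)
    (R : Lam → A → Prop) (s y : A) (f : A → G) (H : Subgroup G) : Prop where
  md : MD Q z θ R
  rx : R vU s
  ry : R vX y
  mul : ∀ {a b}, Commute a s → Commute b s → f (a * b) = f a * f b
  ker : ∀ {a}, Commute a s → (f a = 1 ↔ a = 1 ∨ a = s)
  cl0 : ∀ x ∈ centralizer ({s, y} : Set A), x * x ∈ closure ({s, y} : Set A) → x * x = 1
  cls : ∀ w, Commute w s → w * w = 1 → w = 1 ∨ w = s ∨ (∃ k, Commute k s ∧ k * y * k⁻¹ = w) ∨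
    ∃ n, Commute n s ∧ (n * n = w ∨ n * n = w * s)
  loc : ∀ a, IsConj s a → IsConj s (a * z) → T2 R a
  le : ∀ {a}, Commute a s → f a ∈ H
  two : ∀ k ∈ H, k ^ 8 = 1 → ∃ a, Commute a s ∧ f a = k
  inn : ∀ k ∈ H, ∃ m, Commute m s ∧ ∀ a, Commute a s → k * f a * k⁻¹ = f (m * a * m⁻¹)
  ct : ∀ k, Commute k (f y) → k ∈ H

namespace Em

variable {Q : Subgroup A} {z : A} {θ : centralizer ({z} : Set A) →* Spor.Co1}
  {R : Lam → A → Prop} {s y : A} {f : A → G} {H : Subgroup G} (h : Em Q z θ R s y f H)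
include h

theorem fl : Fl R s y := fl_std h.md h.rx h.ry

theorem ss : s * s = 1 := H70.Mid.t2_sq h.md h.fl.1

theorem yy : y * y = 1 := H70.Mid.t2_sq h.md h.fl.2.1

theorem cy : Commute y s := (H70.Mid.fl_comm h.md h.fl).symm

theorem cz : Commute z s := (h.md.hQ.cen _ (h.md.mem h.rx)).symm

theorem one : f 1 = 1 := (h.ker (Commute.one_left s)).2 (Or.inl rfl)

theorem fs : f s = 1 := (h.ker (Commute.refl s)).2 (Or.inr rfl)

theorem inv {a : A} (ha : Commute a s) : f a⁻¹ = (f a)⁻¹ :=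
  eq_inv_of_mul_eq_one_left (by rw [← h.mul ha.inv_left ha, inv_mul_cancel, h.one])

theorem conj {a b : A} (ha : Commute a s) (hb : Commute b s) :
    f (a * b * a⁻¹) = f a * f b * (f a)⁻¹ := by
  rw [h.mul (ha.mul_left hb) ha.inv_left, h.mul ha hb, h.inv ha]

theorem eq_iff {a b : A} (ha : Commute a s) (hb : Commute b s) : f a = f b ↔ Ez s a b := by
  rw [← inv_mul_eq_one, ← h.inv ha, ← h.mul ha.inv_left hb, h.ker (ha.inv_left.mul_left hb),
    inv_mul_eq_one, inv_mul_eq_iff_eq_mul, eq_comm]; rfl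

theorem comm {a b : A} (ha : Commute a s) (hb : Commute b s) (c : Commute a b) :
    Commute (f a) (f b) := by rw [Commute, SemiconjBy, ← h.mul ha hb, c.eq, h.mul hb ha]

theorem sq {a : A} (ha : Commute a s) (e : a * a = 1) : f a * f a = 1 := by
  rw [← h.mul ha ha, e, h.one]

theorem zz : f z * f z = 1 := h.sq h.cz h.md.hQ.zz

theorem tt : f y * f y = 1 := h.sq h.cy h.yy

theorem ez {a b : A} (ha : Commute a s) (e : Ez z a b) : Ez (f z) (f a) (f b) :=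
  e.imp (congrArg f) fun e => by rw [e, h.mul ha h.cz]

theorem comm_Q {a b : A} (ha : Commute a s) (hb : Commute b s) (a1 : a ∈ Q) (b1 : b ∈ Q)
    (c : Commute (f a) (f b)) : Commute a b := by
  by_contra n
  have e := h.md.hQ.comm_of_ne a1 b1 n
  rcases (h.eq_iff (hb.mul_left ha) (ha.mul_left hb)).1 (by rw [h.mul ha hb, h.mul hb ha, c.eq])
    with c | c
  exacts [n c, (H70.Mid.t2_ne h.md h.fl.1).2 (mul_left_cancel (c.symm.trans e))]

theorem pu {v : Lam} {a : A} (r : R v a) : Commute a s ↔ PU v := h.md.comm_iff r h.rx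

theorem cong2_iff {v w : Lam} {a b : A} (r : R v a) (r' : R w b) (ha : Commute a s)
    (hb : Commute b s) : cong2 v w ↔ Ez (f z) (f a) (f b) := by
  have e : f (a * s) = f a := by rw [h.mul ha (Commute.refl s), h.fs, mul_one]
  rw [cong2, h.md.uniq r r', h.md.uniq (h.md.mul r h.rx) r']
  refine ⟨fun c => c.elim (h.ez ha) fun c => e ▸ h.ez (ha.mul_left (Commute.refl s)) c, fun c => ?_⟩
  rcases c with c | c
  · exact ((h.eq_iff ha hb).1 c.symm).imp Or.inl Or.inl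
  · rw [← h.mul ha h.cz, eq_comm, h.eq_iff (ha.mul_left h.cz) hb] at c
    exact c.imp Or.inr fun c => Or.inr (by rw [c, mul_assoc, h.cz.eq, mul_assoc])

/-- the image of `Q` -/
def QQ : Subgroup G where
  carrier := {g | ∃ a ∈ Q, Commute a s ∧ f a = g}
  one_mem' := ⟨1, one_mem _, Commute.one_left s, h.one⟩
  mul_mem' := by
    rintro _ _ ⟨a, a1, a2, rfl⟩ ⟨b, b1, b2, rfl⟩
    exact ⟨_, mul_mem a1 b1, a2.mul_left b2, h.mul a2 b2⟩
  inv_mem' := by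
    rintro _ ⟨a, a1, a2, rfl⟩
    exact ⟨_, inv_mem a1, a2.inv_left, h.inv a2⟩

/-- the image of the centralizer of `y` -/
def NN : Subgroup G where
  carrier := {g | ∃ a, Commute a y ∧ Commute a s ∧ f a = g}
  one_mem' := ⟨1, Commute.one_left y, Commute.one_left s, h.one⟩
  mul_mem' := by
    rintro _ _ ⟨a, a1, a2, rfl⟩ ⟨b, b1, b2, rfl⟩
    exact ⟨_, a1.mul_left b1, a2.mul_left b2, h.mul a2 b2⟩
  inv_mem' := by
    rintro _ ⟨a, a1, a2, rfl⟩
    exact ⟨_, a1.inv_left, a2.inv_left, h.inv a2⟩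

theorem exists_ass {m : A} (c : Commute m s) (c' : Commute m z) (e : m * m ∈ Q) :
    ∃ g, Ass θ g m ∧ g • vU = vU ∧ g * g = 1 := by
  obtain ⟨g, a, e1⟩ := h.md.exists_ass_fix h.rx sqNorm_leechU c' c
  exact ⟨g, a, e1, h.md.ass_fix_unique sqNorm_leechU (a.mul a) (h.md.ass_one e)
    (by rw [mul_smul, e1, e1]) (one_smul _ _)⟩

variable [Finite A]

theorem comm_z {a : A} (ha : Commute a s) (c : f (a * z * a⁻¹) = f z) : Commute a z :=
  mul_inv_eq_iff_eq_mul.1 (((h.eq_iff h.cz ((ha.mul_left h.cz).mul_left ha.inv_left)).1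
    c.symm).resolve_right fun e => no_swap h.md h.fl.1 (e.trans h.cz.eq))

theorem comm_z' {a : A} (ha : Commute a s) (c : Commute (f a) (f z)) : Commute a z :=
  h.comm_z ha (by rw [h.conj ha h.cz, c.eq, mul_inv_cancel_right])

theorem xs : XS h.QQ (f z) where
  mem := ⟨z, h.md.hQ.mem, h.cz, rfl⟩
  ne := mt (h.ker h.cz).1 (not_or.2 ⟨h.md.hQ.ne, (H70.Mid.t2_ne h.md h.fl.1).2.symm⟩)
  zz := h.zz
  cen := by
    rintro _ ⟨a, a1, a2, rfl⟩
    exact h.comm a2 h.cz (h.md.hQ.cen a a1)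
  cent := by
    rintro _ ⟨a, a1, a2, rfl⟩ c
    rcases h.md.hQ.mem_of_centralizes_centralizer (h.md.mem h.rx) a1 fun b b1 b2 =>
      (h.comm_Q a2 b2 a1 b1 (c _ ⟨b, b1, b2, rfl⟩)).symm with e | e | e | e <;> rw [e]
    exacts [Or.inl h.one, Or.inr rfl, Or.inl h.fs,
      Or.inr (by rw [h.mul (Commute.refl s) h.cz, h.fs, one_mul])]
  comm := by
    rintro _ ⟨a, a1, a2, rfl⟩ _ ⟨b, b1, b2, rfl⟩
    rw [← h.mul a2 b2, ← h.mul b2 a2]
    exact h.ez (b2.mul_left a2) (h.md.hQ.comm a a1 b b1)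
  nonab := by
    obtain ⟨a, a1, b, b1, a2, b2, n⟩ := h.md.hQ.exists_not_comm_in_centralizer h.md.h8 (h.md.mem h.rx)
    exact ⟨_, ⟨a, a1, a2, rfl⟩, _, ⟨b, b1, b2, rfl⟩, fun c => n (h.comm_Q a2 b2 a1 b1 c)⟩

theorem t1 : f y ≠ 1 := mt (h.ker h.cy).1
  (not_or.2 ⟨(fl_four h.md h.fl).x1, (fl_four h.md h.fl).ne⟩)

theorem not_sq (k : G) : k * k ≠ f y := fun e => by
  obtain ⟨m, hm, rfl⟩ := h.two k (h.ct k (e ▸ (Commute.refl k).mul_right (Commute.refl k))) (by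
    rw [show k ^ 8 = k * k * (k * k) * (k * k * (k * k)) by simp [pow_succ, mul_assoc], e, h.tt,
      mul_one])
  rw [← h.mul hm hm] at e
  have c : Commute m (m * m) := (Commute.refl m).mul_right (Commute.refl m)
  have e1 := (h.eq_iff h.cy (hm.mul_left hm)).1 e.symm
  refine h.t1 (e.symm.trans ((congrArg f (h.cl0 m (mem_c2.2 ⟨hm, ?_⟩) ?_)).trans h.one))
  · rcases e1 with e | e <;> rw [e] at c
    exacts [c, show Commute m y by simpa [mul_assoc, h.ss] using c.mul_right hm]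
  · rcases e1 with e | e <;> simp [e, (fl_four h.md h.fl).mem_closure, h.cy.eq]

theorem td {w : A} (c : Commute w s) (ww : w * w = 1) {g : G} (e : g * f y * g⁻¹ = f w) :
    ∃ k, Commute k s ∧ k * y * k⁻¹ = w := by
  rcases h.cls w c ww with a | a | a | ⟨n, n1, a⟩
  · exact absurd (conj_eq_one_iff.1 (e.trans (a ▸ h.one))) h.t1
  · exact absurd (conj_eq_one_iff.1 (e.trans (a ▸ h.fs))) h.t1
  · exact a
  · refine absurd ?_ (h.not_sq (g⁻¹ * f n * g⁻¹⁻¹))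
    rw [conj_mul, ← h.mul n1 n1, ← (h.eq_iff c (n1.mul_left n1)).2 a, ← e]; group

theorem tD {r : Lam} (hr : r ∈ T4600) {a : A} (ra : R r a) :
    ∃ k, Commute k (f z) ∧ k * f y * k⁻¹ = f a := by
  obtain ⟨k, k1, k2, k3⟩ := trans_fl h.md h.fl (x' := s) (y' := a) ⟨h.fl.1, ⟨r, hr.1, ra⟩, _,
    (T_sub hr).1, h.md.cg (h.md.mul h.rx ra) (cong_add_sub _ _)⟩
  have k4 : Commute k s := mul_inv_eq_iff_eq_mul.1 k2
  exact ⟨f k, h.comm k4 h.cz k1, by rw [← h.conj k4 h.cy, k3]⟩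

theorem exists_T {a : A} (c : Commute a s) (c' : Commute a z) (aa : a * a = 1) {g : G}
    (hg : Commute g (f z)) (e : g * f y * g⁻¹ = f a) : ∃ r ∈ T4600, R r a := by
  obtain ⟨q, -, q1, q2⟩ := exists_q h.md (fl_symm h.md h.fl)
  have q3 : Commute q s := mul_inv_eq_iff_eq_mul.1 q2
  have i : ∀ {b}, (∃ k, Commute k s ∧ k * y * k⁻¹ = b) → IsConj s b ∧ IsConj s (s * b) :=
    fun ⟨k, k1, k2⟩ => by
      obtain ⟨l, -, l1, -⟩ := trans_fl h.md h.fl (fl_symm h.md h.fl)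
      obtain ⟨l', -, l2, -⟩ := trans_fl h.md h.fl (fl_symm h.md (fl_mul h.md h.fl))
      exact ⟨isConj_iff.2 ⟨k * l, by rw [← k2, ← l1]; group⟩, isConj_iff.2 ⟨k * l', by
        rw [← k2, ← mul_assoc, ← mul_assoc, ← k1.eq, mul_assoc k s, ← l2]; group⟩⟩
  obtain ⟨a1, a2⟩ := i (h.td c aa e)
  obtain ⟨a3, a4⟩ := i (h.td (c.mul_left h.cz) (g := g * f q) (by
    rw [mul_assoc, ← mul_assoc z, ← c'.eq, mul_assoc, h.md.hQ.zz, mul_one, aa]) (by
    calc _ = g * f (q * y * q⁻¹) * g⁻¹ := by rw [h.conj q3 h.cy]; group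
      _ = _ := by
        rw [q1, h.mul h.cy h.cz, h.mul c h.cz, ← e, ← conj_mul, hg.eq, mul_inv_cancel_right]))
  obtain ⟨u, r, h1, h2, h3, ru, rr⟩ := fl_vec h.md ⟨h.fl.1, h.loc a a1 a3,
    h.loc _ a2 (mul_assoc s a z ▸ a4)⟩
  rcases H34.BuA.pm_of_cong ((h.md.uniq h.rx ru).2 (Or.inl rfl)) sqNorm_leechU h1 with e | e <;>
    rw [e] at h3
  · exact ⟨r, ⟨h2, h3⟩, rr⟩
  · refine ⟨-r, ⟨by rwa [mem_Mn, AddSubgroup.coe_neg, sqNorm_neg], ?_⟩, h.md.cg rr (cong_neg r)⟩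
    rwa [AddSubgroup.coe_neg, dotInt_neg_right, ← dotInt_neg_left]

omit [Finite A] in
theorem mul_mem_NN {a b : G} (aa : a * a = 1) (bb : b * b = 1) (ca : Commute a (f y))
    (cb : Commute b (f y)) (ha : a ∉ h.NN) (hb : b ∉ h.NN) : a * b ∈ h.NN := by
  have key : ∀ {a : G}, a * a = 1 → Commute a (f y) → a ∉ h.NN →
      ∃ m, Commute m s ∧ f m = a ∧ m * y * m⁻¹ = y * s := fun {a} aa ca ha => by
    obtain ⟨m, hm, rfl⟩ := h.two a (h.ct a ca) (by rw [show 8 = 2 * 4 from rfl, pow_mul, pow_two, aa, one_pow])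
    exact ⟨m, hm, rfl, ((h.eq_iff h.cy ((hm.mul_left h.cy).mul_left hm.inv_left)).1 (by
      rw [h.conj hm h.cy, ca.eq, mul_inv_cancel_right])).resolve_left fun e =>
        ha ⟨m, mul_inv_eq_iff_eq_mul.1 e, hm, rfl⟩⟩
  obtain ⟨m, m1, rfl, m2⟩ := key aa ca ha
  obtain ⟨n, n1, rfl, n2⟩ := key bb cb hb
  refine ⟨m * n, mul_inv_eq_iff_eq_mul.1 ?_, m1.mul_left n1, h.mul m1 n1⟩
  rw [show m * n * y * (m * n)⁻¹ = m * (n * y * n⁻¹) * m⁻¹ by group, n2, ← conj_mul, m2, m1.eq,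
    mul_inv_cancel_right, mul_assoc, h.ss, mul_one]

theorem no_2C {w : A} (c : Commute w s) (ww : w * w = s) {g : G} (hg : Commute g (f z))
    (e : g * f y * g⁻¹ = f w) : False := by
  have tz : Commute (f y) (f z) := h.comm h.cy h.cz (h.md.hQ.cen _ (h.md.mem h.ry))
  have c' := h.comm_z' c (e ▸ (hg.mul_left tz).mul_left hg.inv_left)
  obtain ⟨γ, a, -, g2⟩ := h.exists_ass c c' (ww ▸ h.md.mem h.rx)
  have g1 : γ ∉ center Co0 := fun m => (h.md.hQ.sq ((h.md.ass_mem_iff a).2 m)).elim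
    (ww ▸ (H70.Mid.t2_ne h.md h.fl.1).1) (ww ▸ (H70.Mid.t2_ne h.md h.fl.1).2)
  have dd : f w * f w = 1 := by rw [← h.mul c c, ww, h.fs]
  choose q hq using h.md.ex2
  have cq : ∀ {v}, v ∈ perp ⊤ vU → Commute (q v) s := fun hv =>
    (h.pu (hq _)).2 (by rw [PU, dotInt_comm]; exact hv.2)
  have r1 := fun v => h.md.mul (h.md.act' a (hq v)) (h.md.inv (hq v))
  have ca : ∀ {v}, v ∈ perp ⊤ vU → Commute (w * q v * w⁻¹ * (q v)⁻¹) s := fun hv =>
    ((c.mul_left (cq hv)).mul_left c.inv_left).mul_left (cq hv).inv_left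
  obtain ⟨E, hE⟩ : ∃ E : Lam → G, ∀ v, E v = g⁻¹ * f (w * q v * w⁻¹ * (q v)⁻¹) * g⁻¹⁻¹ :=
    ⟨_, fun _ => rfl⟩
  have F2 : ∀ {v v'}, v ∈ perp ⊤ vU → v' ∈ perp ⊤ vU → Ez (f z) (E v * E v') (E (v + v')) :=
    fun {v v'} hv hv' => by
      rw [hE, hE, hE, conj_mul, ← h.mul (ca hv) (ca hv')]
      exact ((h.cong2_iff (h.md.mul (r1 v) (r1 v')) (r1 _) ((ca hv).mul_left (ca hv'))
        (ca (add_mem hv hv'))).1 (cong2.of ⟨0, by rw [co_add]; abel⟩)).conj hg.inv_left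
  have F4 : ∀ {v}, v ∈ perp ⊤ vU → (Ez (f z) 1 (E v) ↔ cong2 0 (v + γ • v)) := fun {v} hv => by
    rw [add_comm, h.cong2_iff h.md.zero_one (r1 v) (Commute.one_left s) (ca hv), hE, h.one]
    exact ⟨fun e => by simpa [mul_assoc] using e.conj hg, fun e => by simpa using e.conj hg.inv_left⟩
  have F5 : ∀ {v}, v ∈ perp ⊤ vU → Commute (E v) (f z) := fun {v} hv => hE v ▸
    (hg.inv_left.mul_left (h.comm (ca hv) h.cz (h.md.hQ.cen _ (h.md.mem (r1 v))))).mul_left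
      hg.inv_left.inv_left
  have F1 : ∀ {v}, v ∈ Bq γ g2 ⊓ perp ⊤ vU → E v * E v = 1 ∧ Commute (E v) (f y) ∧
      ∃ k, Commute k (f z) ∧ k * f y * k⁻¹ = f y * E v := fun {v} hv => by
    have e1 : f w * f (w * q v * w⁻¹ * (q v)⁻¹) = f (q v) * f w * (f (q v))⁻¹ := by
      rw [h.mul ((c.mul_left (cq hv.2)).mul_left c.inv_left) (cq hv.2).inv_left, h.conj c (cq hv.2),
        h.inv (cq hv.2), ← mul_assoc, ← mul_assoc, ← mul_assoc, dd, one_mul,
        inv_eq_of_mul_eq_one_right dd]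
    have e2 := h.sq (ca hv.2) ((h.md.sq_iff (r1 v)).2 (norm_Bq hv.1))
    have e3 := comm_of_three dd e2 (by rw [e1, conj_mul, dd, mul_one, mul_inv_cancel])
    have e4 : f y = g⁻¹ * f w * g⁻¹⁻¹ := by rw [← e]; group
    refine ⟨by rw [hE, conj_mul, e2]; simp, ?_, g⁻¹ * f (q v) * g, (hg.inv_left.mul_left
      (h.comm (cq hv.2) h.cz (h.md.hQ.cen _ (h.md.mem (hq v))))).mul_left hg, ?_⟩
    · rw [hE, e4]; exact (conj_comm_iff _ _ _).2 e3.symm
    · rw [hE]; nth_rewrite 2 [e4]; rw [conj_mul, e1, ← e]; group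
  have zN : f z ∈ h.NN := ⟨z, (h.md.hQ.cen _ (h.md.mem h.ry)).symm, h.cz, rfl⟩
  have mN : ∀ {a b : G}, Ez (f z) a b → a ∈ h.NN → b ∈ h.NN := fun e ha =>
    e.elim (· ▸ ha) (· ▸ mul_mem ha zN)
  have m0 : ∀ {v}, v ∈ perp ⊤ vU → cong 0 v → E v ∈ h.NN := fun {v} hv e => mN ((F4 hv).2
    (cong2.of (by simpa [co_zero] using e.add (e.smul γ)))) (one_mem _)
  have p2 : ∀ v, v + v ∈ perp ⊤ vU := fun v => ⟨trivial, by
    have := eight_dvd_dot vU.2 v.2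
    rw [AddSubgroup.coe_add, dotInt_add_right]; omega⟩
  let B : AddSubgroup Lam :=
    { carrier := {v | v ∈ perp ⊤ vU ∧ E v ∈ h.NN}
      zero_mem' := ⟨zero_mem _, m0 (zero_mem _) (cong.refl 0)⟩
      add_mem' := fun ha hb => ⟨add_mem ha.1 hb.1, mN (F2 ha.1 hb.1) (mul_mem ha.2 hb.2)⟩
      neg_mem' := fun {v} ha => ⟨neg_mem ha.1, (mul_mem_cancel_left ha.2).1 (mN
        ((F2 ha.1 (neg_mem ha.1)).symm h.zz) (m0 (add_mem ha.1 (neg_mem ha.1))
          (by rw [add_neg_cancel]; exact cong.refl 0)))⟩ }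
  obtain ⟨u1, m1, u2, m2, u3, m3, n⟩ := l3' l3 g2 g1 B
    (fun v => ⟨p2 v, m0 (p2 v) (cong_add_self v).symm⟩) fun v hv v' hv' n n' =>
      ⟨add_mem hv.2 hv'.2, mN (F2 hv.2 hv'.2) (h.mul_mem_NN (F1 hv).1 (F1 hv').1 (F1 hv).2.1
        (F1 hv').2.1 (fun c => n ⟨hv.2, c⟩) fun c => n' ⟨hv'.2, c⟩)⟩
  have P : ∀ v : ↥(B ⊓ (Bq γ g2 ⊓ perp ⊤ vU)), ∃ r ∈ T4600, ∃ a, R r a ∧ Commute a s ∧
      f a = f y * E v := fun ⟨v, ⟨_, m, n1, n2, n3⟩, hv⟩ => by
    obtain ⟨e1, -, k, k1, k2⟩ := F1 hv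
    have mm := h.cl0 m (mem_c2.2 ⟨n2, n1⟩) (by
      rcases (h.ker (n2.mul_left n2)).1 (by rw [h.mul n2 n2, n3, e1]) with e | e <;>
        simp [e, (fl_four h.md h.fl).mem_closure])
    have e2 : f (y * m) = f y * E v := by rw [h.mul h.cy n2, n3]
    obtain ⟨r, hr, rr⟩ := h.exists_T (h.cy.mul_left n2) (Commute.mul_left
      (h.md.hQ.cen _ (h.md.mem h.ry)) (h.comm_z' n2 (n3 ▸ F5 hv.2)))
      (by rw [mul_assoc, ← mul_assoc m, n1.eq, mul_assoc, mm, mul_one, h.yy]) k1 (k2.trans e2.symm)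
    exact ⟨r, hr, _, rr, h.cy.mul_left n2, e2⟩
  choose r r1 b r2 r3 r4 using P
  have K : ∀ u v, f (b u) * f (b v) = E u * E v := fun u v => by
    rw [r4, r4, mul_assoc, ← mul_assoc (E u), (F1 u.2.2).2.1.eq, ← mul_assoc, ← mul_assoc, h.tt,
      one_mul]
  have E0 : Ez (f z) 1 (E 0) := (F4 (zero_mem _)).2 (by rw [co_zero, add_zero]; exact cong2.refl 0)
  have K3 : ∀ u v, cong2 (r (u + v)) (r 0 + r u + r v) := fun u v => by
    rw [h.cong2_iff (r2 _) (h.md.mul (h.md.mul (r2 0) (r2 u)) (r2 v)) (r3 _)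
      (((r3 0).mul_left (r3 u)).mul_left (r3 v)), h.mul ((r3 0).mul_left (r3 u)) (r3 v),
      h.mul (r3 0) (r3 u), mul_assoc, K, r4, r4, mul_assoc]
    refine Ez.mul_left (((F2 u.2.2.2 v.2.2.2).symm h.zz).trans h.zz ?_) _
    simpa using E0.mul_right ((F5 u.2.2.2).mul_left (F5 v.2.2.2))
  have K2 : ∀ u v, cong2 (r u) (r v) → cong2 0 ((u + v).1 + γ • (u + v).1) := fun u v e => by
    rw [h.cong2_iff (r2 u) (r2 v) (r3 u) (r3 v), r4, r4] at e
    refine (F4 (u + v).2.2.2).1 (Ez.trans h.zz ?_ (F2 u.2.2.2 v.2.2.2))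
    exact (F1 u.2.2).1 ▸ e.cancel.mul_left (E u)
  let u : Fin 4 → ↥(B ⊓ (Bq γ g2 ⊓ perp ⊤ vU)) := ![0, ⟨u1, m1⟩, ⟨u2, m2⟩, ⟨u3, m3⟩]
  simp only [List.forall_mem_cons] at n
  obtain ⟨c1, c2, c3, c4, c5, c6, c7, -⟩ := n
  have hd : ∀ i j : Fin 4, i < j → ¬ cong2 (r (u i)) (r (u j)) := fun i j ij e => by
    have := K2 _ _ e
    rw [← zero_add u1] at c1
    rw [← zero_add u2] at c2
    rw [← zero_add u3] at c3
    fin_cases i <;> fin_cases j <;> first | exact absurd ij (by decide) | skip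
    exacts [c1 this, c2 this, c3 this, c4 this, c5 this, c6 this]
  have := gst (fun i => r (u i)) (fun i => r1 _) (fun i j => (h.md.comm_iff (r2 _) (r2 _)).1
    (h.comm_Q (r3 _) (r3 _) (h.md.mem (r2 _)) (h.md.mem (r2 _)) (comm_of_three
      (h.sq (r3 _) ((h.md.sq_iff (r2 _)).2 (by rw [(r1 _).1])))
      (h.sq (r3 _) ((h.md.sq_iff (r2 _)).2 (by rw [(r1 _).1]))) (by
        have e1 := (F1 (u i + u j).2.2).1
        rw [K]
        rcases (F2 (u i).2.2.2 (u j).2.2.2).symm h.zz with e | e <;> rw [e]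
        · exact e1
        · rw [mul_assoc, ← mul_assoc (f z), ← (F5 (add_mem (u i).2.2.2 (u j).2.2.2)).eq, mul_assoc,
            h.zz, mul_one]
          exact e1))))
    (fun i j ij e => (lt_or_gt_of_ne ij).elim (hd i j · e) (hd j i · e.symm))
    fun i j => ⟨_, r1 _, K3 _ _⟩
  exact c7 (K2 (u 1 + u 2) (u 3) ((K3 _ _).trans (cong2_iff_add.2 this)))

theorem td' {g : G} (hg : Commute g (f z)) (m : g * f y * g⁻¹ ∈ H) :
    ∃ k, Commute k s ∧ f k * f y * (f k)⁻¹ = g * f y * g⁻¹ := by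
  have e1 : g * f y * g⁻¹ * (g * f y * g⁻¹) = 1 := by rw [conj_mul, h.tt, mul_one, mul_inv_cancel]
  obtain ⟨w, c, e⟩ := h.two _ m (by rw [show 8 = 2 * 4 from rfl, pow_mul, pow_two, e1, one_pow])
  obtain ⟨k, k1, k2⟩ := h.td c (((h.ker (c.mul_left c)).1 (by rw [h.mul c c, e, e1])).resolve_right
    fun ww => h.no_2C c ww hg e.symm) e.symm
  exact ⟨k, k1, by rw [← h.conj k1 h.cy, k2, e]⟩

theorem inn_z {g : G} (hg : g ∈ H) (c : Commute g (f z)) : ∃ m, Commute m s ∧ Commute m z ∧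
    ∀ a, Commute a s → g * f a * g⁻¹ = f (m * a * m⁻¹) := by
  obtain ⟨m, m1, m2⟩ := h.inn g hg
  exact ⟨m, m1, h.comm_z m1 (by rw [← m2 z h.cz, c.eq, mul_inv_cancel_right]), m2⟩

theorem hy : Hy H h.QQ (f z) {a | ∃ g, Commute g (f z) ∧ g * f y * g⁻¹ = a} where
  xs := h.xs
  le := by
    rintro _ ⟨a, -, a2, rfl⟩
    exact h.le a2
  nm := by
    rintro g hg c _ ⟨a, a1, a2, rfl⟩
    obtain ⟨m, m1, m2, m3⟩ := h.inn_z hg c
    exact ⟨_, h.md.hQ.conj_mem m2 a1, (m1.mul_left a2).mul_left m1.inv_left, (m3 a a2).symm⟩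
  cl := by
    rintro _ ⟨a, a1, rfl⟩ g c
    exact ⟨g * a, c.mul_left a1, by group⟩
  uD := by
    rintro _ ⟨a, a1, rfl⟩ m g c m'
    rw [show g * (a * f y * a⁻¹) * g⁻¹ = g * a * f y * (g * a)⁻¹ by group] at m'
    obtain ⟨k, k1, k2⟩ := h.td' a1 m
    obtain ⟨l, l1, l2⟩ := h.td' (c.mul_left a1) m'
    refine (mul_mem_cancel_left (inv_mem (h.le l1))).1 ((mul_mem_cancel_right (h.le k1)).1
      (h.ct _ (mul_inv_eq_iff_eq_mul.1 ?_)))
    calc _ = (f l)⁻¹ * (g * (f k * f y * (f k)⁻¹) * g⁻¹) * f l := by group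
      _ = (f l)⁻¹ * (g * a * f y * (g * a)⁻¹) * f l := by rw [k2]; group
      _ = _ := by rw [← l2]; group
  fx := by
    intro v hv c vv
    obtain ⟨m, m1, rfl⟩ := h.two v hv (by
      rw [show 8 = 2 * 4 from rfl, pow_mul, pow_two, h.xs.pow_four vv])
    obtain ⟨q, q1, q2, e⟩ := vv
    rw [← h.mul m1 m1, h.eq_iff q2 (m1.mul_left m1)] at e
    obtain ⟨g, a, g1, g2⟩ := h.exists_ass m1 (h.comm_z' m1 c)
      (e.elim (· ▸ q1) (· ▸ mul_mem q1 (h.md.mem h.rx)))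
    obtain ⟨r, r1, r2, r3⟩ := Kr.exists_nb (h := g) (K := Fx g) ⟨fun v => Fx_of_cong (zero_mem _)
      (cong_add_self v).symm, fun w _ => by
        rw [mem_Fx, co_add, ← mul_smul, g2, one_smul, add_comm]; exact cong.refl _,
      fun u v e _ n => absurd (by rw [mem_Fx, e]; exact cong.refl _) n⟩ g2
      (H97.Gr.mem_sh.2 sqNorm_leechU) g1
    have hr : r ∈ T4600 := ⟨H97.Gr.mem_sh.1 r1, by rwa [dotInt_comm]⟩
    obtain ⟨b, rb⟩ := h.md.ex2 r
    have cb := (h.pu rb).2 (T_pu hr)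
    exact ⟨_, ⟨b, h.md.mem rb, cb, rfl⟩, h.tD hr rb,
      h.conj m1 cb ▸ h.ez cb ((h.md.uniq rb (h.md.act' a rb)).1 r3)⟩
  odd := by
    rintro _ ⟨q, q1, q2, rfl⟩
    obtain ⟨v, r⟩ := h.md.ex1 q q1
    obtain ⟨i, hi⟩ : ∃ i, 16 ∣ dotInt (sv i).1 v.1 := by
      by_contra! n
      obtain ⟨u, e⟩ := sv_sum
      have e1 := congrArg (fun x : Lam => dotInt x.1 v.1) e
      have k := fun i => eight_dvd_dot (sv i).2 v.2
      have := eight_dvd_dot u.2 v.2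
      simp only [AddSubgroup.coe_add, dotInt_add_left] at e1
      have := n 0; have := n 1; have := n 2; have := n 3; have := n 4; have := n 5; have := n 6
      have := k 0; have := k 1; have := k 2; have := k 3; have := k 4; have := k 5; have := k 6
      omega
    have hr : sv i ∈ T4600 := ⟨(sv_spec i).1, by rw [dotInt_comm]; exact (sv_spec i).2.1⟩
    obtain ⟨b, rb⟩ := h.md.ex2 (sv i)
    have cb := (h.pu rb).2 (T_pu hr)
    exact ⟨_, ⟨b, h.md.mem rb, cb, rfl⟩, h.tD hr rb, h.comm cb q2 ((h.md.comm_iff rb r).2 hi)⟩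
  quad := by
    choose b rb using fun i : Fin 4 => h.md.ex2 (sv (i.castLE (by norm_num)))
    have hr : ∀ i, sv i ∈ T4600 := fun i =>
      ⟨(sv_spec i).1, by rw [dotInt_comm]; exact (sv_spec i).2.1⟩
    have cb := fun i => (h.pu (rb i)).2 (T_pu (hr _))
    refine ⟨fun i => f (b i), fun i => ⟨⟨_, h.md.mem (rb i), cb i, rfl⟩, h.tD (hr _) (rb i)⟩,
      fun i j ij g hg c e => ?_⟩
    obtain ⟨m, m1, m2, m3⟩ := h.inn_z hg c
    obtain ⟨γ, a, e1⟩ := h.md.exists_ass_fix h.rx sqNorm_leechU m2 m1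
    have T : ∀ {v}, v ∈ T4600 → γ • v ∈ T4600 := fun hv =>
      ⟨by rw [mem_Mn, co_sqNorm]; exact hv.1, by rw [← e1, co_dot]; exact hv.2⟩
    have c1 := (cb i).inv_left.mul_left (cb j)
    have r1 := h.md.mul (h.md.inv (rb i)) (rb j)
    rw [← h.inv (cb i), ← h.mul (cb i).inv_left (cb j), m3 _ c1] at e
    have k : 16 ∣ dotInt (sv (i.castLE (by norm_num))).1 (sv (j.castLE (by norm_num))).1 ∧
        sv (j.castLE (by norm_num)) ≠ sv (i.castLE (by norm_num)) ∧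
        sv (j.castLE (by norm_num)) ≠ vU - sv (i.castLE (by norm_num)) := by
      clear * - ij; revert i j; decide +kernel
    have := H70.B6.tt _ (hr _) _ (hr _) _ (T (hr _)) _ (T (hr _)) k.1
      (fun c => (c.T_cases (hr _) (hr _)).elim k.2.1 k.2.2) (co_add γ _ _ ▸
        (h.cong2_iff r1 (h.md.act' a r1) c1 ((m1.mul_left c1).mul_left m1.inv_left)).2 e)
    rw [m3 _ (cb i)]
    exact (h.comm (cb i) ((m1.mul_left (cb i)).mul_left m1.inv_left)
      ((h.md.comm_iff (rb i) (h.md.act' a (rb i))).2 this)).symm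

theorem cent_z [Finite G] (hH : HyStmt.{u}) {x : G} (c : Commute x (f z)) : x ∈ H :=
  hH G H _ _ _ h.hy x c

end Em

end Cfsg.Agent.H47.B6
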