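import Cfsg.Agent.H47.B6Act
import Cfsg.Agent.H50.YtMc
import Cfsg.Agent.H49.YtA1

/-! The Baby Monster from the centralizer of a transposition: the first fusion. -/

set_option autoImplicit false

namespace Cfsg.Agent.H47.B6

open Cfsg Subgroup Cfsg.Agent.H48 Cfsg.Agent.H49 Cfsg.Agent.H48.Mid Cfsg.Agent.H98
  Cfsg.Agent.H34.MidA Cfsg.Agent.H47.Bu Cfsg.Agent.H49.Yt

universe u

theorem exists_fix {A : Type*} [Group A] [Finite A] {K : Subgroup A} {z n : A}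
    (ho : ¬ 2 ∣ (centralizer {z}).relIndex K)
    (h1 : ∀ m ∈ K, ∃ k ∈ K, k * z * k⁻¹ = n * (m * z * m⁻¹) * n⁻¹)
    (h2 : ∀ m ∈ K, n * n * (m * z * m⁻¹) = m * z * m⁻¹ * (n * n)) :
    ∃ m ∈ K, n * (m * z * m⁻¹) = m * z * m⁻¹ * n := by
  have : Fact (Nat.Prime 2) := ⟨Nat.prime_two⟩
  let X := {y | ∃ k ∈ K, k * z * k⁻¹ = y}
  let f : X → X := fun x => ⟨n * x * n⁻¹, by obtain ⟨_, m, hm, rfl⟩ := x; exact h1 m hm⟩
  have hf : Function.Involutive f := by
    rintro ⟨_, m, hm, rfl⟩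
    refine Subtype.ext ?_
    calc n * (n * (m * z * m⁻¹) * n⁻¹) * n⁻¹ = n * n * (m * z * m⁻¹) * (n * n)⁻¹ := by group
      _ = _ := by rw [h2 m hm, mul_inv_cancel_right]
  classical
  let _ : Fintype X := Fintype.ofFinite _
  obtain ⟨⟨_, m, hm, rfl⟩, e⟩ := Equiv.Perm.exists_fixed_point_of_prime (p := 2) (n := 1) (by
    have c1 := H50.Yt.card_eq_orbit_mul' K z
    rw [← XS.card_mul_relIndex' (centralizer {z}) K, mul_comm] at c1
    rwa [← Nat.card_eq_fintype_card, Nat.card_coe_set_eq,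
      ← Nat.eq_of_mul_eq_mul_right Nat.card_pos c1]) (σ := hf.toPerm) (Equiv.ext fun x => hf x)
  exact ⟨m, hm, mul_inv_eq_iff_eq_mul.1 (congrArg Subtype.val e)⟩

theorem index_inf_le_two {E B : AddSubgroup Lam}
    (h : ∀ a ∈ B, ∀ b ∈ B, a ∉ E → b ∉ E → a + b ∈ E) : (E ⊓ B).index ≤ 2 * B.index := by
  rw [← AddSubgroup.relIndex_mul_index (inf_le_right : E ⊓ B ≤ B), AddSubgroup.inf_relIndex_right]
  refine Nat.mul_le_mul_right _ ?_
  by_cases c : B ≤ E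
  · rw [AddSubgroup.relIndex_eq_one.2 c]; norm_num
  · obtain ⟨a, ha, n⟩ := SetLike.not_le_iff_exists.1 c
    exact relIndex_le_two E B ha fun b hb => (em _).imp_right (h a ha b hb n)

theorem index_ne_zero {B : AddSubgroup Lam} (h : ∀ v, v + v ∈ B) : B.index ≠ 0 := fun e => by
  have := AddSubgroup.index_dvd_of_le (H := twoLam) (K := B) fun v hv => by
    obtain ⟨w, rfl⟩ := cong_zero_iff.1 (mem_twoLam'.1 hv)
    exact h w
  rw [e, index_twoLam] at this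
  norm_num at this

theorem dot_add8 {a b c : Lam} (ha : ¬ 16 ∣ dotInt c.1 a.1) (hb : ¬ 16 ∣ dotInt c.1 b.1) :
    16 ∣ dotInt c.1 (a + b).1 := by
  have := eight_dvd_dot c.2 a.2
  have := eight_dvd_dot c.2 b.2
  rw [AddSubgroup.coe_add, dotInt_add_right]; omega

theorem dot_qq {g : Co0} (hg : g * g = 1) (a b : Lam) : 16 ∣ dotInt (a + b).1 (g • (a + b)).1 -
    dotInt a.1 (g • a).1 - dotInt b.1 (g • b).1 := by
  have h1 : dotInt (g • a).1 b.1 = dotInt a.1 (g • b).1 := by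
    rw [co_dot_inv, inv_eq_of_mul_eq_one_right hg]
  have h2 := eight_dvd_dot a.2 (g • b).2
  rw [co_add, AddSubgroup.coe_add, AddSubgroup.coe_add, dotInt_add_left, dotInt_add_right,
    dotInt_add_right, dotInt_comm b.1 (g • a).1]
  omega

/-- the vectors whose commutator with `g` is singular -/
def Bq (g : Co0) (hg : g * g = 1) : AddSubgroup Lam where
  carrier := {v | 16 ∣ dotInt v.1 (g • v).1}
  zero_mem' := by simp [dotInt]
  add_mem' := fun {a b} ha hb => by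
    have := dot_qq hg a b
    simp only [Set.mem_ofPred_eq] at *; omega
  neg_mem' := fun {a} ha => by
    simpa only [Set.mem_ofPred_eq, co_neg, AddSubgroup.coe_neg, dotInt_neg_left, dotInt_neg_right,
      neg_neg] using ha

theorem norm_Bq {g : Co0} {hg : g * g = 1} {v : Lam} (hv : v ∈ Bq g hg) :
    32 ∣ sqNorm (g • v + v).1 := by
  have h1 : 16 ∣ dotInt v.1 (g • v).1 := hv
  have h2 := sixteen_dvd_sqNorm v.2
  rw [AddSubgroup.coe_add, sqNorm_add, co_sqNorm, dotInt_comm]; omega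

/-- the sublattice for three independent commutators -/
theorem l3' (hL : L3Stmt) {g : Co0} (hg : g * g = 1) (hc : g ∉ center Co0) (E : AddSubgroup Lam)
    (h2 : ∀ v, v + v ∈ E) (h : ∀ a ∈ Bq g hg ⊓ perp ⊤ vU, ∀ b ∈ Bq g hg ⊓ perp ⊤ vU, a ∉ E → b ∉ E →
      a + b ∈ E) : ∃ a ∈ E ⊓ (Bq g hg ⊓ perp ⊤ vU), ∃ b ∈ E ⊓ (Bq g hg ⊓ perp ⊤ vU),
      ∃ c ∈ E ⊓ (Bq g hg ⊓ perp ⊤ vU),
        ∀ v ∈ [a, b, c, a + b, a + c, b + c, a + b + c], ¬ cong2 0 (v + g • v) := by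
  refine hL g hg hc _ (index_ne_zero fun v => ⟨h2 v, ?_, trivial, ?_⟩) ?_
  · have := dot_qq hg v v
    have := eight_dvd_dot v.2 (g • v).2
    change 16 ∣ dotInt (v + v).1 (g • (v + v)).1; omega
  · have := eight_dvd_dot vU.2 v.2
    rw [AddSubgroup.coe_add, dotInt_add_right]; omega
  · have h1 := index_inf_le_two h
    have h2 := index_inf_le_two (E := Bq g hg) (B := perp ⊤ vU) fun a _ b _
      (ha : ¬ 16 ∣ dotInt a.1 (g • a).1) (hb : ¬ 16 ∣ dotInt b.1 (g • b).1) =>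
      show 16 ∣ dotInt (a + b).1 (g • (a + b)).1 by
        have := dot_qq hg a b
        have := eight_dvd_dot a.2 (g • a).2
        have := eight_dvd_dot b.2 (g • b).2
        omega
    have h3 := relIndex_perp ⊤ vU
    rw [AddSubgroup.relIndex_top_right] at h3
    omega

theorem comm_of_three {G : Type*} [Group G] {a b : G} (aa : a * a = 1) (bb : b * b = 1)
    (e : a * b * (a * b) = 1) : a * b = b * a := by
  rw [← inv_eq_of_mul_eq_one_right e, mul_inv_rev, inv_eq_of_mul_eq_one_right aa,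
    inv_eq_of_mul_eq_one_right bb]

variable {A : Type} [Group A] [Finite A] {Q : Subgroup A} {z : A}
  {θ : centralizer ({z} : Set A) →* Spor.Co1} {R : Lam → A → Prop} (hM : MD Q z θ R)
  {G : Type u} [Group G] {s y : A} {t : G} {N : Subgroup G} {α : A → G} (rx : R vU s) (ry : R vX y)
include hM rx ry

omit [Finite A] in
theorem mem_z : z ∈ centralizer ({s, y} : Set A) :=
  mem_c2.2 ⟨(hM.hQ.cen _ (hM.mem rx)).symm, (hM.hQ.cen _ (hM.mem ry)).symm⟩

omit [Finite A] in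
theorem not_conj_z (h : Cx s y z t N α) : ¬ IsConj t (α z) := fun c => by
  obtain ⟨g, e⟩ := isConj_iff.1 c
  obtain ⟨u, ru⟩ := hM.ex2 (twoInd oc0 isWord_oc0)
  obtain ⟨v, rv⟩ := hM.ex2 (lam (w4 6 4) (by decide +kernel))
  have hu := mem_of_perp hM rx ry ru (by decide +kernel) (by decide +kernel)
  have hv := mem_of_perp hM rx ry rv (by decide +kernel) (by decide +kernel)
  have uu := (hM.sq_iff ru).2 (by decide +kernel)
  have vv := (hM.sq_iff rv).2 (by decide +kernel)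
  have := hM.hQ.commutator_eq_z (hM.mem ru) (hM.mem rv) (mt (hM.comm_iff ru rv).1 (by decide +kernel))
  rw [inv_eq_of_mul_eq_one_right uu, inv_eq_of_mul_eq_one_right vv, mul_assoc] at this
  refine h.not_d8' (g := g) (a := α u) (b := α v)
    (by rw [← h.g.mul _ hu _ hu, uu]; exact map_one (h.g.hom le_rfl))
    (by rw [← h.g.mul _ hv _ hv, vv]; exact map_one (h.g.hom le_rfl)) ?_
  rw [← h.g.mul _ hu _ hv, ← h.g.mul _ (mul_mem hu hv) _ (mul_mem hu hv), this, e]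

omit [Finite A] in
theorem no_outer (hL : L3Stmt) (h : Cx s y z t N α) (hD : ∀ g, g * t * g⁻¹ ∈ N → g * t * g⁻¹ = t)
    {g : G} {n : A} (p : Act s y α (g * t * g⁻¹) n) (hd : g * t * g⁻¹ ∉ N) (nz : n * z = z * n) :
    False := by
  have fl := fl_std hM rx ry
  have dd : g * t * g⁻¹ * (g * t * g⁻¹) = 1 := by rw [conj_mul, h.tt, mul_one, mul_inv_cancel]
  obtain ⟨γ, a, e⟩ := hM.exists_ass_fix rx sqNorm_leechU nz p.cs
  have m2 : n * n ∈ centralizer ({s, y} : Set A) :=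
    mem_c2.2 ⟨h.sq_cent p (Or.inl dd) h.g.ms, h.sq_cent p (Or.inl dd) h.g.my⟩
  have hV : closure {s, y} ≤ Q := (closure_le _).2 (by
    rintro _ (rfl | rfl)
    exacts [hM.mem rx, hM.mem ry])
  have g2 : γ * γ = 1 := hM.ass_fix_unique sqNorm_leechU (a.mul a) (hM.ass_one (hV
    ((good_memV h.g h.f4 m2).2 (h.hC _ fun x hx => by
      obtain ⟨m, hm, rfl⟩ := (h.g.rng x).1 hx
      exact h.g.comm m2 hm (h.sq_cent p (Or.inl dd) hm))))) (by rw [mul_smul, e, e]) (one_smul _ _)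
  have g1 : γ ∉ center Co0 := fun c => by
    rcases hM.hQ.conj ((hM.ass_mem_iff a).2 c) (hM.mem ry) with e | e <;> rw [h.swap p hd] at e
    · exact h.f4.z1 (mul_eq_right.1 e)
    · exact (H70.Mid.t2_ne hM fl.1).2 (mul_left_cancel (h.g.sy.symm.trans e))
  have out : ∀ v q, R v q → v ∈ perp ⊤ vX ⊓ (Bq γ g2 ⊓ perp ⊤ vU) → ¬ cong2 0 (v + γ • v) →
      g⁻¹ * α (n * q * n⁻¹ * q⁻¹) * g * t = t * (g⁻¹ * α (n * q * n⁻¹ * q⁻¹) * g) ∧
        g⁻¹ * α (n * q * n⁻¹ * q⁻¹) * g ∉ N := fun v q r hv c => by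
    have hq := mem_of_perp hM rx ry r hv.2.2.2 hv.1.2
    have ha := mul_mem (p.mem hq) (inv_mem hq)
    have r1 := hM.mul (hM.act' a r) (hM.inv r)
    have e1 : g * t * g⁻¹ * α (n * q * n⁻¹ * q⁻¹) = α q * (g * t * g⁻¹) * (α q)⁻¹ := by
      rw [h.g.mul _ (p.mem hq) _ (inv_mem hq), ← p.eq q hq, show α q⁻¹ = (α q)⁻¹ from
        map_inv (h.g.hom le_rfl) ⟨q, hq⟩, ← mul_assoc, ← mul_assoc, ← mul_assoc, dd, one_mul,
        inv_eq_of_mul_eq_one_right dd]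
    have e2 : α (n * q * n⁻¹ * q⁻¹) * α (n * q * n⁻¹ * q⁻¹) = 1 := by
      rw [← h.g.mul _ ha _ ha, (hM.sq_iff r1).2 (norm_Bq hv.2.1)]; exact map_one (h.g.hom le_rfl)
    have e3 := comm_of_three dd e2 (by rw [e1, conj_mul, dd, mul_one, mul_inv_cancel])
    refine ⟨?_, fun m => c ?_⟩
    · rw [← conj_comm_iff g]; simpa [mul_assoc] using e3.symm
    · have e4 : g⁻¹ * α q * g * t * (g⁻¹ * α q * g)⁻¹ = t * (g⁻¹ * α (n * q * n⁻¹ * q⁻¹) * g) := by
        calc _ = g⁻¹ * (α q * (g * t * g⁻¹) * (α q)⁻¹) * g := by group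
          _ = _ := by rw [← e1]; group
      have e5 := hD _ (e4 ▸ mul_mem h.tN m)
      rw [e4, mul_eq_left, ← inv_inv g, inv_inv g⁻¹, conj_eq_one_iff, h.g.ker _ ha] at e5
      rw [add_comm]
      exact e5.imp (fun e => (hM.zero_iff r1).2 (Or.inl e)) fun e => by
        rw [zero_add]; exact (hM.uniq rx r1).2 (Or.inl e)
  have key : ∀ a b, a ∈ perp ⊤ vX ⊓ (Bq γ g2 ⊓ perp ⊤ vU) → b ∈ perp ⊤ vX ⊓ (Bq γ g2 ⊓ perp ⊤ vU) →
      ¬ cong2 0 (a + γ • a) → ¬ cong2 0 (b + γ • b) → ¬ cong2 0 (a + b + γ • (a + b)) →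
      ¬ 16 ∣ dotInt a.1 (γ • b + b).1 := fun v w hv hw c1 c2 c3 c => by
    obtain ⟨q, r⟩ := hM.ex2 v
    obtain ⟨q', r'⟩ := hM.ex2 w
    have hq := mem_of_perp hM rx ry r hv.2.2.2 hv.1.2
    have hq' := mem_of_perp hM rx ry r' hw.2.2.2 hw.1.2
    have e1 := (hM.comm_iff r (hM.mul (hM.act' a r') (hM.inv r'))).2 c
    obtain ⟨a1, a2⟩ := out v q r hv c1
    obtain ⟨b1, b2⟩ := out w q' r' hw c2
    refine (out _ _ (hM.mul r r') (add_mem hv hw) c3).2 ?_
    convert h.mul_mem_of_not a1 b1 a2 b2 using 1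
    rw [show n * (q * q') * n⁻¹ * (q * q')⁻¹ = n * q * n⁻¹ * q⁻¹ * (n * q' * n⁻¹ * q'⁻¹) by
      calc _ = n * q * n⁻¹ * q⁻¹ * (q * (n * q' * n⁻¹ * q'⁻¹)) * q⁻¹ := by group
        _ = _ := by rw [e1]; group,
      h.g.mul _ (mul_mem (p.mem hq) (inv_mem hq)) _ (mul_mem (p.mem hq') (inv_mem hq'))]
    group
  obtain ⟨u, hu, v, hv, w, hw, c⟩ := l3' hL g2 g1 (perp ⊤ vX) (fun v => ⟨trivial, by
    have := eight_dvd_dot vX.2 v.2
    rw [AddSubgroup.coe_add, dotInt_add_right]; omega⟩) fun a _ b _ ha hb =>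
      ⟨trivial, dot_add8 (fun c => ha ⟨trivial, c⟩) fun c => hb ⟨trivial, c⟩⟩
  simp only [List.forall_mem_cons] at c
  obtain ⟨c1, c2, c3, c4, c5, c6, c7, -⟩ := c
  refine key u (v + w) hu (add_mem hv hw) c1 c6 (add_assoc u v w ▸ c7) ?_
  rw [show γ • (v + w) + (v + w) = γ • v + v + (γ • w + w) by rw [co_add]; abel]
  exact dot_add8 (key u v hu hv c1 c2 c4) (key u w hu hw c1 c3 c5)

/-- The swap of `t` and `t z`. -/
theorem exists_swap (hL : L3Stmt) (h : Cx s y z t N α) {g : G} (h1 : g * t * g⁻¹ ≠ t)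
    (h2 : g * t * g⁻¹ * t = t * (g * t * g⁻¹)) : ∃ q, q * t * q⁻¹ = t * α z ∧ q * α z = α z * q := by
  have : Fact (Nat.Prime 2) := ⟨Nat.prime_two⟩
  have fl := fl_std hM rx ry
  have mz := mem_z hM rx ry
  have nz := not_conj_z hM rx ry h
  by_cases hD : ∀ g, g * t * g⁻¹ ∈ N → g * t * g⁻¹ = t
  · have hd := mt (hD g) h1
    obtain ⟨n, p⟩ := h.act _ h2
    have dd : g * t * g⁻¹ * (g * t * g⁻¹) = 1 := by rw [conj_mul, h.tt, mul_one, mul_inv_cancel]
    obtain ⟨P, hP, hz⟩ := exists_syl2 hM rx ry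
    obtain ⟨n0, a0, a1, a2⟩ := trans_fl hM (fl_mul hM fl) fl
    obtain ⟨m, hm, e⟩ := exists_fix (K := centralizer {s, y}) (z := z) (n := n)
      (fun c => hP.not_dvd_relIndex (c.trans (relIndex_dvd_of_le_left _ hz))) (fun m hm => by
        obtain ⟨m1, m2⟩ := mem_c2.1 hm
        refine ⟨n * m * n0⁻¹, mem_c2.2 ⟨((Commute.mul_left p.cs m1).mul_left (Commute.inv_left
          (mul_inv_eq_iff_eq_mul.1 a1))).eq, mul_inv_eq_iff_eq_mul.1 ?_⟩, ?_⟩
        · calc _ = n * (m * (n0⁻¹ * y * n0) * m⁻¹) * n⁻¹ := by group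
            _ = n * (s * y) * n⁻¹ := by
              rw [show n0⁻¹ * y * n0 = s * y by nth_rewrite 1 [← a2]; group,
                (Commute.mul_right m1 m2).eq, mul_inv_cancel_right]
            _ = y := by
              rw [← conj_mul, h.swap p hd, p.cs, mul_inv_cancel_right, ← mul_assoc, h.g.ss, one_mul]
        · rw [mul_assoc (n * m), (Commute.inv_left a0).eq]; group)
      fun m hm => h.sq_cent p (Or.inl dd) (mul_mem (mul_mem hm mz) (inv_mem hm))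
    have p' := ((h.self (inv_mem hm)).mul h.g.ss p).mul h.g.ss (h.self hm)
    rw [show α m⁻¹ = (α m)⁻¹ from map_inv (h.g.hom le_rfl) ⟨m, hm⟩,
      show (α m)⁻¹ * (g * t * g⁻¹) * α m = (α m)⁻¹ * g * t * ((α m)⁻¹ * g)⁻¹ by group] at p'
    refine (no_outer hM rx ry hL h hD p' (fun c => hd ?_) ?_).elim
    · convert mul_mem (mul_mem (h.mem hm) c) (inv_mem (h.mem hm)) using 1; group
    · calc _ = m⁻¹ * (n * (m * z * m⁻¹)) * m := by group
        _ = _ := by rw [e]; group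
  push Not at hD
  obtain ⟨g, g1, g2⟩ := hD
  obtain ⟨k, -, e⟩ := (h.cls mz nz g1).resolve_left g2
  rw [show k * (g * t * g⁻¹) * k⁻¹ = k * g * t * (k * g)⁻¹ by group] at e
  generalize k * g = g at e
  have l : centralizer ({z} : Set A) ⊓ centralizer {s, y} ≤ centralizer {s, y} := inf_le_right
  have m := mem_cj.1 ((h.g.conjR g e).perf_le (H34.BuA.perf A Q z θ R hM s y fl) (h.g.hom l)
    (fun p => (Commute.mul_right (h.g.comm_t p.2.2)
      (h.g.comm p.2.2 mz (mem_centralizer_singleton_iff.1 p.2.1))).eq)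
    ⟨y, mem_centralizer_singleton_iff.2 (mem_c2.1 mz).2.symm, h.g.my⟩)
  change g⁻¹ * α y * g ∈ N at m
  rw [h.g.ft, ← inv_inv g, inv_inv g⁻¹] at m
  rcases h.cls mz nz m with c | ⟨k, hk, c⟩
  · refine absurd ?_ (mt (h.g.ker z mz).1 (not_or.2 ⟨hM.hQ.ne, (H70.Mid.t2_ne hM fl.1).2.symm⟩))
    rw [← mul_eq_left (a := t), ← e]; nth_rewrite 1 [← c]; group
  have e1 : g * k⁻¹ * t * (g * k⁻¹)⁻¹ = t * α z := by
    rw [mul_assoc g, (Commute.inv_left (h.comm_t hk)).eq, ← e]; group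
  refine ⟨_, e1, mul_inv_eq_iff_eq_mul.1 (mul_left_cancel (a := t * α z) ?_)⟩
  rw [← e1, conj_mul, ← c, e1, mul_assoc t, ← h.g.mul _ mz _ mz, hM.hQ.zz,
    show α 1 = 1 from map_one (h.g.hom le_rfl)]
  group

end Cfsg.Agent.H47.B6
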