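import Mathlib

/-! Closed subgroups of Euclidean space below a paraboloid. -/

set_option autoImplicit false

namespace Cfsg.Agent.H47.BdLat

open Filter Topology Metric

theorem loc {m : ℕ} (i0 : Fin m) (L : AddSubgroup (EuclideanSpace ℝ (Fin m)))
    (hc : IsClosed (L : Set (EuclideanSpace ℝ (Fin m)))) (h : ∀ x ∈ L, x i0 ≤ ‖x‖ ^ 2) :
    ∃ δ > 0, ∀ x ∈ L, ‖x‖ < δ → x i0 = 0 := by
  let W : Submodule ℝ (EuclideanSpace ℝ (Fin m)) :=
    { carrier := {v | ∀ t : ℝ, t • v ∈ L}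
      add_mem' := fun {a b} ha hb t => by rw [smul_add]; exact L.add_mem (ha t) (hb t)
      zero_mem' := fun t => by rw [smul_zero]; exact L.zero_mem
      smul_mem' := fun c v hv t => by rw [smul_smul]; exact hv _ }
  have hW : ∀ v ∈ W, v i0 = 0 := fun v hv => by
    by_contra h0
    have hn : 0 < ‖v‖ ^ 2 := by
      have : v ≠ 0 := fun e => h0 (by rw [e]; rfl)
      positivity
    have h1 := h _ (hv (v i0 / (2 * ‖v‖ ^ 2)))
    rw [norm_smul, mul_pow, Real.norm_eq_abs, sq_abs, PiLp.smul_apply, smul_eq_mul] at h1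
    have h2 : 0 < v i0 ^ 2 := by positivity
    have e1 : v i0 / (2 * ‖v‖ ^ 2) * v i0 = 2 * (v i0 ^ 2 / (4 * ‖v‖ ^ 2)) := by field_simp; ring
    have e2 : (v i0 / (2 * ‖v‖ ^ 2)) ^ 2 * ‖v‖ ^ 2 = v i0 ^ 2 / (4 * ‖v‖ ^ 2) := by field_simp; ring
    have h3 : 0 < v i0 ^ 2 / (4 * ‖v‖ ^ 2) := by positivity
    rw [e1, e2] at h1
    linarith
  by_contra hne
  push Not at hne
  have hy : ∀ n : ℕ, ∃ y ∈ L, y ∈ Wᗮ ∧ y ≠ 0 ∧ ‖y‖ ≤ 2 * (1 / ((n : ℝ) + 1)) := fun n => by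
    obtain ⟨x, hx, h1, h2⟩ := hne (1 / ((n : ℝ) + 1)) (by positivity)
    have hp : W.starProjection x ∈ W := W.starProjection_apply_mem x
    refine ⟨x - W.starProjection x, L.sub_mem hx (by simpa using hp 1),
      W.sub_starProjection_mem_orthogonal x, fun e => h2 ?_, ?_⟩
    · rw [sub_eq_zero] at e
      rw [e]
      exact hW _ hp
    · have := W.norm_starProjection_apply_le x
      have := norm_sub_le x (W.starProjection x)
      linarith
  choose y hyL hyW hy0 hyn using hy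
  have hs : ∀ n, ‖y n‖⁻¹ • y n ∈ sphere (0 : EuclideanSpace ℝ (Fin m)) 1 := fun n => by
    have := norm_ne_zero_iff.2 (hy0 n)
    simp [norm_smul, this]
  obtain ⟨v, hv, φ, hφ, ht⟩ := (isCompact_sphere (0 : EuclideanSpace ℝ (Fin m)) 1).tendsto_subseq hs
  have hvo : v ∈ Wᗮ := W.isClosed_orthogonal.mem_of_tendsto ht
    (Eventually.of_forall fun n => Wᗮ.smul_mem _ (hyW _))
  have hn0 : Tendsto (fun n => ‖y (φ n)‖) atTop (𝓝 0) := by
    have h1 : Tendsto (fun n : ℕ => 2 * (1 / ((n : ℝ) + 1))) atTop (𝓝 (2 * 0)) :=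
      tendsto_one_div_add_atTop_nhds_zero_nat.const_mul 2
    rw [mul_zero] at h1
    exact (squeeze_zero (fun n => norm_nonneg _) hyn h1).comp hφ.tendsto_atTop
  have hvW : v ∈ W := fun t => by
    have h1 : Tendsto (fun n => (⌊t / ‖y (φ n)‖⌋ : ℝ) * ‖y (φ n)‖) atTop (𝓝 t) := by
      have h2 : Tendsto (fun n => t - ‖y (φ n)‖) atTop (𝓝 (t - 0)) := hn0.const_sub t
      rw [sub_zero] at h2
      refine tendsto_of_tendsto_of_tendsto_of_le_of_le h2 tendsto_const_nhds (fun n => ?_) fun n => ?_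
      · have ha := norm_pos_iff.2 (hy0 (φ n))
        have := Int.lt_floor_add_one (t / ‖y (φ n)‖)
        rw [div_lt_iff₀ ha] at this
        show t - ‖y (φ n)‖ ≤ _
        linarith
      · have ha := norm_pos_iff.2 (hy0 (φ n))
        exact (le_div_iff₀ ha).1 (Int.floor_le _)
    refine hc.mem_of_tendsto (h1.smul ht) (Eventually.of_forall fun n => ?_)
    have ha := norm_ne_zero_iff.2 (hy0 (φ n))
    show (_ : ℝ) • ‖y (φ n)‖⁻¹ • y (φ n) ∈ L
    rw [smul_smul, mul_assoc, mul_inv_cancel₀ ha, mul_one, Int.cast_smul_eq_zsmul]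
    exact L.zsmul_mem (hyL _) _
  have : v = 0 := by
    have := (Submodule.mem_orthogonal W v).1 hvo v hvW
    exact inner_self_eq_zero.1 this
  rw [this] at hv
  simp at hv

theorem fin {m : ℕ} (i0 : Fin m) (L : AddSubgroup (EuclideanSpace ℝ (Fin m)))
    (hc : IsClosed (L : Set (EuclideanSpace ℝ (Fin m)))) (h : ∀ x ∈ L, x i0 ≤ ‖x‖ ^ 2) (R : ℝ) :
    ∃ t ∈ Set.Icc (0 : ℝ) 1, ∀ x ∈ L, ‖x‖ ≤ R → x i0 ≠ t := by
  obtain ⟨δ, hδ, hl⟩ := loc i0 L hc h
  obtain ⟨T, hT, hf, hcov⟩ := finite_cover_balls_of_compact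
    ((isCompact_closedBall (0 : EuclideanSpace ℝ (Fin m)) R).inter_left hc) hδ
  obtain ⟨t, ht, hn⟩ := (Set.Icc_infinite (zero_lt_one' ℝ)).exists_notMem_finite
    (hf.image fun x => x i0)
  refine ⟨t, ht, fun x hx hR e => hn ?_⟩
  obtain ⟨c, hc1, hc2⟩ := Set.mem_iUnion₂.1 (hcov ⟨hx, mem_closedBall_zero_iff.2 hR⟩)
  have := hl (x - c) (L.sub_mem hx (hT hc1).1) (by rwa [mem_ball, dist_eq_norm] at hc2)
  rw [PiLp.sub_apply, sub_eq_zero] at this
  exact ⟨c, hc1, this.symm.trans e⟩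

end Cfsg.Agent.H47.BdLat
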