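import Cfsg.Agent.H50.DerDefs

/-!
Project DER, pieces ORB and CH0.
-/

set_option autoImplicit false

namespace Cfsg.Agent.H47.DerO

open MulAction Cfsg.Agent.H50.Der

universe u v

section

variable {X : Type u} {Ω : Type v} {V : Type u} [Group X] [MulAction X Ω] [CommGroup V]
  {q : ℕ} {ι : V →* X} {ω : Ω} {E : Subgroup X} {act : E →* MulAut V}

theorem bij (c : CC q ι ω E act) : Function.Bijective fun z : V => ι z • ω :=
  ⟨fun z z' e => by
    have : ι (z'⁻¹ * z) • ω = ω := by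
      rw [map_mul, map_inv, mul_smul, inv_smul_eq_iff]; exact e
    exact (inv_mul_eq_one.1 (c.free _ this)).symm, c.tr⟩

theorem act_smul (c : CC q ι ω E act) (x : E) (z : V) :
    (x : X) • ι z • ω = ι (act x z) • ω := by
  rw [c.act_eq, mul_smul, mul_smul, inv_smul_eq_iff.2 ((c.memE _).1 x.2).1.symm]

end

theorem orb : OrbStmt.{u, v} := by
  intro X Ω V _ _ _ _ _ _ q ι ω E act c hr g hg z
  classical
  by_cases hz : z = 1
  · exact ⟨1, by simp [hz, hg]⟩
  have := Fintype.ofFinite Ω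
  have := Fintype.ofFinite (orbitRel.Quotient (stabilizer X ω) Ω)
  let f : Ω → orbitRel.Quotient (stabilizer X ω) Ω := Quotient.mk _
  have hf : ∀ a b, f a = f b ↔ ∃ k : X, k • ω = ω ∧ k • b = a := fun a b =>
    Quotient.eq.trans ⟨fun ⟨k, hk⟩ => ⟨k, k.2, hk⟩, fun ⟨k, h1, h2⟩ => ⟨⟨k, h1⟩, h2⟩⟩
  let φ : ∀ y : V, E → {a // f a = f (ι y • ω)} := fun y x =>
    ⟨(x : X) • ι y • ω, (hf _ _).2 ⟨x, ((c.memE _).1 x.2).1, rfl⟩⟩
  have hφ : ∀ y, y ≠ 1 → Function.Injective (φ y) := fun y hy x x' e => by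
    have e1 : (x : X) • ι y • ω = (x' : X) • ι y • ω := congrArg Subtype.val e
    rw [act_smul c, act_smul c] at e1
    have e2 : act x y = act x' y := (bij c).1 e1
    refine (inv_mul_eq_one.1 (c.semi _ y hy ?_)).symm
    rw [map_mul, map_inv, MulAut.mul_apply, e2, MulAut.inv_apply_self]
  have h1 : ∀ o ∈ Finset.univ.erase (f ω),
      Nat.card E ≤ (Finset.univ.filter fun a => f a = o).card := fun o ho => by
    obtain ⟨a, rfl⟩ := Quotient.exists_rep o
    obtain ⟨y, rfl⟩ := c.tr a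
    have hy : y ≠ 1 := fun e => (Finset.mem_erase.1 ho).1 (by rw [e, map_one, one_smul])
    rw [← Fintype.card_subtype, ← Nat.card_eq_fintype_card]
    exact Nat.card_le_card_of_injective _ (hφ y hy)
  have h2 := Finset.card_eq_sum_card_fiberwise (f := f) (s := Finset.univ) (t := Finset.univ)
    fun _ _ => Finset.mem_univ _
  have h3 : (Finset.univ.filter fun a => f a = f ω) = {ω} := by
    ext a
    simp only [Finset.mem_filter, Finset.mem_univ, true_and, Finset.mem_singleton, hf]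
    exact ⟨fun ⟨k, e1, e2⟩ => e2.symm.trans e1, fun e => ⟨1, one_smul _ _, by rw [e, one_smul]⟩⟩
  rw [← Finset.sum_erase_add _ _ (Finset.mem_univ (f ω)), h3, Finset.card_singleton,
    Finset.card_univ, ← Nat.card_eq_fintype_card, ← Nat.card_eq_of_bijective _ (bij c), ← hr,
    add_left_inj, Nat.card_eq_fintype_card, ← Finset.card_univ,
    ← Finset.card_erase_of_mem (Finset.mem_univ (f ω)), ← smul_eq_mul, ← Finset.sum_const] at h2
  have h4 := (Finset.sum_eq_sum_iff_of_le h1).1 h2 (f (ι z • ω)) (Finset.mem_erase.2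
    ⟨fun e => by
      obtain ⟨k, e1, e2⟩ := (hf _ _).1 e
      exact hz (c.free z (e2.symm.trans e1)), Finset.mem_univ _⟩)
  rw [← Fintype.card_subtype, ← Nat.card_eq_fintype_card] at h4
  obtain ⟨x, hx⟩ := ((Nat.bijective_iff_injective_and_card _).2 ⟨hφ z hz, h4⟩).2
    ⟨g • ι z • ω, (hf _ _).2 ⟨g, hg, rfl⟩⟩
  exact ⟨x, by rw [← act_smul c]; exact (congrArg Subtype.val hx).symm⟩

theorem ch0 (c : CentStmt.{u, v}) (c1 : Ch1Stmt.{u, v}) (c2 : Ch2Stmt.{u}) (d : DualStmt.{u})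
    (s : SidStmt.{u, v}) : Ch0Stmt.{u, v} := by
  intro X Ω V _ _ _ _ _ _ q ι ω E act C gen hN ⟨a, b, ha, hb, hab⟩ h hh
  classical
  have := Fintype.ofFinite (V →* ℂˣ)
  let f : Ω → orbitRel.Quotient (stabilizer X ω) Ω := Quotient.mk _
  have hf : ∀ a b, f a = f b → ∃ k : X, k • ω = ω ∧ k • b = a := fun a b e =>
    let ⟨k, hk⟩ := Quotient.eq.1 e
    ⟨k, k.2, hk⟩
  have r3 : 3 ≤ Nat.card (orbitRel.Quotient (stabilizer X ω) Ω) := by
    have := Fintype.ofFinite (orbitRel.Quotient (stabilizer X ω) Ω)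
    rw [Nat.card_eq_fintype_card]
    refine Fintype.two_lt_card_iff.2 ⟨f a, f ω, f b, fun e => ?_, fun e => ?_, fun e => ?_⟩
    · obtain ⟨k, e1, e2⟩ := hf _ _ e
      exact ha (e2.symm.trans e1)
    · obtain ⟨k, e1, e2⟩ := hf _ _ e.symm
      exact hab k e1 e2
    · obtain ⟨k, e1, e2⟩ := hf _ _ e.symm
      exact hb (e2.symm.trans e1)
  obtain ⟨h1, h2⟩ := c2 V E act _ C.semi (c1 X Ω V q ι ω E act C (c X Ω V q ι ω E act C) gen) r3
  have hO := orb X Ω V q ι ω E act C h1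
  rw [← Nat.card_eq_of_bijective _ (bij C)] at hh ⊢
  have e2 : 2 ≤ Nat.card E := by
    by_contra e1
    have : Subsingleton E := Finite.card_le_one_iff_subsingleton.1 (by omega)
    refine hN fun g z => ?_
    obtain ⟨y, hy⟩ := C.tr (g • ω)
    have : (ι y)⁻¹ * g = 1 := C.faith _ fun p => by
      obtain ⟨w, rfl⟩ := C.tr p
      obtain ⟨x, hx⟩ := hO ((ι y)⁻¹ * g) (by rw [mul_smul, ← hy, inv_smul_smul]) w
      rw [hx, Subsingleton.elim x 1, map_one, MulAut.one_apply]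
    exact ⟨y * z * y⁻¹, by rw [← inv_mul_eq_one.1 this, map_mul, map_mul, map_inv]⟩
  obtain ⟨h3, h4⟩ := d V E act C.semi (h2 e2)
  have h5 : Nat.card V ≠ Nat.card E * (Nat.card E - 1) + 1 := fun e =>
    hN (s X Ω V q ι ω E act C hO e2 e (h4 e))
  generalize Nat.card (orbitRel.Quotient (stabilizer X ω) Ω) - 1 = t at h1
  obtain ⟨e, he⟩ : ∃ e, Nat.card E = e + 1 := ⟨Nat.card E - 1, by omega⟩
  rw [he] at h1 h3 h5 hh
  generalize Nat.card V = n at h1 h3 h5 hh ⊢
  subst h1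
  rw [Nat.add_sub_cancel] at h3 h5
  have k1 : h ≤ t := Nat.le_of_mul_le_mul_right (c := e + 1) (by omega) (Nat.succ_pos e)
  have k2 : t < e := Nat.lt_of_mul_lt_mul_right (a := e + 1) (by rw [mul_comm e]; omega)
  nlinarith

end Cfsg.Agent.H47.DerO
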