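import Cfsg.Agent.H53.DgDefs
import Cfsg.Agent.H11.PermChar

/-!
Project DG, piece SRG: the permutation character of a rank three action.
-/

set_option autoImplicit false

namespace Cfsg.Agent.H47.DgS

open Cfsg Cfsg.Agent.H11 Cfsg.Agent.H53.Dg
open scoped ComplexConjugate

/-- The trace on the image of an invariant idempotent is a character. -/
theorem isChar_idem {G V : Type} [Group G] [AddCommGroup V] [Module ℂ V] [FiniteDimensional ℂ V]
    (ρ : Representation ℂ G V) (e : Module.End ℂ V) (he : e * e = e)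
    (hc : ∀ g, ρ g * e = e * ρ g) :
    IsCharacter G fun g => LinearMap.trace ℂ V (ρ g * e) := by
  let W : Subrepresentation ρ := ⟨LinearMap.range e, fun g v hv => by
    obtain ⟨w, rfl⟩ := hv
    exact ⟨ρ g w, by rw [← Module.End.mul_apply, ← hc, Module.End.mul_apply]⟩⟩
  have h := isCharacter_character W.toRepresentation
  convert h using 2 with g
  have hf : ∀ x, (ρ g * e) x ∈ LinearMap.range e := fun x => ⟨ρ g x, by
    rw [← Module.End.mul_apply, ← hc]⟩
  rw [← LinearMap.trace_restrict_eq_of_forall_mem (LinearMap.range e) (ρ g * e) hf]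
  change _ = LinearMap.trace ℂ (LinearMap.range e) _
  congr 1
  refine LinearMap.ext fun x => Subtype.ext ?_
  obtain ⟨_, w, rfl⟩ := x
  change ρ g (e (e w)) = ρ g (e w)
  rw [← Module.End.mul_apply e e, he]

/-- Matrix version. -/
theorem isChar_mat {G Ω : Type} [Group G] [Fintype Ω] [DecidableEq Ω]
    (P : G →* Matrix Ω Ω ℂ) (E : Matrix Ω Ω ℂ) (he : E * E = E) (hc : ∀ g, P g * E = E * P g) :
    IsCharacter G fun g => (P g * E).trace := by
  let φ : Matrix Ω Ω ℂ ≃ₐ[ℂ] Module.End ℂ (Ω → ℂ) := Matrix.toLinAlgEquiv'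
  let ρ : Representation ℂ G (Ω → ℂ) := (φ : Matrix Ω Ω ℂ →* Module.End ℂ (Ω → ℂ)).comp P
  have hρ : ∀ g, ρ g = φ (P g) := fun g => rfl
  have h := isChar_idem ρ (φ E) (by rw [← map_mul, he])
    (fun g => by rw [hρ, ← map_mul, ← map_mul, hc])
  convert h using 2 with g
  rw [hρ, ← map_mul]
  exact (Matrix.trace_toLin'_eq _).symm

/-- The idempotent equation in the adjacency algebra. -/
theorem idem {R : Type} [Ring R] [Algebra ℂ R] (A J : R) (v k l m r s c : ℂ)
    (hA : A * A = k • (1 : R) + l • A + m • (J - 1 - A)) (hAJ : A * J = k • J)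
    (hJA : J * A = k • J) (hJ : J * J = v • J) (hc : c * v = k - s) (h1 : r + s = l - m)
    (h2 : r * s = m - k) (h3 : m = c * (k - r)) :
    (A - s • (1 : R) - c • J) * (A - s • (1 : R) - c • J) = (r - s) • (A - s • (1 : R) - c • J) := by
  simp only [sub_mul, mul_sub, smul_mul_assoc, mul_smul_comm, one_mul, mul_one, hA, hAJ, hJA, hJ]
  match_scalars
  · linear_combination h2
  · linear_combination -h1
  · linear_combination h3 + c * hc

section Graph

variable {H Ω : Type} [Group H] [Fintype Ω] [DecidableEq Ω] [MulAction H Ω]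

/-- The permutation matrices. -/
def PM (H Ω : Type) [Group H] [Fintype Ω] [DecidableEq Ω] [MulAction H Ω] :
    H →* Matrix Ω Ω ℂ where
  toFun h := Matrix.of fun a b => if a = h • b then 1 else 0
  map_one' := by
    ext a b
    simp [Matrix.one_apply]
  map_mul' g h := by
    ext a b
    simp [Matrix.mul_apply, mul_smul]

theorem PM_apply (h : H) (a b : Ω) : PM H Ω h a b = if a = h • b then 1 else 0 := rfl

theorem PM_mul (h : H) (M : Matrix Ω Ω ℂ) (a b : Ω) : (PM H Ω h * M) a b = M (h⁻¹ • a) b := by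
  rw [Matrix.mul_apply, Finset.sum_eq_single (h⁻¹ • a)]
  · simp [PM_apply]
  · intro c _ hc
    rw [PM_apply, if_neg, zero_mul]
    rintro rfl
    simp at hc
  · simp

theorem mul_PM (h : H) (M : Matrix Ω Ω ℂ) (a b : Ω) : (M * PM H Ω h) a b = M a (h • b) := by
  simp [Matrix.mul_apply, PM_apply]

theorem PM_comm (M : Matrix Ω Ω ℂ) (hM : ∀ (h : H) a b, M (h • a) (h • b) = M a b) (h : H) :
    PM H Ω h * M = M * PM H Ω h := by
  ext a b
  rw [PM_mul, mul_PM, ← hM h, smul_inv_smul]

theorem trace_PM (h : H) : (PM H Ω h).trace = (Nat.card {a : Ω // h • a = a} : ℂ) := by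
  simp only [Matrix.trace, Matrix.diag_apply, PM_apply]
  rw [Finset.sum_boole, Nat.card_eq_fintype_card, Fintype.card_subtype]
  congr 2
  ext a
  simp [eq_comm]

end Graph

/-- At most three orbits on pairs. -/
theorem orb_le {H Ω : Type} [Group H] [MulAction H Ω] (adj : Ω → Ω → Prop)
    (h0 : ∀ a b : Ω, ∃ h : H, h • a = b)
    (h1 : ∀ a b a' b', adj a b → adj a' b' → ∃ h : H, h • a = a' ∧ h • b = b')
    (h2 : ∀ a b a' b', a ≠ b → ¬ adj a b → a' ≠ b' → ¬ adj a' b' →
      ∃ h : H, h • a = a' ∧ h • b = b') :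
    Nat.card (MulAction.orbitRel.Quotient H (Ω × Ω)) ≤ 3 := by
  classical
  let f : Ω × Ω → Fin 3 := fun x => if x.1 = x.2 then 0 else if adj x.1 x.2 then 1 else 2
  have key : ∀ x y : Ω × Ω, f x = f y → ∃ h : H, h • x = y := by
    rintro ⟨a, b⟩ ⟨a', b'⟩ hxy
    simp only [f] at hxy
    by_cases e : a = b <;> by_cases e' : a' = b'
    · subst e e'
      obtain ⟨h, hh⟩ := h0 a a'
      exact ⟨h, Prod.ext hh hh⟩
    · exfalso; rw [if_pos e, if_neg e'] at hxy; split_ifs at hxy <;> exact absurd hxy (by decide)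
    · exfalso; rw [if_neg e, if_pos e'] at hxy; split_ifs at hxy <;> exact absurd hxy (by decide)
    · rw [if_neg e, if_neg e'] at hxy
      by_cases d : adj a b <;> by_cases d' : adj a' b'
      · obtain ⟨h, hh, hh'⟩ := h1 a b a' b' d d'
        exact ⟨h, Prod.ext hh hh'⟩
      · rw [if_pos d, if_neg d'] at hxy; exact absurd hxy (by decide)
      · rw [if_neg d, if_pos d'] at hxy; exact absurd hxy (by decide)
      · obtain ⟨h, hh, hh'⟩ := h2 a b a' b' e d e' d'
        exact ⟨h, Prod.ext hh hh'⟩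
  have hinj : Function.Injective
      (fun x : MulAction.orbitRel.Quotient H (Ω × Ω) => f (Quotient.out x)) := by
    intro x y hxy
    obtain ⟨h, hh⟩ := key _ _ hxy
    rw [← Quotient.out_eq x, ← Quotient.out_eq y]
    refine (Quotient.sound ?_).symm
    exact ⟨h, hh⟩
  simpa using Nat.card_le_card_of_injective _ hinj

theorem srg : SrgStmt := by
  intro H Ω _ _ _ _ adj v k μ r s hsym hirr hinv hv hk hμ h0 h1 h2 hk0 hkv hrs e1 e2
  classical
  have := Fintype.ofFinite Ω
  have := Fintype.ofFinite H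
  have hinv' : ∀ (h : H) a b, adj (h • a) (h • b) ↔ adj a b := fun h a b =>
    ⟨fun d => by simpa using hinv h⁻¹ _ _ d, hinv h a b⟩
  have hne : Nonempty Ω := by
    rw [← Finite.card_pos_iff]; omega
  obtain ⟨a0⟩ := id hne
  obtain ⟨b0, hb0⟩ : Nonempty {b // adj a0 b} := by
    rw [← Finite.card_pos_iff, hk]; exact hk0
  set l := Nat.card {c // adj a0 c ∧ adj b0 c} with hl
  have hlam : ∀ a b, adj a b → Nat.card {c // adj a c ∧ adj b c} = l := by
    intro a b d
    obtain ⟨h, rfl, rfl⟩ := h1 a0 b0 a b hb0 d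
    refine (Nat.card_congr ((MulAction.toPerm h).subtypeEquiv fun c => ?_)).symm
    simp [hinv']
  let A : Matrix Ω Ω ℂ := Matrix.of fun a b => if adj a b then 1 else 0
  let J : Matrix Ω Ω ℂ := Matrix.of fun _ _ => 1
  have cnt : ∀ (p : Ω → Prop) [DecidablePred p],
      ∑ c, (if p c then (1 : ℂ) else 0) = Nat.card {c // p c} := fun p _ => by
    rw [Finset.sum_boole, Nat.card_eq_fintype_card, Fintype.card_subtype]
  have hAA : ∀ a b, (A * A) a b = Nat.card {c // adj a c ∧ adj b c} := fun a b => by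
    rw [← cnt, Matrix.mul_apply]
    refine Finset.sum_congr rfl fun c _ => ?_
    have : adj c b ↔ adj b c := ⟨hsym _ _, hsym _ _⟩
    simp only [A, Matrix.of_apply, this]
    by_cases d : adj a c <;> by_cases d' : adj b c <;> simp [d, d']
  have hA : A * A = (k : ℂ) • (1 : Matrix Ω Ω ℂ) + (l : ℂ) • A + (μ : ℂ) • (J - 1 - A) := by
    ext a b
    rw [hAA]
    by_cases e : a = b
    · subst e
      simp only [and_self, hk]
      simp [A, J, hirr]
    · by_cases d : adj a b
      · rw [hlam a b d]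
        simp [A, J, d, e]
      · rw [hμ a b e d]
        simp [A, J, d, e]
  have hAJ : A * J = (k : ℂ) • J := by
    ext a b
    simp only [Matrix.mul_apply, A, J, Matrix.of_apply, mul_one, Matrix.smul_apply, smul_eq_mul]
    rw [cnt, hk]
  have hJA : J * A = (k : ℂ) • J := by
    ext a b
    have : ∀ c, adj c b ↔ adj b c := fun c => ⟨hsym _ _, hsym _ _⟩
    simp only [Matrix.mul_apply, A, J, Matrix.of_apply, mul_one, one_mul, Matrix.smul_apply,
      smul_eq_mul, this]
    rw [cnt, hk]
  have hcard : (Fintype.card Ω : ℂ) = v := by rw [← hv, Nat.card_eq_fintype_card]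
  have hJ : J * J = (v : ℂ) • J := by
    ext a b
    simp [Matrix.mul_apply, J, hcard]
  have hv0 : (v : ℂ) ≠ 0 := by
    have : v ≠ 0 := by omega
    exact_mod_cast this
  have hk0' : (k : ℂ) ≠ 0 := by exact_mod_cast hk0.ne'
  have c1 : (r : ℂ) * s = μ - k := by exact_mod_cast congrArg (Int.cast (R := ℂ)) e1
  have c2 : ((k : ℂ) - r) * (k - s) = μ * v := by exact_mod_cast congrArg (Int.cast (R := ℂ)) e2
  have hrow : (k : ℂ) * k = k + l * k + μ * (v - 1 - k) := by
    have h := congrArg (fun M => (M * J) a0 a0) hA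
    simp only [mul_assoc, hAJ, add_mul, sub_mul, smul_mul_assoc, mul_smul_comm, one_mul, hJ] at h
    simpa [J] using h
  have c3 : (r : ℂ) + s = l - μ := by
    apply mul_left_cancel₀ hk0'
    linear_combination hrow + c1 - c2
  have hrs' : (r : ℂ) - s ≠ 0 := by
    rw [sub_ne_zero]; exact_mod_cast hrs
  have hsr' : (s : ℂ) - r ≠ 0 := fun h => hrs' (by linear_combination -h)
  have cA : ∀ h : H, PM H Ω h * A = A * PM H Ω h := PM_comm A fun h a b => by simp [A, hinv']
  have cJ : ∀ h : H, PM H Ω h * J = J * PM H Ω h := PM_comm J fun h a b => rfl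
  -- the two idempotents
  have key : ∀ x y : ℂ, x - y ≠ 0 → x + y = l - μ → x * y = μ - k → (k - x) * (k - y) = μ * v →
      IsCharacter H fun h => (PM H Ω h * ((x - y)⁻¹ •
        (A - y • (1 : Matrix Ω Ω ℂ) - ((k - y) / v) • J))).trace := by
    intro x y hxy d1 d2 d3
    refine isChar_mat _ _ ?_ fun h => ?_
    · rw [smul_mul_assoc, mul_smul_comm, idem A J v k l μ x y _ hA hAJ hJA hJ
        (div_mul_cancel₀ _ hv0) d1 d2 (by field_simp; linear_combination -d3), smul_smul,
        smul_smul, mul_assoc, inv_mul_cancel₀ hxy, mul_one]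
    · simp only [mul_smul_comm, smul_mul_assoc, mul_sub, sub_mul, mul_one, one_mul, cA, cJ]
  have hχ := key r s hrs' c3 c1 c2
  have hχ' := key s r hsr' (by rw [add_comm, c3]) (by rw [mul_comm, c1]) (by rw [mul_comm, c2])
  have tJ : ∀ h : H, (PM H Ω h * J).trace = v := fun h => by
    simp [Matrix.trace, PM_mul, J, hcard]
  have tA : A.trace = 0 := by simp [Matrix.trace, A, hirr]
  have tJ1 : J.trace = v := by simp [Matrix.trace, J, hcard]
  set χ : H → ℂ := fun h => (PM H Ω h * (((r : ℂ) - s)⁻¹ •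
        (A - (s : ℂ) • (1 : Matrix Ω Ω ℂ) - (((k : ℂ) - s) / v) • J))).trace with hχd
  set χ' : H → ℂ := fun h => (PM H Ω h * (((s : ℂ) - r)⁻¹ •
        (A - (r : ℂ) • (1 : Matrix Ω Ω ℂ) - (((k : ℂ) - r) / v) • J))).trace with hχd'
  have hsum : ∀ h : H, (Nat.card {a : Ω // h • a = a} : ℂ) = 1 + χ h + χ' h := fun h => by
    simp only [hχd, hχd', mul_smul_comm, mul_sub, mul_one, Matrix.trace_smul, Matrix.trace_sub,
      tJ, trace_PM, smul_eq_mul]
    have : (s : ℂ) - r = -(r - s) := by ring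
    rw [this, inv_neg]
    field_simp
    ring
  obtain ⟨f, hf⟩ := exists_nat_degree hχ
  obtain ⟨g, hg⟩ := exists_nat_degree hχ'
  have hf' : (f : ℂ) * (r - s) = -(s * v) - (k - s) := by
    rw [← hf]
    simp only [hχd, map_one, one_mul, Matrix.trace_smul, Matrix.trace_sub, tA, tJ1,
      Matrix.trace_one, hcard, smul_eq_mul]
    field_simp
    ring
  have hg' : (g : ℂ) * (s - r) = -(r * v) - (k - r) := by
    rw [← hg]
    simp only [hχd', map_one, one_mul, Matrix.trace_smul, Matrix.trace_sub, tA, tJ1,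
      Matrix.trace_one, hcard, smul_eq_mul]
    field_simp
    ring
  have hfg : (f : ℂ) + g + 1 = v := by
    have h := hsum 1
    rw [hf, hg] at h
    simp only [one_smul, Nat.card_subtype_true, hv] at h
    linear_combination -h
  have nz : ∀ x y : ℤ, x * y = μ - k → (k - x) * (k - y) = μ * v → -(y * v) - (k - y) ≠ 0 := by
    intro x y d1 d2 d3
    have hvz : (v : ℤ) ≠ 0 := by omega
    have d4 : (k - x) * (-y) = μ := by
      apply mul_right_cancel₀ hvz
      linear_combination d2 + (k - x) * d3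
    have d5 : (k : ℤ) * (y + 1) = 0 := by linear_combination d1 - d4
    have d6 : y = -1 := by
      rcases mul_eq_zero.1 d5 with h | h <;> omega
    subst d6
    omega
  have f0 : χ ≠ 0 := fun h => by
    have : (f : ℂ) = 0 := by rw [← hf, h]; rfl
    rw [this, zero_mul] at hf'
    exact nz r s e1 e2 (by exact_mod_cast hf'.symm)
  have g0 : χ' ≠ 0 := fun h => by
    have : (g : ℂ) = 0 := by rw [← hg, h]; rfl
    rw [this, zero_mul] at hg'
    exact nz s r (by rw [mul_comm, e1]) (by rw [mul_comm, e2]) (by exact_mod_cast hg'.symm)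
  have htr : MulAction.IsPretransitive H Ω := ⟨h0⟩
  have hip := classInner_permChar_sub_one (G := H) Ω
  have hπ : (permChar H Ω - fun _ => 1) = χ + χ' := by
    ext h
    have : permChar H Ω h = (Nat.card {a : Ω // h • a = a} : ℂ) := rfl
    simp only [Pi.sub_apply, Pi.add_apply, this, hsum]
    ring
  obtain ⟨n1, hn1⟩ := exists_nat_classInner hχ hχ
  obtain ⟨n2, hn2⟩ := exists_nat_classInner hχ hχ'
  obtain ⟨n3, hn3⟩ := exists_nat_classInner hχ' hχ
  obtain ⟨n4, hn4⟩ := exists_nat_classInner hχ' hχ'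
  rw [hπ, classInner_add_left, classInner_add_right, classInner_add_right, hn1, hn2, hn3, hn4,
    eq_sub_iff_add_eq] at hip
  have hip' : n1 + n2 + (n3 + n4) + 1 = Nat.card (MulAction.orbitRel.Quotient H (Ω × Ω)) := by
    exact_mod_cast hip
  have hle := orb_le adj h0 h1 h2
  have p1 : n1 ≠ 0 := fun h => f0 (classInner_self_eq_zero.1 (by rw [hn1, h, Nat.cast_zero]))
  have p4 : n4 ≠ 0 := fun h => g0 (classInner_self_eq_zero.1 (by rw [hn4, h, Nat.cast_zero]))
  have q1 : n1 = 1 := by omega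
  have q4 : n4 = 1 := by omega
  refine ⟨χ, χ', isIrrCharacter_of_classInner_self hχ (by rw [hn1, q1, Nat.cast_one]),
    isIrrCharacter_of_classInner_self hχ' (by rw [hn4, q4, Nat.cast_one]), hsum, f, g, hf, hg,
    by exact_mod_cast hfg, ?_⟩
  have : (k : ℂ) + f * r + g * s = 0 := by linear_combination hf' + s * hfg
  exact_mod_cast this

end Cfsg.Agent.H47.DgS
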