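import Cfsg.Agent.H47.E6C

/-!
# Frames
-/

set_option autoImplicit false

namespace Cfsg.Agent.H47.E6

open Subgroup H49 H98
open scoped commutatorElement

universe u

theorem Tri.comm_of_inv {G : Type*} [Group G] {z x g s e : G} (h : Tri z x g) (hs : s ∈ Qx z)
    (hi : s * g * s⁻¹ = g⁻¹) (he : e ∈ EE z x) (hc : g * e = e * g) : s * e = e * s := by
  have h1 := h.bp.hQ.commutator_mem hs he.1
  have h2 : g⁻¹ * (s * e * s⁻¹) = s * e * s⁻¹ * g⁻¹ := hi ▸ comm_conj s hc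
  have h3 := h.eq_one_of_V (zpowers_le.2 (BP.z_V z x) h1)
    (comm_mul (by simpa using (comm_inv h2).symm) (comm_inv hc.symm)).symm
  exact comm_of_conj_eq (mul_inv_eq_one.1 h3)

theorem Tri.exists_E0 {G : Type*} [Group G] [Finite G] {z x g q : G} (h : Tri z x g)
    (hq : q ∈ YY x z) (hn : q ∉ Qx x) : ∃ e ∈ EE z x, g * e = e * g ∧ e * q * e⁻¹ = q * z := by
  obtain ⟨e, he, hne⟩ := h.bp.exists_E_not_comm hq.1 hn
  obtain ⟨v, hv, e0, he0, hc, rfl⟩ := h.decomp he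
  exact ⟨e0, he0, hc, h.bp.hQ.conj_of_ne he0.1 hq.1 fun e =>
    hne (comm_mul (h.bp.R_comm_V (mem_sup_right hq) hv).symm e)⟩

namespace Ctx

variable {G W : Type u} [Group G] [Group W] {S : Ctx G W} [Finite G]

variable (S) in
/-- `d` centralises `z`, `t`, `g` -/
structure DD (t g d : G) : Prop where
  z : d * S.z = S.z * d
  t : d * t = t * d
  g : d * g = g * d

variable (S) in
/-- a preframe -/
structure Pre (t s g : G) : Prop where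
  op : S.Op t s
  tri : Tri S.z t g
  e0 : ∀ e ∈ EE S.z t, g * e = e * g → s * e = e * s

theorem Op.exists_pre {t s : G} (h : S.Op t s) : ∃ g, S.Pre t s g := by
  classical
  obtain ⟨g, hg⟩ := h.pt.bp.exists_tri
  have hb := h.pt.bp
  have ts : ¬ t * s = s * t := fun e => h.ne e.symm
  obtain ⟨y, hy, H⟩ := hb.hS.exists_conj_eq' (A := YY S.z t) (B := EE S.z t ⊓ centralizer {g})
    inf_le_left (inf_le_left.trans inf_le_right) (fun u => if u * s = s * u then u else u * t)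
    (fun u _ => by by_cases e : u * s = s * u <;> simp [e])
    (fun u hu v hv => by
      have ut := hb.hS.cen u hu.1.2
      have vt := hb.hS.cen v hv.1.2
      by_cases e : u * s = s * u <;> by_cases e' : v * s = s * v
      · simp only [if_pos e, if_pos e', if_pos (comm_mul e e')]
      · simp only [if_pos e, if_neg e', if_neg (XS.mul_ne_of_eq_of_ne e e')]
        rw [mul_assoc]
      · simp only [if_neg e, if_pos e', if_neg (XS.mul_ne_of_ne_of_eq e e')]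
        rw [mul_assoc, mul_assoc, vt]
      · simp only [if_neg e, if_neg e', if_pos (S.h.mul_comm_of_ne_of_ne hu.1.1 hv.1.1 h.ps.mem e e')]
        rw [vt, mul_assoc, ← mul_assoc t, hb.hS.zz, one_mul])
    (fun u hu hc => by
      have := hg.eq_one_of_V (hb.mem_V_of_comm hc) (mcs.1 hu.2).symm
      simp [this])
  refine ⟨y * g * y⁻¹, h, hg.conj (mem_sup_left hy), fun e he hc => ?_⟩
  have hu : y⁻¹ * e * y⁻¹⁻¹ ∈ EE S.z t := hb.R_conj_E (mem_sup_right (inv_mem (il hy))) he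
  have := H _ ⟨hu, mcs.2 (by simpa [mul_assoc] using (comm_conj y⁻¹ hc).symm)⟩
  rw [show y * (y⁻¹ * e * y⁻¹⁻¹) * y⁻¹ = e by group] at this
  rw [this]
  split_ifs with e1
  · exact e1.symm
  · exact (S.h.mul_comm_of_ne_of_ne hu.1 h.pt.mem h.ps.mem e1 ts).symm

omit [Finite G] in
theorem DD.conj {t g d c : G} (h : S.DD t g d) (h' : S.DD t g c) : S.DD t g (d⁻¹ * c * d) :=
  ⟨comm_mul (comm_mul (comm_inv h.z) h'.z) h.z, comm_mul (comm_mul (comm_inv h.t) h'.t) h.t,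
    comm_mul (comm_mul (comm_inv h.g) h'.g) h.g⟩

namespace Pre

variable {t s g d : G}

theorem comm_E (h : S.Pre t s g) (hd : S.DD t g d) : d * s * d⁻¹ * s⁻¹ ∈ EE S.z t := by
  have hb := h.tri.bp
  have m1 := S.h.conj_mem hd.z h.op.ps.mem
  have m : d * s * d⁻¹ * s⁻¹ ∈ Qx S.z := mul_mem m1 (inv_mem h.op.ps.mem)
  have mt : d * s * d⁻¹ * s⁻¹ * t = t * (d * s * d⁻¹ * s⁻¹) :=
    S.h.mul_comm_of_ne_of_ne m1 (inv_mem h.op.ps.mem) h.op.pt.mem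
      (fun e => h.op.ne (comm_of_conj d (by rwa [conj_eq_of_comm hd.t])))
      (fun e => h.op.ne (by simpa using comm_inv e))
  refine ⟨m, hb.mem_S_of_comm m fun e he => ?_⟩
  obtain ⟨v, hv, e0, he0, hc, rfl⟩ := h.tri.decomp he
  refine comm_mul (hb.R_comm_V (mem_sup_right ⟨m, mcs.2 mt⟩) hv).symm
    (comm_mul ?_ (comm_inv (h.e0 e0 he0 hc))).symm
  have := h.e0 _ (conj_mem_EE he0 (conj_eq_of_comm (comm_inv hd.z)) (conj_eq_of_comm (comm_inv hd.t)))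
    (by have := comm_conj d⁻¹ hc
        rwa [conj_eq_of_comm (comm_inv hd.g)] at this)
  simpa [mul_assoc] using comm_conj d this

theorem eq_one (h : S.Pre t s g) (hd : S.DD t g d) {r l : W} (hr : r ∈ S.U.Rp) (hl : l ∈ S.U.L)
    (e : S.Lf d (r * l)) : r = 1 := by
  obtain ⟨y, hy, e1⟩ := h.op.pt.lift hr
  have e2 := e1.inv.mul e
  rw [inv_mul_cancel_left] at e2
  refine e1.eq_one_iff.2 (h.tri.bp.third' h.op.ps.mem h.op.ne hy.1 ?_)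
  have h1 := h.tri.bp.R_conj_E (mem_sup_right (il hy))
    (zpowers_le.2 h.tri.bp.zE (e2.of_St' h.op.ps.mem (h.op.Ls hl)))
  have := mul_mem (inv_mem (ir (h.comm_E hd))) (ir h1)
  simpa [mul_assoc] using this

theorem mem_L (h : S.Pre t s g) (hd : S.DD t g d) {l : W} (e : S.Lf d l) (hl : l ∈ S.U.N) :
    l ∈ S.U.L := by
  have := S.U.norm_le (mem_inf.2 ⟨inv_mem hl, inv_mem (h.op.pt.St_le (e.mem_St_of_comm hd.t))⟩)
  rw [sup_comm] at this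
  obtain ⟨a, ha, r, hr, e1⟩ := (mem_sup_of_le_normalizer' S.U.L_norm).1 this
  have e2 : l = r⁻¹ * a⁻¹ := by rw [← mul_inv_rev, e1, inv_inv]
  rw [e2] at e ⊢
  rw [h.eq_one hd (inv_mem hr) (inv_mem ha) e, one_mul]
  exact inv_mem ha

theorem exists_d' (h : S.Pre t s g) {l : W} (hl : l ∈ S.St t) :
    ∃ r ∈ S.U.Rp, ∃ d, S.DD t g d ∧ S.Lf d (r * l) := by
  obtain ⟨c, hc, ct⟩ := h.op.pt.lift_comm hl
  obtain ⟨r, hr, e⟩ := h.tri.frattini hc.comm ct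
  obtain ⟨rz, rt⟩ := BP.CV_iff.1 (h.tri.bp.pr.R_le_CV hr)
  obtain ⟨a, ha⟩ := exists_lf (S := S) rz
  exact ⟨_, inv_mem (h.op.pt.mem_A' hr ha), r⁻¹ * c,
    ⟨comm_mul (comm_inv rz) hc.comm, comm_mul (comm_inv rt) ct, e.symm⟩, ha.inv.mul hc⟩

theorem exists_d (h : S.Pre t s g) {l : W} (hl : l ∈ S.U.L) : ∃ d, S.DD t g d ∧ S.Lf d l := by
  obtain ⟨r, hr, d, hd, e⟩ := h.exists_d' (h.op.Lt hl)
  rw [h.eq_one hd hr hl e, one_mul] at e
  exact ⟨d, hd, e⟩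

theorem conj_s (h : S.Pre t s g) (hd : S.DD t g d) : d * s * d⁻¹ = s ∨ d * s * d⁻¹ = s * S.z := by
  obtain ⟨l, hl⟩ := exists_lf (S := S) hd.z
  have hs := h.op.ps.mem
  have hV := h.op.pt.mem_V_of_St (h.comm_E hd) h.op.Lt (fun a ha => by
    obtain ⟨c, hc, e⟩ := h.exists_d ha
    have := h.mem_L (hd.conj hc) ((hl.inv.mul e).mul hl)
      (by simpa using S.U.normal.conj_mem _ (S.U.L_le ha) l⁻¹)
    rw [inv_eq_self h.op.ss]
    exact St_mul (hl.conj_Q hs) hs (St_conj' hl (h.op.Ls this)) (h.op.Ls ha)) S.U.comm_L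
  have sq : d * s * d⁻¹ * (d * s * d⁻¹) = 1 := (h.op.ps.d.conj d).sq
  have tsts : t * s * (t * s) = S.z := by
    calc t * s * (t * s) = t * s * t⁻¹ * s := by rw [inv_eq_self h.op.pt.d.sq]; group
      _ = S.z := by rw [h.op.tst, S.h.cen s hs, mul_assoc, h.op.ss, mul_one]
  rcases h.tri.bp.mem_V.1 hV with e | e | e | e <;> rw [mul_inv_eq_iff_eq_mul] at e
  · left; rw [e, one_mul]
  · right; rw [e, S.h.cen s hs]
  · rw [e, tsts] at sq; exact absurd sq S.h.ne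
  · rw [e, mul_assoc S.z, ← S.h.cen _ (mul_mem h.op.pt.mem hs), mul_assoc (t * s), ← mul_assoc S.z,
      ← S.h.cen _ (mul_mem h.op.pt.mem hs), mul_assoc (t * s), S.h.zz, mul_one, tsts] at sq
    exact absurd sq S.h.ne

end Pre

variable (S) in
/-- a frame -/
structure Fr (t s g : G) : Prop where
  op : S.Op t s
  tri : Tri S.z t g
  inv : s * g * s⁻¹ = g⁻¹

theorem Pre.exists_fr {t s g : G} (h : S.Pre t s g) : ∃ s', S.Fr t s' g := by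
  have hb := h.tri.bp
  have hs := h.op.ps.mem
  have sz := conj_eq_of_comm (S.h.cen s hs)
  have si := inv_eq_self h.op.ss
  obtain ⟨r, hr, e⟩ := h.tri.exists_conj (g' := s * g⁻¹ * s⁻¹)
    (by calc _ = s * (g * g * g)⁻¹ * s⁻¹ := by group
          _ = 1 := by rw [h.tri.g3]; group)
    (by
      have := Tri.mem_R_of_eq hb (inv_mem h.tri.mem)
        (mul_mem (mul_mem (mem_sup_left hs) h.tri.mem) (inv_mem (mem_sup_left hs)))
        (by calc g⁻¹ * S.z * g⁻¹⁻¹ = S.z * t := conj_conj_inv h.tri.gzx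
              _ = s * (g * (s⁻¹ * S.z * s⁻¹⁻¹) * g⁻¹) * s⁻¹ := by
                rw [conj_conj_inv sz, h.tri.gz, h.op.sts, hb.zx]
              _ = _ := by group)
        (by calc g⁻¹ * t * g⁻¹⁻¹ = S.z := conj_conj_inv h.tri.gz
              _ = s * (g * (s * t * s⁻¹) * g⁻¹) * s⁻¹ := by rw [h.op.sts, ← hb.zx, h.tri.gzx, sz]
              _ = s * (g * (s⁻¹ * t * s⁻¹⁻¹) * g⁻¹) * s⁻¹ := by rw [inv_inv, si]
              _ = _ := by group)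
      simpa [mul_assoc] using this)
  have key : ∀ d, S.DD t g d → ∃ v ∈ EE S.z t, ∃ e ∈ EE S.z t, d * r * d⁻¹ = v * r * e := by
    intro d hd
    obtain ⟨v, hv, vs, ev⟩ : ∃ v ∈ EE S.z t, s * v = v * s ∧ d * s * d⁻¹ = s * v := by
      rcases h.conj_s hd with e | e
      · exact ⟨1, one_mem _, by simp, by rw [e, mul_one]⟩
      · exact ⟨_, hb.zE, S.h.cen s hs, e⟩
    have hdr : d * r * d⁻¹ ∈ RR S.z t := by
      obtain ⟨y, hy, x, hx, rfl⟩ := hb.pr.mem_R.1 hr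
      have : d * (y * x) * d⁻¹ = (d * y * d⁻¹) * (d * x * d⁻¹) := by group
      rw [this]
      exact mul_mem (mem_sup_left (conj_mem_YY hy (conj_eq_of_comm hd.z) (conj_eq_of_comm hd.t)))
        (mem_sup_right (conj_mem_YY hx (conj_eq_of_comm hd.t) (conj_eq_of_comm hd.z)))
    refine ⟨v, hv, (v * r)⁻¹ * (d * r * d⁻¹), h.tri.mem_E_of_comm
      (mul_mem (inv_mem (mul_mem (hb.E_le_R hv) hr)) hdr) (comm_of_conj_eq ?_).symm, by group⟩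
    calc _ = (v * r)⁻¹ * (d * (r * (d⁻¹ * g * d⁻¹⁻¹) * r⁻¹) * d⁻¹) * (v * r) := by group
      _ = (v * r)⁻¹ * ((d * s * d⁻¹) * (d * g * d⁻¹)⁻¹ * (d * s * d⁻¹)⁻¹) * (v * r) := by
        rw [conj_eq_of_comm (comm_inv hd.g), e]; group
      _ = r⁻¹ * (s * g⁻¹ * s⁻¹) * r := by rw [ev, vs, conj_eq_of_comm hd.g]; group
      _ = g := by rw [← e]; group
  obtain ⟨rz, rt⟩ := BP.CV_iff.1 (hb.pr.R_le_CV hr)
  obtain ⟨a, ha⟩ := exists_lf (S := S) rz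
  have rQ : r ∈ YY t S.z := ⟨ha.eq_one_iff.1 (S.U.fix_L (h.op.pt.mem_A' hr ha) fun l hl => by
    obtain ⟨d, hd, e⟩ := h.exists_d hl
    obtain ⟨v, hv, f, hf, e1⟩ := key d hd
    exact comm_of_conj_eq ((e1 ▸ e.conj ha).uniq ((ha.Q_mul hv.1).mul_Q hf.1))), mcs.2 rt⟩
  obtain ⟨k, hk⟩ := hb.sw
  obtain ⟨a', ha', e'⟩ := h.op.pt.ph_ex hk rQ
  have rE : r ∈ EE S.z t := ⟨rQ.1, (ph_one hk e').1 (S.U.fix_L ha' fun l hl => by
    obtain ⟨d, hd, e⟩ := h.exists_d hl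
    obtain ⟨v, hv, f, hf, e1⟩ := key d hd
    have := h.op.pt.ph_conj hk rQ e' e hd.t
    rw [e1, show k * (v * r * f) * k⁻¹ = k * v * k⁻¹ * (k * r * k⁻¹) * (k * f * k⁻¹) by group] at this
    exact comm_of_conj_eq (this.uniq ((e'.Q_mul (hb.R_conj_E hk.mem hv).1).mul_Q
      (hb.R_conj_E hk.mem hf).1)))⟩
  obtain ⟨v, hv, e0, -, hc, rfl⟩ := h.tri.decomp rE
  have e1 : s * g * s⁻¹ = v * g⁻¹ * v⁻¹ := by
    calc s * g * s⁻¹ = (s * g⁻¹ * s⁻¹)⁻¹ := by group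
      _ = v * (e0 * g * e0⁻¹)⁻¹ * v⁻¹ := by rw [← e]; group
      _ = _ := by rw [conj_eq_of_comm hc.symm]
  have vv := hb.pr.E_sq (hb.pr.V_le hv)
  have hu : s * v * s⁻¹ * v = 1 := by
    refine h.tri.eq_one_of_V (mul_mem (conj_mem_of_mem_normalizer (hb.pr.Q_le_normalizer_V hs) hv) hv)
      (comm_of_conj_eq ?_).symm
    calc _ = s * v * (s⁻¹ * (v * g⁻¹ * v⁻¹)⁻¹ * s) * v⁻¹ * s⁻¹ := by group
      _ = s * v * (s⁻¹ * (s * g * s⁻¹)⁻¹ * s) * v⁻¹ * s⁻¹ := by rw [e1]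
      _ = s * (v * g⁻¹ * v⁻¹) * s⁻¹ := by group
      _ = (s * s) * g * (s * s)⁻¹ := by rw [← e1]; group
      _ = g := by rw [h.op.ss]; group
  have fin : s * v * g * (s * v)⁻¹ = g⁻¹ := by
    have sv : s * v = v * s := comm_of_conj_eq (by rw [eq_inv_of_mul_eq_one_left hu, inv_eq_self vv])
    calc _ = v * (s * g * s⁻¹) * v⁻¹ := by rw [sv]; group
      _ = (v * v) * g⁻¹ * (v * v)⁻¹ := by rw [e1]; group
      _ = _ := by rw [vv]; group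
  rcases hb.mem_V.1 hv with rfl | rfl | rfl | rfl
  · exact ⟨s, h.op, h.tri, by simpa using fin⟩
  · exact ⟨_, h.op.mul_z, h.tri, fin⟩
  · rw [h.op.sts, ← hb.zx, mul_assoc, hb.hS.zz, mul_one] at hu
    exact absurd hu S.h.ne
  · rw [show s * (S.z * t) * s⁻¹ = (s * S.z * s⁻¹) * (s * t * s⁻¹) by group, sz, h.op.sts, ← hb.zx,
      ← mul_assoc S.z, S.h.zz, one_mul, hb.zx, ← mul_assoc, hb.hS.zz, one_mul] at hu
    exact absurd hu S.h.ne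

namespace Fr

variable {t s g d : G}

omit [Finite G] in
theorem pre (h : S.Fr t s g) : S.Pre t s g :=
  ⟨h.op, h.tri, fun _ he hc => h.tri.comm_of_inv h.op.ps.mem h.inv he hc⟩

theorem comm_s (h : S.Fr t s g) (hd : S.DD t g d) : d * s = s * d := by
  refine comm_of_conj_eq ((h.pre.conj_s hd).resolve_right fun e => S.h.ne ?_)
  refine h.tri.eq_one_of_V (BP.z_V _ _) (comm_of_conj_eq ?_).symm
  calc S.z * g * S.z⁻¹ = s⁻¹ * ((s * S.z) * g * (s * S.z)⁻¹) * s := by group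
    _ = s⁻¹ * (d * (s * (d⁻¹ * g * d⁻¹⁻¹) * s⁻¹) * d⁻¹) * s := by rw [← e]; group
    _ = s⁻¹ * (d * g * d⁻¹)⁻¹ * s := by rw [conj_eq_of_comm (comm_inv hd.g), h.inv]; group
    _ = g := by rw [conj_eq_of_comm hd.g, ← h.inv]; group

theorem eq_one_of_mem (h : S.Fr t s g) (hd : S.DD t g d) (m : d ∈ Qx s) : d = 1 := by
  obtain ⟨a, ha, e⟩ := h.op.ps.ex ⟨m, mcs.2 hd.z⟩
  have h1 := e.eq_one_iff.1 (mem_bot.1 (S.U.disjL ▸ ⟨ha, h.pre.mem_L hd e (S.U.Rm_le ha)⟩))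
  have h2 := h.tri.mem_E_of_comm (mem_sup_right ⟨h1, mcs.2 hd.t⟩) hd.g.symm
  rcases h.op.E_inf h2 m with e | e
  · exact e
  · exact absurd (h.tri.eq_one_of_V (BP.z_V _ _) (e ▸ hd.g.symm)) S.h.ne

omit [Finite G] in
theorem g_eq (h : S.Fr t s g) : s * (g * s * g⁻¹) = g := by
  calc s * (g * s * g⁻¹) = s * g * s⁻¹ * g⁻¹ := by rw [inv_eq_self h.op.ss]; group
    _ = (g * g * g)⁻¹ * g := by rw [h.inv]; group
    _ = g := by rw [h.tri.g3]; group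

section

variable {ρ z1 : G} (h : S.Fr t s g) (hρ : S.Lf ρ S.U.τ) (hz : s * (ρ * s * ρ⁻¹) = z1)
include h hρ hz

theorem lift1 {l : W} (hl : l ∈ S.U.L) (hc : l * S.U.τ = S.U.τ * l) :
    ∃ d, S.Lf d l ∧ S.DD t g d ∧ d * z1 = z1 * d := by
  subst hz
  obtain ⟨d, hd, e⟩ := h.pre.exists_d hl
  rcases e.of_St (h.op.b_mem hρ).1 (h.op.b_St hρ hl hc) with e1 | e1
  · exact ⟨d, e, hd, comm_of_conj_eq e1⟩
  · obtain ⟨f, hf, fg, e2⟩ := h.tri.exists_E0 (h.op.b_mem hρ) (h.op.b_not_mem hρ)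
    refine ⟨f⁻¹ * d, e.Q_mul (inv_mem (il hf)), ⟨comm_mul (comm_inv (S.h.cen f hf.1)) hd.z,
      comm_mul (comm_inv (h.tri.bp.hS.cen f hf.2)) hd.t, comm_mul (comm_inv fg.symm) hd.g⟩,
      comm_of_conj_eq ?_⟩
    calc _ = f⁻¹ * (d * (s * (ρ * s * ρ⁻¹)) * d⁻¹) * f := by group
      _ = _ := by rw [e1, ← e2]; group

theorem z1_Y : z1 ∈ YY t S.z := hz ▸ h.op.b_mem hρ
theorem z1_not : z1 ∉ Qx t := hz ▸ h.op.b_not_mem hρ
theorem z1_pt : S.Pt z1 (cj S.U.Rm S.U.n1) := hz ▸ h.op.b_pt hρ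
theorem z1_s : z1 ∈ Qx s := hz ▸ h.op.b_mem_s hρ
theorem s_z1 : s ∈ Qx z1 := h.op.ps.d.symm (h.z1_pt hρ hz).d (h.z1_s hρ hz)

theorem t1_Y : g * z1 * g⁻¹ ∈ YY S.z t := by
  have m := conj_mem_Qx' (h.z1_Y hρ hz).1 rfl h.tri.gz
  refine ⟨m, mcs.2 ?_⟩
  have := comm_conj g (h.tri.bp.R_comm_V (mem_sup_right (h.z1_Y hρ hz))
    (mul_mem (BP.z_V _ _) (BP.x_V _ _)))
  rwa [h.tri.gzx] at this

theorem t1_lf : S.Lf (g * z1 * g⁻¹) S.U.τ := by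
  obtain ⟨a, ha, e⟩ := h.op.pt.ex (h.t1_Y hρ hz)
  rcases S.U.fixp a ha (fun l hl hc => by
    obtain ⟨d, e1, hd, dz⟩ := h.lift1 hρ hz hl hc
    have := e1.conj e
    rw [conj_eq_of_comm (comm_mul (comm_mul hd.g.symm dz.symm) (comm_inv hd.g.symm)).symm] at this
    exact comm_of_conj_eq (this.uniq e)) with rfl | rfl
  · exfalso
    have := h.tri.bp.R_conj_E (inv_mem h.tri.mem) ⟨lf_one.1 e, (h.t1_Y hρ hz).1⟩
    rw [conj_conj_inv rfl] at this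
    exact h.z1_not hρ hz this.2
  · exact e

theorem mem_V1 {e : G} (he : e ∈ EE S.z t)
    (hc : ∀ d, S.DD t g d → d * z1 = z1 * d → d * e = e * d) : e ∈ VV S.z t :=
  h.op.pt.mem_V_of_fix he (fun l hl => by
    obtain ⟨d, e1, hd, dz⟩ := h.lift1 hρ hz hl.1 (mcs.1 hl.2)
    exact ⟨d, e1, hd.t, by rw [hc d hd dz]; simp⟩) S.U.comm_τ

theorem g_t1' : g * (g * z1 * g⁻¹) * g⁻¹ = g * z1 * g⁻¹ * z1 := by
  have hb := h.tri.bp
  have h1 : z1 ∈ RR S.z t := mem_sup_right (h.z1_Y hρ hz)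
  have h2 : g * z1 * g⁻¹ ∈ RR S.z t := mem_sup_left (h.t1_Y hρ hz)
  have h3 := conj_mem_of_mem_normalizer (hb.pr.X_le_normalizer_R h.tri.mem) h2
  have hm := mul_mem (mul_mem h1 h2) h3
  set m := z1 * (g * z1 * g⁻¹) * (g * (g * z1 * g⁻¹) * g⁻¹) with hmd
  have e1 : g * m * g⁻¹ = z1⁻¹ * m * z1⁻¹⁻¹ := by
    calc g * m * g⁻¹ = (g * z1 * g⁻¹) * (g * (g * z1 * g⁻¹) * g⁻¹) *
          ((g * g * g) * z1 * (g * g * g)⁻¹) := by rw [hmd]; group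
      _ = _ := by rw [h.tri.g3, hmd]; group
  have mE := h.tri.fpf hm (by rw [e1]; exact hb.pr.R_commutator (inv_mem h1) hm)
  have mV := h.mem_V1 hρ hz mE fun d hd dz => by
    have c1 := comm_mul (comm_mul hd.g.symm dz.symm) (comm_inv hd.g.symm)
    exact (comm_mul (comm_mul dz.symm c1) (comm_mul (comm_mul hd.g.symm c1)
      (comm_inv hd.g.symm))).symm
  have m1 := h.tri.eq_one_of_V mV (comm_of_conj_eq (by
    rw [e1, conj_eq_of_comm (hb.R_comm_V (inv_mem h1) mV)]))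
  rw [hmd] at m1
  rw [eq_inv_of_mul_eq_one_right m1, mul_inv_rev, inv_eq_self (h.z1_pt hρ hz).d.sq,
    inv_eq_self ((h.z1_pt hρ hz).d.conj g).sq]

theorem t1_z1 : g * z1 * g⁻¹ * z1 = z1 * (g * z1 * g⁻¹) := by
  have := (((h.z1_pt hρ hz).d.conj g).conj g).sq
  rw [h.g_t1' hρ hz] at this
  rw [← inv_eq_self this, mul_inv_rev, inv_eq_self (h.z1_pt hρ hz).d.sq,
    inv_eq_self ((h.z1_pt hρ hz).d.conj g).sq]

theorem g_t1 : g * (g * z1 * g⁻¹) * g⁻¹ = z1 * (g * z1 * g⁻¹) := by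
  rw [h.g_t1' hρ hz, h.t1_z1 hρ hz]

theorem s_t1 : s * (g * z1 * g⁻¹) * s⁻¹ = z1 * (g * z1 * g⁻¹) := by
  rw [← h.g_t1 hρ hz]
  calc _ = (s * g * s⁻¹) * (s * z1 * s⁻¹) * (s * g * s⁻¹)⁻¹ := by group
    _ = (g * g * g) * g⁻¹ * z1 * g * (g * g * g)⁻¹ := by
      rw [h.inv, conj_eq_of_comm ((h.z1_pt hρ hz).d.lx.cen s (h.s_z1 hρ hz)), h.tri.g3]; group
    _ = _ := by group

theorem t1_mem : g * z1 * g⁻¹ ∈ Qx z1 := by
  have hp := h.z1_pt hρ hz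
  obtain ⟨k, hk⟩ := hp.bp.sw
  have fix : ∀ a ∈ cj S.U.Rm S.U.n1, (∀ l ∈ S.U.L, l * S.U.τ = S.U.τ * l → l * a = a * l) →
      a = 1 ∨ a = S.U.τ := fun a ha => S.U.fixb a (by rw [cj_mul]; exact ha)
  have ht : t ∈ YY z1 S.z := ⟨h.op.pt.mem, mcs.2 (mcs.1 (h.z1_Y hρ hz).2).symm⟩
  obtain ⟨a, ha, e⟩ := hp.ph_ex hk ht
  rcases fix a ha (fun l hl hc => hp.ph_comm hk ht e (hz ▸ h.op.b_St hρ hl hc) (h.op.Lt hl))
    with rfl | rfl
  · exact absurd (hp.d.symm h.op.pt.d ((ph_one hk e).1 rfl)) (h.z1_not hρ hz)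
  obtain ⟨y, hy, e1⟩ := hp.lift ha
  have hq : y⁻¹ * (g * z1 * g⁻¹) ∈ YY z1 S.z := ⟨e1.inv_mul_mem (h.t1_lf hρ hz),
    mcs.2 (comm_mul (comm_inv (hp.bp.hS.cen y hy.1)) (h.t1_z1 hρ hz))⟩
  obtain ⟨a', ha', e'⟩ := hp.ph_ex hk hq
  rcases fix a' ha' (fun l hl hc => by
    obtain ⟨d, e2, hd, dz⟩ := h.lift1 hρ hz hl hc
    have h1 := hp.ph_conj hk hq e' e2 dz
    have h2 : (d * y * d⁻¹)⁻¹ * y ∈ EE S.z z1 := by
      refine mem_inf.2 ⟨Lf.inv_mul_mem ?_ e1, mul_mem (inv_mem (hp.bp.hS.conj_mem dz hy.1)) (il hy)⟩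
      have := e2.conj e1
      rwa [conj_eq_of_comm hc] at this
    have h3 : k * (d * (y⁻¹ * (g * z1 * g⁻¹)) * d⁻¹) * k⁻¹ =
        k * ((d * y * d⁻¹)⁻¹ * y) * k⁻¹ * (k * (y⁻¹ * (g * z1 * g⁻¹)) * k⁻¹) := by
      calc _ = k * ((d * y * d⁻¹)⁻¹ * (d * (g * z1 * g⁻¹) * d⁻¹)) * k⁻¹ := by group
        _ = _ := by
          rw [conj_eq_of_comm (comm_mul (comm_mul hd.g.symm dz.symm) (comm_inv hd.g.symm)).symm]
          group
    rw [h3] at h1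
    exact comm_of_conj_eq (h1.uniq (e'.Q_mul (hp.bp.R_conj_E hk.mem h2).1))) with rfl | rfl
  · simpa using mul_mem (il hy) ((ph_one hk e').1 rfl)
  · exfalso
    have h1 := e'.mul e
    rw [S.U.ττ, show k * (y⁻¹ * (g * z1 * g⁻¹)) * k⁻¹ * (k * t * k⁻¹) =
      k * (y⁻¹ * (g * z1 * g⁻¹) * t) * k⁻¹ by group] at h1
    have h2 := mul_mem (il hy) ((ph_one hk h1).1 rfl)
    rw [mul_assoc y⁻¹, mul_inv_cancel_left] at h2
    have h3 := hp.bp.hS.commutator_mem (h.s_z1 hρ hz) h2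
    rw [show s * (g * z1 * g⁻¹ * t) * s⁻¹ = (s * (g * z1 * g⁻¹) * s⁻¹) * (s * t * s⁻¹) by group,
      h.s_t1 hρ hz, h.op.sts, ← mul_assoc, mul_assoc z1, mul_assoc z1,
      comm_mul (mcs.1 (h.t1_Y hρ hz).2) h.tri.bp.zx.symm, mul_assoc z1, mul_inv_cancel_right,
      hp.bp.hS.mem_Z] at h3
    rcases h3 with e3 | e3
    · exact hp.bp.pr.four.zx1 (hp.bp.zx.trans e3)
    · exact S.h.ne (by simpa using e3)

theorem tri1 : Tri z1 (g * z1 * g⁻¹) g := by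
  have hp := h.z1_pt hρ hz
  refine ⟨hp.d.bp (hp.d.conj g) (h.t1_mem hρ hz) fun e => S.U.τ_ne
    ((h.t1_lf hρ hz).eq_one_iff.2 (e.symm ▸ hp.mem)), ?_, h.tri.g3, rfl, h.g_t1 hρ hz⟩
  have := mul_mem (mem_sup_left (h.s_z1 hρ hz) : s ∈ Qx z1 ⊔ Qx (g * z1 * g⁻¹))
    (mem_sup_right (conj_mem_Qx g (h.s_z1 hρ hz)))
  rwa [h.g_eq] at this

theorem exists_e : ∃ e ∈ Qx z1, s * e = e * s ∧ g * e = e * g ∧ e * S.z * e⁻¹ = S.z * z1 := by
  have hp := h.z1_pt hρ hz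
  obtain ⟨e, he, h1, h2⟩ := (h.tri1 hρ hz).exists_E0 (q := S.z)
    ⟨hp.bp.pr.zS, mcs.2 (mcs.1 (h.t1_Y hρ hz).2).symm⟩
    (fun m => S.U.τ_ne ((h.t1_lf hρ hz).eq_one_iff.2 ((hp.d.conj g).symm S.Dz m)))
  exact ⟨e, he.1, (h.tri1 hρ hz).comm_of_inv (h.s_z1 hρ hz) h.inv he h1, h1, h2⟩

end

end Fr

end Ctx

end Cfsg.Agent.H47.E6
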