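import Cfsg.Agent.H78.G40B

/-! Project L40G, piece F1A: the group `Q₈ * Q₈` in `L₄(3)`. -/

set_option autoImplicit false

noncomputable section

namespace Cfsg.Agent.H47.G40F1a

open Subgroup Cfsg.Agent.H78.G40 Cfsg.Agent.H46.L40

/-- the quaternion group -/
abbrev Q8 := QuaternionGroup 2

/-- words in two generators -/
def qw {G : Type} [Group G] (W Q : G) : Q8 → G
  | .a i => W ^ i.val
  | .xa i => Q * W ^ i.val

def s4 : SL4 := ⟨!![1, 0, 0, 0; 0, 1, 0, 0; 0, 0, 0, 1; 0, 0, 2, 0], by decide +kernel⟩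
def q4 : SL4 := ⟨!![1, 0, 0, 0; 0, 1, 0, 0; 0, 0, 1, 1; 0, 0, 1, 2], by decide +kernel⟩

def fa : Q8 →* SL4 := MonoidHom.mk' (qw (E1 w0) (E1 q0)) (by decide +kernel)
def fb : Q8 →* SL4 := MonoidHom.mk' (qw s4 q4) (by decide +kernel)

theorem comm_ab : ∀ x y, Commute (fa x) (fb y) := by
  unfold Commute SemiconjBy
  decide +kernel

def ff : Q8 × Q8 →* SL4 := fa.noncommCoprod fb comm_ab

/-- the central product -/
def Φ : Q8 × Q8 →* X1 := mk1.comp ff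

theorem eqns : True := by
  have := @qw.eq_1
  have := @qw.eq_2
  have := @qw.eq_def
  have := @s4.eq_1
  have := @q4.eq_1
  have := @fa.eq_1
  have := @fb.eq_1
  have := @ff.eq_1
  have := @Φ.eq_1
  trivial

theorem ff_one : ∀ x : Q8 × Q8, (ff x).1 = (1 : SL4).1 → x = 1 := by decide +kernel

theorem ff_neg : ∀ x : Q8 × Q8, (ff x).1 = -(1 : SL4).1 ↔ x = (.a 2, .a 2) := by decide +kernel

theorem Φ_one (x : Q8 × Q8) : Φ x = 1 ↔ x = 1 ∨ x = (.a 2, .a 2) := by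
  rw [← map_one mk1]
  refine (mk1_eq (ff x) 1).trans (or_congr ⟨ff_one x, ?_⟩ (ff_neg x))
  rintro rfl
  rw [map_one]

theorem Φ_eq (x y : Q8 × Q8) : Φ x = Φ y ↔ y⁻¹ * x = 1 ∨ y⁻¹ * x = (.a 2, .a 2) := by
  rw [← Φ_one, map_mul, map_inv, inv_mul_eq_one, eq_comm]

theorem ff_z : ff (.a 2, 1) = E1 z0 := by decide +kernel

theorem Φ_z : Φ (.a 2, 1) = e1 z0 := congrArg mk1 ff_z

theorem gens : ff (.a 1, 1) = E1 w0 ∧ ff (.xa 0, 1) = E1 q0 ∧ ff (1, .a 1) = s4 ∧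
    ff (1, .xa 0) = q4 := by decide +kernel

theorem Φ_w : Φ (.a 1, 1) = e1 w0 := congrArg mk1 gens.1
theorem Φ_q : Φ (.xa 0, 1) = e1 q0 := congrArg mk1 gens.2.1
theorem Φ_s : Φ (1, .a 1) = σ1 := congrArg mk1 gens.2.2.1
theorem Φ_r : Φ (1, .xa 0) = dd1.q2 := congrArg mk1 gens.2.2.2

theorem range_q8 {G : Type} [Group G] (f : Q8 →* G) :
    f.range = Subgroup.closure {f (.a 1), f (.xa 0)} := by
  refine le_antisymm ?_ ((closure_le _).2 (by rintro _ (rfl | rfl) <;> exact ⟨_, rfl⟩))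
  have h1 : f (.a 1) ∈ Subgroup.closure {f (.a 1), f (.xa 0)} := subset_closure (Or.inl rfl)
  have h2 : f (.xa 0) ∈ Subgroup.closure {f (.a 1), f (.xa 0)} := subset_closure (Or.inr rfl)
  have k : ∀ x : Q8, ∃ n ∈ List.range 4, x = .a 1 ^ n ∨ x = .xa 0 * .a 1 ^ n := by decide
  rintro _ ⟨x, rfl⟩
  obtain ⟨n, -, rfl | rfl⟩ := k x
  · rw [map_pow]
    exact pow_mem h1 n
  · rw [map_mul, map_pow]
    exact mul_mem h2 (pow_mem h1 n)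

theorem Qa_eq : Qa e1 = (Φ.comp (MonoidHom.inl Q8 Q8)).range := by
  rw [range_q8, Qa, ← Φ_w, ← Φ_q]
  rfl

theorem Qb_eq : Qb σ1 dd1 = (Φ.comp (MonoidHom.inr Q8 Q8)).range := by
  rw [range_q8, Qb, ← Φ_s, ← Φ_r]
  rfl

theorem Qq_eq : Qq e1 σ1 dd1 = Φ.range := by
  refine le_antisymm ((closure_le _).2 ?_) ?_
  · rintro _ (rfl | rfl | rfl | rfl)
    exacts [⟨_, Φ_w⟩, ⟨_, Φ_q⟩, ⟨_, Φ_s⟩, ⟨_, Φ_r⟩]
  · rintro _ ⟨⟨x, y⟩, rfl⟩
    have ha : Qa e1 ≤ Qq e1 σ1 dd1 := closure_mono (by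
      rintro _ (rfl | rfl) <;> simp)
    have hb : Qb σ1 dd1 ≤ Qq e1 σ1 dd1 := closure_mono (by
      rintro _ (rfl | rfl) <;> simp)
    rw [← Prod.fst_mul_snd (x, y), map_mul]
    exact mul_mem (ha (Qa_eq ▸ ⟨x, rfl⟩)) (hb (Qb_eq ▸ ⟨y, rfl⟩))

theorem card_q8 : Nat.card Q8 = 8 := by
  rw [Nat.card_eq_fintype_card]
  rfl

theorem card_range_q8 (f : Q8 →* X1) (h : ∀ x, f x = 1 → x = 1) : Nat.card f.range = 8 := by
  rw [← card_q8]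
  exact (Nat.card_congr (MonoidHom.ofInjective ((injective_iff_map_eq_one f).2 h)).toEquiv).symm

theorem mz (x : Q8 × Q8) : Mz (e1 z0) (Φ x) ↔
    (x = 1 ∨ x = (.a 2, .a 2)) ∨ ((.a 2, 1)⁻¹ * x = 1 ∨ (.a 2, 1)⁻¹ * x = (.a 2, .a 2)) := by
  rw [Mz, ← Φ_z, Φ_one, Φ_eq]

theorem f1a : F1aS := by
  refine ⟨?_, ?_, ?_, ?_, ?_, ?_, ?_, ?_, ?_, ?_, ?_, ?_⟩
  · rw [Qa_eq]
    refine card_range_q8 _ fun x hx => ?_
    have := (Φ_one (x, 1)).1 hx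
    clear hx
    revert x
    decide
  · rw [Qb_eq]
    refine card_range_q8 _ fun x hx => ?_
    have := (Φ_one (1, x)).1 hx
    clear hx
    revert x
    decide
  · have h2 : Nat.card Φ.ker = 2 := by
      rw [Nat.card_eq_two_iff' (1 : Φ.ker)]
      refine ⟨⟨(.a 2, .a 2), (Φ_one _).2 (Or.inr rfl)⟩, fun e => ?_, fun y hy => ?_⟩
      · exact absurd (congrArg Subtype.val e) (by decide)
      · exact Subtype.ext (((Φ_one y.1).1 y.2).resolve_left fun e => hy (Subtype.ext e))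
    have h3 := Φ.ker.card_mul_index
    rw [h2, index_ker, Nat.card_prod, card_q8] at h3
    rw [Qq_eq]
    omega
  · rw [Qa_eq]
    exact ⟨.a 2, Φ_z⟩
  · rw [Qb_eq, ← Φ_z]
    exact ⟨.a 2, (Φ_eq (1, .a 2) _).2 (by decide)⟩
  · rw [Qa_eq, Qb_eq]
    rintro _ ⟨y, rfl⟩ _ ⟨x, rfl⟩
    change Φ (x, 1) * Φ (1, y) = Φ (1, y) * Φ (x, 1)
    rw [← map_mul, ← map_mul]
    simp
  · rw [Qq_eq]
    rintro _ ⟨y, rfl⟩
    rw [← map_mul, mz]
    revert y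
    decide +kernel
  · rw [Qq_eq]
    rintro _ ⟨x, rfl⟩ _ ⟨y, rfl⟩
    rw [← map_inv, ← map_inv, ← map_mul, ← map_mul, ← map_mul, mz]
    revert x y
    decide +kernel
  · rw [Qq_eq, Qa_eq, Qb_eq]
    rintro _ ⟨y, rfl⟩ h
    rw [← map_mul, ← Φ_z, Φ_eq] at h
    have k : (∃ x : Q8, y⁻¹ * (x, 1) = 1 ∨ y⁻¹ * (x, 1) = (.a 2, .a 2)) ∨
        ∃ x : Q8, y⁻¹ * (1, x) = 1 ∨ y⁻¹ * (1, x) = (.a 2, .a 2) := by
      revert y
      decide +kernel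
    exact k.imp (fun ⟨x, hx⟩ => ⟨x, (Φ_eq _ _).2 hx⟩) fun ⟨x, hx⟩ => ⟨x, (Φ_eq _ _).2 hx⟩
  · rw [Qa_eq]
    rintro _ ⟨y, rfl⟩
    change Mz _ (Φ (y, 1)) ∨ Φ (y, 1) * Φ (y, 1) = _
    rw [← map_mul, mz, ← Φ_z, Φ_eq]
    revert y
    decide +kernel
  · rw [Qb_eq]
    rintro _ ⟨y, rfl⟩
    change Mz _ (Φ (1, y)) ∨ Φ (1, y) * Φ (1, y) = _
    rw [← map_mul, mz, ← Φ_z, Φ_eq]
    revert y
    decide +kernel
  · rw [Qq_eq]
    rintro _ ⟨y, rfl⟩ h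
    obtain ⟨c, hc⟩ := isConj_iff.1 h
    obtain ⟨c, rfl⟩ := QuotientGroup.mk'_surjective _ c
    have h1 : Φ y ≠ 1 := fun e => by
      rw [e, isConj_one_left, ← Φ_z, Φ_one] at h
      revert h
      decide
    have h2 : (c * E1 z0 * c⁻¹) * (c * E1 z0 * c⁻¹) = 1 := by
      have zz : E1 z0 * E1 z0 = 1 := by decide +kernel
      rw [show (c * E1 z0 * c⁻¹) * (c * E1 z0 * c⁻¹) = c * (E1 z0 * E1 z0) * c⁻¹ by group, zz]
      group
    have h3 : (ff (y * y)).1 = (1 : SL4).1 := by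
      have e : mk1 (ff y) = mk1 (c * E1 z0 * c⁻¹) := by
        rw [map_mul, map_mul, map_inv]
        exact hc.symm
      rw [map_mul, ← h2]
      change (ff y).1 * (ff y).1 = (c * E1 z0 * c⁻¹).1 * (c * E1 z0 * c⁻¹).1
      rcases (mk1_eq _ _).1 e with e | e
      · rw [e]
      · rw [e, neg_mul_neg]
    have h4 := ff_one _ h3
    rw [Ne, Φ_one] at h1
    rw [← Φ_z, Φ_eq]
    clear h hc h3
    revert y
    decide +kernel

end Cfsg.Agent.H47.G40F1a
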