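import Cfsg.Agent.H56.HLK

/-! Project HL: the counts of the parabolic case (piece P3a). -/

set_option autoImplicit false

namespace Cfsg.Agent.H47.HlP3a

open MulAction Subgroup Cfsg.Agent.H83 Cfsg.Agent.H56.TT Cfsg.Agent.H56.HL

universe u v

theorem fib {A B : Type*} [Finite A] [Finite B] {s : Set A} {t : Set B} (f : A → B) (n : ℕ)
    (h1 : ∀ a ∈ s, f a ∈ t) (h2 : ∀ b ∈ t, {a | a ∈ s ∧ f a = b}.ncard = n) :
    s.ncard = t.ncard * n := by
  classical
  have := Fintype.ofFinite A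
  have := Fintype.ofFinite B
  rw [Set.ncard_eq_toFinset_card', Set.ncard_eq_toFinset_card' t,
    Finset.card_eq_sum_card_fiberwise (f := f) (t := t.toFinset) (fun a ha => by
      simpa using h1 a (by simpa using ha)), Finset.sum_const_nat]
  intro b hb
  rw [← h2 b (by simpa using hb), Set.ncard_eq_toFinset_card']
  congr 1
  ext a
  simp

theorem p3a : P3aStmt.{u, v} := by
  intro G Ω _ _ _ _ _ NN q EE h p2a p2b
  have hs := h.st
  have hl := h.ln
  obtain ⟨a, b, hab⟩ := hs.nt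
  have line : ∀ {x y}, x ≠ y → (Fx Ω (EE x y)).ncard = (Fx Ω (EE a b)).ncard :=
    fun hxy => hl.ncard_Fx hs hab hxy
  generalize (Fx Ω (EE a b)).ncard = k at line
  have cnt : ∀ (x : Ω) (S : Set Ω) (T : Set (Subgroup G)), x ∈ S →
      (∀ y, x ≠ y → (y ∈ S ↔ EE x y ∈ T)) → (∀ X ∈ T, ∃ p, x ≠ p ∧ EE x p = X) →
      S.ncard = 1 + T.ncard * (k - 1) := fun x S T h1 h2 h3 => by
    rw [← fib (s := S \ {x}) (EE x) (k - 1) (fun y hy => (h2 y (Ne.symm hy.2)).1 hy.1),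
      add_comm, Set.ncard_sdiff_singleton_add_one h1]
    intro X hX
    obtain ⟨p, hp, rfl⟩ := h3 X hX
    rw [← line hp, ← Set.ncard_sdiff_singleton_of_mem (hl.left hs hp)]
    congr 1
    ext y
    exact ⟨fun ⟨⟨_, c⟩, e⟩ => ⟨e ▸ hl.right hs (Ne.symm c), c⟩, fun ⟨c, e⟩ =>
      have := hl.fixl hp (Ne.symm e) c; ⟨⟨(h2 y (Ne.symm e)).2 (this ▸ hX), e⟩, this⟩⟩
  have two : 2 ≤ k := line hab ▸ (Set.one_lt_ncard (Set.toFinite _)).2
    ⟨a, hl.left hs hab, b, hl.right hs hab, hab⟩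
  have plane : ∀ {x F}, Pln NN q EE x F → (Fx Ω F).ncard = 1 + (q + 1) * (k - 1) := by
    intro x F hF
    obtain ⟨y, hy, hA⟩ := id hF
    rw [cnt x _ {X | Adj (NN x) q X F} (hF.mem hs) (fun z hz => p2a.fixF hF z hz)
      (fun X hX => hl.surj hs hy ((hs.kit x).ka.sameAdj hA hX)), ((hs.kit x).l3.fa hA).nb]
  obtain ⟨F, hF⟩ := (hs.kit a).ka.nbr (hl.vx hab)
  have all : Nat.card Ω = 1 + (q ^ 2 + q + 1) * (k - 1) := by
    rw [← Set.ncard_univ, cnt a Set.univ {X | Same (NN a) (EE a b) X} trivial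
      (fun z hz => iff_of_true trivial (hl.same hab hz)) (fun X hX => hl.surj hs hab hX),
      ((hs.kit a).l3.fa hF).cl]
  refine ⟨k, line, two, ?_, ?_, plane, all⟩
  · have e := hs.even
    rw [all, add_comm, Nat.even_add_one, Nat.even_mul, not_or, Nat.even_sub (by omega)] at e
    simpa using e.2
  · have hP : Pln NN q EE a F := ⟨b, hab, hF⟩
    obtain ⟨W, hW, hne, -⟩ := (hs.kit a).ka.third hF hF
    obtain ⟨p, hp, rfl⟩ := hl.surj hs hab ((hs.kit a).ka.sameAdj hF hW)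
    have hp' : p ∉ Fx Ω (EE a b) := fun c => hne (hl.fixl hab hp c)
    have hQ := p2b.pl hP ((p2a.fixF hP p hp).2 hW)
    have ne : ∀ z ∈ Fx Ω (EE a b), p ≠ z := fun z hz e => hp' (e ▸ hz)
    obtain ⟨y, -, hA⟩ := id hQ
    rw [← line hab, ← ((hs.kit p).l3.fa hA).nb]
    refine Set.ncard_le_ncard_of_injOn (EE p) (fun z hz => (p2a.fixF hQ z (ne z hz)).1 ?_)
      fun z hz z' hz' e => ?_
    · by_cases c : a = z
      · exact c ▸ hP.mem hs
      · exact (p2a.fixF hP z c).2 ((hl.fixl hab c hz).symm ▸ hF)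
    · by_contra c
      refine hp' ?_
      rw [← hl.line hab c hz hz', hl.line (ne z hz) c (hl.right hs (ne z hz))
        (e ▸ hl.right hs (ne z' hz'))]
      exact hl.left hs (ne z hz)

end Cfsg.Agent.H47.HlP3a
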