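import Cfsg.Agent.H42.HtDefs
import Cfsg.Agent.H89.Cj

/-! Project HT, piece GX. -/

set_option autoImplicit false

namespace Cfsg.Agent.H47.HtGX

open Cfsg Cfsg.Agent.H63 Cfsg.Agent.H63.SL Cfsg.Agent.H63.AN Cfsg.Agent.H42.HT Subgroup
open Cfsg.Agent.H7.AA (ev d2 Acts KA NA ev_mul ev_conj ev_inj ev_one ev_inv ev_cj ev_coe ev_eq_one
  acts_of_KA acts_one KA_ev)
open Cfsg.Agent.H78 (c3 altOn symOn)
open Equiv (swap Perm)
open Equiv.Perm (sign)

universe u

variable {G : Type u} [Group G]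

theorem nY {Y : Subgroup G} {n y : G} (hn : n ∈ normalizer (Y : Set G)) (hy : y ∈ Y) :
    n * y * n⁻¹ ∈ Y := (mem_normalizer_iff.1 hn y).1 hy

theorem nC {Y : Subgroup G} {n c : G} (hn : n ∈ normalizer (Y : Set G))
    (hc : c ∈ centralizer (Y : Set G)) : n * c * n⁻¹ ∈ centralizer (Y : Set G) :=
  mem_centralizer_iff.2 fun y hy => by
    have := mem_centralizer_iff.1 hc _ (nY (inv_mem hn) hy)
    calc y * (n * c * n⁻¹) = n * (n⁻¹ * y * n⁻¹⁻¹ * c) * n⁻¹ := by group
      _ = _ := by rw [this]; group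

theorem odd_of {Y : Subgroup G} (hY : Odd (Nat.card Y)) {y : G} (hy : y ∈ Y) :
    Odd (orderOf y) := hY.of_dvd_nat (Y.orderOf_dvd_natCard hy)

theorem odd_act {χ : Al →* G} (hi : Function.Injective χ) {o : G} {p : P} (a : Acts χ o p)
    (h : Odd (orderOf o)) : Odd (orderOf p) := by
  refine h.of_dvd_nat (orderOf_dvd_of_pow_eq_one ?_)
  have := a.pow (orderOf o)
  rw [pow_orderOf_eq_one] at this
  exact this.uniq (by decide) hi acts_one

/-- a subgroup normalised by the image of `altOn s` contains all of it or nothing -/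
theorem all_or (F : FF) (χ : Al →* G) {s : Finset (Fin 10)} (hs : 5 ≤ s.card) {S : Subgroup G}
    (hS : ∀ σ ∈ altOn s, ∀ y ∈ S, ev χ σ * y * (ev χ σ)⁻¹ ∈ S) :
    (∀ σ ∈ altOn s, ev χ σ ∈ S → σ = 1) ∨ ∀ σ ∈ altOn s, ev χ σ ∈ S := by
  have := F.simp s hs
  let β : altOn s →* G := χ.comp (inclusion (H78.altOn_le_alternating _))
  have e : ∀ σ : altOn s, β σ = ev χ σ := fun σ =>
    (ev_coe (ψ := χ) (inclusion (H78.altOn_le_alternating _) σ)).symm
  have n : (S.comap β).Normal := ⟨fun x hx y => by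
    rw [mem_comap, map_mul, map_mul, map_inv, e y]
    exact hS _ y.2 _ hx⟩
  rcases n.eq_bot_or_eq_top with k | k
  · refine Or.inl fun σ hσ h => ?_
    have : (⟨σ, hσ⟩ : altOn s) ∈ S.comap β := by rw [mem_comap, e]; exact h
    rw [k, mem_bot] at this
    exact congrArg Subtype.val this
  · refine Or.inr fun σ hσ => ?_
    have : (⟨σ, hσ⟩ : altOn s) ∈ S.comap β := k ▸ mem_top _
    rwa [mem_comap, e] at this

theorem cen_of (F : FF) {χ : Al →* G} (hi : Function.Injective χ) {s : Finset (Fin 10)}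
    (hs : 5 ≤ s.card) (hw : w2 ∈ altOn s) {Y : Subgroup G} (hY : Odd (Nat.card Y))
    (hN : ∀ σ ∈ altOn s, ev χ σ ∈ normalizer (Y : Set G)) {o : G} (ho : o ∈ Y) {p : P}
    (a : Acts χ o p) (hp : ∀ σ ∈ altOn s, p * σ * p⁻¹ ∈ altOn s) :
    ∀ σ ∈ altOn s, Commute p σ := by
  rcases all_or F χ hs (S := Y) (fun σ hσ y hy => nY (hN σ hσ) hy) with k | k
  · intro σ hσ
    have m := mul_mem (hp σ hσ) (inv_mem hσ)
    have := k _ m (by
      rw [ev_mul (hp σ hσ).2 (inv_mem hσ).2, ← a σ hσ.2, ev_inv hσ.2,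
        show o * ev χ σ * o⁻¹ * (ev χ σ)⁻¹ = o * (ev χ σ * o⁻¹ * (ev χ σ)⁻¹) by group]
      exact mul_mem ho (nY (hN σ hσ) (inv_mem ho)))
    exact mul_inv_eq_iff_eq_mul.1 (mul_inv_eq_one.1 this)
  · exfalso
    have o2 := odd_of hY (k _ hw)
    have e2 : ev χ w2 ^ 2 = 1 := by
      rw [pow_two, ← ev_mul hw.2 hw.2, show w2 * w2 = 1 by decide, ev_one]
    have := orderOf_dvd_of_pow_eq_one e2
    rcases (Nat.dvd_prime Nat.prime_two).1 this with e | e
    · exact absurd (ev_eq_one hi hw.2 (orderOf_eq_one_iff.1 e)) (by decide)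
    · rw [e] at o2; exact absurd o2 (by decide)

theorem B6_A8 : B6 ≤ A8 := H78.altOn_mono (by decide)

theorem B6_01 : B6 ≤ off 0 1 := H78.altOn_mono (by decide)

theorem gx : GxStmt.{u} := by
  intro F G _ _ ψ t f fa g τ h sx hτ co nw md
  have fα := fa h
  rw [co.ht] at fα
  have sw : sign w = 1 := by decide
  have sv : sign v = 1 := by decide
  have eB : ∀ σ ∈ B6, ev (cf h ψ) σ = ev ψ σ := fun σ hσ => by
    rw [ev_cj, (co.hB σ (B6_01 hσ)).eq, mul_inv_cancel_right]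
  have tW : t * ev ψ w = ev ψ w * t := KA_ev f.tK w
  have tV : t * ev ψ v = ev ψ v * t := KA_ev f.tK v
  have WV : ev ψ w * ev ψ v = ev ψ v * ev ψ w := H7.AA.ev_comm sw sv (by decide)
  have V2 : ev ψ v * ev ψ v = 1 := nw.s2
  have V1 : ev ψ v ≠ 1 := fun e => absurd (ev_eq_one f.inj sv e) (by decide)
  have vw : ev ψ (v * w) = ev ψ v * ev ψ w := ev_mul sv sw
  have tVn : t ≠ ev ψ v := (f.tn v).symm
  have gB := sx.gB
  have gt := sx.gt
  have gw := sx.gw
  have g2t : Commute (g * g) t := by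
    have : g * g * t * (g * g)⁻¹ = t := by
      calc g * g * t * (g * g)⁻¹ = g * (g * t * g⁻¹) * g⁻¹ := by group
        _ = g * (t * ev ψ w) * g⁻¹ := by rw [gt]
        _ = (g * t * g⁻¹) * (g * ev ψ w * g⁻¹) := by group
        _ = t := by rw [gt, gw.eq, mul_inv_cancel_right, mul_assoc, md.w2, mul_one]
    exact mul_inv_eq_iff_eq_mul.1 this
  obtain ⟨p, ap⟩ := f.act _ g2t
  have pw : Commute p w := ap.comm_perm f.inj sw (gw.mul_left gw).eq
  have g2v : g * g * ev ψ v * (g * g)⁻¹ = ev ψ v ∨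
      g * g * ev ψ v * (g * g)⁻¹ = ev ψ v * ev ψ w := by
    rw [ap v sv]
    rcases (F.cw p pw).1 with e | e
    · exact Or.inl (by rw [e])
    · exact Or.inr (by rw [e, vw])
  have c1 : ∀ o, Commute o t → o ∈ centralizer ({ev ψ w} : Set G) → ∃ q, Acts ψ o q ∧ Commute q w :=
    fun o ht hw => by
      obtain ⟨q, aq⟩ := f.act o ht
      exact ⟨q, aq, aq.comm_perm f.inj sw (mem_centralizer_singleton_iff.1 hw)⟩
  have W2 := md.w2
  have τW := md.τw
  have τ2 := md.τ2
  have τt := co.d1.cm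
  have Vτ : ev ψ v * τ = τ * ev ψ v * ev ψ w := by
    have := nw.st
    rw [mul_inv_eq_iff_eq_mul] at this
    rw [this, mul_assoc, WV, mul_assoc]
  have aW := nw.ua
  have aT := nw.da
  have mτ := md.τr
  have mcw := md.cw
  have mcr := md.cr
  generalize ev ψ w = W at *
  generalize hV : ev ψ v = V at *
  have t2 := f.t2
  have gV : g * V * g⁻¹ = t * W * τ := by
    calc g * V * g⁻¹ = g * (t * t) * V * g⁻¹ := by rw [t2, mul_one]
      _ = (g * t * g⁻¹) * (g * (t * V) * g⁻¹) := by group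
      _ = t * W * τ := by rw [gt, ← hτ]
  have gτ : g * τ * g⁻¹ = t * (g * g * V * (g * g)⁻¹) := by
    calc g * τ * g⁻¹ = g * g * t * (g * g)⁻¹ * (g * g * V * (g * g)⁻¹) := by rw [hτ]; group
      _ = _ := by rw [g2t.eq, mul_inv_cancel_right]
  have k1 : t * V * (t * W * τ) = τ * V := by
    calc t * V * (t * W * τ) = (t * V) * t * (W * τ) := by group
      _ = V * (t * t) * (τ * W) := by rw [tV, τW.eq]; group
      _ = (V * τ) * W := by rw [t2]; group
      _ = τ * V := by rw [Vτ, mul_assoc, W2, mul_one]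
  have gM : g ∈ Mr W (τ * V) := by
    refine (mem_Mr W2).2 ⟨gw, ?_⟩
    rw [← conj_mul, gτ, gV]
    rcases g2v with e | e
    · exact Or.inl (by rw [e, k1])
    · refine Or.inr ?_
      rw [e, ← k1]
      have : W * (t * W * τ) = t * W * τ * W := by
        rw [mul_assoc (t * W), τW.eq, ← mul_assoc, ← mul_assoc, ← tW, mul_assoc t W]
        group
      calc t * (V * W) * (t * W * τ) = t * V * (W * (t * W * τ)) := by group
        _ = _ := by rw [this]; group
  refine ⟨gM, ?_, fun Y hY hC hN => ?_⟩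
  · have x3B : x3 ∈ B6 := H78.mem_altOn.2 (by decide)
    obtain ⟨y, yB, e, k⟩ := gB x3 x3B
    have t3 : x3.IsThreeCycle := H78.isThreeCycle_c3 (by decide) (by decide) (by decide)
    exact ⟨⟨x3, B6_A8 x3B⟩, ⟨y, B6_A8 yB⟩, t3, k t3, by
      rw [bt_apply, bt_apply, eB _ x3B, eB _ yB, e]⟩
  have nA : ∀ σ ∈ A8, ev (cf h ψ) σ ∈ normalizer (Y : Set G) := fun σ hσ => by
    have a := mcw ⟨σ, hσ⟩
    have b := mcr ⟨σ, hσ⟩
    rw [bt_apply] at a b
    exact hN ((mem_Mr W2).2 ⟨a.symm, Or.inl (by rw [← b.eq, mul_inv_cancel_right])⟩)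
  have nt : t ∈ normalizer (Y : Set G) := hN ((mem_Mr W2).2 ⟨tW, Or.inl (by
    rw [← mul_assoc, ← τt.eq, mul_assoc τ, tV, ← mul_assoc, mul_inv_cancel_right])⟩)
  have nV : V ∈ normalizer (Y : Set G) := hN ((mem_Mr W2).2 ⟨WV.symm, Or.inr (by
    rw [← mul_assoc, mul_inv_cancel_right, Vτ])⟩)
  have ng := hN gM
  have s1 : ∀ o ∈ Y, Commute o t → o ∈ centralizer ({V} : Set G) := fun o ho ht => by
    obtain ⟨q, aq, qw⟩ := c1 o ht (hC ho)
    have := cen_of F f.inj (s := {0, 1, 2, 3}ᶜ) (by decide) (H78.mem_altOn.2 (by decide)) hY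
      (fun σ hσ => eB σ hσ ▸ nA σ (B6_A8 hσ)) ho aq (F.cw q qw).2
    rw [(F.d8 q qw this).2 (odd_act f.inj aq (odd_of hY ho))] at aq
    rw [mem_centralizer_singleton_iff, ← hV]
    exact KA_ev aq.KA v
  have atW : Acts (cf h ψ) (t * W) w := aT.mul aW
  have s2 : ∀ o ∈ Y, Commute o τ → Commute o (t * W * τ) := fun o ho hτ' => by
    obtain ⟨q, aq⟩ := fα.act o hτ'
    have oW : o * W = W * o := mem_centralizer_singleton_iff.1 (hC ho)
    have q23 : Commute q (swap 2 3) :=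
      (aq.mul aW).uniq (by decide) fα.inj (oW ▸ aW.mul aq)
    have := cen_of F fα.inj (s := {2, 3}ᶜ) (by decide) w2_mem hY nA ho aq
      (F.sw 2 3 (by decide) q q23)
    have oq := odd_act fα.inj aq (odd_of hY ho)
    have q1 : q = 1 := (F.c8 2 3 (by decide) q this).resolve_right fun e => by
      rw [e, (Equiv.Perm.isCycle_swap (by decide)).orderOf, Equiv.Perm.card_support_swap
        (by decide)] at oq
      exact absurd oq (by decide)
    rw [q1] at aq
    have ok : Commute o (ev (cf h ψ) w) := KA_ev aq.KA w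
    refine Commute.mul_right ?_ hτ'
    rcases fα.ev2 (t * W) w (τt.symm.mul_left τW.symm) ⟨1, by
      rw [pow_one, pow_two, mul_assoc, ← mul_assoc W, ← tW, mul_assoc, W2, mul_one, t2]⟩ atW sw
      with e | e
    · rw [e]; exact ok
    · rw [e]; exact hτ'.mul_right ok
  have s3 : ∀ o ∈ Y, Commute o (t * V) → o ∈ centralizer ({V} : Set G) := fun o ho c => by
    have := s2 _ (nY ng ho) (by rw [hτ]; exact c.conj g)
    rw [← gV] at this
    exact mem_centralizer_singleton_iff.2 ((Commute.conj_iff g).1 this)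
  have s4 := H89.Rec.four_gen t2 V2 tV f.t1 V1 tVn hY nt nV s1
    (fun o _ c => mem_centralizer_singleton_iff.2 c) s3
  have cV : V ∈ centralizer (Y : Set G) :=
    mem_centralizer_iff.2 fun y hy => mem_centralizer_singleton_iff.1 (s4 hy)
  have cc := nC ng cV
  rw [gV] at cc
  have ac : Acts (cf h ψ) (t * W * τ) w := by
    have := atW.mul (acts_of_KA fα.tK)
    rwa [mul_one] at this
  rcases all_or F (cf h ψ) (s := {2, 3}ᶜ) (by decide) (S := centralizer (Y : Set G))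
    (fun σ hσ y hy => nC (nA σ hσ) hy) with k | k
  · exfalso
    have m0 : c3 (0 : Fin 10) 4 5 ∈ A8 := H78.mem_altOn.2 (by decide)
    have m1 : w * c3 (0 : Fin 10) 4 5 * w⁻¹ ∈ A8 := H78.mem_altOn.2 (by decide)
    refine absurd (k _ (mul_mem m1 (inv_mem m0)) ?_) (by decide)
    rw [ev_mul m1.2 (inv_mem m0).2, ← ac _ m0.2, ev_inv m0.2, mul_assoc, mul_assoc, ← mul_assoc (ev _ _)]
    exact mul_mem cc (nC (nA _ m0) (inv_mem cc))
  · intro σ
    rw [bt_apply]
    exact k _ σ.2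

end Cfsg.Agent.H47.HtGX
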