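import Mathlib
import Cfsg.Agent.H43.Cent

set_option autoImplicit false
set_option maxRecDepth 200000
set_option linter.style.longLine false

namespace Cfsg.Agent.H47.J2P

open Cfsg.Agent.H43

theorem r_hn : NOk 315 := by decide

theorem r_hk : 315 ≤ 2 ^ 9 := by decide

noncomputable def r_a0 : Net := (Net.cons (nat_lit 1) (nat_lit 0x1111004440004000400044400000000000000000000000005555400000000000000000000000400) (Net.cons (nat_lit 2) (nat_lit 0x202000100000000000001222000111111111111111111111000000000000000000000000000000) (Net.cons (nat_lit 4) (nat_lit 0x20102010201020102010801020608080808080808080808010300000000000000000000000300) (Net.cons (nat_lit 8) (nat_lit 0x210024000100240001009a00190001000100010001008100c0000000000000000000070000) (Net.cons (nat_lit 16) (nat_lit 0x10000000024000001820000000100000000000000000000f800000000000000000000000000) (Net.cons (nat_lit 32) (nat_lit 0x240100000000000000000000000000000000000000000007ffffc00000000000000000) (Net.cons (nat_lit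 64) (nat_lit 0x2401000000000000000000000000000000000000000000) (Net.cons (nat_lit 128) (nat_lit 0x178000024010000000000) (Net.cons (nat_lit 256) (nat_lit 0x24010000000000) (Net.cons (nat_lit 128) (nat_lit 0x24010000000000) (Net.cons (nat_lit 64) (nat_lit 0x240100000001e60000000000000000fffffffff8000000) (Net.cons (nat_lit 32) (nat_lit 0x1240100000000000182000000000000fffffe1900000000ffffffc000000000f8000000) (Net.cons (nat_lit 16) (nat_lit 0x1200000242500002583000086190000fe190000fe190000ffc00000ffc00000ffc000000700) (Net.cons (nat_lit 8) (nat_lit 0x20037003e001b003e0011009a00190019001900190019008100c000c000c000c000c000070038) (Net.cons (nat_lit 4) (nat_lit 0xa0902050201020102010c0107060e0e0e0e0e0e0e0e0e080b0303030303030303030300000300) (Net.cons (nat_lit 2) (nat_lit 0x1313002300000000000023223333111111111111111111113333000000000000000000000000000) (Net.cons (nat_lit 1) (nat_lit 0x1111154455155515551544550000155555555555555555555555555555555555555555550015550) Net.nil)))))))))))))))))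

theorem r_a0_ok : Net.ok 315 r_a0 = true := by decide +kernel

noncomputable def r_a8 : Net := (Net.cons (nat_lit 1) (nat_lit 0x1150000000000150000000001514000401515151515004001450545055554000111114505140500) (Net.cons (nat_lit 2) (nat_lit 0x10101310101020101013100002322010022002200220100031012102200000011000011100000) (Net.cons (nat_lit 4) (nat_lit 0x5040d0507040605050c05060d040a09050101030e040704000a080f090a060c07020e0d0100) (Net.cons (nat_lit 8) (nat_lit 0x400d0002f008a0044008300070025003400c000c10040000500130018000d0031000500250000) (Net.cons (nat_lit 16) (nat_lit 0x1900002d9000001005000054c50000dd4400007801000017bd00008a000000000000000800) (Net.cons (nat_lit 32) (nat_lit 0x7dfa8c40000000087c67aa40000000020000001000000008be2e20d0000000000000000) (Net.cons (nat_lit 64) (nat_lit 0x7c67aa05039845a00000000000000000000000008000201) (Net.cons (nat_lit 128) (nat_lit 0x8000000407fffffff7fffdfe) (Net.cons (nat_lit 256) (nat_lit 0x7ffffffffffffff) (Net.cons (nat_lit 128)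 (nat_lit 0x7fffffff7fffdfe) (Net.cons (nat_lit 64) (nat_lit 0xf839855d2fc67aa1000000000000000071efffff1a050a01) (Net.cons (nat_lit 32) (nat_lit 0x4f9254400000000d839875f00000000282e2a9b00000000ffff8a050000000010050800) (Net.cons (nat_lit 16) (nat_lit 0x6c000005ca800000686000026990000e81a0000afc5000076d70000ea0d0000600d0000ed00) (Net.cons (nat_lit 8) (nat_lit 0x300a100fe00fe0007008a000000f0002e0093005400da000500900018009f0031000500850018) (Net.cons (nat_lit 4) (nat_lit 0x30a0808020904070e040202050f0404060607060605050702040d0c0f090a060c07040f070100) (Net.cons (nat_lit 2) (nat_lit 0x332322110100220023221100230100120202020202001201221013123230000131312103332000) (Net.cons (nat_lit 1) (nat_lit 0x151041504055555540415040515055555555555555555541450455055555500111114415140541) Net.nil)))))))))))))))))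

theorem r_a8_ok : Net.ok 315 r_a8 = true := by decide +kernel

noncomputable def r_a19 : Net := (Net.cons (nat_lit 1) (nat_lit 0x400015100415140400400000000000000000000000000000000000000000000000000040404) (Net.cons (nat_lit 2) (nat_lit 0x20000000020000200000000000000000000000000000000000000000000000000000000000000) (Net.cons (nat_lit 4) (nat_lit 0x50000000d0c090001000003000000000000000000000003000000000000000000000003000000) (Net.cons (nat_lit 8) (nat_lit 0x300a000f8001c0054005800030000000000000000000000030000000000000000000000030008) (Net.cons (nat_lit 16) (nat_lit 0x3a4000008030000080300000000000000000000000000000000000000000000000000000000) (Net.cons (nat_lit 32) (nat_lit 0xf8540000000000f7fcffff0000000037fcffff00000000000000000000000000000000) (Net.cons (nat_lit 64) (nat_lit 0xffffffff00000000000000000000000000000000) (Net.cons (nat_lit 128) (nat_lit 0x37fcfffffffffffff8000000f7fcffff) (Net.cons (nat_lit 256) (nat_lit 0xf7fcffff) (Net.cons (nat_lit 128) (nat_lit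 0x7fffffff7fcffff) (Net.cons (nat_lit 64) (nat_lit 0xffffffff0000000000000000c8030000c8030000) (Net.cons (nat_lit 32) (nat_lit 0x57a400000000ffffffff00000000ffffffff00000000c803000000000000c8030000) (Net.cons (nat_lit 16) (nat_lit 0x7030000abff0000abff00000000000000000000000000000000000000000000000000000308) (Net.cons (nat_lit 8) (nat_lit 0x700a400ec00ec00ec005c000300000000000000000000000300000000000000000000003300fc) (Net.cons (nat_lit 4) (nat_lit 0x5060d060102050003000000000000000000000003000000000000000000000003000000) (Net.cons (nat_lit 2) (nat_lit 0x33201333203320000000000000000000000000000000000000000000000000000000002) (Net.cons (nat_lit 1) (nat_lit 0x400015010415050400550000000000000000000000000000000000000000000000001540404) Net.nil)))))))))))))))))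

theorem r_a19_ok : Net.ok 315 r_a19 = true := by decide +kernel

noncomputable def r_a27 : Net := (Net.cons (nat_lit 1) (nat_lit 0x1111145140554415401140504400451141441101054150150411000511551444150105001400000) (Net.cons (nat_lit 2) (nat_lit 0x1303300311232003310330323212331102303222331101310231122101102110032310221100100) (Net.cons (nat_lit 4) (nat_lit 0xb070a04010d080b040c0e0a0a0300000a0009020602010a080701080a000909000407080a0001) (Net.cons (nat_lit 8) (nat_lit 0x100690058003c00440050008b002200c6006b00d000b200ed0008001e000f0074006800540098) (Net.cons (nat_lit 16) (nat_lit 0x226000018400000f88e000096aa000003c00000c68100001b04000004c9000018ea00004000) (Net.cons (nat_lit 32) (nat_lit 0x6183abf0000000065c9d3e700000000e3c925e3000000000c9061900000000040000000) (Net.cons (nat_lit 64) (nat_lit 0x4c23e1435589fe000000000000000007c1488139422b84) (Net.cons (nat_lit 128) (nat_lit 0xebf7bd9dd71fb4f3f046212900047cd5) (Net.cons (nat_lit 256) (nat_lit 0x7f76def7f6f7fd5) (Net.cons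 (nat_lit 128) (nat_lit 0x258da43044a35c9) (Net.cons (nat_lit 64) (nat_lit 0xdb5f5d5fb0c40fae00000000000000009083ede23dc3dd67) (Net.cons (nat_lit 32) (nat_lit 0x747b5e500000000b05c08b700000000b4baa3170000000069abbeeb00000000591d167b) (Net.cons (nat_lit 16) (nat_lit 0x63a00007c5c000038ce0000343200009f1c000085dc0000290c00008bf000009e3600001418) (Net.cons (nat_lit 8) (nat_lit 0x2002d009c001b006d009d00ac002700ca0069001500b700e900cc003b0060003a00ed00510038) (Net.cons (nat_lit 4) (nat_lit 0xf030a0601090e0d000c02080c0700080a020d060608010c080d050808040f0b040407080a0601) (Net.cons (nat_lit 2) (nat_lit 0x1303300311232003310330323212331102303222331101310231122101102110032310221100130) (Net.cons (nat_lit 1) (nat_lit 0x1111145140554415401140504400451141441101054150150411150511551444150105151400154) Net.nil)))))))))))))))))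

theorem r_a27_ok : Net.ok 315 r_a27 = true := by decide +kernel

noncomputable def r_O : List Net := [r_a0, r_a8, r_a19, r_a27]

theorem r_O_ok : okE 315 r_O = true := (okE_cons.2 ⟨r_a0_ok, (okE_cons.2 ⟨r_a8_ok, (okE_cons.2 ⟨r_a19_ok, (okE_cons.2 ⟨r_a27_ok, (okE_nil 315)⟩)⟩)⟩)⟩)

noncomputable def r_g1 : Net := (Net.cons (nat_lit 1) (nat_lit 0x101045115545444005410111115504015511015141111115541011041004455004045404001410) (Net.cons (nat_lit 2) (nat_lit 0x303211200233012121323202310130203312303101231023333002131202021013031132000010) (Net.cons (nat_lit 4) (nat_lit 0x802000f0600040102060407040f020a0f090e050c040204080407010e0a0209050a00010c01) (Net.cons (nat_lit 8) (nat_lit 0x3005e00a700490080003500e700a70002006c008300e80020006f007c004000f9004400a80000) (Net.cons (nat_lit 16) (nat_lit 0x5bf00002ee30000b1060000a0a30000646c00001a010000481b0000b26a0000b10400009800) (Net.cons (nat_lit 32) (nat_lit 0x144855300000000248f031100000000286ca62c000000000e0482970000000020000000)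 (Net.cons (nat_lit 64) (nat_lit 0x350d8559120484f6000000000000000004582da4adc6fa13) (Net.cons (nat_lit 128) (nat_lit 0x14d221ef93d782af6ddd595f723905ee) (Net.cons (nat_lit 256) (nat_lit 0x7ffffffffffffff) (Net.cons (nat_lit 128) (nat_lit 0x55285e5429021ba) (Net.cons (nat_lit 64) (nat_lit 0xb8b650158caf4f250000000000000000e76ea410f0b14e5e) (Net.cons (nat_lit 32) (nat_lit 0x374b25d00000000db7b9a07000000002086c1fe0000000070b79177000000004c9956a5) (Net.cons (nat_lit 16) (nat_lit 0x5930000cb210000ce260000db8a00003fcc000025140000feb5000005bc00009a7b0000d530) (Net.cons (nat_lit 8) (nat_lit 0xb005300ea00240066003f00ce009b001d007b00c000f400480054003000a800a3006e00ef) (Net.cons (nat_lit 4) (nat_lit 0x80d02070303080a09070b03000e010d07020d0c010a030a050f020d09010808050a0f0b020600) (Net.cons (nat_lit 2) (nat_lit 0x1330023203121113213102232103111200012310001012032311013201032222330231212310302) (Net.cons (nat_lit 1) (nat_lit 0x1544155151150014000110510410544154050445114415514454404410440401455114051540405)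 Net.nil)))))))))))))))))

theorem r_g1_ok : Net.ok 315 r_g1 = true := by decide +kernel

noncomputable def r_V2 : List Net := [r_g1]

theorem r_V2_ok : okE 315 r_V2 = true := (okE_cons.2 ⟨r_g1_ok, (okE_nil 315)⟩)

noncomputable def r_g4 : Net := (Net.cons (nat_lit 1) (nat_lit 0x5551504051544055405555400000000000000000001111000000000000000000000000004) (Net.cons (nat_lit 2) (nat_lit 0x11113311010001100022000000111111111111111111111111000000000000000000000000000) (Net.cons (nat_lit 4) (nat_lit 0x60e080d06000e0508000201050f08080808080808080808000200000000000000000000030000) (Net.cons (nat_lit 8) (nat_lit 0x1001000b900a900eb00a000d8001d000500050005000500000000000000000000000000000000) (Net.cons (nat_lit 16) (nat_lit 0x55f00000009000000000000fdc0000005c0000005c000000000000000000000000000000000) (Net.cons (nat_lit 32) (nat_lit 0x4308e8000000000ffffda3f00000000f800000000000000f800000000000000f8000000) (Net.cons (nat_lit 64) (nat_lit 0x5c0ffffffff0000000000000000000005c0f8000000)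 (Net.cons (nat_lit 128) (nat_lit 0xffffdffffffffffff80005c0ffffda36) (Net.cons (nat_lit 256) (nat_lit 0x5c0ffffda36) (Net.cons (nat_lit 128) (nat_lit 0x7ffffffffffda36) (Net.cons (nat_lit 64) (nat_lit 0xf80005ffffffffff0000000000000000fdc005e2f8000000) (Net.cons (nat_lit 32) (nat_lit 0x8e9f00000000ffffda3f00000000f800003f00000000fdc0002200000000f8000000) (Net.cons (nat_lit 16) (nat_lit 0x3c9000054bf000054b60000ffc00000ffc00000ffc00000ffdd0000ffdd0000ffdd00000034) (Net.cons (nat_lit 8) (nat_lit 0x70077003f003f009f00a600c000c000c000c000c000c000d8001d001d001d001d001d000300c0) (Net.cons (nat_lit 4) (nat_lit 0x40e080f060e040f0d0202010303030303030303030303010f0f0e0e0e0e0e0e0e0e0e08030300) (Net.cons (nat_lit 2) (nat_lit 0x11113333102233103222002222000000000000000000002333111111111111111111110000002) (Net.cons (nat_lit 1) (nat_lit 0x155551414051454055404444555555555555555555555555555555555555555555551515554) Net.nil)))))))))))))))))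

theorem r_g4_ok : Net.ok 315 r_g4 = true := by decide +kernel

noncomputable def r_g5 : Net := (Net.cons (nat_lit 1) (nat_lit 0x544404500001100041104001044140511450404105114451144501455140100155401015000110) (Net.cons (nat_lit 2) (nat_lit 0x1100001001110213000011001322310002220102113023333132112013001111020003212003020) (Net.cons (nat_lit 4) (nat_lit 0x60a0903030b0005050006000e09000e0d0101030d0e0f090304020b00080e060e070a020e00) (Net.cons (nat_lit 8) (nat_lit 0x40084007a008b00b9001a0070001d00be00d500f8000d009700ce008400da008d000200900010) (Net.cons (nat_lit 16) (nat_lit 0x11400003c960000e6980000c30100004ca500008864000048030000bab30000041000003800) (Net.cons (nat_lit 32) (nat_lit 0x82004000000000b792493a0000000005252c8100000000c041b0b90000000000000000) (Net.cons (nat_lit 64) (nat_lit 0x4048a440b796192200000000000000000048004000100800) (Net.cons (nat_lit 128) (nat_lit 0xc2eaec823765785e28480040b4920922) (Net.cons (nat_lit 256) (nat_lit 0x480040bcb78f32) (Net.cons (nat_lit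 128) (nat_lit 0x44b528b80a34cda) (Net.cons (nat_lit 64) (nat_lit 0x4148ac62b3b74dfe00000000000000008828bab542014058) (Net.cons (nat_lit 32) (nat_lit 0x158780f00000000bba3cffa00000000fb7b2bec00000000c8643ccf00000000022100c0) (Net.cons (nat_lit 16) (nat_lit 0x2c20000fe6f0000cdfe0000c75000008bfd0000d4e900003a84000020d10000354700003ca6) (Net.cons (nat_lit 8) (nat_lit 0x700c000af007700d300710021006d00a90047007c00be002500a8007300ac00b100de0001003c) (Net.cons (nat_lit 4) (nat_lit 0xc0f0f04080d0c0e080f020f090a05080a0f0f080006050a060307090e0b0b0f090d070b0f0c0c) (Net.cons (nat_lit 2) (nat_lit 0x311220223313310103330000302130011113010010120123130101011223113313312310223212) (Net.cons (nat_lit 1) (nat_lit 0x1540444440555555555541151104505404440454450444514415544400041555040004414544444) Net.nil)))))))))))))))))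

theorem r_g5_ok : Net.ok 315 r_g5 = true := by decide +kernel

noncomputable def r_g6 : Net := (Net.cons (nat_lit 1) (nat_lit 0x15100554044404001501044101050405151405044101505000000000000000000001110404) (Net.cons (nat_lit 2) (nat_lit 0x1100012010032001230210200022001110000000001022022012221102020202020200002000020) (Net.cons (nat_lit 4) (nat_lit 0x2000006000206000206070300030608000a060600020500000007070303040303050500070104) (Net.cons (nat_lit 8) (nat_lit 0x2002a003b008300c000610041004a00350050000100400010001f00b00002004500b000100000) (Net.cons (nat_lit 16) (nat_lit 0x990000ef650000ba000000400000009821000040100000084900002b1a0000401000000000) (Net.cons (nat_lit 32) (nat_lit 0x182e06d0000000075aeffff00000000d00069af00000000e20817a40000000000000000) (Net.cons (nat_lit 64) (nat_lit 0x8a510000ffefffff000000000000000000100000e2000000) (Net.cons (nat_lit 128) (nat_lit 0xffffffffffffffff70500000efc7fbff) (Net.cons (nat_lit 256) (nat_lit 0x500000efc7fbff) (Net.cons (nat_lit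 128) (nat_lit 0x5feffffefd7fbff) (Net.cons (nat_lit 64) (nat_lit 0xca510000ffefffff00000000000000008a41000000000000) (Net.cons (nat_lit 32) (nat_lit 0x4b875e70000000075aeffff00000000fb9ee00400000000401000210000000040000000) (Net.cons (nat_lit 16) (nat_lit 0x7e40000bac100002546000060180000e2190000079a0000410a00009e610000465000001060) (Net.cons (nat_lit 8) (nat_lit 0x4002300aa00a500d500a00051004300cd00e200b0008e0075005e0035007700230069001d00f4) (Net.cons (nat_lit 4) (nat_lit 0xb03090c06000004040e0b0b0d030c0b0b0d020f0b0b0c0b00030e080e0900000b060502070e00) (Net.cons (nat_lit 2) (nat_lit 0x1103131302132011031002031101121312121032121202121200000310233333331000023313002) (Net.cons (nat_lit 1) (nat_lit 0x1415110015115401441100040454000000000000000000001451051445514040514551051504144) Net.nil)))))))))))))))))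

theorem r_g6_ok : Net.ok 315 r_g6 = true := by decide +kernel

noncomputable def r_V7 : List Net := [r_g4, r_g5, r_g6]

theorem r_V7_ok : okE 315 r_V7 = true := (okE_cons.2 ⟨r_g4_ok, (okE_cons.2 ⟨r_g5_ok, (okE_cons.2 ⟨r_g6_ok, (okE_nil 315)⟩)⟩)⟩)

noncomputable def r_V9 : List Net := [r_g5]

theorem r_V9_ok : okE 315 r_V9 = true := (okE_cons.2 ⟨r_g5_ok, (okE_nil 315)⟩)

noncomputable def r_g11 : Net := (Net.cons (nat_lit 1) (nat_lit 0x110101104150444150411101514111550441515045045111101001500405540404000444111040) (Net.cons (nat_lit 2) (nat_lit 0x220202210100101101002202000212100213030301002203000022330103230010100000220120) (Net.cons (nat_lit 4) (nat_lit 0x20309040902090b000808010a080a020302020a0e08020003050b09010c0e0a07040808040300) (Net.cons (nat_lit 8) (nat_lit 0xf200d4004000060000002000d000da00800010004000a10044006e00b40008000800490000) (Net.cons (nat_lit 16) (nat_lit 0x6110000a16d00000000000085af0000119d000010a000005208000073680000000000000000) (Net.cons (nat_lit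 32) (nat_lit 0x70db0000000000a050000000000000a0520000000000a9f7f20c0000000000000000) (Net.cons (nat_lit 64) (nat_lit 0x601a8df42a0d32000000000000000000000000000000000) (Net.cons (nat_lit 128) (nat_lit 0xa052000601a8df4200d120) (Net.cons (nat_lit 256) (nat_lit 0x601a8df4200d120) (Net.cons (nat_lit 128) (nat_lit 0x601a8df4200d120) (Net.cons (nat_lit 64) (nat_lit 0x6a1f8dfc7afd3200000000000000000a9f7f61c00000000) (Net.cons (nat_lit 32) (nat_lit 0x1050d70000000000a0500000000000faf07fed00000000fbfff6ef0000000034480000) (Net.cons (nat_lit 16) (nat_lit 0x6b100004652000048020000adaf00007b1d00001d6d0000fb0c0000f7cf0000428700004900) (Net.cons (nat_lit 8) (nat_lit 0x700e200d7006300a1009200380055003a00e10070003a00ac000600ac00ac00e400cf00cb0030) (Net.cons (nat_lit 4) (nat_lit 0xf03030a090e070f0c0a06030c0a0e0707040c0c0d0d0302060d0f070408030d0d050c0c040b08) (Net.cons (nat_lit 2) (nat_lit 0x303212303030202030310213331323312100101000222232313130003112031333232320223010) (Net.cons (nat_lit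 1) (nat_lit 0x1515151100405050404011150440004544544040544450401045000555000404111541515000150) Net.nil)))))))))))))))))

theorem r_g11_ok : Net.ok 315 r_g11 = true := by decide +kernel

noncomputable def r_g12 : Net := (Net.cons (nat_lit 1) (nat_lit 0x451000440401110110151044010045041505111415041441545510514050444140514115104000) (Net.cons (nat_lit 2) (nat_lit 0x230023102202220202030103113031231022002323300312102300000222332020033010102020) (Net.cons (nat_lit 4) (nat_lit 0x4070a0b060b0f0e020d0c0804060109070d0a0f01070a0d040006030c0108080c0c0200010d06) (Net.cons (nat_lit 8) (nat_lit 0x2000b004800410016005e00a100e3006300990081006e00c000d800210011002c008400200080) (Net.cons (nat_lit 16) (nat_lit 0x3480000022000002c210000c81a0000b7a0000080300000f70200008a080000820000000000) (Net.cons (nat_lit 32) (nat_lit 0x28030000000000c0980ca400000000d4f0259800000000eb0394c40000000000000000) (Net.cons (nat_lit 64) (nat_lit 0x8028a1ea167c64ae00000000000000000020000200000000) (Net.cons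 (nat_lit 128) (nat_lit 0xc08e80ee3b625d6f6020014200080480) (Net.cons (nat_lit 256) (nat_lit 0x2001420008d69e) (Net.cons (nat_lit 128) (nat_lit 0x1c03057c41e2b00) (Net.cons (nat_lit 64) (nat_lit 0x403080ca127e6fae0000000000000000bb079eebd4040800) (Net.cons (nat_lit 32) (nat_lit 0x100018000000000c0bf6fa400000000ebfe5941000000007f2fb1a80000000044262100) (Net.cons (nat_lit 16) (nat_lit 0x2c40000fa9e00000c3d0000ce1a000068470000455f0000d3e20000d55e0000e59e00000270) (Net.cons (nat_lit 8) (nat_lit 0x4007b00fa0075001d00de002100e900f800c300b3000b00fc00de00f100ac00b5003800200092) (Net.cons (nat_lit 4) (nat_lit 0xf070805020b000c01040e0a070a0e0e07060d0603090d090d0300010b01070c0e09000601000c) (Net.cons (nat_lit 2) (nat_lit 0x13013321212130103013133223103023203312203030112330130320232002230203010102110) (Net.cons (nat_lit 1) (nat_lit 0x1041111044550405554041004545005005550514155401401010550550005041400154154005000) Net.nil)))))))))))))))))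

theorem r_g12_ok : Net.ok 315 r_g12 = true := by decide +kernel

noncomputable def r_g13 : Net := (Net.cons (nat_lit 1) (nat_lit 0x1111000011110040111100000554000010410000411100014410111004041515040401110001440) (Net.cons (nat_lit 2) (nat_lit 0x20323132322222323231322030101010201100201010011100100012020022021212323200100) (Net.cons (nat_lit 4) (nat_lit 0x601000808010a02080803010104060003000c070000000e03030b020106070601020000010600) (Net.cons (nat_lit 8) (nat_lit 0xf700c500c300200020003c008c009000d10071000c004900d2001400550010001000100000) (Net.cons (nat_lit 16) (nat_lit 0x160000000000000844100009c19000002000000e210000004210000000000000000) (Net.cons (nat_lit 32) (nat_lit 0x84497000000000040149120000000004010000000000002c2121c20000000000000000) (Net.cons (nat_lit 64) (nat_lit 0x108cb26c4721c91000000000000000000000000000000000) (Net.cons (nat_lit 128) (nat_lit 0x10080200040100000084b26c4321c910) (Net.cons (nat_lit 256) (nat_lit 0x84b26c4321c910) (Net.cons (nat_lit 128)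 (nat_lit 0x84b26c4321c910) (Net.cons (nat_lit 64) (nat_lit 0x148dfb7ec761cb100000000000000000ce3135efe2100000) (Net.cons (nat_lit 32) (nat_lit 0x84176c000000004601491200000000f8b832ec00000000ee3121c200000000c2100000) (Net.cons (nat_lit 16) (nat_lit 0xc1000084df000092200000b44d00004bf60000f2c80000ebd2000071eb0000ca1000001000) (Net.cons (nat_lit 8) (nat_lit 0x200ff0040004000bf0097002800cd00f700b7001600cb00e900d600c200d800dc00c600190068) (Net.cons (nat_lit 4) (nat_lit 0x1030a080801010109080f030204070507000303000e0a0e0e0b0b010a0906010a010000090700) (Net.cons (nat_lit 2) (nat_lit 0x1210220202020202020220223211000120201020200110111230030231010101011321212210130) (Net.cons (nat_lit 1) (nat_lit 0x1111045544554444554455440150045544541444541455444141000515040404041514000014400) Net.nil)))))))))))))))))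

theorem r_g13_ok : Net.ok 315 r_g13 = true := by decide +kernel

noncomputable def r_V14 : List Net := [r_g11, r_g12, r_g13]

theorem r_V14_ok : okE 315 r_V14 = true := (okE_cons.2 ⟨r_g11_ok, (okE_cons.2 ⟨r_g12_ok, (okE_cons.2 ⟨r_g13_ok, (okE_nil 315)⟩)⟩)⟩)

noncomputable def r_g16 : Net := (Net.cons (nat_lit 1) (nat_lit 0x1154444440515011000004504111011004405151404441101511445154455001544511445104150) (Net.cons (nat_lit 2) (nat_lit 0x203110200210210002221011013221232301230300003023200201331230212213300003300110) (Net.cons (nat_lit 4) (nat_lit 0xf0f0b0f080a030406080e070b04020f0d0c040003090306050f010c050c090200090e040903) (Net.cons (nat_lit 8) (nat_lit 0x3000400ec00120048004b004600c2007700c10013007d004f009600430092002c004a006c0000) (Net.cons (nat_lit 16) (nat_lit 0x303000095ef000048020000503a0000916a0000f08300006a0a000006470000430300000800) (Net.cons (nat_lit 32) (nat_lit 0x49046c00000000f935018c00000000098190880000000082d629a00000000048000000) (Net.cons (nat_lit 64)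 (nat_lit 0x13fafc70ed61c58500000000000000000040602041000000) (Net.cons (nat_lit 128) (nat_lit 0x3ae70e7ce5ea3642ca4afc20c9010004) (Net.cons (nat_lit 256) (nat_lit 0x24afc20c90116cf) (Net.cons (nat_lit 128) (nat_lit 0x75c1d29db0af387) (Net.cons (nat_lit 64) (nat_lit 0x4bc97cf0ed63f3c7000000000000000018b41b824108d003) (Net.cons (nat_lit 32) (nat_lit 0x249012000000000b137e38c00000000239c978f000000000096ebf2000000000b0ee201) (Net.cons (nat_lit 16) (nat_lit 0x1df0000b7ff000002020000111f000057000000685800001dc80000633d00009a5500000127) (Net.cons (nat_lit 8) (nat_lit 0x400f700a4001100780006002300a400bd00060036008b00600090009c0035000d007800a900cc) (Net.cons (nat_lit 4) (nat_lit 0xd0000090f0c0d0306030b0a040a080c09070f05090203060d01010f04060608020c0a0a040703) (Net.cons (nat_lit 2) (nat_lit 0x133222322020322103322333300201323122023012212032033011213231021131010031301320) (Net.cons (nat_lit 1) (nat_lit 0x1111555451404441001510405055141415541515015505051041455145405405405051544054444)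 Net.nil)))))))))))))))))

theorem r_g16_ok : Net.ok 315 r_g16 = true := by decide +kernel

noncomputable def r_V17 : List Net := [r_g16]

theorem r_V17_ok : okE 315 r_V17 = true := (okE_cons.2 ⟨r_g16_ok, (okE_nil 315)⟩)

noncomputable def r_g19 : Net := (Net.cons (nat_lit 1) (nat_lit 0x1511041511004440514444400540504404444000444404414000105004444514444401410014000) (Net.cons (nat_lit 2) (nat_lit 0x1200221202023211200100100302020310102231000201010002200130300012232022200111000) (Net.cons (nat_lit 4) (nat_lit 0x30603000108080d090c0400010f0304000d06020e0905060b01030704090d0f0b050200010101) (Net.cons (nat_lit 8) (nat_lit 0x400f4004600420070008f007b007400f700f900d200c00068003300ba0060001000020050) (Net.cons (nat_lit 16) (nat_lit 0x1340000e139000002800000e1450000319c0000c1f40000645e00007e800000080000000000) (Net.cons (nat_lit 32) (nat_lit 0x13400000000c2111e6e000000009b46e2a8000000002ad09c400000000000000000) (Net.cons (nat_lit 64) (nat_lit 0x844281b01320386c00000000000000000000010000000000)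 (Net.cons (nat_lit 128) (nat_lit 0x4443906e3930b79ca000810002000004) (Net.cons (nat_lit 256) (nat_lit 0x81000204e6bd) (Net.cons (nat_lit 128) (nat_lit 0x21ddc91a8100ff4) (Net.cons (nat_lit 64) (nat_lit 0xc442811033343ffc00000000000000000ec81c0010100690) (Net.cons (nat_lit 32) (nat_lit 0x240000400000000c2115ffe000000009c56a6ae000000004a5689000000000008000190) (Net.cons (nat_lit 16) (nat_lit 0x70400001106000009c00000e1070000ebb3000048f50000465c000074a900003cc200000256) (Net.cons (nat_lit 8) (nat_lit 0x3004400f400e200740060008f00fb00a800c200c900ff00c2005a00fa006a002600a0000200b0) (Net.cons (nat_lit 4) (nat_lit 0x40b030b0a0b0a0b0b0500010f0604040c08030d0c06040b0100010500090f0d09080805040d) (Net.cons (nat_lit 2) (nat_lit 0x1312301313013311303121121201330112122321133100213201310132310332211322020113100) (Net.cons (nat_lit 1) (nat_lit 0x511040511004445405144510440010005404110405400101004110004414554504400111111000) Net.nil)))))))))))))))))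

theorem r_g19_ok : Net.ok 315 r_g19 = true := by decide +kernel

noncomputable def r_g20 : Net := (Net.cons (nat_lit 1) (nat_lit 0x40110055545050545540110000151140405555404044150000151140405555404044150010100) (Net.cons (nat_lit 2) (nat_lit 0x12221001100000000110003302322232101010103230323302302210321212101012100000000) (Net.cons (nat_lit 4) (nat_lit 0xf020609040902000906000c08000c08080d0d090d08080400090d030100040000010503000600) (Net.cons (nat_lit 8) (nat_lit 0xe0008b00660022000600a0001300a600a3009000100020001b000c00180001008300060000) (Net.cons (nat_lit 16) (nat_lit 0x100006506000002000000158d00002a9d0000022000001ff00000e3b10000000000000000) (Net.cons (nat_lit 32) (nat_lit 0x4b0930600000000d1000800000000009000140000000000efb3550c0000000000000000) (Net.cons (nat_lit 64) (nat_lit 0x4b09326d000140000000000000000000000000000000000) (Net.cons (nat_lit 128) (nat_lit 0x2208000140004b09306d0000000) (Net.cons (nat_lit 256) (nat_lit 0x4b09306d0000000) (Net.cons (nat_lit 128)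 (nat_lit 0x4b09306d0000000) (Net.cons (nat_lit 64) (nat_lit 0x15b09b26d48d16600000000000000000fff3550c00000000) (Net.cons (nat_lit 32) (nat_lit 0x4b1f30600000000d3000c00000000006d9d432200000000f003d50800000000c9020000) (Net.cons (nat_lit 16) (nat_lit 0xe10000ff26000092000000f58d0000944200007fb500007ff800000f4e000036d100000600) (Net.cons (nat_lit 8) (nat_lit 0x700ec008b00440008006e0020001b00e200e1005300de0028009b00c80050009f00ed00360060) (Net.cons (nat_lit 4) (nat_lit 0xe000e0d070f0d060f07080e06020404020e0e0a060600040e0b09070b070d0d0b0f0303000e08) (Net.cons (nat_lit 2) (nat_lit 0x311310222100000002231132011313021212020212123312011313001010202030101130000000) (Net.cons (nat_lit 1) (nat_lit 0x554000544414545414454000000150411151515151111150000150411151515151111151105050) Net.nil)))))))))))))))))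

theorem r_g20_ok : Net.ok 315 r_g20 = true := by decide +kernel

noncomputable def r_V21 : List Net := [r_g19, r_g20]

theorem r_V21_ok : okE 315 r_V21 = true := (okE_cons.2 ⟨r_g19_ok, (okE_cons.2 ⟨r_g20_ok, (okE_nil 315)⟩)⟩)

noncomputable def r_V23 : List Net := [r_g19]

theorem r_V23_ok : okE 315 r_V23 = true := (okE_cons.2 ⟨r_g19_ok, (okE_nil 315)⟩)

noncomputable def r_g25 : Net := (Net.cons (nat_lit 1) (nat_lit 0x100554011141010141110000000151111151515151104150000151111151515151104150014140) (Net.cons (nat_lit 2) (nat_lit 0x232011222200000000000201322020310121313121000021322020310121313121000020000000) (Net.cons (nat_lit 4) (nat_lit 0xd020d0103020000030708030000000008030a0b000a0200020303030b00090803090103000500) (Net.cons (nat_lit 8) (nat_lit 0xd0000200cc00400081001000dd0002002600cc00f0000100dd0020002600cd00c200050000) (Net.cons (nat_lit 16) (nat_lit 0x20000e6950000010000009001000082d40000400000004010000061c40000000000000000) (Net.cons (nat_lit 32) (nat_lit 0x74048100000000b8010b06000000002800400000000000d42006d00000000080000000)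 (Net.cons (nat_lit 64) (nat_lit 0x28744481b8000a0000000000000000000000000000000000) (Net.cons (nat_lit 128) (nat_lit 0x280040009000000000740481b8000a00) (Net.cons (nat_lit 256) (nat_lit 0x740481b8000a00) (Net.cons (nat_lit 128) (nat_lit 0x740481b8000a00) (Net.cons (nat_lit 64) (nat_lit 0xb8754f87b8004e2000000000000000008430aff64a010000) (Net.cons (nat_lit 32) (nat_lit 0x76c48100000000b9018b06000000009403aed7000000009430bbf4000000004a010000) (Net.cons (nat_lit 16) (nat_lit 0xd20000fec1000009000000b0190000952b00006af4000042190000d43b0000abc600000500) (Net.cons (nat_lit 8) (nat_lit 0x700f1001200dd001500f1003000de003a000500f300c9000300ed002b001500f300d900350050) (Net.cons (nat_lit 4) (nat_lit 0xf060c03050e0e0c0f0f0a0b0b080b030204060606030308090b0800010705050500000b000d08) (Net.cons (nat_lit 2) (nat_lit 0x1020221133200000001103330031010201230303230103010031010201230303230103010000000) (Net.cons (nat_lit 1) (nat_lit 0x1005445400010505010001110000150440405555404051150000150440405555404051151101010)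 Net.nil)))))))))))))))))

theorem r_g25_ok : Net.ok 315 r_g25 = true := by decide +kernel

noncomputable def r_V26 : List Net := [r_g20, r_g25]

theorem r_V26_ok : okE 315 r_V26 = true := (okE_cons.2 ⟨r_g20_ok, (okE_cons.2 ⟨r_g25_ok, (okE_nil 315)⟩)⟩)

noncomputable def r_V28 : List Net := [r_g20]

theorem r_V28_ok : okE 315 r_V28 = true := (okE_cons.2 ⟨r_g20_ok, (okE_nil 315)⟩)

noncomputable def r_V30 : List Net := [r_a0, r_a0]

theorem r_V30_ok : okE 315 r_V30 = true := (okE_cons.2 ⟨r_a0_ok, (okE_cons.2 ⟨r_a0_ok, (okE_nil 315)⟩)⟩)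

noncomputable def r_V32 : List Net := [r_a0]

theorem r_V32_ok : okE 315 r_V32 = true := (okE_cons.2 ⟨r_a0_ok, (okE_nil 315)⟩)

noncomputable def r_E6 : List Net := []

theorem r_E6_ok : okE 315 r_E6 = true := (okE_nil 315)

noncomputable def r_G5 : List Net := [r_a0]

theorem r_G5_ok : okE 315 r_G5 = true := (okE_cons.2 ⟨r_a0_ok, (okE_nil 315)⟩)

noncomputable def r_E5 : List Net := [r_a0]

theorem r_E5_ok : okE 315 r_E5 = true := (okE_cons.2 ⟨r_a0_ok, (okE_nil 315)⟩)

noncomputable def r_G4 : List Net := [r_g20, r_a0]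

theorem r_G4_ok : okE 315 r_G4 = true := (okE_cons.2 ⟨r_g20_ok, (okE_cons.2 ⟨r_a0_ok, (okE_nil 315)⟩)⟩)

noncomputable def r_E4 : List Net := [r_g20, r_g25, r_a0]

theorem r_E4_ok : okE 315 r_E4 = true := (okE_cons.2 ⟨r_g20_ok, (okE_cons.2 ⟨r_g25_ok, (okE_cons.2 ⟨r_a0_ok, (okE_nil 315)⟩)⟩)⟩)

noncomputable def r_G3 : List Net := [r_g19, r_g20, r_g25, r_a0]

theorem r_G3_ok : okE 315 r_G3 = true := (okE_cons.2 ⟨r_g19_ok, (okE_cons.2 ⟨r_g20_ok, (okE_cons.2 ⟨r_g25_ok, (okE_cons.2 ⟨r_a0_ok, (okE_nil 315)⟩)⟩)⟩)⟩)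

noncomputable def r_E3 : List Net := [r_g19, r_g20, r_g25, r_a0]

theorem r_E3_ok : okE 315 r_E3 = true := (okE_cons.2 ⟨r_g19_ok, (okE_cons.2 ⟨r_g20_ok, (okE_cons.2 ⟨r_g25_ok, (okE_cons.2 ⟨r_a0_ok, (okE_nil 315)⟩)⟩)⟩)⟩)

noncomputable def r_G2 : List Net := [r_g16, r_g19, r_g20, r_g25, r_a0]

theorem r_G2_ok : okE 315 r_G2 = true := (okE_cons.2 ⟨r_g16_ok, (okE_cons.2 ⟨r_g19_ok, (okE_cons.2 ⟨r_g20_ok, (okE_cons.2 ⟨r_g25_ok, (okE_cons.2 ⟨r_a0_ok, (okE_nil 315)⟩)⟩)⟩)⟩)⟩)

noncomputable def r_E2 : List Net := [r_g16, r_g11, r_g12, r_g13, r_g19, r_g20, r_g25, r_a0]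

theorem r_E2_ok : okE 315 r_E2 = true := (okE_cons.2 ⟨r_g16_ok, (okE_cons.2 ⟨r_g11_ok, (okE_cons.2 ⟨r_g12_ok, (okE_cons.2 ⟨r_g13_ok, (okE_cons.2 ⟨r_g19_ok, (okE_cons.2 ⟨r_g20_ok, (okE_cons.2 ⟨r_g25_ok, (okE_cons.2 ⟨r_a0_ok, (okE_nil 315)⟩)⟩)⟩)⟩)⟩)⟩)⟩)⟩)

noncomputable def r_G1 : List Net := [r_g5, r_g16, r_g11, r_g12, r_g13, r_g19, r_g20, r_g25, r_a0]

theorem r_G1_ok : okE 315 r_G1 = true := (okE_cons.2 ⟨r_g5_ok, (okE_cons.2 ⟨r_g16_ok, (okE_cons.2 ⟨r_g11_ok, (okE_cons.2 ⟨r_g12_ok, (okE_cons.2 ⟨r_g13_ok, (okE_cons.2 ⟨r_g19_ok, (okE_cons.2 ⟨r_g20_ok, (okE_cons.2 ⟨r_g25_ok, (okE_cons.2 ⟨r_a0_ok, (okE_nil 315)⟩)⟩)⟩)⟩)⟩)⟩)⟩)⟩)⟩)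

noncomputable def r_E1 : List Net := [r_g5, r_g4, r_g6, r_g16, r_g11, r_g12, r_g13, r_g19, r_g20, r_g25, r_a0]

theorem r_E1_ok : okE 315 r_E1 = true := (okE_cons.2 ⟨r_g5_ok, (okE_cons.2 ⟨r_g4_ok, (okE_cons.2 ⟨r_g6_ok, (okE_cons.2 ⟨r_g16_ok, (okE_cons.2 ⟨r_g11_ok, (okE_cons.2 ⟨r_g12_ok, (okE_cons.2 ⟨r_g13_ok, (okE_cons.2 ⟨r_g19_ok, (okE_cons.2 ⟨r_g20_ok, (okE_cons.2 ⟨r_g25_ok, (okE_cons.2 ⟨r_a0_ok, (okE_nil 315)⟩)⟩)⟩)⟩)⟩)⟩)⟩)⟩)⟩)⟩)⟩)

noncomputable def r_G0 : List Net := [r_g1, r_g5, r_g4, r_g6, r_g16, r_g11, r_g12, r_g13, r_g19, r_g20, r_g25, r_a0]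

theorem r_G0_ok : okE 315 r_G0 = true := (okE_cons.2 ⟨r_g1_ok, (okE_cons.2 ⟨r_g5_ok, (okE_cons.2 ⟨r_g4_ok, (okE_cons.2 ⟨r_g6_ok, (okE_cons.2 ⟨r_g16_ok, (okE_cons.2 ⟨r_g11_ok, (okE_cons.2 ⟨r_g12_ok, (okE_cons.2 ⟨r_g13_ok, (okE_cons.2 ⟨r_g19_ok, (okE_cons.2 ⟨r_g20_ok, (okE_cons.2 ⟨r_g25_ok, (okE_cons.2 ⟨r_a0_ok, (okE_nil 315)⟩)⟩)⟩)⟩)⟩)⟩)⟩)⟩)⟩)⟩)⟩)⟩)

noncomputable def r_E0 : List Net := [r_g1, r_a8, r_a19, r_a27, r_g5, r_g4, r_g6, r_g16, r_g11, r_g12, r_g13, r_g19, r_g20, r_g25, r_a0]

theorem r_E0_ok : okE 315 r_E0 = true := (okE_cons.2 ⟨r_g1_ok, (okE_cons.2 ⟨r_a8_ok, (okE_cons.2 ⟨r_a19_ok, (okE_cons.2 ⟨r_a27_ok, (okE_cons.2 ⟨r_g5_ok, (okE_cons.2 ⟨r_g4_ok, (okE_cons.2 ⟨r_g6_ok, (okE_cons.2 ⟨r_g16_ok, (okE_cons.2 ⟨r_g11_ok, (okE_cons.2 ⟨r_g12_ok, (okE_cons.2 ⟨r_g13_ok, (okE_cons.2 ⟨r_g19_ok, (okE_cons.2 ⟨r_g20_ok, (okE_cons.2 ⟨r_g25_ok, (okE_cons.2 ⟨r_a0_ok, (okE_nil 315)⟩)⟩)⟩)⟩)⟩)⟩)⟩)⟩)⟩)⟩)⟩)⟩)⟩)⟩)⟩)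

theorem r_le3 : grp 315 r_V2 ≤ grp 315 r_O :=
  grp_le_of_memB r_hn r_hk r_O_ok r_V2_ok (ws := [nat_lit 0x7050307050307010507]) (by decide +kernel)

theorem r_le8 : grp 315 r_V7 ≤ grp 315 r_O :=
  grp_le_of_memB r_hn r_hk r_O_ok r_V7_ok (ws := [nat_lit 0x507070204040808, nat_lit 0x407050408010405080207060408, nat_lit 0x50108040702040208]) (by decide +kernel)

theorem r_le10 : grp 315 r_V9 ≤ grp 315 r_V7 :=
  grp_le_of_memB r_hn r_hk r_V7_ok r_V9_ok (ws := [nat_lit 3]) (by decide +kernel)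

theorem r_le15 : grp 315 r_V14 ≤ grp 315 r_V7 :=
  grp_le_of_memB r_hn r_hk r_V7_ok r_V14_ok (ws := [nat_lit 0x4040601040202, nat_lit 0x6060205040402, nat_lit 0x30303020402030503030604]) (by decide +kernel)

theorem r_le18 : grp 315 r_V17 ≤ grp 315 r_V14 :=
  grp_le_of_memB r_hn r_hk r_V14_ok r_V17_ok (ws := [nat_lit 1539]) (by decide +kernel)

theorem r_le22 : grp 315 r_V21 ≤ grp 315 r_V14 :=
  grp_le_of_memB r_hn r_hk r_V14_ok r_V21_ok (ws := [nat_lit 0x20402030206060105, nat_lit 0x3010502020401030602]) (by decide +kernel)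

theorem r_le24 : grp 315 r_V23 ≤ grp 315 r_V21 :=
  grp_le_of_memB r_hn r_hk r_V21_ok r_V23_ok (ws := [nat_lit 1]) (by decide +kernel)

theorem r_le27 : grp 315 r_V26 ≤ grp 315 r_V21 :=
  grp_le_of_memB r_hn r_hk r_V21_ok r_V26_ok (ws := [nat_lit 0x3030302030301, nat_lit 0x40402040203030302]) (by decide +kernel)

theorem r_le29 : grp 315 r_V28 ≤ grp 315 r_V26 :=
  grp_le_of_memB r_hn r_hk r_V26_ok r_V28_ok (ws := [nat_lit 1]) (by decide +kernel)

theorem r_le31 : grp 315 r_V30 ≤ grp 315 r_V26 :=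
  grp_le_of_memB r_hn r_hk r_V26_ok r_V30_ok (ws := [nat_lit 514, nat_lit 0x401040401010103]) (by decide +kernel)

theorem r_le33 : grp 315 r_V32 ≤ grp 315 r_V30 :=
  grp_le_of_memB r_hn r_hk r_V30_ok r_V32_ok (ws := [nat_lit 1]) (by decide +kernel)

theorem r_card6 : Nat.card (grp 315 r_E6) = 1 :=
  card_grp_nil 315

theorem r_leO6 : grp 315 r_E6 ≤ grp 315 r_O :=
  grp_nil_le _

theorem r_5_fix : grp 315 r_E6 ≤ MulAction.stabilizer (Equiv.Perm (Fin 315)) (⟨3, by decide⟩ : Fin 315) :=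
  grp_le_stab r_E6_ok (by decide : 3 < 315) (by decide +kernel)

noncomputable def r_5_ts : List ℕ := [nat_lit 0, nat_lit 1]

noncomputable def r_5_ds : List ℕ := [nat_lit 3, nat_lit 10]

theorem r_5_dist : Dist 315 r_E6 r_G5 (⟨3, by decide⟩ : Fin 315) r_5_ts r_5_ds :=
  dist_of_distB (k := 1) r_hn r_E6_ok r_G5_ok (by decide : 3 < 315) (by decide +kernel)

noncomputable def r_5_sl0 : SL := (SL.cons (nat_lit 1) (nat_lit 10) Ch.nil [] SL.nil)

theorem r_5_sc0 : SCs 315 r_E6 r_G5 (⟨3, by decide⟩ : Fin 315) (SL.words r_5_sl0) :=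
  scs_of_ok r_hn (det_lab r_hk ⊤) r_E6_ok r_G5_ok le_top le_top (by decide : 3 < 315) r_5_fix r_card6.le (by decide +kernel)

noncomputable def r_5_l : List ℕ := (appL (SL.words r_5_sl0) [])

theorem r_5_scs : SCs 315 r_E6 r_G5 (⟨3, by decide⟩ : Fin 315) r_5_l :=
  (SCs.append r_5_sc0 SCs.nil)

noncomputable def r_5_rl0_0 : RL := (RL.cons (nat_lit 0) (nat_lit 3) (nat_lit 0) (nat_lit 0) (nat_lit 1) (nat_lit 0) (RL.cons (nat_lit 1) (nat_lit 10) (nat_lit 0) (nat_lit 0) (nat_lit 0) (nat_lit 0) RL.nil))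

theorem r_5_good0_0 : GoodSet 315 r_E6 r_G5 (⟨3, by decide⟩ : Fin 315) r_5_ts (nat_lit 1) (RL.pts r_5_rl0_0) :=
  goodSet_of_ok r_hn (det_lab r_hk ⊤) r_E6_ok r_G5_ok le_top le_top (by decide : 3 < 315) (sepAt_lab r_hk _) (by decide +kernel)

theorem r_5_step0 : Step 315 r_E6 r_G5 r_5_ts (2 * 0 + 1) :=
  step_of_cover r_E6_ok r_5_dist (by decide +kernel) r_5_scs (by decide +kernel) r_5_good0_0 (kw := [])
    (conj_mem_of_scs r_E6_ok r_G5_ok (by decide : 3 < 315) r_5_scs (c := 0) (d := 10) (by decide +kernel)) (by decide +kernel)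

theorem r_5_lev : grp 315 r_G5 ⊓ MulAction.stabilizer (Equiv.Perm (Fin 315)) (⟨3, by decide⟩ : Fin 315) = grp 315 r_E6 :=
  sims_level (gs := r_V32) rfl (by decide) r_5_fix r_5_dist (forall_lt_one r_5_step0)

theorem r_5_cardG : Nat.card (grp 315 r_G5) = 2 :=
  card_of_level r_hn r_G5_ok (by decide : 3 < 315) r_5_lev r_card6 (m := 2) (by decide +kernel)

theorem r_le34 : grp 315 r_E5 ≤ grp 315 r_G5 :=
  grp_le_of_memB r_hn r_hk r_G5_ok r_E5_ok (ws := [nat_lit 1]) (by decide +kernel)

theorem r_le35 : grp 315 r_G5 ≤ grp 315 r_E5 :=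
  grp_le_of_memB r_hn r_hk r_E5_ok r_G5_ok (ws := [nat_lit 1]) (by decide +kernel)

theorem r_5_eq : grp 315 r_E5 = grp 315 r_G5 :=
  le_antisymm r_le34 r_le35

theorem r_card5 : Nat.card (grp 315 r_E5) = 2 :=
  by rw [r_5_eq]; exact r_5_cardG

theorem r_stab5 : grp 315 r_E5 ⊓ MulAction.stabilizer (Equiv.Perm (Fin 315)) (⟨3, by decide⟩ : Fin 315) = grp 315 r_E6 :=
  by rw [r_5_eq]; exact r_5_lev

theorem r_leO5 : grp 315 r_E5 ≤ grp 315 r_O :=
  r_5_eq.le.trans (grp_cons_le ((r_le31.trans (r_le27.trans (r_le22.trans (r_le15.trans (r_le8.trans (le_refl (grp 315 r_O))))))) (r_le33 (toPerm_mem_grp (E := r_V32) (by simp [r_V32])))) r_leO6)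

theorem r_4_fix : grp 315 r_E5 ≤ MulAction.stabilizer (Equiv.Perm (Fin 315)) (⟨24, by decide⟩ : Fin 315) :=
  grp_le_stab r_E5_ok (by decide : 24 < 315) (by decide +kernel)

noncomputable def r_4_ts : List ℕ := [nat_lit 0, nat_lit 1]

noncomputable def r_4_ds : List ℕ := [nat_lit 24, nat_lit 21]

theorem r_4_dist : Dist 315 r_E5 r_G4 (⟨24, by decide⟩ : Fin 315) r_4_ts r_4_ds :=
  dist_of_distB (k := 1) r_hn r_E5_ok r_G4_ok (by decide : 24 < 315) (by decide +kernel)

noncomputable def r_4_sl0 : SL := (SL.cons (nat_lit 1) (nat_lit 21) (Ch.cons (nat_lit 3) [nat_lit 1] Ch.nil) [nat_lit 1] SL.nil)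

theorem r_4_sc0 : SCs 315 r_E5 r_G4 (⟨24, by decide⟩ : Fin 315) (SL.words r_4_sl0) :=
  scs_of_ok r_hn (det_lab r_hk ⊤) r_E5_ok r_G4_ok le_top le_top (by decide : 24 < 315) r_4_fix r_card5.le (by decide +kernel)

noncomputable def r_4_l : List ℕ := (appL (SL.words r_4_sl0) [])

theorem r_4_scs : SCs 315 r_E5 r_G4 (⟨24, by decide⟩ : Fin 315) r_4_l :=
  (SCs.append r_4_sc0 SCs.nil)

noncomputable def r_4_rl0_0 : RL := (RL.cons (nat_lit 0) (nat_lit 24) (nat_lit 0) (nat_lit 0) (nat_lit 1) (nat_lit 1) (RL.cons (nat_lit 1) (nat_lit 21) (nat_lit 0) (nat_lit 0) (nat_lit 0) (nat_lit 0) RL.nil))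

theorem r_4_good0_0 : GoodSet 315 r_E5 r_G4 (⟨24, by decide⟩ : Fin 315) r_4_ts (nat_lit 1) (RL.pts r_4_rl0_0) :=
  goodSet_of_ok r_hn (det_lab r_hk ⊤) r_E5_ok r_G4_ok le_top le_top (by decide : 24 < 315) (sepAt_lab r_hk _) (by decide +kernel)

theorem r_4_step0 : Step 315 r_E5 r_G4 r_4_ts (2 * 0 + 1) :=
  step_of_cover r_E5_ok r_4_dist (by decide +kernel) r_4_scs (by decide +kernel) r_4_good0_0 (kw := [nat_lit 1])
    (conj_mem_of_scs r_E5_ok r_G4_ok (by decide : 24 < 315) r_4_scs (c := 0) (d := 21) (by decide +kernel)) (by decide +kernel)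

theorem r_4_lev : grp 315 r_G4 ⊓ MulAction.stabilizer (Equiv.Perm (Fin 315)) (⟨24, by decide⟩ : Fin 315) = grp 315 r_E5 :=
  sims_level (gs := r_V28) rfl (by decide) r_4_fix r_4_dist (forall_lt_one r_4_step0)

theorem r_4_cardG : Nat.card (grp 315 r_G4) = 4 :=
  card_of_level r_hn r_G4_ok (by decide : 24 < 315) r_4_lev r_card5 (m := 2) (by decide +kernel)

theorem r_le36 : grp 315 r_E4 ≤ grp 315 r_G4 :=
  grp_le_of_memB r_hn r_hk r_G4_ok r_E4_ok (ws := [nat_lit 1, nat_lit 769, nat_lit 3]) (by decide +kernel)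

theorem r_le37 : grp 315 r_G4 ≤ grp 315 r_E4 :=
  grp_le_of_memB r_hn r_hk r_E4_ok r_G4_ok (ws := [nat_lit 1, nat_lit 5]) (by decide +kernel)

theorem r_4_eq : grp 315 r_E4 = grp 315 r_G4 :=
  le_antisymm r_le36 r_le37

theorem r_card4 : Nat.card (grp 315 r_E4) = 4 :=
  by rw [r_4_eq]; exact r_4_cardG

theorem r_stab4 : grp 315 r_E4 ⊓ MulAction.stabilizer (Equiv.Perm (Fin 315)) (⟨24, by decide⟩ : Fin 315) = grp 315 r_E5 :=
  by rw [r_4_eq]; exact r_4_lev

theorem r_leO4 : grp 315 r_E4 ≤ grp 315 r_O :=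
  r_4_eq.le.trans (grp_cons_le ((r_le27.trans (r_le22.trans (r_le15.trans (r_le8.trans (le_refl (grp 315 r_O)))))) (r_le29 (toPerm_mem_grp (E := r_V28) (by simp [r_V28])))) r_leO5)

theorem r_3_fix : grp 315 r_E4 ≤ MulAction.stabilizer (Equiv.Perm (Fin 315)) (⟨1, by decide⟩ : Fin 315) :=
  grp_le_stab r_E4_ok (by decide : 1 < 315) (by decide +kernel)

noncomputable def r_3_ts : List ℕ := [nat_lit 0, nat_lit 1, nat_lit 2, nat_lit 66306]

noncomputable def r_3_ds : List ℕ := [nat_lit 1, nat_lit 24, nat_lit 25, nat_lit 2]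

theorem r_3_dist : Dist 315 r_E4 r_G3 (⟨1, by decide⟩ : Fin 315) r_3_ts r_3_ds :=
  dist_of_distB (k := 2) r_hn r_E4_ok r_G3_ok (by decide : 1 < 315) (by decide +kernel)

noncomputable def r_3_sl0 : SL := (SL.cons (nat_lit 1) (nat_lit 24) (Ch.cons (nat_lit 3) [nat_lit 5] Ch.nil) [nat_lit 5] (SL.cons (nat_lit 2) (nat_lit 25) (Ch.cons (nat_lit 3) [nat_lit 5] Ch.nil) [nat_lit 5] (SL.cons (nat_lit 66306) (nat_lit 2) (Ch.cons (nat_lit 3) [nat_lit 1] Ch.nil) [nat_lit 1281] SL.nil)))

theorem r_3_sc0 : SCs 315 r_E4 r_G3 (⟨1, by decide⟩ : Fin 315) (SL.words r_3_sl0) :=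
  scs_of_ok r_hn (det_lab r_hk ⊤) r_E4_ok r_G3_ok le_top le_top (by decide : 1 < 315) r_3_fix r_card4.le (by decide +kernel)

noncomputable def r_3_l : List ℕ := (appL (SL.words r_3_sl0) [])

theorem r_3_scs : SCs 315 r_E4 r_G3 (⟨1, by decide⟩ : Fin 315) r_3_l :=
  (SCs.append r_3_sc0 SCs.nil)

noncomputable def r_3_rl0_0 : RL := (RL.cons (nat_lit 0) (nat_lit 1) (nat_lit 0) (nat_lit 0) (nat_lit 2) (nat_lit 0) (RL.cons (nat_lit 1) (nat_lit 24) (nat_lit 0) (nat_lit 0) (nat_lit 0) (nat_lit 0) (RL.cons (nat_lit 1) (nat_lit 21) (nat_lit 1) (nat_lit 0) (nat_lit 3) (nat_lit 0) (RL.cons (nat_lit 2) (nat_lit 25) (nat_lit 0) (nat_lit 0) (nat_lit 1) (nat_lit 0) (RL.cons (nat_lit 2) (nat_lit 20) (nat_lit 1) (nat_lit 1) (nat_lit 1) (nat_lit 1281) (RL.cons (nat_lit 3) (nat_lit 2) (nat_lit 0) (nat_lit 1) (nat_lit 2) (nat_lit 1) RL.nil))))))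

theorem r_3_good0_0 : GoodSet 315 r_E4 r_G3 (⟨1, by decide⟩ : Fin 315) r_3_ts (nat_lit 1) (RL.pts r_3_rl0_0) :=
  goodSet_of_ok r_hn (det_lab r_hk ⊤) r_E4_ok r_G3_ok le_top le_top (by decide : 1 < 315) (sepAt_lab r_hk _) (by decide +kernel)

theorem r_3_step0 : Step 315 r_E4 r_G3 r_3_ts (2 * 0 + 1) :=
  step_of_cover r_E4_ok r_3_dist (by decide +kernel) r_3_scs (by decide +kernel) r_3_good0_0 (kw := [nat_lit 5])
    (conj_mem_of_scs r_E4_ok r_G3_ok (by decide : 1 < 315) r_3_scs (c := 0) (d := 24) (by decide +kernel)) (by decide +kernel)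

theorem r_3_lev : grp 315 r_G3 ⊓ MulAction.stabilizer (Equiv.Perm (Fin 315)) (⟨1, by decide⟩ : Fin 315) = grp 315 r_E4 :=
  sims_level (gs := r_V23) rfl (by decide) r_3_fix r_3_dist (forall_lt_one r_3_step0)

theorem r_3_cardG : Nat.card (grp 315 r_G3) = 24 :=
  card_of_level r_hn r_G3_ok (by decide : 1 < 315) r_3_lev r_card4 (m := 6) (by decide +kernel)

theorem r_le38 : grp 315 r_E3 ≤ grp 315 r_G3 :=
  grp_le_of_memB r_hn r_hk r_G3_ok r_E3_ok (ws := [nat_lit 1, nat_lit 3, nat_lit 5, nat_lit 7]) (by decide +kernel)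

theorem r_le39 : grp 315 r_G3 ≤ grp 315 r_E3 :=
  grp_le_of_memB r_hn r_hk r_E3_ok r_G3_ok (ws := [nat_lit 1, nat_lit 3, nat_lit 5, nat_lit 7]) (by decide +kernel)

theorem r_3_eq : grp 315 r_E3 = grp 315 r_G3 :=
  le_antisymm r_le38 r_le39

theorem r_card3 : Nat.card (grp 315 r_E3) = 24 :=
  by rw [r_3_eq]; exact r_3_cardG

theorem r_stab3 : grp 315 r_E3 ⊓ MulAction.stabilizer (Equiv.Perm (Fin 315)) (⟨1, by decide⟩ : Fin 315) = grp 315 r_E4 :=
  by rw [r_3_eq]; exact r_3_lev

theorem r_leO3 : grp 315 r_E3 ≤ grp 315 r_O :=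
  r_3_eq.le.trans (grp_cons_le ((r_le22.trans (r_le15.trans (r_le8.trans (le_refl (grp 315 r_O))))) (r_le24 (toPerm_mem_grp (E := r_V23) (by simp [r_V23])))) r_leO4)

theorem r_2_fix : grp 315 r_E3 ≤ MulAction.stabilizer (Equiv.Perm (Fin 315)) (⟨26, by decide⟩ : Fin 315) :=
  grp_le_stab r_E3_ok (by decide : 26 < 315) (by decide +kernel)

noncomputable def r_2_ts : List ℕ := [nat_lit 0, nat_lit 1, nat_lit 65793]

noncomputable def r_2_ds : List ℕ := [nat_lit 26, nat_lit 1, nat_lit 19]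

theorem r_2_dist : Dist 315 r_E3 r_G2 (⟨26, by decide⟩ : Fin 315) r_2_ts r_2_ds :=
  dist_of_distB (k := 2) r_hn r_E3_ok r_G2_ok (by decide : 26 < 315) (by decide +kernel)

noncomputable def r_2_sl0 : SL := (SL.cons (nat_lit 1) (nat_lit 1) (Ch.cons (nat_lit 24) [nat_lit 3, nat_lit 5] (Ch.cons (nat_lit 3) [nat_lit 7] Ch.nil)) [nat_lit 66306, nat_lit 0x7010302, nat_lit 7] (SL.cons (nat_lit 65793) (nat_lit 19) (Ch.cons (nat_lit 3) [nat_lit 515, nat_lit 459522] Ch.nil) [nat_lit 515, nat_lit 459522] SL.nil))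

theorem r_2_sc0 : SCs 315 r_E3 r_G2 (⟨26, by decide⟩ : Fin 315) (SL.words r_2_sl0) :=
  scs_of_ok r_hn (det_lab r_hk ⊤) r_E3_ok r_G2_ok le_top le_top (by decide : 26 < 315) r_2_fix r_card3.le (by decide +kernel)

noncomputable def r_2_l : List ℕ := (appL (SL.words r_2_sl0) [])

theorem r_2_scs : SCs 315 r_E3 r_G2 (⟨26, by decide⟩ : Fin 315) r_2_l :=
  (SCs.append r_2_sc0 SCs.nil)

noncomputable def r_2_rl0_0 : RL := (RL.cons (nat_lit 0) (nat_lit 26) (nat_lit 0) (nat_lit 515) (nat_lit 1) (nat_lit 515) (RL.cons (nat_lit 1) (nat_lit 1) (nat_lit 0) (nat_lit 0) (nat_lit 0) (nat_lit 0) (RL.cons (nat_lit 1) (nat_lit 24) (nat_lit 1) (nat_lit 259) (nat_lit 1) (nat_lit 197123) (RL.cons (nat_lit 1) (nat_lit 25) (nat_lit 2) (nat_lit 0) (nat_lit 1) (nat_lit 1) (RL.cons (nat_lit 1) (nat_lit 2) (nat_lit 66306) (nat_lit 0) (nat_lit 2) (nat_lit 0x3010302) (RL.cons (nat_lit 2) (nat_lit 19) (nat_lit 0) (nat_lit 2) (nat_lit 1) (nat_lit 2) RL.nil))))))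

theorem r_2_good0_0 : GoodSet 315 r_E3 r_G2 (⟨26, by decide⟩ : Fin 315) r_2_ts (nat_lit 1) (RL.pts r_2_rl0_0) :=
  goodSet_of_ok r_hn (det_lab r_hk ⊤) r_E3_ok r_G2_ok le_top le_top (by decide : 26 < 315) (sepAt_lab r_hk _) (by decide +kernel)

theorem r_2_step0 : Step 315 r_E3 r_G2 r_2_ts (2 * 0 + 1) :=
  step_of_cover r_E3_ok r_2_dist (by decide +kernel) r_2_scs (by decide +kernel) r_2_good0_0 (kw := [nat_lit 3, nat_lit 5, nat_lit 7])
    (conj_mem_of_scs r_E3_ok r_G2_ok (by decide : 26 < 315) r_2_scs (c := 0) (d := 1) (by decide +kernel)) (by decide +kernel)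

theorem r_2_lev : grp 315 r_G2 ⊓ MulAction.stabilizer (Equiv.Perm (Fin 315)) (⟨26, by decide⟩ : Fin 315) = grp 315 r_E3 :=
  sims_level (gs := r_V17) rfl (by decide) r_2_fix r_2_dist (forall_lt_one r_2_step0)

theorem r_2_cardG : Nat.card (grp 315 r_G2) = 192 :=
  card_of_level r_hn r_G2_ok (by decide : 26 < 315) r_2_lev r_card3 (m := 8) (by decide +kernel)

theorem r_le40 : grp 315 r_E2 ≤ grp 315 r_G2 :=
  grp_le_of_memB r_hn r_hk r_G2_ok r_E2_ok (ws := [nat_lit 1, nat_lit 0x503050204, nat_lit 2308, nat_lit 590850, nat_lit 3, nat_lit 5, nat_lit 7, nat_lit 9]) (by decide +kernel)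

theorem r_le41 : grp 315 r_G2 ≤ grp 315 r_E2 :=
  grp_le_of_memB r_hn r_hk r_E2_ok r_G2_ok (ws := [nat_lit 1, nat_lit 9, nat_lit 11, nat_lit 13, nat_lit 15]) (by decide +kernel)

theorem r_2_eq : grp 315 r_E2 = grp 315 r_G2 :=
  le_antisymm r_le40 r_le41

theorem r_card2 : Nat.card (grp 315 r_E2) = 192 :=
  by rw [r_2_eq]; exact r_2_cardG

theorem r_stab2 : grp 315 r_E2 ⊓ MulAction.stabilizer (Equiv.Perm (Fin 315)) (⟨26, by decide⟩ : Fin 315) = grp 315 r_E3 :=
  by rw [r_2_eq]; exact r_2_lev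

theorem r_leO2 : grp 315 r_E2 ≤ grp 315 r_O :=
  r_2_eq.le.trans (grp_cons_le ((r_le15.trans (r_le8.trans (le_refl (grp 315 r_O)))) (r_le18 (toPerm_mem_grp (E := r_V17) (by simp [r_V17])))) r_leO3)

theorem r_1_fix : grp 315 r_E2 ≤ MulAction.stabilizer (Equiv.Perm (Fin 315)) (⟨23, by decide⟩ : Fin 315) :=
  grp_le_stab r_E2_ok (by decide : 23 < 315) (by decide +kernel)

noncomputable def r_1_ts : List ℕ := [nat_lit 0, nat_lit 1, nat_lit 66305]

noncomputable def r_1_ds : List ℕ := [nat_lit 23, nat_lit 26, nat_lit 22]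

theorem r_1_dist : Dist 315 r_E2 r_G1 (⟨23, by decide⟩ : Fin 315) r_1_ts r_1_ds :=
  dist_of_distB (k := 2) r_hn r_E2_ok r_G1_ok (by decide : 23 < 315) (by decide +kernel)

noncomputable def r_1_sl0 : SL := (SL.cons (nat_lit 1) (nat_lit 26) (Ch.cons (nat_lit 1) [nat_lit 9] (Ch.cons (nat_lit 24) [nat_lit 11, nat_lit 13] (Ch.cons (nat_lit 3) [nat_lit 15] Ch.nil))) [nat_lit 3848, nat_lit 721671, nat_lit 0xf0b0307, nat_lit 15] (SL.cons (nat_lit 66305) (nat_lit 22) (Ch.cons (nat_lit 3) [nat_lit 2817, nat_lit 0xf0b0903] (Ch.cons (nat_lit 4) [nat_lit 2562] Ch.nil)) [nat_lit 0x90b0a01, nat_lit 0xf090b0101, nat_lit 985603] SL.nil))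

theorem r_1_sc0 : SCs 315 r_E2 r_G1 (⟨23, by decide⟩ : Fin 315) (SL.words r_1_sl0) :=
  scs_of_ok r_hn (det_lab r_hk ⊤) r_E2_ok r_G1_ok le_top le_top (by decide : 23 < 315) r_1_fix r_card2.le (by decide +kernel)

noncomputable def r_1_l : List ℕ := (appL (SL.words r_1_sl0) [])

theorem r_1_scs : SCs 315 r_E2 r_G1 (⟨23, by decide⟩ : Fin 315) r_1_l :=
  (SCs.append r_1_sc0 SCs.nil)

noncomputable def r_1_rl0_0 : RL := (RL.cons (nat_lit 0) (nat_lit 23) (nat_lit 0) (nat_lit 514) (nat_lit 1) (nat_lit 514) (RL.cons (nat_lit 1) (nat_lit 26) (nat_lit 0) (nat_lit 0) (nat_lit 0) (nat_lit 0) (RL.cons (nat_lit 1) (nat_lit 1) (nat_lit 1) (nat_lit 8) (nat_lit 1) (nat_lit 0xf0b090b01) (RL.cons (nat_lit 1) (nat_lit 19) (nat_lit 775) (nat_lit 0) (nat_lit 2) (nat_lit 0x90b0a0202) (RL.cons (nat_lit 2) (nat_lit 22) (nat_lit 0) (nat_lit 1) (nat_lit 1) (nat_lit 0) RL.nil)))))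

theorem r_1_good0_0 : GoodSet 315 r_E2 r_G1 (⟨23, by decide⟩ : Fin 315) r_1_ts (nat_lit 1) (RL.pts r_1_rl0_0) :=
  goodSet_of_ok r_hn (det_lab r_hk ⊤) r_E2_ok r_G1_ok le_top le_top (by decide : 23 < 315) (sepAt_lab r_hk _) (by decide +kernel)

theorem r_1_step0 : Step 315 r_E2 r_G1 r_1_ts (2 * 0 + 1) :=
  step_of_cover r_E2_ok r_1_dist (by decide +kernel) r_1_scs (by decide +kernel) r_1_good0_0 (kw := [nat_lit 9, nat_lit 11, nat_lit 13, nat_lit 15])
    (conj_mem_of_scs r_E2_ok r_G1_ok (by decide : 23 < 315) r_1_scs (c := 0) (d := 26) (by decide +kernel)) (by decide +kernel)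

theorem r_1_lev : grp 315 r_G1 ⊓ MulAction.stabilizer (Equiv.Perm (Fin 315)) (⟨23, by decide⟩ : Fin 315) = grp 315 r_E2 :=
  sims_level (gs := r_V9) rfl (by decide) r_1_fix r_1_dist (forall_lt_one r_1_step0)

theorem r_1_cardG : Nat.card (grp 315 r_G1) = 1920 :=
  card_of_level r_hn r_G1_ok (by decide : 23 < 315) r_1_lev r_card2 (m := 10) (by decide +kernel)

theorem r_le42 : grp 315 r_E1 ≤ grp 315 r_G1 :=
  grp_le_of_memB r_hn r_hk r_G1_ok r_E1_ok (ws := [nat_lit 1, nat_lit 0x404010301, nat_lit 0xd0b0d0c040104, nat_lit 3, nat_lit 5, nat_lit 7, nat_lit 9, nat_lit 11, nat_lit 13, nat_lit 15, nat_lit 17]) (by decide +kernel)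

theorem r_le43 : grp 315 r_G1 ≤ grp 315 r_E1 :=
  grp_le_of_memB r_hn r_hk r_E1_ok r_G1_ok (ws := [nat_lit 1, nat_lit 7, nat_lit 9, nat_lit 11, nat_lit 13, nat_lit 15, nat_lit 17, nat_lit 19, nat_lit 21]) (by decide +kernel)

theorem r_1_eq : grp 315 r_E1 = grp 315 r_G1 :=
  le_antisymm r_le42 r_le43

theorem r_card1 : Nat.card (grp 315 r_E1) = 1920 :=
  by rw [r_1_eq]; exact r_1_cardG

theorem r_stab1 : grp 315 r_E1 ⊓ MulAction.stabilizer (Equiv.Perm (Fin 315)) (⟨23, by decide⟩ : Fin 315) = grp 315 r_E2 :=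
  by rw [r_1_eq]; exact r_1_lev

theorem r_leO1 : grp 315 r_E1 ≤ grp 315 r_O :=
  r_1_eq.le.trans (grp_cons_le ((r_le8.trans (le_refl (grp 315 r_O))) (r_le10 (toPerm_mem_grp (E := r_V9) (by simp [r_V9])))) r_leO2)

theorem r_0_fix : grp 315 r_E1 ≤ MulAction.stabilizer (Equiv.Perm (Fin 315)) (⟨0, by decide⟩ : Fin 315) :=
  grp_le_stab r_E1_ok (by decide : 0 < 315) (by decide +kernel)

noncomputable def r_0_ts : List ℕ := [nat_lit 0, nat_lit 1, nat_lit 257, nat_lit 65793, nat_lit 0x101010302, nat_lit 0x101070202]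

noncomputable def r_0_ds : List ℕ := [nat_lit 0, nat_lit 23, nat_lit 249, nat_lit 193, nat_lit 110, nat_lit 310]

theorem r_0_dist : Dist 315 r_E1 r_G0 (⟨0, by decide⟩ : Fin 315) r_0_ts r_0_ds :=
  dist_of_distB (k := 3) r_hn r_E1_ok r_G0_ok (by decide : 0 < 315) (by decide +kernel)

noncomputable def r_0_sl0 : SL := (SL.cons (nat_lit 1) (nat_lit 23) (Ch.cons (nat_lit 26) [nat_lit 7, nat_lit 9, nat_lit 11, nat_lit 13] (Ch.cons (nat_lit 1) [nat_lit 15] (Ch.cons (nat_lit 24) [nat_lit 17, nat_lit 19] (Ch.cons (nat_lit 3) [nat_lit 21] Ch.nil)))) [nat_lit 0x151011090d0107, nat_lit 0x15110f03, nat_lit 0x1507070105, nat_lit 0x1510090d0107, nat_lit 0x1110090d0107, nat_lit 0x1011090d010e, nat_lit 0x11101107070105, nat_lit 5379] (SL.cons (nat_lit 257) (nat_lit 249) (Ch.cons (nat_lit 3) [nat_lit 3854, nat_lit 0x101109] Ch.nil) [nat_lit 0x11101107070105, nat_lit 0x110f090d0107] (SL.cons (nat_lit 65793) (nat_lit 193) (Ch.cons (nat_lit 27) [nat_lit 5385, nat_lit 0xf080801] Ch.nil)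 [nat_lit 0x110f11100906, nat_lit 0xf070105] (SL.cons (nat_lit 0x101010302) (nat_lit 110) (Ch.cons (nat_lit 28) [nat_lit 0xf111008, nat_lit 0x151011070107, nat_lit 0x11090d0208] Ch.nil) [nat_lit 0x110f11100e01, nat_lit 0x151107, nat_lit 3849] (SL.cons (nat_lit 0x101070202) (nat_lit 310) (Ch.cons (nat_lit 28) [nat_lit 0x151109, nat_lit 3847, nat_lit 0x1510110905] Ch.nil) [nat_lit 0x110f0808010e, nat_lit 0x11100e, nat_lit 0x110f110705] SL.nil)))))

theorem r_0_sc0 : SCs 315 r_E1 r_G0 (⟨0, by decide⟩ : Fin 315) (SL.words r_0_sl0) :=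
  scs_of_ok r_hn (det_lab r_hk ⊤) r_E1_ok r_G0_ok le_top le_top (by decide : 0 < 315) r_0_fix r_card1.le (by decide +kernel)

noncomputable def r_0_l : List ℕ := (appL (SL.words r_0_sl0) [])

theorem r_0_scs : SCs 315 r_E1 r_G0 (⟨0, by decide⟩ : Fin 315) r_0_l :=
  (SCs.append r_0_sc0 SCs.nil)

noncomputable def r_0_rl0_0 : RL := (RL.cons (nat_lit 0) (nat_lit 0) (nat_lit 0) (nat_lit 520) (nat_lit 1) (nat_lit 0x1110070208) (RL.cons (nat_lit 1) (nat_lit 23) (nat_lit 0) (nat_lit 0) (nat_lit 0) (nat_lit 0) (RL.cons (nat_lit 1) (nat_lit 26) (nat_lit 1) (nat_lit 1543) (nat_lit 2) (nat_lit 0x1511100905) (RL.cons (nat_lit 1) (nat_lit 22) (nat_lit 3) (nat_lit 1) (nat_lit 1) (nat_lit 0x111011090d) (RL.cons (nat_lit 2) (nat_lit 249) (nat_lit 0) (nat_lit 0) (nat_lit 1) (nat_lit 0) (RL.cons (nat_lit 2) (nat_lit 220) (nat_lit 1) (nat_lit 3338) (nat_lit 3) (nat_lit 0xf1108080107) (RL.cons (nat_lit 2) (nat_lit 272) (nat_lit 3) (nat_lit 1) (nat_lit 2) (nat_lit 0x7070105) (RL.cons (nat_lit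 3) (nat_lit 193) (nat_lit 0) (nat_lit 0) (nat_lit 2) (nat_lit 0) (RL.cons (nat_lit 3) (nat_lit 68) (nat_lit 1) (nat_lit 0) (nat_lit 4) (nat_lit 0) (RL.cons (nat_lit 3) (nat_lit 36) (nat_lit 3) (nat_lit 1808) (nat_lit 3) (nat_lit 0x111011070705) (RL.cons (nat_lit 3) (nat_lit 161) (nat_lit 259) (nat_lit 8) (nat_lit 5) (nat_lit 0x150f080801) (RL.cons (nat_lit 4) (nat_lit 110) (nat_lit 0) (nat_lit 2051) (nat_lit 3) (nat_lit 0x151001) (RL.cons (nat_lit 4) (nat_lit 209) (nat_lit 1) (nat_lit 259) (nat_lit 5) (nat_lit 0x110f111001) (RL.cons (nat_lit 5) (nat_lit 310) (nat_lit 0) (nat_lit 69633) (nat_lit 3) (nat_lit 0x15111011080801) (RL.cons (nat_lit 5) (nat_lit 308) (nat_lit 2) (nat_lit 265) (nat_lit 4) (nat_lit 0x15111009) RL.nil)))))))))))))))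

theorem r_0_good0_0 : GoodSet 315 r_E1 r_G0 (⟨0, by decide⟩ : Fin 315) r_0_ts (nat_lit 1) (RL.pts r_0_rl0_0) :=
  goodSet_of_ok r_hn (det_lab r_hk ⊤) r_E1_ok r_G0_ok le_top le_top (by decide : 0 < 315) (sepAt_lab r_hk _) (by decide +kernel)

theorem r_0_step0 : Step 315 r_E1 r_G0 r_0_ts (2 * 0 + 1) :=
  step_of_cover r_E1_ok r_0_dist (by decide +kernel) r_0_scs (by decide +kernel) r_0_good0_0 (kw := [nat_lit 7, nat_lit 9, nat_lit 11, nat_lit 13, nat_lit 15, nat_lit 17, nat_lit 19, nat_lit 21])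
    (conj_mem_of_scs r_E1_ok r_G0_ok (by decide : 0 < 315) r_0_scs (c := 0) (d := 23) (by decide +kernel)) (by decide +kernel)

theorem r_0_lev : grp 315 r_G0 ⊓ MulAction.stabilizer (Equiv.Perm (Fin 315)) (⟨0, by decide⟩ : Fin 315) = grp 315 r_E1 :=
  sims_level (gs := r_V2) rfl (by decide) r_0_fix r_0_dist (forall_lt_one r_0_step0)

theorem r_0_cardG : Nat.card (grp 315 r_G0) = 604800 :=
  card_of_level r_hn r_G0_ok (by decide : 0 < 315) r_0_lev r_card1 (m := 315) (by decide +kernel)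

theorem r_le44 : grp 315 r_E0 ≤ grp 315 r_G0 :=
  grp_le_of_memB r_hn r_hk r_G0_ok r_E0_ok (ws := [nat_lit 1, nat_lit 0x121005010309, nat_lit 5893, nat_lit 0x1311131203090101070103, nat_lit 3, nat_lit 5, nat_lit 7, nat_lit 9, nat_lit 11, nat_lit 13, nat_lit 15, nat_lit 17, nat_lit 19, nat_lit 21, nat_lit 23]) (by decide +kernel)

theorem r_le45 : grp 315 r_G0 ≤ grp 315 r_E0 :=
  grp_le_of_memB r_hn r_hk r_E0_ok r_G0_ok (ws := [nat_lit 1, nat_lit 9, nat_lit 11, nat_lit 13, nat_lit 15, nat_lit 17, nat_lit 19, nat_lit 21, nat_lit 23, nat_lit 25, nat_lit 27, nat_lit 29]) (by decide +kernel)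

theorem r_0_eq : grp 315 r_E0 = grp 315 r_G0 :=
  le_antisymm r_le44 r_le45

theorem r_card0 : Nat.card (grp 315 r_E0) = 604800 :=
  by rw [r_0_eq]; exact r_0_cardG

theorem r_stab0 : grp 315 r_E0 ⊓ MulAction.stabilizer (Equiv.Perm (Fin 315)) (⟨0, by decide⟩ : Fin 315) = grp 315 r_E1 :=
  by rw [r_0_eq]; exact r_0_lev

theorem r_leO0 : grp 315 r_E0 ≤ grp 315 r_O :=
  r_0_eq.le.trans (grp_cons_le ((le_refl (grp 315 r_O)) (r_le3 (toPerm_mem_grp (E := r_V2) (by simp [r_V2])))) r_leO1)

theorem r_le46 : grp 315 r_O ≤ grp 315 r_E0 :=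
  grp_le_of_memB r_hn r_hk r_E0_ok r_O_ok (ws := [nat_lit 29, nat_lit 3, nat_lit 5, nat_lit 7]) (by decide +kernel)

theorem r_eq : grp 315 r_O = grp 315 r_E0 :=
  le_antisymm r_le46 r_leO0

theorem r_card : Nat.card (grp 315 r_O) = 604800 :=
  by rw [r_eq]; exact r_card0

noncomputable def r_ch : Ch := (Ch.cons (nat_lit 0) [nat_lit 1, nat_lit 3, nat_lit 5, nat_lit 7] (Ch.cons (nat_lit 23) [nat_lit 9, nat_lit 11, nat_lit 13] (Ch.cons (nat_lit 26) [nat_lit 15, nat_lit 17, nat_lit 19, nat_lit 21] (Ch.cons (nat_lit 1) [nat_lit 23] (Ch.cons (nat_lit 24) [nat_lit 25, nat_lit 27] (Ch.cons (nat_lit 3) [nat_lit 29] Ch.nil))))))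

theorem r_exact : Ch.Exact 315 r_E0 r_ch (grp 315 r_E0) :=
  Ch.exact (k := 9) (L := (lab 315 9)) r_hn r_E0_ok (by decide +kernel) (wgrp_le_grp _ _ _) r_card0.le

theorem r_trans : Nat.beq (orb (Net.app F1) r_O (Nat.shiftLeft 1 0)) (full 315) = true :=
  by decide +kernel

end Cfsg.Agent.H47.J2P
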