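import Mathlib
import Cfsg.Agent.H43.Cent
import Cfsg.Agent.H47.J2H
import Cfsg.Agent.H47.PcNet

set_option autoImplicit false
set_option maxRecDepth 200000
set_option linter.style.longLine false

namespace Cfsg.Agent.H47.J2P

open Cfsg.Agent.H43 Cfsg.Agent.H74 Cfsg.Agent.H46

theorem mu_hn : NOk 100 := by decide

theorem mu_hk : 100 ≤ 2 ^ 7 := by decide

noncomputable def mu_g1 : Net := (Net.cons (nat_lit 1) (nat_lit 0x1500144550454541145504514) (Net.cons (nat_lit 2) (nat_lit 0x1200010033320032021121010) (Net.cons (nat_lit 4) (nat_lit 0x10b030d0f0d0909060d0a04) (Net.cons (nat_lit 8) (nat_lit 0xc20000006e003400810002) (Net.cons (nat_lit 16) (nat_lit 0x7ba80000dc4400000000) (Net.cons (nat_lit 32) (nat_lit 0x200000000542b01a0) (Net.cons (nat_lit 64) (nat_lit 0xc773f09b7) (Net.cons (nat_lit 32) (nat_lit 0x700000000342a9d4c) (Net.cons (nat_lit 16) (nat_lit 0xce5f0000f64f00003589) (Net.cons (nat_lit 8) (nat_lit 0x9c003e007a007000e300bb)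 (Net.cons (nat_lit 4) (nat_lit 0x6050d06070d0a0201090a0f) (Net.cons (nat_lit 2) (nat_lit 0x1013223131122311202113331) (Net.cons (nat_lit 1) (nat_lit 0x5100000441550440150004110) Net.nil)))))))))))))

theorem mu_g1_ok : Net.ok 100 mu_g1 = true := by decide +kernel

noncomputable def mu_g2 : Net := (Net.cons (nat_lit 1) (nat_lit 0x4050451454444140445011400) (Net.cons (nat_lit 2) (nat_lit 0x312202323100020001021100) (Net.cons (nat_lit 4) (nat_lit 0xe0e010c090a0e0d0a0e040b) (Net.cons (nat_lit 8) (nat_lit 0xf700c3003d002200e50006) (Net.cons (nat_lit 16) (nat_lit 0xa5a000003b200000000a) (Net.cons (nat_lit 32) (nat_lit 0x7a0b84f0) (Net.cons (nat_lit 64) (nat_lit 0xffa5ffdf7) (Net.cons (nat_lit 32) (nat_lit 0x7eb68fa0) (Net.cons (nat_lit 16) (nat_lit 0x5f600006ad00000a551) (Net.cons (nat_lit 8) (nat_lit 0xbc003600cf00c800b5004f) (Net.cons (nat_lit 4) (nat_lit 0xf0402060b0f070a0b050a) (Net.cons (nat_lit 2) (nat_lit 0x2300031013223202032312233)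 (Net.cons (nat_lit 1) (nat_lit 0x4050451454444140445011400) Net.nil)))))))))))))

theorem mu_g2_ok : Net.ok 100 mu_g2 = true := by decide +kernel

noncomputable def mu_g3 : Net := (Net.cons (nat_lit 1) (nat_lit 0x4005545110110445045514410) (Net.cons (nat_lit 2) (nat_lit 0x2313012013200202203331010) (Net.cons (nat_lit 4) (nat_lit 0x70604000402040e0d030c02) (Net.cons (nat_lit 8) (nat_lit 0x88008c008a0000006c0000) (Net.cons (nat_lit 16) (nat_lit 0x1153000008fc00000006) (Net.cons (nat_lit 32) (nat_lit 0xc00000000a4400080) (Net.cons (nat_lit 64) (nat_lit 0xba5e81094) (Net.cons (nat_lit 32) (nat_lit 0xb0000000083d67a61) (Net.cons (nat_lit 16) (nat_lit 0x8aa4000023c300004197) (Net.cons (nat_lit 8) (nat_lit 0x2a0016006a009700fe0021) (Net.cons (nat_lit 4) (nat_lit 0xe0806080401050403050d01) (Net.cons (nat_lit 2) (nat_lit 0x2200320011301022332323101) (Net.cons (nat_lit 1) (nat_lit 0x141515011554140400154451) Net.nil)))))))))))))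

theorem mu_g3_ok : Net.ok 100 mu_g3 = true := by decide +kernel

noncomputable def mu_g4 : Net := (Net.cons (nat_lit 1) (nat_lit 0x1115154054044501550455000) (Net.cons (nat_lit 2) (nat_lit 0x21313003302213223111300) (Net.cons (nat_lit 4) (nat_lit 0xb08010d0905010e01040101) (Net.cons (nat_lit 8) (nat_lit 0xc10055000a00000010000b) (Net.cons (nat_lit 16) (nat_lit 0x730600004a9800000000) (Net.cons (nat_lit 32) (nat_lit 0x4000000002a405060) (Net.cons (nat_lit 64) (nat_lit 0xf6bca7461) (Net.cons (nat_lit 32) (nat_lit 0x6c4d99f7) (Net.cons (nat_lit 16) (nat_lit 0xca000046e60000c916) (Net.cons (nat_lit 8) (nat_lit 0xd5003f00b6003b00160042) (Net.cons (nat_lit 4) (nat_lit 0x1090a0d010b0d08090304) (Net.cons (nat_lit 2) (nat_lit 0x1230323301201020233110122) (Net.cons (nat_lit 1) (nat_lit 0x111014415055111554415001) Net.nil)))))))))))))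

theorem mu_g4_ok : Net.ok 100 mu_g4 = true := by decide +kernel

noncomputable def mu_g5 : Net := (Net.cons (nat_lit 1) (nat_lit 0x1000010405040005140405114) (Net.cons (nat_lit 2) (nat_lit 0x3102330000230323010101100) (Net.cons (nat_lit 4) (nat_lit 0x60b0309030809040d0000) (Net.cons (nat_lit 8) (nat_lit 0x7500c000b800ca00e00000) (Net.cons (nat_lit 16) (nat_lit 0x464000021ca0000000b) (Net.cons (nat_lit 32) (nat_lit 0x2000000000a20c500) (Net.cons (nat_lit 64) (nat_lit 0x46a79d727) (Net.cons (nat_lit 32) (nat_lit 0xf000000008fc36b2d) (Net.cons (nat_lit 16) (nat_lit 0xc938000021bf00000642) (Net.cons (nat_lit 8) (nat_lit 0xb5008200880001001e004a) (Net.cons (nat_lit 4) (nat_lit 0x4020c09090b020e000f0e00) (Net.cons (nat_lit 2) (nat_lit 0x1122221022233322320102300) (Net.cons (nat_lit 1) (nat_lit 0x1404140054444541151415115) Net.nil)))))))))))))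

theorem mu_g5_ok : Net.ok 100 mu_g5 = true := by decide +kernel

noncomputable def mu_g6 : Net := (Net.cons (nat_lit 1) (nat_lit 0x5054544145500405110141550) (Net.cons (nat_lit 2) (nat_lit 0x3130020313220011000001200) (Net.cons (nat_lit 4) (nat_lit 0x806010401020c0b02070908) (Net.cons (nat_lit 8) (nat_lit 0x5500e100dd001500810001) (Net.cons (nat_lit 16) (nat_lit 0x61a20000111100000000) (Net.cons (nat_lit 32) (nat_lit 0xc00000000008230c0) (Net.cons (nat_lit 64) (nat_lit 0xea592f0e0) (Net.cons (nat_lit 32) (nat_lit 0x5000000007c0d11b8) (Net.cons (nat_lit 16) (nat_lit 0x8fe0000f9ff00007964) (Net.cons (nat_lit 8) (nat_lit 0x1b00aa00970075001d0049) (Net.cons (nat_lit 4) (nat_lit 0xa0203070d0b0d0700090008) (Net.cons (nat_lit 2) (nat_lit 0x3222110123223021321010301) (Net.cons (nat_lit 1) (nat_lit 0x1404554414514514414051550) Net.nil)))))))))))))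

theorem mu_g6_ok : Net.ok 100 mu_g6 = true := by decide +kernel

noncomputable def mu_g7 : Net := (Net.cons (nat_lit 1) (nat_lit 0x4544110101510101145001100) (Net.cons (nat_lit 2) (nat_lit 0x2223121311121211032021000) (Net.cons (nat_lit 4) (nat_lit 0x5000e060407030301060200) (Net.cons (nat_lit 8) (nat_lit 0x6000f00020000100eb0004) (Net.cons (nat_lit 16) (nat_lit 0x211a0000080300000003) (Net.cons (nat_lit 32) (nat_lit 0x90000000002220b30) (Net.cons (nat_lit 64) (nat_lit 0xe9afeab73) (Net.cons (nat_lit 32) (nat_lit 0x90000000006330f20) (Net.cons (nat_lit 16) (nat_lit 0xa12a000028730000e813) (Net.cons (nat_lit 8) (nat_lit 0x4800f40021000100c90004) (Net.cons (nat_lit 4) (nat_lit 0xd020e07040f0e0303040b00) (Net.cons (nat_lit 2) (nat_lit 0x2023321311121301232001201) (Net.cons (nat_lit 1) (nat_lit 0x4544110101510101145001100) Net.nil)))))))))))))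

theorem mu_g7_ok : Net.ok 100 mu_g7 = true := by decide +kernel

noncomputable def mu_X2 : List Net := [mu_g1, mu_g2, mu_g3, mu_g4, mu_g5, mu_g6, mu_g7]

theorem mu_X2_ok : okE 100 mu_X2 = true := (okE_cons.2 ⟨mu_g1_ok, (okE_cons.2 ⟨mu_g2_ok, (okE_cons.2 ⟨mu_g3_ok, (okE_cons.2 ⟨mu_g4_ok, (okE_cons.2 ⟨mu_g5_ok, (okE_cons.2 ⟨mu_g6_ok, (okE_cons.2 ⟨mu_g7_ok, (okE_nil 100)⟩)⟩)⟩)⟩)⟩)⟩)⟩)

noncomputable def mu_g8 : Net := (Net.cons (nat_lit 1) (nat_lit 0x4040140401040444444001000) (Net.cons (nat_lit 2) (nat_lit 0x1010021302000030301012020) (Net.cons (nat_lit 4) (nat_lit 0x8080f0c0805000f01020600) (Net.cons (nat_lit 8) (nat_lit 0x8b001f0087008000e20004) (Net.cons (nat_lit 16) (nat_lit 0xa90100007a6e00000000) (Net.cons (nat_lit 32) (nat_lit 0x40000000000910240) (Net.cons (nat_lit 64) (nat_lit 0xe0295fb40) (Net.cons (nat_lit 32) (nat_lit 0x80000000000f17a40) (Net.cons (nat_lit 16) (nat_lit 0x1c8900000aee0000c204) (Net.cons (nat_lit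 8) (nat_lit 0x1b00ff0070008900fc0004) (Net.cons (nat_lit 4) (nat_lit 0xe070e0a0f000f0107000c) (Net.cons (nat_lit 2) (nat_lit 0x11331333232112121230210) (Net.cons (nat_lit 1) (nat_lit 0x154054000444105504001100) Net.nil)))))))))))))

theorem mu_g8_ok : Net.ok 100 mu_g8 = true := by decide +kernel

noncomputable def mu_Y2 : List Net := [mu_g8]

theorem mu_Y2_ok : okE 100 mu_Y2 = true := (okE_cons.2 ⟨mu_g8_ok, (okE_nil 100)⟩)

noncomputable def mu_g11 : Net := (Net.cons (nat_lit 1) (nat_lit 0x411141410045554140511414) (Net.cons (nat_lit 2) (nat_lit 0x2003102331221120112100200) (Net.cons (nat_lit 4) (nat_lit 0x90109030709070d050f0004) (Net.cons (nat_lit 8) (nat_lit 0x4d00e80096008100170002) (Net.cons (nat_lit 16) (nat_lit 0x77dd0000e34800000001) (Net.cons (nat_lit 32) (nat_lit 0x30000000061801e00) (Net.cons (nat_lit 64) (nat_lit 0xcebe27f3b) (Net.cons (nat_lit 32) (nat_lit 0x400000000c09e3b48) (Net.cons (nat_lit 16) (nat_lit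 0xf1e30000e8770000ae2b) (Net.cons (nat_lit 8) (nat_lit 0xd004000e400d800d900dc) (Net.cons (nat_lit 4) (nat_lit 0xa0b0e07090100020a0f0808) (Net.cons (nat_lit 2) (nat_lit 0x1112303333233021011132222) (Net.cons (nat_lit 1) (nat_lit 0x5501451510115411415151144) Net.nil)))))))))))))

theorem mu_g11_ok : Net.ok 100 mu_g11 = true := by decide +kernel

noncomputable def mu_g12 : Net := (Net.cons (nat_lit 1) (nat_lit 0x5154110555004541540005100) (Net.cons (nat_lit 2) (nat_lit 0x220111031112312100032010) (Net.cons (nat_lit 4) (nat_lit 0x40b01020e0200000a000602) (Net.cons (nat_lit 8) (nat_lit 0x36005200f3007f004e0002) (Net.cons (nat_lit 16) (nat_lit 0xdb2c0000c20c0000000f) (Net.cons (nat_lit 32) (nat_lit 0x40000000002525980) (Net.cons (nat_lit 64) (nat_lit 0x76f6ddcf) (Net.cons (nat_lit 32) (nat_lit 0xf00000000ad0070ef) (Net.cons (nat_lit 16) (nat_lit 0xf3560000340400008c6d) (Net.cons (nat_lit 8) (nat_lit 0x9600010008006900060036)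 (Net.cons (nat_lit 4) (nat_lit 0x10c0a09080a020d06020306) (Net.cons (nat_lit 2) (nat_lit 0x120212030332210202301110) (Net.cons (nat_lit 1) (nat_lit 0x1050000141405514400005100) Net.nil)))))))))))))

theorem mu_g12_ok : Net.ok 100 mu_g12 = true := by decide +kernel

noncomputable def mu_X3 : List Net := [mu_g11, mu_g12, mu_g8]

theorem mu_X3_ok : okE 100 mu_X3 = true := (okE_cons.2 ⟨mu_g11_ok, (okE_cons.2 ⟨mu_g12_ok, (okE_cons.2 ⟨mu_g8_ok, (okE_nil 100)⟩)⟩)⟩)

noncomputable def mu_g13 : Net := (Net.cons (nat_lit 1) (nat_lit 0x4104441004040400440150400) (Net.cons (nat_lit 2) (nat_lit 0x1000020000221002021020) (Net.cons (nat_lit 4) (nat_lit 0x3000b0901090f0006060b00) (Net.cons (nat_lit 8) (nat_lit 0xfc00790001001500850006) (Net.cons (nat_lit 16) (nat_lit 0xe29d0000000000000008) (Net.cons (nat_lit 32) (nat_lit 0xe169fff0) (Net.cons (nat_lit 64) (nat_lit 0xff3fdfffe) (Net.cons (nat_lit 32) (nat_lit 0xe1690ff4) (Net.cons (nat_lit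 16) (nat_lit 0x1fee0000f86e0000090c) (Net.cons (nat_lit 8) (nat_lit 0xe0002c000e0066007d0006) (Net.cons (nat_lit 4) (nat_lit 0x3010c0000060e040e080f08) (Net.cons (nat_lit 2) (nat_lit 0x3001310012102012033031230) (Net.cons (nat_lit 1) (nat_lit 0x1444110541151500050151454) Net.nil)))))))))))))

theorem mu_g13_ok : Net.ok 100 mu_g13 = true := by decide +kernel

noncomputable def mu_Y3 : List Net := [mu_g13]

theorem mu_Y3_ok : okE 100 mu_Y3 = true := (okE_cons.2 ⟨mu_g13_ok, (okE_nil 100)⟩)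

noncomputable def mu_g16 : Net := (Net.cons (nat_lit 1) (nat_lit 0x4044001511104005050511100) (Net.cons (nat_lit 2) (nat_lit 0x3013300302301303111123000) (Net.cons (nat_lit 4) (nat_lit 0x30006030a090002010a000b) (Net.cons (nat_lit 8) (nat_lit 0x5000d3004c001300990004) (Net.cons (nat_lit 16) (nat_lit 0xd84d00003e1100000007) (Net.cons (nat_lit 32) (nat_lit 0x2000000004829d0c0) (Net.cons (nat_lit 64) (nat_lit 0x37aafd0c1) (Net.cons (nat_lit 32) (nat_lit 0xc0000000011fe67a3) (Net.cons (nat_lit 16) (nat_lit 0xfed600009b8900009be1) (Net.cons (nat_lit 8) (nat_lit 0xf5009500a6009100080047) (Net.cons (nat_lit 4) (nat_lit 0x9000908040703010303000c) (Net.cons (nat_lit 2) (nat_lit 0x2303310113210013032323231) (Net.cons (nat_lit 1) (nat_lit 0x4441055000555010504111001) Net.nil)))))))))))))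

theorem mu_g16_ok : Net.ok 100 mu_g16 = true := by decide +kernel

noncomputable def mu_g17 : Net := (Net.cons (nat_lit 1) (nat_lit 0x541101454411550550454114) (Net.cons (nat_lit 2) (nat_lit 0x2300010320013303301202020) (Net.cons (nat_lit 4) (nat_lit 0x904080807090006090a0f04) (Net.cons (nat_lit 8) (nat_lit 0x18008600a500460075000e) (Net.cons (nat_lit 16) (nat_lit 0x8a220000960700000009) (Net.cons (nat_lit 32) (nat_lit 0x100000000423174e0) (Net.cons (nat_lit 64) (nat_lit 0xefef77fe7) (Net.cons (nat_lit 32) (nat_lit 0x20000000099cf57b0) (Net.cons (nat_lit 16) (nat_lit 0x65390000d0fd0000f810) (Net.cons (nat_lit 8) (nat_lit 0xb700400066003f001e00a2) (Net.cons (nat_lit 4) (nat_lit 0xe0d0305010e00060e060608) (Net.cons (nat_lit 2) (nat_lit 0x2323021311123213212103023) (Net.cons (nat_lit 1) (nat_lit 0x44541504504114050440504) Net.nil)))))))))))))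

theorem mu_g17_ok : Net.ok 100 mu_g17 = true := by decide +kernel

noncomputable def mu_X5 : List Net := [mu_g16, mu_g17]

theorem mu_X5_ok : okE 100 mu_X5 = true := (okE_cons.2 ⟨mu_g16_ok, (okE_cons.2 ⟨mu_g17_ok, (okE_nil 100)⟩)⟩)

noncomputable def mu_g18 : Net := (Net.cons (nat_lit 1) (nat_lit 0x5101140051055110444555150) (Net.cons (nat_lit 2) (nat_lit 0x1022100033101020221033000) (Net.cons (nat_lit 4) (nat_lit 0xd000e0f010804010a080903) (Net.cons (nat_lit 8) (nat_lit 0x540044008100cd00410004) (Net.cons (nat_lit 16) (nat_lit 0x5842000010d800000000) (Net.cons (nat_lit 32) (nat_lit 0xd00000000c0292090) (Net.cons (nat_lit 64) (nat_lit 0x8c3ab38f5) (Net.cons (nat_lit 32) (nat_lit 0x200000000863ad45b) (Net.cons (nat_lit 16) (nat_lit 0xa79a0000e698000080ad) (Net.cons (nat_lit 8) (nat_lit 0x6e00290000000b002d00a2) (Net.cons (nat_lit 4) (nat_lit 0xd05000a0008020603010001) (Net.cons (nat_lit 2) (nat_lit 0x2121121113201220101001021)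 (Net.cons (nat_lit 1) (nat_lit 0x4051000041444515411045555) Net.nil)))))))))))))

theorem mu_g18_ok : Net.ok 100 mu_g18 = true := by decide +kernel

noncomputable def mu_Y5 : List Net := [mu_g18]

theorem mu_Y5_ok : okE 100 mu_Y5 = true := (okE_cons.2 ⟨mu_g18_ok, (okE_nil 100)⟩)

/-- Rules. -/
def cp2_rule : List (List (List ℕ)) :=
  [[[1, 3, 4, 5, 6], [1, 5], [1, 2, 3, 4, 6], [3, 5], [5, 6], [4], [6]],
   [[], [], [2, 4], [3, 4, 5], [4, 6], [5, 6], [6]],
   [[], [], [6], [3, 4, 6], [4, 6], [5], [6]],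
   [[], [], [], [4, 5, 6], [4], [5], [6]],
   [[], [], [], [], [6], [5], [6]],
   [[], [], [], [], [], [6], [6]],
   [[], [], [], [], [], [], []]]

/-- Fused subgroups. -/
def cp2_fq : List (List (List ℕ)) :=
  [[[0, 3, 5, 6], [1, 3, 4, 6], [2, 4], [3, 4, 5], [4, 5], [5, 6], [6]]]

/-- Their images. -/
def cp2_fq' : List (List (List ℕ)) :=
  [[[0, 1, 3, 4, 5], [1, 3, 4, 5], [2, 4], [0, 2, 3], [4, 5], [1, 3, 5], [6]]]

/-- Rows. -/
def cp2_sA : List Spec :=
  [⟨1, [0], [], 0, 1, 255⟩,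
   ⟨1, [1], [], 1, 1, 255⟩,
   ⟨1, [2], [], 4, 1, 255⟩,
   ⟨1, [3], [], 5, 1, 255⟩,
   ⟨1, [4], [], 2, 1, 255⟩,
   ⟨1, [5], [], 8, 1, 255⟩,
   ⟨1, [6], [], 16, 1, 255⟩,
   ⟨0, [2], [2, 2], 20, 1, 255⟩,
   ⟨0, [4], [4, 4], 34, 1, 255⟩,
   ⟨0, [5], [5, 5], 41, 1, 255⟩,
   ⟨3, [6, 3], [3, 6], 6, 1, 255⟩,
   ⟨0, [5], [3, 2], 33, 1, 1⟩,
   ⟨0, [4], [2, 1], 13, 1, 255⟩,
   ⟨3, [6, 5], [5, 6], 27, 1, 255⟩,
   ⟨0, [4], [1, 1], 48, 1, 255⟩,
   ⟨0, [5], [5, 0], 40, 1, 255⟩,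
   ⟨0, [3], [3, 3], 26, 1, 255⟩,
   ⟨3, [4, 2], [2, 4, 6], 55, 1, 1⟩,
   ⟨0, [5], [1, 0], 12, 1, 255⟩,
   ⟨0, [1], [1, 0], 32, 1, 1⟩,
   ⟨0, [1], [0, 0], 10, 1, 255⟩,
   ⟨3, [2, 1], [1, 2, 6], 19, 1, 1⟩,
   ⟨0, [5], [0, 0], 25, 1, 255⟩,
   ⟨0, [5], [2, 0], 18, 1, 1⟩,
   ⟨0, [2], [2, 1], 11, 1, 255⟩,
   ⟨0, [0], [0, 0], 3, 1, 255⟩,
   ⟨3, [5, 2], [2, 5], 17, 1, 255⟩,
   ⟨3, [5, 5], [6], 24, 1, 255⟩,
   ⟨3, [5, 0], [0, 4, 5, 6], 53, 1, 1⟩,
   ⟨3, [3, 2], [2, 3, 4, 5], 54, 1, 255⟩,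
   ⟨3, [0, 0], [1], 50, 1, 1⟩,
   ⟨3, [2, 0], [0, 1, 2], 9, 1, 51⟩]

/-- Rows. -/
def cp2_sB : List Spec :=
  [⟨3, [2, 2], [6], 51, 2, 255⟩,
   ⟨3, [3, 3], [4, 6], 52, 2, 255⟩,
   ⟨0, [2], [1, 1], 49, 4, 59⟩]

/-- Rows. -/
def cp2_sC : List Spec :=
  [⟨2, [0], [], 49, 2, 169⟩]

/-- The certificate. -/
noncomputable def cp2 : Cert where
  q := 1
  n := 7
  nf := 1
  b := 24
  M := 256
  D := 2
  fuel := 113
  rule := fun i j => getLL (getL3 cp2_rule i) j
  fq := fun i j => getLL (getL3 cp2_fq i) j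
  fq' := fun i j => getLL (getL3 cp2_fq' i) j
  nrm := nrmM 24 56 8
  nri := getL [0, 0, 0, 0, 0, 1, 2]
  nrj := getL [0, 1, 4, 5, 2, 1, 2]
  B := getL [0xff0000000000000000ff000001, 0x1000000000000000000000000000000, 0x10000000000000000ff0000ff000000000000, 0xff0000fe000004000002000002000000, 0xfe0000000000fe000000, 0xfe000000, 0xfe0000fe000000000000]
  nU := 1
  U := getL [unitV 24 17 * 1]
  ord := getL [2]
  sA := cp2_sA
  sB := cp2_sB
  sC := cp2_sC

theorem cp2_nrm : Nrm cp2.b cp2.R cp2.M cp2.nrm := by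
  dsimp only [cp2, Cert.R]
  exact (nrm_nrmM (b := 24) (R := 56) (v := 8) (by norm_num) : Nrm 24 56 (2 ^ 8) _)

theorem cp2_chk : cp2.chk 2 = true := by decide +kernel

theorem mu_le9 : grp 100 mu_X2 ≤ grp 100 h_E0 :=
  grp_le_of_memB mu_hn mu_hk h_E0_ok mu_X2_ok (ws := [nat_lit 0x1a171107020302, nat_lit 0x181912070711030f, nat_lit 0xf070215, nat_lit 0x190f07100518, nat_lit 0x1a180f12070307, nat_lit 0x1a0f110c0f0215, nat_lit 0x110512]) (by decide +kernel)

theorem mu_le10 : grp 100 mu_Y2 ≤ grp 100 h_E0 :=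
  grp_le_of_memB mu_hn mu_hk h_E0_ok mu_Y2_ok (ws := [nat_lit 0x181919110c]) (by decide +kernel)

theorem cp2_bound : MBound (grp 100 h_E0) (4725 * 4725) 2 :=
  mBound_net (C := cp2) mu_hn mu_hk mu_X2_ok mu_Y2_ok mu_le9 mu_le10 (inv := [nat_lit 0x8000000000000000400, nat_lit 1024, nat_lit 0x8000000000000000, nat_lit 0x8000000002, nat_lit 2, nat_lit 32, nat_lit 1])
    (by show Nat.Prime 2; norm_num) h_card0 cp2_nrm (by decide +kernel) cp2_chk

/-- Rules. -/
def cp3_rule : List (List (List ℕ)) :=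
  [[[], [1, 2, 2], [2]],
   [[], [], [2]],
   [[], [], []]]

/-- Fused subgroups. -/
def cp3_fq : List (List (List ℕ)) :=
  [[[1, 1, 2], [0, 0, 1], [2, 2]]]

/-- Their images. -/
def cp3_fq' : List (List (List ℕ)) :=
  [[[0, 1, 1, 2, 2], [1, 1], [2, 2]]]

/-- Rows. -/
def cp3_sA : List Spec :=
  [⟨1, [0], [], 1, 1, 80⟩,
   ⟨1, [1], [], 0, 1, 80⟩,
   ⟨1, [2], [], 4, 1, 80⟩,
   ⟨3, [2, 0], [0, 2], 2, 1, 40⟩,
   ⟨0, [1], [0, 0, 0], 8, 1, 40⟩,
   ⟨3, [2, 1], [1, 2], 5, 1, 40⟩,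
   ⟨3, [1, 0], [0, 1, 2, 2], 11, 1, 41⟩]

/-- Rows. -/
def cp3_sB : List Spec :=
  []

/-- Rows. -/
def cp3_sC : List Spec :=
  []

/-- The certificate. -/
noncomputable def cp3 : Cert where
  q := 2
  n := 3
  nf := 1
  b := 20
  M := 81
  D := 3
  fuel := 59
  rule := fun i j => getLL (getL3 cp3_rule i) j
  fq := fun i j => getLL (getL3 cp3_fq i) j
  fq' := fun i j => getLL (getL3 cp3_fq' i) j
  nrm := nrmL 20 12 81
  nri := getL [0, 0, 1]
  nrj := getL [1, 0, 1]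
  B := getL [0x100000, 0x10000000000, 0x27]
  nU := 0
  U := getL []
  ord := getL []
  sA := cp3_sA
  sB := cp3_sB
  sC := cp3_sC

theorem cp3_nrm : Nrm cp3.b cp3.R cp3.M cp3.nrm := by
  dsimp only [cp3, Cert.R]
  exact nrm_nrmL 20 12 81

theorem cp3_chk : cp3.chk 1 = true := by decide +kernel

theorem mu_le14 : grp 100 mu_X3 ≤ grp 100 h_E0 :=
  grp_le_of_memB mu_hn mu_hk h_E0_ok mu_X3_ok (ws := [nat_lit 0x1a0f0c, nat_lit 0x15170f12070b, nat_lit 0x181919110c]) (by decide +kernel)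

theorem mu_le15 : grp 100 mu_Y3 ≤ grp 100 h_E0 :=
  grp_le_of_memB mu_hn mu_hk h_E0_ok mu_Y3_ok (ws := [nat_lit 0x1518110815]) (by decide +kernel)

theorem cp3_bound : MBound (grp 100 h_E0) (22400 * 22400) 1 :=
  mBound_net (C := cp3) mu_hn mu_hk mu_X3_ok mu_Y3_ok mu_le14 mu_le15 (inv := [nat_lit 0x18000000002, nat_lit 2, nat_lit 4])
    (by show Nat.Prime 3; norm_num) h_card0 cp3_nrm (by decide +kernel) cp3_chk

/-- Rules. -/
def cp5_rule : List (List (List ℕ)) :=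
  [[[], [1]],
   [[], []]]

/-- Fused subgroups. -/
def cp5_fq : List (List (List ℕ)) :=
  [[[0, 0, 1, 1], [0, 0, 0, 0, 1, 1]]]

/-- Their images. -/
def cp5_fq' : List (List (List ℕ)) :=
  [[[0, 1, 1], [0, 0, 0, 0, 1, 1]]]

/-- Rows. -/
def cp5_sA : List Spec :=
  [⟨1, [0], [], 0, 1, 124⟩,
   ⟨1, [1], [], 3, 1, 124⟩,
   ⟨3, [1, 0], [0, 1], 1, 1, 63⟩]

/-- Rows. -/
def cp5_sB : List Spec :=
  []

/-- Rows. -/
def cp5_sC : List Spec :=
  []

/-- The certificate. -/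
noncomputable def cp5 : Cert where
  q := 4
  n := 2
  nf := 1
  b := 22
  M := 125
  D := 5
  fuel := 116
  rule := fun i j => getLL (getL3 cp5_rule i) j
  fq := fun i j => getLL (getL3 cp5_fq i) j
  fq' := fun i j => getLL (getL3 cp5_fq' i) j
  nrm := nrmL 22 6 125
  nri := getL [0, 1]
  nrj := getL [0, 1]
  B := getL [0x1, 0x400000]
  nU := 0
  U := getL []
  ord := getL []
  sA := cp5_sA
  sB := cp5_sB
  sC := cp5_sC

theorem cp5_nrm : Nrm cp5.b cp5.R cp5.M cp5.nrm := by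
  dsimp only [cp5, Cert.R]
  exact nrm_nrmL 22 6 125

theorem cp5_chk : cp5.chk 1 = true := by decide +kernel

theorem mu_le19 : grp 100 mu_X5 ≤ grp 100 h_E0 :=
  grp_le_of_memB mu_hn mu_hk h_E0_ok mu_X5_ok (ws := [nat_lit 0x1a180f110707010702, nat_lit 0x181a0f0b0517]) (by decide +kernel)

theorem mu_le20 : grp 100 mu_Y5 ≤ grp 100 h_E0 :=
  grp_le_of_memB mu_hn mu_hk h_E0_ok mu_Y5_ok (ws := [nat_lit 0x17190f12070713010711]) (by decide +kernel)

theorem cp5_bound : MBound (grp 100 h_E0) (24192 * 24192) 1 :=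
  mBound_net (C := cp5) mu_hn mu_hk mu_X5_ok mu_Y5_ok mu_le19 mu_le20 (inv := [nat_lit 0x5000100000000010001, nat_lit 1])
    (by show Nat.Prime 5; norm_num) h_card0 cp5_nrm (by decide +kernel) cp5_chk

theorem mult_bound : MBound (grp 100 h_E0) 1 2 :=
  (((cp2_bound.mul
    cp3_bound).mul
    cp5_bound).mul
    (mBound_of_prime (p := 7) (k := 86400) (by norm_num) h_card0)).congr (by norm_num) (by norm_num)

end Cfsg.Agent.H47.J2P
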