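import Cfsg.Agent.H44.K5Defs

set_option autoImplicit false

namespace Cfsg.Agent.H47.K5Nei

open Cfsg.Agent.H44.K5 Matrix

theorem ev (a b c d e p : ℤ) (hp : Odd p) (he : Odd e)
    (h : a ^ 2 + b ^ 2 + c ^ 2 + d ^ 2 + e ^ 2 = p ^ 2) : Even a ∧ Even b ∧ Even c ∧ Even d := by
  have s : ∀ x : ℤ, (Even x ∧ (x ^ 2 % 8 = 0 ∨ x ^ 2 % 8 = 4)) ∨ (¬ Even x ∧ x ^ 2 % 8 = 1) := fun x => by
    rw [Int.even_iff, pow_two, Int.mul_emod]
    have : x % 8 = 0 ∨ x % 8 = 1 ∨ x % 8 = 2 ∨ x % 8 = 3 ∨ x % 8 = 4 ∨ x % 8 = 5 ∨ x % 8 = 6 ∨ x % 8 = 7 := by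
      omega
    rcases this with h | h | h | h | h | h | h | h <;> rw [h] <;> omega
  have h1 := (s p).resolve_left fun h => Int.not_even_iff_odd.2 hp h.1
  have h2 := (s e).resolve_left fun h => Int.not_even_iff_odd.2 he h.1
  have ha := s a; have hb := s b; have hc := s c; have hd := s d
  simp only [Int.even_iff] at *
  omega

theorem zs (q j b c d f : ℤ) (h : q * (q * j) = (q * j) ^ 2 + b ^ 2 + c ^ 2 + d ^ 2 + f ^ 2) :
    b = 0 ∧ c = 0 ∧ d = 0 ∧ f = 0 := by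
  have h0 : 0 ≤ j * (j - 1) := by rcases le_or_gt j 0 with h | h <;> nlinarith
  have h1 := mul_nonneg (sq_nonneg q) h0
  have hs : b ^ 2 + c ^ 2 + d ^ 2 + f ^ 2 ≤ 0 := by linarith
  have hb := sq_nonneg b; have hc := sq_nonneg c; have hd := sq_nonneg d; have hf := sq_nonneg f
  exact ⟨pow_eq_zero_iff two_ne_zero |>.1 (by linarith), pow_eq_zero_iff two_ne_zero |>.1 (by linarith),
    pow_eq_zero_iff two_ne_zero |>.1 (by linarith), pow_eq_zero_iff two_ne_zero |>.1 (by linarith)⟩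

set_option maxHeartbeats 1600000 in
theorem nei (uni : UniStmt) : NeiStmt := by
  intro p hp hp2 x y z t hx ⟨n, hn⟩
  have hP : Prime (p : ℤ) := Nat.prime_iff_prime_int.1 hp
  have hodd : Odd (p : ℤ) := by exact_mod_cast hp.odd_of_ne_two hp2
  have h2 : ¬ (p : ℤ) ∣ 2 := fun h => hp2 ((Nat.prime_dvd_prime_iff_eq hp Nat.prime_two).1 (by exact_mod_cast h))
  have p0 : (p : ℤ) ≠ 0 := hP.ne_zero
  have pp : (0 : ℤ) < p := by exact_mod_cast hp.pos
  obtain ⟨β, α, h1⟩ := (hP.irreducible.coprime_iff_not_dvd (n := 2 * x)).2 fun h => (hP.dvd_or_dvd h).elim h2 hx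
  obtain ⟨X, s, m, hX, hm⟩ : ∃ X s m : ℤ, X = x + p * s ∧ 1 + X ^ 2 + y ^ 2 + z ^ 2 + t ^ 2 = p ^ 2 * m :=
    ⟨_, -n * α, n * β + (n * α) ^ 2, rfl, by linear_combination hn - p * n * h1⟩
  obtain ⟨c, k, hc⟩ : ∃ c k : ℤ, c * X = 1 + p * k :=
    ⟨2 * α, 2 * α * s - β, by rw [hX]; linear_combination h1⟩
  generalize (p : ℤ) = q at *
  let B : Matrix (Fin 5) (Fin 5) ℤ := !![1, c * y, c * z, c * t, c + q * k * X; 0, q, 0, 0, -q * y;
    0, 0, q, 0, -q * z; 0, 0, 0, q, -q * t; 0, 0, 0, 0, q ^ 2]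
  let A : Matrix (Fin 5) (Fin 5) ℤ := !![c ^ 2 * m + k ^ 2 * (1 + X ^ 2), -k * X * y, -k * X * z, -k * X * t, c + q * k * X;
    -k * X * y, 1 + y ^ 2, y * z, y * t, -q * y; -k * X * z, y * z, 1 + z ^ 2, z * t, -q * z;
    -k * X * t, y * t, z * t, 1 + t ^ 2, -q * t; c + q * k * X, -q * y, -q * z, -q * t, q ^ 2]
  have hB : B * Bᵀ = q ^ 2 • A := by
    ext i j
    fin_cases i <;> fin_cases j <;> simp [B, A, Matrix.mul_apply, Fin.sum_univ_succ] <;>
      first | ring1 | linear_combination c ^ 2 * hm + (q * k - c * X - 1) * hc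
  have dB : B.det = q ^ 5 := by
    rw [det_of_upperTriangular (M := B) (by intro i j h; fin_cases i <;> fin_cases j <;> simp_all [B])]
    simp [B, Fin.prod_univ_succ]; ring
  have dA : A.det = 1 := by
    have := congrArg det hB
    rw [det_mul, det_transpose, dB, det_smul, Fintype.card_fin] at this
    exact mul_left_cancel₀ (pow_ne_zero 10 p0) (by linear_combination -this)
  obtain ⟨U, hU⟩ := uni 5 le_rfl A (by ext i j; fin_cases i <;> fin_cases j <;> rfl) (fun v hv => by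
    have e : q ^ 2 * (v ⬝ᵥ A *ᵥ v) = (v ᵥ* B) ⬝ᵥ (v ᵥ* B) := by
      rw [← smul_eq_mul, ← dotProduct_smul, ← smul_mulVec, ← hB, ← mulVec_mulVec, dotProduct_mulVec,
        mulVec_transpose]
    have h0 : v ᵥ* B ≠ 0 := fun h => hv (eq_zero_of_vecMul_eq_zero (by rw [dB]; exact pow_ne_zero _ p0) h)
    have h3 : 0 < (v ᵥ* B) ⬝ᵥ (v ᵥ* B) :=
      lt_of_le_of_ne (Finset.sum_nonneg fun i _ => mul_self_nonneg _) fun h => h0 (dotProduct_self_eq_zero.1 h.symm)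
    rw [← e] at h3
    exact (mul_pos_iff_of_pos_left (pow_pos pp 2)).1 h3) dA
  have hW : (Uᵀ * B) * (Uᵀ * B)ᵀ = q ^ 2 • (1 : Matrix (Fin 5) (Fin 5) ℤ) := by
    rw [transpose_mul, transpose_transpose, Matrix.mul_assoc, ← Matrix.mul_assoc B, hB, ← hU,
      Matrix.smul_mul, Matrix.mul_smul, Matrix.mul_assoc]
  have hW' : (Uᵀ * B)ᵀ * (Uᵀ * B) = q ^ 2 • (1 : Matrix (Fin 5) (Fin 5) ℤ) := by
    have d0 : (Uᵀ * B).det ≠ 0 := fun h => by
      have := congrArg det hW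
      rw [det_mul, h, zero_mul, det_smul, det_one, mul_one] at this
      exact pow_ne_zero _ (pow_ne_zero 2 p0) this.symm
    refine (isRegular_of_isLeftRegular_det (IsRegular.of_ne_zero d0).left).left ?_
    show _ * _ = _ * _
    rw [← Matrix.mul_assoc, hW, Matrix.smul_mul, Matrix.mul_smul, Matrix.one_mul, Matrix.mul_one]
  obtain ⟨i, hi⟩ : ∃ i, Odd ((Uᵀ * B) i 4) := by
    by_contra hne
    push Not at hne
    have e := congrFun (congrFun hW' 4) 4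
    rw [Matrix.mul_apply] at e
    have : Even (∑ j, (Uᵀ * B)ᵀ 4 j * (Uᵀ * B) j 4) :=
      Finset.even_sum _ fun j _ => (Int.not_odd_iff_even.1 (hne j)).mul_left _
    rw [e] at this
    simp at this
    exact Int.not_even_iff_odd.2 (hodd.pow (n := 2)) this
  have e := congrFun (congrFun hW i) i
  rw [Matrix.mul_apply, Fin.sum_univ_five] at e
  simp only [transpose_apply, Matrix.smul_apply, one_apply_eq, smul_eq_mul, mul_one, ← pow_two] at e
  obtain ⟨⟨b, hb⟩, ⟨c', hc'⟩, ⟨d, hd⟩, ⟨f, hf⟩⟩ := ev _ _ _ _ _ _ hodd hi e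
  obtain ⟨a, ha⟩ := hodd.add_odd hi
  have w0 : (Uᵀ * B) i 0 = U 0 i := by simp [B, Matrix.mul_apply, Fin.sum_univ_succ]
  have w1 : (Uᵀ * B) i 1 = U 0 i * (c * y) + U 1 i * q := by simp [B, Matrix.mul_apply, Fin.sum_univ_succ]
  have w2 : (Uᵀ * B) i 2 = U 0 i * (c * z) + U 2 i * q := by simp [B, Matrix.mul_apply, Fin.sum_univ_succ]
  have w3 : (Uᵀ * B) i 3 = U 0 i * (c * t) + U 3 i * q := by simp [B, Matrix.mul_apply, Fin.sum_univ_succ]
  have w4 : (Uᵀ * B) i 4 = U 0 i * c + q * (U 0 i * k * X - U 1 i * y - U 2 i * z - U 3 i * t + q * U 4 i) := by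
    simp [B, Matrix.mul_apply, Fin.sum_univ_succ]; ring
  have key : q * a = a ^ 2 + b ^ 2 + c' ^ 2 + d ^ 2 + f ^ 2 := by
    have e4 : (Uᵀ * B) i 4 = a + a - q := by linarith
    rw [hb, hc', hd, hf, e4] at e
    linarith
  have hf2 : ∀ r : ℤ, q ∣ 2 * r → q ∣ r := fun r h => (hP.dvd_or_dvd h).resolve_left h2
  obtain ⟨g, hg⟩ : ∃ g, g = U 0 i * k * X - U 1 i * y - U 2 i * z - U 3 i * t + q * U 4 i := ⟨_, rfl⟩
  rw [← hg] at w4
  rw [w0] at hb; rw [w1] at hc'; rw [w2] at hd; rw [w3] at hf; rw [w4] at ha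
  refine ⟨a, b, c', d, f, ?_, hf2 _ ⟨-U 0 i * k + U 0 i * c * s - (1 + g) * x, ?_⟩,
    hf2 _ ⟨U 1 i - (1 + g) * y, by linear_combination y * ha - hc'⟩,
    hf2 _ ⟨U 2 i - (1 + g) * z, by linear_combination z * ha - hd⟩,
    hf2 _ ⟨U 3 i - (1 + g) * t, by linear_combination t * ha - hf⟩, key⟩
  · rintro ⟨j, rfl⟩
    obtain ⟨z1, z2, z3, z4⟩ := zs q j b c' d f key
    have u0 : U 0 i = 0 := by linarith
    have u1 : U 1 i = 0 := mul_right_cancel₀ p0 (by rw [u0, z2] at hc'; linarith)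
    have u2 : U 2 i = 0 := mul_right_cancel₀ p0 (by rw [u0, z3] at hd; linarith)
    have u3 : U 3 i = 0 := mul_right_cancel₀ p0 (by rw [u0, z4] at hf; linarith)
    rw [u0, u1, u2, u3] at hg
    rw [u0] at ha
    have e1 : 1 + g = 2 * j := mul_left_cancel₀ p0 (by linarith)
    have e2 : j * (j - 1) = 0 := mul_left_cancel₀ (pow_ne_zero 2 p0) (by rw [z1, z2, z3, z4] at key; linarith)
    refine hP.not_dvd_one ?_
    rcases mul_eq_zero.1 e2 with h | h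
    · exact ⟨-U 4 i, by linarith⟩
    · exact ⟨U 4 i, by linarith⟩
  · linear_combination x * ha - hb - U 0 i * hc + U 0 i * c * hX

end Cfsg.Agent.H47.K5Nei
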