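import Cfsg.Agent.H11.CyLp

/-! Project CY (row S3256), chapter LP, piece LW, field `sqs`. -/

set_option autoImplicit false

namespace Cfsg.Agent.H47.LpSqs

open Subgroup MulAction Cfsg.Agent.H11.Cy Cfsg.Agent.H11.Cy.Lp
open Cfsg.Agent.H11.EL (Nm Ct C1 cj Ex)

theorem pg2 {X : Type} [Group X] (a : X) (ha : a * a = 1) : IsPGroup 2 (zpowers a) := by
  rintro ⟨_, n, rfl⟩
  refine ⟨1, Subtype.ext ?_⟩
  change (a ^ n) ^ (2 ^ 1) = 1
  rw [pow_one, ← zpow_natCast, ← zpow_mul, mul_comm, zpow_mul, zpow_natCast, pow_two, ha, one_zpow]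

theorem syl {X : Type} [Group X] [Finite X] (t a b : X) (ht : t * t = 1) (ha : a * a = 1)
    (hb : b * b = 1) (hab : Commute a b) :
    ∃ g : X, (∃ k : ℕ, (t * (g * a * g⁻¹)) ^ 2 ^ k = 1) ∧ ∃ k : ℕ, (t * (g * b * g⁻¹)) ^ 2 ^ k = 1 := by
  have : Fact (Nat.Prime 2) := ⟨Nat.prime_two⟩
  have hV : IsPGroup 2 (zpowers a ⊔ zpowers b : Subgroup X) := by
    refine (pg2 a ha).to_sup_of_normal_right' (pg2 b hb) ?_
    refine (zpowers_le.2 ?_).trans (centralizer_le_normalizer _)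
    rintro _ ⟨n, rfl⟩
    exact (hab.symm.zpow_left n).eq
  obtain ⟨P, hP⟩ := (pg2 t ht).exists_le_sylow
  obtain ⟨Q, hQ⟩ := hV.exists_le_sylow
  obtain ⟨g, e⟩ := MulAction.exists_smul_eq X Q P
  have key : ∀ c ∈ (Q : Subgroup X), ∃ k : ℕ, (t * (g * c * g⁻¹)) ^ 2 ^ k = 1 := by
    intro c hc
    have h1 : g * c * g⁻¹ ∈ (P : Subgroup X) := by
      rw [← e]
      exact smul_mem_pointwise_smul c (MulAut.conj g) (Q : Subgroup X) hc
    obtain ⟨k, hk⟩ := P.isPGroup' ⟨_, mul_mem (hP (mem_zpowers t)) h1⟩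
    exact ⟨k, congrArg Subtype.val hk⟩
  exact ⟨g, key a (hQ (mem_sup_left (mem_zpowers a))), key b (hQ (mem_sup_right (mem_zpowers b)))⟩

theorem four {X : Type} [Group X] : ∀ (k : ℕ) (r : X), r ^ 2 ^ k = 1 → r * r ≠ 1 →
    ∃ m : ℕ, orderOf (r ^ m * r ^ m) = 2 := by
  have : Fact (Nat.Prime 2) := ⟨Nat.prime_two⟩
  intro k
  induction k with
  | zero =>
    intro r h h'
    rw [pow_zero, pow_one] at h
    exact absurd (by rw [h, one_mul]) h'
  | succ k ih =>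
    intro r h h'
    by_cases e : (r * r) * (r * r) = 1
    · exact ⟨1, orderOf_eq_prime (by rw [pow_one, pow_two, e]) (by rwa [pow_one])⟩
    · obtain ⟨m, hm⟩ := ih (r * r) (by rw [← pow_two, ← pow_mul, ← h, pow_succ, mul_comm]) e
      exact ⟨2 * m, by rwa [pow_mul, pow_two]⟩

theorem sqs {G : Type} [Group G] [Finite G] {Ω : Type} [MulAction G Ω] {p : ℕ} {A : Ω → Subgroup G}
    (h : St p A) (l0 : L0 p A) (la : ∀ x y, x ≠ y → LA p A x y)
    (hct : ∀ x y, x ≠ y → ∃ f s, LC p A x y f s ∧ LT p A x y f) (lv : ∀ x y, x ≠ y → LV p A x y)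
    (x y : Ω) (hxy : x ≠ y) :
    p % 4 = 3 → ∀ t ∈ Hs G x y, t * t = 1 → Ex t (A x) (-1) → ∀ s ∈ Fl A x y, orderOf s = 2 →
      ∃ u ∈ Fl A x y ⊔ zpowers t, u * u = s := by
  intro p3 t ht tt ex s hs so
  have a := la x y hxy
  obtain ⟨f, s0, c, -⟩ := hct x y hxy
  have v := lv x y hxy
  obtain ⟨w, hw, wo, hws, cm⟩ := v.four s hs so
  have sq : ∀ g : G, orderOf g = 2 → g * g = 1 := fun g e => by
    rw [← pow_two, ← e, pow_orderOf_eq_one]
  have one : ∀ (g : G) (n : ℕ), Odd n → orderOf g ∣ n → g * g = 1 → g = 1 := by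
    intro g n hn h1 h2
    have h3 : orderOf g ∣ 2 := orderOf_dvd_of_pow_eq_one (by rw [pow_two, h2])
    exact orderOf_eq_one_iff.1 (Nat.eq_one_of_dvd_coprimes hn.coprime_two_right h1 h3)
  have tK : t ∉ Kl A x y := by
    intro e
    have : A x ≠ ⊥ := fun e => by
      have := h.card x
      rw [e, card_bot] at this
      exact h.pp.one_lt.ne this
    obtain ⟨⟨b, hb⟩, b1⟩ := ne_bot_iff_exists_ne_one.1 this
    apply b1
    have h1 := ex b hb
    rw [← mem_centralizer_iff.1 e b (mem_sup_left hb), mul_inv_cancel_right, zpow_neg, zpow_one] at h1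
    refine Subtype.ext (one b p (Nat.odd_iff.2 (by omega)) ?_ ?_)
    · rw [← h.card x]; exact orderOf_dvd_natCard _ hb
    · exact mul_eq_one_iff_eq_inv.2 h1
  have XN : Fl A x y ⊔ zpowers t ≤ Nm (Fl A x y) := sup_le le_normalizer (zpowers_le.2 (a.hN ht))
  have cjL : ∀ g ∈ Fl A x y ⊔ zpowers t, ∀ l ∈ Fl A x y, g * l * g⁻¹ ∈ Fl A x y := fun g hg l hl =>
    (mem_normalizer_iff.1 (XN hg) l).1 hl
  have tX : t ∈ Fl A x y ⊔ zpowers t := mem_sup_right (mem_zpowers t)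
  have ti : t⁻¹ = t := inv_eq_of_mul_eq_one_right tt
  have fin : ∀ d ∈ Fl A x y, (∃ k : ℕ, (t * d) ^ 2 ^ k = 1) → (t * d) * (t * d) ≠ 1 →
      ∃ u ∈ Fl A x y ⊔ zpowers t, u * u = s := by
    rintro d hd ⟨k, hk⟩ hne
    obtain ⟨m, hm⟩ := four k _ hk hne
    have h1 : (t * d) ^ m * (t * d) ^ m ∈ Fl A x y := by
      rw [← (Commute.refl (t * d)).mul_pow]
      refine pow_mem ?_ m
      have := mul_mem (cjL t tX d hd) hd
      rwa [ti, mul_assoc (t * d)] at this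
    obtain ⟨g, hg, e⟩ := v.cls _ h1 s hs hm so
    refine ⟨g * (t * d) ^ m * g⁻¹, mul_mem (mul_mem (mem_sup_left hg)
      (pow_mem (mul_mem tX (mem_sup_left hd)) m)) (inv_mem (mem_sup_left hg)), ?_⟩
    rw [← e]; group
  have two : ∀ d ∈ Fl A x y, t * d = d * t → ∀ z ∈ Ln A x y, t • z = z → d • z = x ∨ d • z = y := by
    intro d hd e z hz hf
    by_contra hn
    rw [not_or] at hn
    refine tK (a.three t x a.mx y a.my (d • z) ((l0.mc.ep.nrm x y hxy d).1 (le_normalizer hd) z hz) hxy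
      (Ne.symm hn.2) (Ne.symm hn.1) ht.1 ht.2 ?_)
    rw [← mul_smul, e, mul_smul, hf]
  have fx : ∀ d ∈ Fl A x y, t * d = d * t → d * d = 1 → d • x = x → d = 1 := by
    intro d hd e dd hx
    have hy : d • y = y := by
      rcases two d hd e y a.my ht.2 with h1 | h1
      · exact absurd (smul_left_cancel d (hx.trans h1.symm)) hxy
      · exact h1
    have := c.fo
    exact one d (orderOf f) (Nat.odd_iff.2 (by omega))
      (orderOf_dvd_of_mem_zpowers (c.TL d hd ⟨hx, hy⟩)) dd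
  have com : ∀ d : G, d * d = 1 → (t * d) * (t * d) = 1 → t * d = d * t := by
    intro d dd e
    rw [← inv_eq_of_mul_eq_one_right e, mul_inv_rev, ti, inv_eq_of_mul_eq_one_right dd]
  obtain ⟨g, ⟨k1, h1⟩, k2, h2⟩ := syl (X := (Fl A x y ⊔ zpowers t : Subgroup G)) ⟨t, tX⟩
    ⟨s, mem_sup_left hs⟩ ⟨w, mem_sup_left hw⟩ (Subtype.ext tt) (Subtype.ext (sq s so))
    (Subtype.ext (sq w wo)) (Subtype.ext cm.eq)
  have h1' : (t * (g * s * (g : G)⁻¹)) ^ 2 ^ k1 = 1 := congrArg Subtype.val h1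
  have h2' : (t * (g * w * (g : G)⁻¹)) ^ 2 ^ k2 = 1 := congrArg Subtype.val h2
  have m1 := cjL g g.2 s hs
  have m2 := cjL g g.2 w hw
  have cq : ∀ d : G, d * d = 1 → (g * d * (g : G)⁻¹) * (g * d * (g : G)⁻¹) = 1 := fun d e => by
    calc _ = g * (d * d) * (g : G)⁻¹ := by group
      _ = 1 := by rw [e]; group
  have cn : ∀ d : G, g * d * (g : G)⁻¹ = 1 → d = 1 := fun d e => by
    calc d = (g : G)⁻¹ * (g * d * (g : G)⁻¹) * g := by group
      _ = 1 := by rw [e]; group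
  by_cases e1 : (t * (g * s * (g : G)⁻¹)) * (t * (g * s * (g : G)⁻¹)) = 1
  swap
  · exact fin _ m1 ⟨k1, h1'⟩ e1
  by_cases e2 : (t * (g * w * (g : G)⁻¹)) * (t * (g * w * (g : G)⁻¹)) = 1
  swap
  · exact fin _ m2 ⟨k2, h2'⟩ e2
  exfalso
  have c1 := com _ (cq s (sq s so)) e1
  have c2 := com _ (cq w (sq w wo)) e2
  have sw : ∀ d : G, orderOf d = 2 → g * d * (g : G)⁻¹ ∈ Fl A x y →
      t * (g * d * (g : G)⁻¹) = (g * d * (g : G)⁻¹) * t → (g * d * (g : G)⁻¹) • x = y := by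
    intro d o m e
    rcases two _ m e x a.mx ht.1 with h3 | h3
    · have := cn d (fx _ m e (cq d (sq d o)) h3)
      rw [this, orderOf_one] at o
      omega
    · exact h3
  have s1 := sw s so m1 c1
  have s2 := sw w wo m2 c2
  have e3 : (g * s * (g : G)⁻¹) * (g * w * (g : G)⁻¹) = g * (s * w) * (g : G)⁻¹ := by group
  have sw2 : (s * w) * (s * w) = 1 := by
    calc _ = s * (w * s) * w := by group
      _ = (s * s) * (w * w) := by rw [← cm.eq]; group
      _ = 1 := by rw [sq s so, sq w wo, one_mul]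
  have h3 := fx _ (mul_mem m1 m2) (Commute.mul_right (a := t) c1 c2).eq
    (by rw [e3]; exact cq _ sw2)
    (by rw [mul_smul, s2.trans s1.symm, ← mul_smul, cq s (sq s so), one_smul])
  rw [e3] at h3
  apply hws
  rw [← inv_eq_of_mul_eq_one_right (cn _ h3), inv_eq_of_mul_eq_one_right (sq s so)]

end Cfsg.Agent.H47.LpSqs
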