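import Mathlib
import Cfsg.Agent.H44.Fi22C
import Cfsg.Agent.H44.Perm3

/-!
# A presentation of the simple orthogonal group of dimension 7 over the field with 3 elements

The letters `1, …, 8` stand for the nodes `b, …, i` of the diagram of `Fi22`.
-/

set_option autoImplicit false
set_option maxRecDepth 100000

namespace Cfsg.Agent.H47.O7

open Cfsg.Agent.H44

/-- The relators of `Fi22` not involving the node `a`, with shifted letters. -/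
def R7 : List (List ℕ) := [
  [1, 1],
  [2, 2],
  [3, 3],
  [4, 4],
  [5, 5],
  [6, 6],
  [7, 7],
  [8, 8],
  [1, 2, 1, 2, 1, 2],
  [1, 3, 1, 3],
  [1, 4, 1, 4],
  [1, 5, 1, 5],
  [1, 6, 1, 6],
  [1, 7, 1, 7],
  [1, 8, 1, 8],
  [2, 3, 2, 3, 2, 3],
  [2, 4, 2, 4],
  [2, 5, 2, 5],
  [2, 6, 2, 6],
  [2, 7, 2, 7],
  [2, 8, 2, 8],
  [3, 4, 3, 4, 3, 4],
  [3, 5, 3, 5],
  [3, 6, 3, 6],
  [3, 7, 3, 7, 3, 7],
  [3, 8, 3, 8],
  [4, 5, 4, 5, 4, 5],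
  [4, 6, 4, 6],
  [4, 7, 4, 7],
  [4, 8, 4, 8],
  [5, 6, 5, 6, 5, 6],
  [5, 7, 5, 7],
  [5, 8, 5, 8],
  [6, 7, 6, 7],
  [6, 8, 6, 8],
  [7, 8, 7, 8, 7, 8],
  [3, 2, 1, 3, 4, 5, 3, 7, 8, 3, 2, 1, 3, 4, 5, 3, 7, 8, 3, 2, 1, 3, 4, 5, 3, 7, 8, 3, 2, 1, 3, 4, 5, 3, 7, 8, 3, 2, 1, 3, 4, 5, 3, 7, 8, 3, 2, 1, 3, 4, 5, 3, 7, 8, 3, 2, 1, 3, 4, 5, 3, 7, 8, 3, 2, 1, 3, 4, 5, 3, 7, 8, 3, 2, 1, 3, 4, 5, 3, 7, 8, 3, 2, 1, 3, 4, 5, 3, 7, 8],
  [1, 2, 3, 4, 5, 6, 7, 1, 2, 3, 4, 5, 6, 7, 1, 2, 3, 4, 5, 6, 7, 1, 2, 3, 4, 5, 6, 7, 1, 2, 3, 4, 5, 6, 7, 1, 2, 3, 4, 5, 6, 7, 1, 2, 3, 4, 5, 6, 7, 1, 2, 3, 4, 5, 6, 7, 1, 2, 3, 4, 5, 6, 7]]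

theorem card_S4 {G : Type*} [Group G] {g : ℕ → G} (hg : Sat g R7) :
    Finite (wgen g [[3], [4], [5]]) ∧ Nat.card (wgen g [[3], [4], [5]]) ≤ 24 :=
  (Cfsg.Agent.H44.Fi22C.S4.checked.step hg [0, 3, 4, 5] (S₁ := []) (by decide +kernel) (by decide +kernel)
    (by decide +kernel)).wcard (n := 24) (m := 1) (by decide) (wcard_nil g)

theorem card_S5 {G : Type*} [Group G] {g : ℕ → G} (hg : Sat g R7) :
    Finite (wgen g [[2], [3], [4], [5]]) ∧ Nat.card (wgen g [[2], [3], [4], [5]]) ≤ 120 :=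
  (Cfsg.Agent.H44.Fi22C.S5.checked.step hg [0, 2, 3, 4, 5] (S₁ := [[3], [4], [5]]) (by decide +kernel) (by decide +kernel)
    (by decide +kernel)).wcard (n := 5) (m := 24) (by decide) (card_S4 hg)

theorem card_D5 {G : Type*} [Group G] {g : ℕ → G} (hg : Sat g R7) :
    Finite (wgen g [[2], [3], [4], [5], [7]]) ∧ Nat.card (wgen g [[2], [3], [4], [5], [7]]) ≤ 1920 :=
  (Cfsg.Agent.H44.Fi22C.D5.checked.step hg [0, 2, 3, 4, 5, 7] (S₁ := [[2], [3], [4], [5]]) (by decide +kernel) (by decide +kernel)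
    (by decide +kernel)).wcard (n := 16) (m := 120) (by decide) (card_S5 hg)

theorem card_E6 {G : Type*} [Group G] {g : ℕ → G} (hg : Sat g R7) :
    Finite (wgen g [[1], [2], [3], [4], [5], [7]]) ∧ Nat.card (wgen g [[1], [2], [3], [4], [5], [7]]) ≤ 51840 :=
  (Cfsg.Agent.H44.Fi22C.E6.checked.step hg [0, 1, 2, 3, 4, 5, 7] (S₁ := [[2], [3], [4], [5], [7]]) (by decide +kernel) (by decide +kernel)
    (by decide +kernel)).wcard (n := 27) (m := 1920) (by decide) (card_D5 hg)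

theorem card_E7 {G : Type*} [Group G] {g : ℕ → G} (hg : Sat g R7) :
    Finite (wgen g [[1], [2], [3], [4], [5], [6], [7]]) ∧ Nat.card (wgen g [[1], [2], [3], [4], [5], [6], [7]]) ≤ 1451520 :=
  (Cfsg.Agent.H44.Fi22C.E7.checked.step hg [0, 1, 2, 3, 4, 5, 6, 7] (S₁ := [[1], [2], [3], [4], [5], [7]]) (by decide +kernel) (by decide +kernel)
    (by decide +kernel)).wcard (n := 28) (m := 51840) (by decide) (card_E6 hg)

theorem card_O7 {G : Type*} [Group G] {g : ℕ → G} (hg : Sat g R7) :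
    Finite (wgen g [[1], [2], [3], [4], [5], [6], [7], [8]]) ∧ Nat.card (wgen g [[1], [2], [3], [4], [5], [6], [7], [8]]) ≤ 4585351680 :=
  (Cfsg.Agent.H44.EFi22O7.checked.step hg [0, 1, 2, 3, 4, 5, 6, 7, 8] (S₁ := [[1], [2], [3], [4], [5], [6], [7]]) (by decide +kernel) (by decide +kernel)
    (by decide +kernel)).wcard (n := 3159) (m := 1451520) (by decide) (card_E7 hg)

theorem sat_shift {G : Type*} [Group G] {g : ℕ → G} (hg : Sat g Fi22.Rm) :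
    Sat (fun x => g (x + 1)) R7 :=
  hg.relabel (· + 1) fun r hr => by
    have : R7.all (fun r => Fi22.Rm.contains (r.map (· + 1))) = true := by decide +kernel
    simpa using List.all_eq_true.1 this r hr

theorem gen_shift {G : Type*} [Group G] (g : ℕ → G) :
    gen (fun x => g (x + 1)) 8 = wgen g [[2], [3], [4], [5], [6], [7], [8], [9]] :=
  gen_relabel g (· + 1) 8

end Cfsg.Agent.H47.O7
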