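import Mathlib
import Cfsg.Agent.H95.ParBase
import Cfsg.Agent.H3.Frattini
import Cfsg.Agent.S2041
import Cfsg.Agent.S1705
import Cfsg.Agent.S1625

/-!
Reduction to a central extension for the third Janko group.
-/

set_option autoImplicit false

namespace Cfsg.Agent.H47.ParJ

open Cfsg Subgroup Cfsg.Agent.H95.Par
open scoped commutatorElement

section gen
variable {H X : Type} [Group H] [Finite H] [Group X]

omit [Finite H] in
theorem comm_lt {N P : Subgroup H} (hN : Group.IsNilpotent N) (hP : P ≤ N)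
    (h : ⁅P, N⁆ = P) : P = ⊥ := by
  obtain ⟨n, hn⟩ := (isNilpotent_iff_lowerCentralSeries N).1 hN
  have k : ∀ m, P ≤ N.lowerCentralSeries m := fun m => by
    induction m with
    | zero => exact hP
    | succ m ih => exact h.ge.trans (commutator_mono ih le_rfl)
  exact le_bot_iff.1 (hn ▸ k n)

theorem central [IsSimpleGroup X] (π : H →* X) (hπ : Function.Surjective π)
    (hN : Group.IsNilpotent π.ker) (hp : ⁅(⊤ : Subgroup H), (⊤ : Subgroup H)⁆ = ⊤) (b : ℕ)
    (hb : ∀ P : Subgroup H, IsPGroup 2 P → Nat.card P < b) {c : X} (hc : c ≠ 1)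
    (hm : ∀ (V : Type) [Group V] [Finite V] (ρ : X →* MulAut V), (∀ v : V, v * v = 1) →
      Nat.card V < b → ρ c = 1)
    (P : Subgroup H) : P.Normal → P ≤ π.ker → IsPGroup 2 P → P ≤ center H := by
  have : Fact (Nat.Prime 2) := ⟨Nat.prime_two⟩
  induction P using WellFoundedLT.induction with | _ P ih => ?_
  intro hn hle h2
  by_cases h0 : P = ⊥
  · exact h0.le.trans bot_le
  have := H3.map_frattini_normal P
  set R : Subgroup H := ⁅P, π.ker⁆ ⊔ (frattini P).map P.subtype with hR
  have h1 : R ≤ P := sup_le (commutator_le_left _ _) (map_subtype_le _)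
  have h3 : R < P := h1.lt_of_ne fun e =>
    h0 (comm_lt hN hle (H3.eq_of_sup_map_frattini_eq e))
  have h4 : R ≤ center H := ih R h3 inferInstance (h1.trans hle) (h2.to_le h1)
  have : (P.map (QuotientGroup.mk' R)).Normal := hn.map _ (QuotientGroup.mk'_surjective R)
  let φ : H →* MulAut (P.map (QuotientGroup.mk' R)) :=
    MulAut.conjNormal.comp (QuotientGroup.mk' R)
  have k : ∀ g, φ g = 1 ↔ ∀ x ∈ P, ⁅x, g⁆ ∈ R := fun g => by
    have e : ∀ x : H, (g : H ⧸ R) * x * (g : H ⧸ R)⁻¹ = x ↔ ⁅x, g⁆ ∈ R := fun x => by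
      rw [← QuotientGroup.eq_one_iff, commutatorElement_def, QuotientGroup.mk_mul,
        QuotientGroup.mk_mul, QuotientGroup.mk_mul, QuotientGroup.mk_inv, QuotientGroup.mk_inv,
        ← commutatorElement_def, commutatorElement_eq_one_iff_mul_comm, mul_inv_eq_iff_eq_mul,
        eq_comm]
    refine ⟨fun h x hx => (e x).1 ?_, fun h => MulEquiv.ext ?_⟩
    · have := congrArg Subtype.val (DFunLike.congr_fun h ⟨_, x, hx, rfl⟩)
      exact this
    rintro ⟨_, x, hx, rfl⟩
    exact Subtype.ext ((e x).2 (h x hx))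
  have h5 : π.ker ≤ φ.ker := fun g hg => (k g).2 fun x hx =>
    mem_sup_left (commutator_mem_commutator hx hg)
  let ρ : X →* MulAut (P.map (QuotientGroup.mk' R)) := π.liftOfSurjective hπ ⟨φ, h5⟩
  have h6 : ρ c = 1 := hm _ ρ (by
      rintro ⟨_, x, hx, rfl⟩
      refine Subtype.ext ((QuotientGroup.eq_one_iff (x * x)).2 (mem_sup_right ?_))
      exact ⟨_, H3.pow_mem_frattini h2 ⟨x, hx⟩, pow_two x⟩)
    ((Nat.le_of_dvd Nat.card_pos (card_map_dvd _ _)).trans_lt (hb P h2))
  have h7 : ρ.ker = ⊤ := ρ.normal_ker.eq_bot_or_eq_top.resolve_left fun e =>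
    hc (mem_bot.1 (e ▸ h6))
  have h8 : ⁅P, (⊤ : Subgroup H)⁆ ≤ center H := (commutator_le.2 fun x hx g _ => (k g).1 (by
    rw [← MonoidHom.liftOfRightInverse_comp_apply π _ _ ⟨φ, h5⟩ g]
    exact h7.ge (mem_top (π g))) x hx).trans h4
  have h9 : ⁅⁅P, (⊤ : Subgroup H)⁆, (⊤ : Subgroup H)⁆ = ⊥ :=
    commutator_eq_bot_iff_le_centralizer.2 (h8.trans (center_le_centralizer _))
  have h10 := commutator_commutator_eq_bot_of_rotate (H₁ := ⊤) (H₂ := ⊤) (H₃ := P)
    (by rwa [commutator_comm ⊤ P]) h9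
  rw [hp, commutator_comm, commutator_eq_bot_iff_le_centralizer] at h10
  rwa [← centralizer_univ]

end gen

set_option synthInstance.maxSize 2000 in
theorem num : ∀ p < 72, p.Prime → p ≠ 2 → ∀ k < 114, 0 < k →
    p ^ (k + if p = 3 then 5 else if p = 17 ∨ p = 19 then 1 else 0) ∣
      808017424794512875886459904961710757005754368000000000 → p ^ k % 17 ≠ 1 ∧ p ≠ 17 := by
  decide +kernel

theorem redJ (k1 : Kit1Stmt) (k2 : Kit2Stmt) (md : ModStmt) (sx : SXStmt) : RedJStmt := by
  intro F _ _ ω hF hω H π hm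
  obtain ⟨-, -, hX, hs⟩ := S1625.result F hF ω hω
  obtain ⟨D⟩ := sx F ω hF hω
  have hM := S1705.result.2
  have : Finite Spor.Monster := Nat.finite_of_card_ne_zero (by rw [hM]; decide)
  have hc : commutator (Spor.J3 F ω) = ⊤ :=
    (commutator_normal ⊤ ⊤).eq_bot_or_eq_top.resolve_left fun e => D.c1 (by
      have h := mem_centralizer_iff.1
        (commutator_eq_bot_iff_le_centralizer.1 e (mem_top D.w1)) D.a (mem_top _)
      have h1 := D.w1a
      rwa [← h, mul_inv_cancel_right, left_eq_mul] at h1)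
  have hp : ⁅(⊤ : Subgroup H), (⊤ : Subgroup H)⁆ = ⊤ := hm.min _ (by
    rw [map_commutator, ← MonoidHom.range_eq_map, MonoidHom.range_eq_top.2 hm.surj]; exact hc)
  have hst := k2 _ _ H π hm hc
    (central π hm.surj (k1 _ _ H π hm).1 hp (2 ^ 54) (fun P hP => ?_) D.c1
      fun V _ _ ρ => md _ V D ρ) fun p hp h2 hd => ?_
  · obtain ⟨f, hf⟩ := (S2041.result hF ω hω).2 H π hst
    refine ⟨hst.2.1, fun n hn => ?_⟩
    obtain ⟨a, ha⟩ := hf ⟨n, hn⟩
    have h3 : a ^ 3 = 1 := (by decide : ∀ a : Multiplicative (ZMod 3), a ^ 3 = 1) a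
    exact congrArg Subtype.val (show (⟨n, hn⟩ : π.ker) ^ 3 = 1 by rw [← ha, ← map_pow, h3, map_one])
  · have : Fact (Nat.Prime 2) := ⟨Nat.prime_two⟩
    obtain ⟨n, hn⟩ := IsPGroup.iff_card.1 hP
    have h1 := (card_subgroup_dvd_card P).trans (card_subgroup_dvd_card H)
    rw [hn, hM] at h1
    rw [hn]
    refine Nat.pow_lt_pow_right (by decide) (lt_of_not_ge fun h => ?_)
    exact absurd ((pow_dvd_pow 2 h).trans h1) (by decide)
  · rw [hM] at hd ⊢
    have h1 : p < 72 := Nat.lt_succ_of_le (hp.dvd_factorial.1 (hp.dvd_of_dvd_pow (n := 46)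
      (hd.trans (by decide +kernel))))
    have h3 : ∀ k, 0 < k → p ^ (k + (Nat.card (Spor.J3 F ω)).factorization p) ∣
        808017424794512875886459904961710757005754368000000000 → p ^ k % 17 ≠ 1 ∧ p ≠ 17 :=
      fun k hk h => by
        refine num p h1 hp h2 k (lt_of_not_ge fun e => ?_) hk
          ((pow_dvd_pow p (Nat.add_le_add_left ?_ k)).trans h)
        · have h4 := Nat.le_of_dvd (by decide) ((pow_dvd_pow p (e.trans (Nat.le_add_right _ _))).trans h)
          have h5 := Nat.pow_le_pow_left (show 3 ≤ p from lt_of_le_of_ne hp.two_le h2.symm) 114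
          exact absurd (h5.trans h4) (by decide)
        · rw [← hp.pow_dvd_iff_le_factorization (by rw [hX]; decide), hX]
          split_ifs with h4 h5
          · subst h4; decide
          · rcases h5 with rfl | rfl <;> decide
          · simp
    by_cases h17 : p = 17
    · exact ⟨19, by norm_num, by omega, by rw [hX]; decide, fun k hk h => absurd h17 (h3 k hk h).2⟩
    · exact ⟨17, by norm_num, Ne.symm h17, by rw [hX]; decide, fun k hk h => (h3 k hk h).1⟩

end Cfsg.Agent.H47.ParJ
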