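import Cfsg.Agent.H14.RkDefs
import Cfsg.Agent.H15.CS3
import Cfsg.Agent.H8.Tate
import Cfsg.Agent.S4033
import Cfsg.Agent.S4034
import Cfsg.Agent.S4035
import Cfsg.Agent.S0564
import Cfsg.Agent.S0144
import Cfsg.Agent.S0205

/-! Piece P1 of the conjugate type rank four and five project. -/

set_option autoImplicit false
set_option linter.unusedSectionVars false

namespace Cfsg.Agent.H47.RkP1

open Subgroup Cfsg.Agent.H92 Cfsg.Agent.H14.Rk

universe u

theorem solv_of_normal {K : Type u} [Group K] (N : Subgroup K) [N.Normal]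
    (h1 : Group.IsSolvable N) (h2 : Group.IsSolvable (K ⧸ N)) : Group.IsSolvable K :=
  Group.isSolvable_of_ker_le_range N.subtype (QuotientGroup.mk' N) (by simp)

theorem solv_of_npc {K : Type u} [Group K] [Finite K] (h : HasNormalPComplement 2 K) :
    Group.IsSolvable K := by
  obtain ⟨P, N, hN, hc⟩ := h
  have h2 : ¬ 2 ∣ Nat.card N := hc.index_eq_card ▸ P.not_dvd_index
  refine solv_of_normal N (S0205.result (Nat.odd_iff.2 (by omega))) ?_
  obtain ⟨k, hk⟩ := IsPGroup.iff_card.1 P.2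
  have := (IsPGroup.of_card (p := 2) (G := K ⧸ N) (hc.symm.index_eq_card.trans hk)).isNilpotent
  infer_instance

theorem solv_of_ab {K : Type u} [Group K] [Finite K] (H : Subgroup K) (hH : IsMulCommutative H)
    (hi : ∃ k, H.index = 2 ^ k) : Group.IsSolvable K := by
  let S : Sylow 2 K := default
  refine S0564.result (S : Subgroup K) H S.2.isNilpotent ?_
    (H1.factorization_of_coprime_index ?_)
  · exact ⟨⟨1, by
      rw [eq_top_iff]; intro x _
      rw [Subgroup.upperCentralSeries_one, mem_center_iff]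
      exact fun g => hH.is_comm.comm g x⟩⟩
  · exact (coprime_of_pow_of_not_dvd Nat.prime_two hi S.not_dvd_index).symm

theorem solv_two {K : Type u} [Group K] [Finite K]
    (h2 : Set.ncard (Set.range fun x : {x : K // (orderOf x).Coprime 2} =>
      (ConjClasses.mk (x : K)).carrier.ncard) = 2) : Group.IsSolvable K := by
  rcases S4033.result Nat.prime_two h2 with ⟨H, hH, -, hi⟩ | ⟨q, hq, P, Q, A, -, hA, hc, hn, -, ht⟩
  · exact solv_of_ab H hH hi
  · obtain ⟨a, ha⟩ := IsPGroup.iff_card.1 P.2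
    obtain ⟨b, hb⟩ := IsPGroup.iff_card.1 Q.2
    refine solv_of_normal ((P : Subgroup K) ⊔ (Q : Subgroup K))
      (S0144.result 2 q a b Nat.prime_two hq.out (by rw [hc]; exact congrArg₂ _ ha hb)) ?_
    refine Group.isSolvable_of_comm fun x y => ?_
    obtain ⟨x, rfl⟩ := QuotientGroup.mk_surjective x
    obtain ⟨y, rfl⟩ := QuotientGroup.mk_surjective y
    have hx : x ∈ ((P : Subgroup K) ⊔ (Q : Subgroup K)) ⊔ A := ht ▸ mem_top x
    rw [← SetLike.mem_coe, normal_mul] at hx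
    obtain ⟨n, hn', a, ha', rfl⟩ := hx
    have e : ((n * a : K) : K ⧸ ((P : Subgroup K) ⊔ (Q : Subgroup K))) = (a : K) := by
      rw [QuotientGroup.mk_mul, (QuotientGroup.eq_one_iff n).2 hn', one_mul]
    simp only
    rw [e, ← QuotientGroup.mk_mul, ← QuotientGroup.mk_mul, mem_center_iff.1 (hA ha') y]

variable {G : Type u} [Group G] [Finite G]

theorem card_C_sub (H : Subgroup G) (x : H) :
    Nat.card Ce[x] = Nat.card ↥(Ce[(x : G)] ⊓ H) := by
  rw [C_subgroup, ← inf_subgroupOf_right]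
  exact Nat.card_congr (subgroupOfEquivOfLe inf_le_right).toEquiv

theorem mem_center_sub {H : Subgroup G} {x : H} : x ∈ center H ↔ H ≤ Ce[(x : G)] := by
  rw [mem_center_iff]
  exact ⟨fun h y hy => mem_C.2 (congrArg Subtype.val (h ⟨y, hy⟩)),
    fun h y => Subtype.ext (mem_C.1 (h y.2))⟩

theorem even_of_mem {H : Subgroup G} {t : G} (ht : orderOf t = 2) (h : t ∈ H) :
    Even (Nat.card H) := by
  have := orderOf_dvd_natCard (⟨t, h⟩ : H)
  rw [orderOf_mk, ht] at this
  exact even_iff_two_dvd.2 this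

/-- commuting elements of coprime orders -/
theorem star_mul {β : ℕ} (hS : Star G β) {t u w : G} (ht : orderOf t = 2) (hw : w ≠ 1)
    (hc : Commute u w) (hco : (orderOf u).Coprime (orderOf w)) (htu : t ∈ Ce[u])
    (htw : t ∈ Ce[w]) (hn : ¬ Ce[w] ≤ Ce[u]) : Nat.card ↥(Ce[u] ⊓ Ce[w]) = β := by
  have e := C_mul_of_coprime hc hco
  rw [← e]
  refine hS _ w hw ?_ (even_of_mem ht (e ▸ ⟨htu, htw⟩))
  rw [e]
  exact lt_of_le_of_ne inf_le_right fun h => hn (h ▸ inf_le_left)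

theorem odd_noncentral {β : ℕ} (hS : Star G β) {t : G} (ht : orderOf t = 2) (u : Ce[t])
    (ho : (orderOf u).Coprime 2) (hu : u ∉ center Ce[t]) : Nat.card Ce[u] = β := by
  rw [card_C_sub]
  exact star_mul hS ht (H15.ne_one_of_ord Nat.prime_two ht) (mem_C.1 u.2)
    (by rw [orderOf_coe, ht]; exact ho) (mem_C_comm.1 u.2) (self_mem_C t)
    fun h => hu (mem_center_sub.2 h)

theorem exists_v' {β : ℕ} (hS : Star G β) {t v : G} (ht : orderOf t = 2) (hv : v ∈ Ce[t])
    {k : ℕ} (hk : 2 ≤ k) (ho : orderOf v = 2 ^ k) (hn : ¬ Ce[t] ≤ Ce[v]) :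
    ∃ v' : G, v' ≠ 1 ∧ (∃ j, orderOf v' = 2 ^ j) ∧ t ∈ Ce[v'] ∧ Nat.card Ce[v'] = β ∧
      Ce[v'] ⊓ Ce[t] ≤ Ce[v] := by
  have hc : Commute v t := mem_C.1 hv
  have ht2 : t ^ 2 = 1 := ht ▸ pow_orderOf_eq_one t
  have hv2 : v ^ 2 ≠ 1 := by
    intro h
    have h1 := orderOf_dvd_of_pow_eq_one h
    rw [ho] at h1
    have h2 : 2 ^ 2 ∣ 2 := (pow_dvd_pow 2 hk).trans h1
    norm_num at h2
  have hvt : (v * t) ^ 2 = v ^ 2 := by rw [hc.mul_pow, ht2, mul_one]
  have hv1 : v ≠ 1 := by rintro rfl; simp at hv2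
  have hvt1 : v * t ≠ 1 := by
    intro h; rw [h] at hvt; exact hv2 (by rw [← hvt, one_pow])
  have tv : t ∈ Ce[v] := mem_C_comm.1 hv
  have tvt : t ∈ Ce[v * t] := inf_le_C_mul v t ⟨tv, self_mem_C t⟩
  have l1 : Ce[v] ≤ Ce[v ^ 2] := C_le_C_pow v 2
  have l2 : Ce[v * t] ≤ Ce[v ^ 2] := hvt ▸ C_le_C_pow (v * t) 2
  have back : Ce[v * t] ⊓ Ce[t] ≤ Ce[v] := by
    intro g hg
    have := (mem_C.1 hg.1).mul_right (mem_C.1 hg.2).inv_right
    rw [mul_inv_cancel_right] at this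
    exact mem_C.2 this
  by_cases h1 : Ce[v] = Ce[v ^ 2]
  · by_cases h2 : Ce[v * t] = Ce[v ^ 2]
    · refine ⟨v, hv1, ⟨k, ho⟩, tv, ?_, inf_le_left⟩
      refine hS v t (H15.ne_one_of_ord Nat.prime_two ht) (lt_of_le_of_ne ?_ fun h => hn h.ge)
        (even_of_mem ht tv)
      intro g hg
      have hg' : g ∈ Ce[v * t] := by rw [h2, ← h1]; exact hg
      have := (mem_C.1 hg).inv_right.mul_right (mem_C.1 hg')
      rw [inv_mul_cancel_left] at this
      exact mem_C.2 this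
    · refine ⟨v * t, hvt1, ?_, tvt, hS _ _ hv2 (lt_of_le_of_ne l2 h2) (even_of_mem ht tvt), back⟩
      refine eq_pow_of_dvd_pow (k := k) Nat.prime_two (orderOf_dvd_of_pow_eq_one ?_)
      rw [hc.mul_pow, ← ho, pow_orderOf_eq_one, one_mul, ho]
      obtain ⟨j, rfl⟩ : ∃ j, k = j + 1 := ⟨k - 1, by omega⟩
      rw [pow_succ', pow_mul, ht2, one_pow]
  · exact ⟨v, hv1, ⟨k, ho⟩, tv, hS _ _ hv2 (lt_of_le_of_ne l1 h1) (even_of_mem ht tv),
      inf_le_left⟩

theorem cs_two_pow {β : ℕ} (hS : Star G β) {t : G} (ht : orderOf t = 2) {a : ℕ}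
    (hcard : Nat.card Ce[t] = 2 ^ a * β) (v : Ce[t]) {k : ℕ} (hk : 2 ≤ k)
    (ho : orderOf v = 2 ^ k) : ∃ j, cs[v] = 2 ^ j := by
  by_cases hz : v ∈ center Ce[t]
  · exact ⟨0, cs_eq_one_iff.2 hz⟩
  obtain ⟨v', h1, hp, tv', hβ, hle⟩ := exists_v' hS ht v.2 hk (by rw [orderOf_coe, ho])
    fun h => hz (mem_center_sub.2 h)
  refine (eq_pow_iff_forall Nat.prime_two (cs_ne_zero v)).2 fun r hr hrv => ?_
  by_contra hr2
  have := Fact.mk hr
  let R : Sylow r Ce[v'] := default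
  have hR : (R : Subgroup Ce[v']).map (Ce[v']).subtype ≤ Ce[(v : G)] ⊓ Ce[t] := by
    rintro _ ⟨b, hb, rfl⟩
    have hbo : ∃ i, orderOf (b : G) = r ^ i := by
      obtain ⟨i, hi⟩ := (IsPGroup.iff_orderOf.1 R.2) ⟨b, hb⟩
      exact ⟨i, by rw [orderOf_coe, ← hi]; exact (orderOf_mk b hb).symm⟩
    have hco : (orderOf (b : G)).Coprime (orderOf v') :=
      coprime_of_pow_of_pow hr Nat.prime_two hr2 hbo hp
    have hc : Commute (b : G) v' := mem_C.1 b.2
    have hY : Ce[v'] ≤ Ce[(b : G)] := by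
      by_contra hn
      have e := C_mul_of_coprime hc hco
      have hlt : Ce[(b : G) * v'] < Ce[v'] := by
        rw [e]; exact lt_of_le_of_ne inf_le_right fun h => hn (h.ge.trans inf_le_left)
      have hev : Even (Nat.card Ce[(b : G) * v']) := by
        obtain ⟨j, hj⟩ := hp
        have hm : v' ∈ Ce[(b : G) * v'] := e.ge ⟨mem_C_comm.1 b.2, self_mem_C v'⟩
        have h3 := orderOf_dvd_natCard (⟨v', hm⟩ : Ce[(b : G) * v'])
        rw [orderOf_mk, hj] at h3
        rcases j with _ | j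
        · exact absurd (orderOf_eq_one_iff.1 (by simpa using hj)) h1
        · exact even_iff_two_dvd.2 ((dvd_pow_self 2 j.succ_ne_zero).trans h3)
      have h4 := hS _ _ h1 hlt hev
      exact hlt.ne (eq_of_le_of_card_ge hlt.le (by rw [h4, hβ]))
    have hbt : (b : G) ∈ Ce[t] := mem_C_comm.1 (hY tv')
    exact ⟨hle ⟨b.2, hbt⟩, hbt⟩
  obtain ⟨m, hm⟩ := card_dvd_of_le hR
  rw [card_map_of_injective (subtype_injective _), ← card_C_sub] at hm
  have h5 := cs_mul_card v
  have h6 := (R : Subgroup Ce[v']).index_mul_card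
  rw [hm, hcard, ← hβ, ← h6] at h5
  have h7 : cs[v] * m = 2 ^ a * (R : Subgroup Ce[v']).index := by
    apply Nat.eq_of_mul_eq_mul_right (Nat.card_pos (α := (R : Subgroup Ce[v'])))
    linarith
  have h8 : r ∣ 2 ^ a * (R : Subgroup Ce[v']).index := h7 ▸ hrv.mul_right m
  rcases (Nat.Prime.dvd_mul hr).1 h8 with h | h
  · exact hr2 ((Nat.prime_dvd_prime_iff_eq hr Nat.prime_two).1 (hr.dvd_of_dvd_pow h))
  · exact R.not_dvd_index h

theorem p1 (hN : NilStmt.{u}) (hE : ExpStmt.{u}) : P1Stmt.{u} := by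
  intro G _ _ β hS t ht
  have t1 : t ≠ 1 := H15.ne_one_of_ord Nat.prime_two ht
  by_cases hA : ∀ x : Ce[t], (orderOf x).Coprime 2 → ¬ 2 ∣ (ConjClasses.mk x).carrier.ncard
  · let P : Sylow 2 Ce[t] := default
    obtain ⟨-, H, hH, -, hi, hs⟩ := S4035.result hA P
    have hn : HasNormalPComplement 2 Ce[t] := by
      refine ⟨P, H, hH, isComplement'_of_disjoint_and_mul_eq_univ
        (disjoint_iff.2 (by rw [inf_comm]; exact hi)) ?_⟩
      rw [← normal_mul, sup_comm, hs, coe_top]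
    exact ⟨solv_of_npc hn, Or.inl hn⟩
  push Not at hA
  obtain ⟨x0, hx0, h20⟩ := hA
  rw [ncard_carrier] at h20
  have hx0z : x0 ∉ center Ce[t] := fun h => by
    rw [cs_eq_one_iff.2 h] at h20; norm_num at h20
  have hcard : cs[x0] * β = Nat.card Ce[t] := by
    rw [← odd_noncentral hS ht x0 hx0 hx0z, cs_mul_card]
  have hall : ∀ x : Ce[t], (orderOf x).Coprime 2 → cs[x] = 1 ∨ cs[x] = cs[x0] := by
    intro x hx
    by_cases hz : x ∈ center Ce[t]
    · exact Or.inl (cs_eq_one_iff.2 hz)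
    · right
      have h1 := cs_mul_card x
      have h2 := odd_noncentral hS ht x hx hz
      have h3 : 0 < β := h2 ▸ Nat.card_pos
      rw [h2, ← hcard] at h1
      exact Nat.eq_of_mul_eq_mul_right h3 h1
  by_cases hZ : ∃ z : Ce[t], z ≠ 1 ∧ (orderOf z).Coprime 2 ∧ z ∈ center Ce[t]
  · obtain ⟨z, z1, zo, zc⟩ := hZ
    have hsol : Group.IsSolvable Ce[t] := by
      refine solv_two ?_
      rw [Set.ncard_eq_two]
      refine ⟨1, cs[x0], fun h => by rw [← h] at h20; norm_num at h20, ?_⟩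
      ext n
      constructor
      · rintro ⟨x, rfl⟩
        simp only [ncard_carrier]
        exact hall x x.2
      · rintro (rfl | rfl)
        · exact ⟨⟨1, by simp⟩, by simp only [ncard_carrier]; exact cs_one⟩
        · exact ⟨⟨x0, hx0⟩, by simp only [ncard_carrier]⟩
    have z1' : (z : G) ≠ 1 := fun h => z1 (Subtype.ext h)
    have hz : Ce[(z : G)] = Ce[t] := by
      by_contra hne
      have h1 := hS t z z1' (lt_of_le_of_ne (mem_center_sub.1 zc) (Ne.symm hne))
        (even_of_mem ht (self_mem_C t))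
      have h3 : 0 < β := h1 ▸ Nat.card_pos
      rw [h1] at hcard
      have : cs[x0] = 1 := Nat.eq_of_mul_eq_mul_right h3 (by rw [hcard, one_mul])
      rw [this] at h20; norm_num at h20
    have hnil := hN Ce[t] β hsol fun r g hr hg hgz => by
      by_cases hr2 : r = 2
      · subst hr2
        rw [card_C_sub, (congrArg (Ce[(g : G)] ⊓ ·) hz.symm : Ce[(g : G)] ⊓ Ce[t] = _)]
        refine star_mul hS ht z1' (mem_C.1 (hz.ge g.2)) ?_ (mem_C_comm.1 g.2)
          (hz.ge (self_mem_C t)) fun h => hgz (mem_center_sub.2 (hz.ge.trans h))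
        rw [orderOf_coe, orderOf_coe]
        exact coprime_of_pow_of_not_dvd Nat.prime_two hg
          ((Nat.Prime.coprime_iff_not_dvd Nat.prime_two).1 zo.symm)
      · exact odd_noncentral hS ht g
          (coprime_of_pow_of_pow hr Nat.prime_two hr2 hg ⟨1, rfl⟩) hgz
    exact ⟨hsol, Or.inl (H8.hasNormalPComplement_of_isNilpotent 2)⟩
  · have hpow : ∃ a, cs[x0] = 2 ^ a := by
      refine (eq_pow_iff_forall Nat.prime_two (cs_ne_zero x0)).2 fun r hr hrv => ?_
      by_contra hr2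
      have := Fact.mk hr
      let R : Sylow r Ce[t] := default
      obtain ⟨z, -, zo, hzR⟩ := H15.exists_center_sylow R (hrv.trans (cs_dvd_card x0))
      have zc : (orderOf z).Coprime 2 := by
        rw [zo]; exact (Nat.coprime_primes hr Nat.prime_two).2 hr2
      rcases hall z zc with h | h
      · exact hZ ⟨z, H15.ne_one_of_ord hr zo, zc, cs_eq_one_iff.1 h⟩
      · exact not_dvd_index_of_sylow_le R hzR (h ▸ hrv)
    obtain ⟨a, ha⟩ := hpow
    obtain ⟨H, hH, hodd, hi⟩ := (S4034.result (G := Ce[t]) Nat.prime_two).1 fun x hx => by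
      rw [ncard_carrier]
      rcases hall x hx with h | h
      · exact ⟨0, h⟩
      · exact ⟨a, h.trans ha⟩
    refine ⟨solv_of_ab H hH hi, ?_⟩
    by_cases h4 : ∃ v : Ce[t], orderOf v = 4
    · exact Or.inl (hE Ce[t] H hH (Nat.odd_iff.2 (by omega)) hi
        (fun v ⟨k, hk, ho⟩ => cs_two_pow hS ht (by rw [← hcard, ha]) v hk ho) h4)
    · exact Or.inr fun v hv h => h4 ⟨⟨v, hv⟩, by rw [orderOf_mk, h]⟩

end Cfsg.Agent.H47.RkP1
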