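import Cfsg.Agent.H56.ZCDefs

/-!
# A lemma on alternating forms in characteristic two
-/

set_option autoImplicit false

namespace Cfsg.Agent.H47.ZCL

open Cfsg.Agent.H56.ZC Finset

universe u

theorem lin : LinStmt.{u} := by
  intro U Zt _ _ _ β a τ p hp ha h2 halt hβa han hβτ hτa hR x
  have z2 : ∀ x y, β x y + β x y = 0 := fun x y => by rw [← map_add, h2, map_zero]
  have fix : ∀ s, a s = s → s = 0 := fun s hs => by
    by_contra c
    exact han s c (by rw [hs, halt])
  have pw : ∀ (i : ℕ) (y : U), (a ^ (i + 1)) y = a ((a ^ i) y) := fun i y => by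
    rw [pow_succ']; rfl
  have hβi : ∀ (i : ℕ) x y, β ((a ^ i) x) ((a ^ i) y) = β x y := fun i x y => by
    induction i with
    | zero => rfl
    | succ i ih => rw [pw, pw, hβa, ih]
  have hs : ∀ y, ∑ i ∈ range p, (a ^ i) y = 0 := fun y => fix _ (by
    have h1 := sum_range_succ (fun i => (a ^ i) y) p
    rw [sum_range_succ', ha, pow_zero, add_left_inj] at h1
    rw [map_sum, ← h1]
    exact sum_congr rfl fun i _ => (pw i y).symm)
  have E : ∀ (i : ℕ) x y, β (x + τ x) (y + τ y) + β (x + τ x) ((a ^ i) (τ y)) +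
      β ((a ^ i) (τ x)) (y + τ y) = 0 := fun i x y => by
    have := hR i x y
    rw [add_right_comm x, add_right_comm y, map_add β, AddMonoidHom.add_apply,
      map_add (β (x + τ x)) (y + τ y), map_add (β ((a ^ i) (τ x))) (y + τ y), hβi, hβτ,
      ← add_assoc, add_eq_right] at this
    exact this
  have M0 : ∀ x y, β (x + τ x) (y + τ y) = 0 := fun x y => by
    have h1 := sum_eq_zero (s := range p) fun i _ => E i x y
    have h3 : ∑ i ∈ range p, β ((a ^ i) (τ x)) (y + τ y) = 0 := by
      rw [← AddMonoidHom.finsetSum_apply, ← map_sum, hs, map_zero, AddMonoidHom.zero_apply]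
    rw [sum_add_distrib, sum_add_distrib, h3, sum_const, card_range, ← map_sum, hs, map_zero,
      add_zero, add_zero] at h1
    obtain ⟨k, rfl⟩ := hp
    rwa [add_nsmul, one_nsmul, mul_nsmul, two_nsmul, z2, nsmul_zero, zero_add] at h1
  have R : ∀ (i : ℕ) x y, β (x + τ x) ((a ^ i) (τ y)) = β ((a ^ i) (τ x)) (y + τ y) :=
    fun i x y => by
      have := E i x y
      rw [M0, zero_add] at this
      exact add_right_cancel (this.trans (z2 _ _).symm)
  have R1 : ∀ y, β (x + τ x) (a (τ y)) = β (a (x + τ x)) (τ y) := fun y => by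
    have h1 := R 1 x y
    have h3 := R 0 (a x) y
    rw [pow_one] at h1
    rw [h1, map_add a, ← hτa]
    exact h3.symm
  have hτ : Function.Surjective τ := Finite.injective_iff_surjective.1
    ((injective_iff_map_eq_zero τ).2 fun y hy => by
      by_contra c
      exact han y c (by rw [← hβτ, hy, map_zero, AddMonoidHom.zero_apply]))
  have hg : Function.Surjective (a * a + 1 : AddMonoid.End U) := Finite.injective_iff_surjective.1
    ((injective_iff_map_eq_zero (a * a + 1 : AddMonoid.End U)).2 fun y hy => by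
      have h1 : a (a y) = y := add_right_cancel ((hy : a (a y) + y = 0).trans (h2 y).symm)
      have h3 : ∀ k : ℕ, (a ^ (2 * k)) y = y := fun k => by
        induction k with
        | zero => rfl
        | succ k ih => rw [mul_add, mul_one, pw (2 * k + 1), pw, ih, h1]
      obtain ⟨k, rfl⟩ := hp
      refine fix y ?_
      have := pw (2 * k) y
      rw [ha, h3] at this
      exact this.symm)
  obtain ⟨w, hw⟩ := hg (a (x + τ x))
  obtain ⟨y, rfl⟩ := hτ w
  have h4 : β (x + τ x) (a (x + τ x)) = 0 := by
    have h1 := R1 (a y)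
    rw [hτa, hβa] at h1
    rw [← hw]
    change β (x + τ x) (a (a (τ y)) + τ y) = 0
    rw [map_add, h1, z2]
  have h5 : x + τ x = 0 := by
    by_contra c
    exact han _ c h4
  exact add_left_cancel (h5.trans (h2 x).symm)

end Cfsg.Agent.H47.ZCL
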