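import Cfsg.Agent.H56.ZCDefs
import Cfsg.Agent.H57.ONS

/-!
# Primitive groups of simple diagonal type have no doubly transitive subconstituent
-/

set_option autoImplicit false

namespace Cfsg.Agent.H47.ZCS

open Subgroup MulAction Cfsg.Agent.H56.ZC

universe u v

theorem minN_range {T H : Type*} [Group T] [Group H] [IsSimpleGroup T] (k : T →* H)
    (hk : Function.Injective k) (hn : k.range.Normal) : MinN k.range := by
  refine ⟨hn, fun e => ?_, fun K hK hle => ?_⟩
  · obtain ⟨s, hs⟩ := exists_ne (1 : T)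
    have : k s ∈ k.range := ⟨s, rfl⟩
    rw [e, mem_bot, map_eq_one_iff k hk] at this
    exact hs this
  · rcases (hK.comap k).eq_bot_or_eq_top with e | e
    · refine Or.inl (eq_bot_iff.2 fun x hx => ?_)
      obtain ⟨s, rfl⟩ := hle hx
      have : s ∈ K.comap k := hx
      rw [e, mem_bot] at this
      rw [this, map_one]
      exact one_mem _
    · refine Or.inr (le_antisymm hle ?_)
      rintro _ ⟨s, rfl⟩
      exact (e ▸ mem_top s : s ∈ K.comap k)

theorem sd (z : Zc1Stmt.{u, v}) : SdStmt.{u, v} := by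
  intro G Ω _ _ _ _ α β h N hN T _ _ hT m e he
  have := h.fa
  have := h.prim
  have := hN.1
  have htr : IsPretransitive N Ω := IsQuasiPreprimitive.isPretransitive_of_normal fun c =>
    hN.2.1 (eq_bot_iff.2 fun x hx => mem_bot.2 (eq_of_smul_eq_smul (α := Ω) fun a => by
      rw [one_smul]
      exact (c ▸ Set.mem_univ a : a ∈ fixedPoints N Ω) ⟨x, hx⟩))
  obtain ⟨n, hn⟩ := exists_smul_eq N α β
  replace hn : (n : G) • α = β := hn
  obtain ⟨i₀, j₀, hij⟩ : ∃ i j, e n i ≠ e n j := by
    by_contra c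
    push Not at c
    exact h.ne (hn ▸ (he n).2 c)
  set H := stabilizer G α
  let c : T →* N := e.symm.toMonoidHom.comp (Pi.constMonoidHom (Fin m) T)
  have hc : ∀ s i, e (c s) i = s := fun s i => by simp [c]
  let k : T →* H := (N.subtype.comp c).codRestrict H fun s => (he (c s)).2 fun i j => by
    rw [hc, hc]
  have hk : ∀ s, (k s : G) = c s := fun _ => rfl
  have hki : Function.Injective k := fun s s' es => by
    have : c s = c s' := Subtype.ext (by rw [← hk, ← hk, es])
    rw [← hc s i₀, this, hc]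
  have hcs : ∀ x : N, (x : G) ∈ H → ∀ i, x = c (e x i) := fun x hx i =>
    e.injective (funext fun j => by rw [hc]; exact (he x).1 hx j i)
  have hD : ∀ x : H, x ∈ k.range ↔ (x : G) ∈ N := fun x => by
    refine ⟨?_, fun hx => ⟨e ⟨x, hx⟩ i₀, Subtype.ext ?_⟩⟩
    · rintro ⟨s, rfl⟩
      exact (c s).2
    · rw [hk, ← hcs ⟨x, hx⟩ x.2 i₀]
  have hnD : k.range.Normal := ⟨fun x hx g => (hD _).2 (hN.1.conj_mem _ ((hD x).1 hx) g)⟩
  have : Finite T := Finite.of_injective k hki
  have : Finite (orbit H β) := inferInstance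
  have : Nontrivial (orbit H β) := Finite.one_lt_card_iff_nontrivial.1 h.two
  have hst : ∀ g : H, g ∈ stabilizer H (⟨β, mem_orbit_self β⟩ : orbit H β) ↔
      (n : G)⁻¹ * g * n ∈ H := fun g => by
    rw [mem_stabilizer_iff, Subtype.ext_iff, mem_stabilizer_iff, mul_smul, mul_smul, hn,
      inv_smul_eq_iff, hn]
    rfl
  set S : Set H := {x | ∃ i j, x = k (e n i * (e n j)⁻¹)}
  refine z H (orbit H β) h.tr2 ⟨β, mem_orbit_self β⟩ k.range (closure S) (minN_range k hki hnD)
    (fun a => hT ⟨⟨fun s s' => hki ?_⟩⟩) ((closure_le _).2 ?_) (fun a => hij ?_) ?_ ?_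
  · rw [map_mul, map_mul]
    exact congrArg Subtype.val (a.is_comm.comm ⟨k s, s, rfl⟩ ⟨k s', s', rfl⟩)
  · rintro _ ⟨i, j, rfl⟩
    exact ⟨_, rfl⟩
  · have : k (e n i₀ * (e n j₀)⁻¹) ∈ closure S := subset_closure ⟨i₀, j₀, rfl⟩
    rwa [a, mem_bot, map_eq_one_iff k hki, mul_inv_eq_one] at this
  · have key : ∀ g ∈ stabilizer H (⟨β, mem_orbit_self β⟩ : orbit H β), ∀ x ∈ closure S,
        g * x * g⁻¹ ∈ closure S := by
      intro g hg
      let ψ : MulAut (Fin m → T) := e.symm.trans ((MulAut.conjNormal (g : G)).trans e)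
      have hψ : ∀ x : N, ψ (e x) = e (MulAut.conjNormal (g : G) x) := fun x => by simp [ψ]
      obtain ⟨σ, hσ⟩ := H57.exists_perm_coordRel hT ψ
      choose φ hφ using hσ
      have h1 : ∀ s i, MulAut.conjNormal (g : G) (c s) = c (φ i s) := fun s i => by
        rw [hcs (MulAut.conjNormal (g : G) (c s)) (g * k s * g⁻¹).2 (σ i), ← hψ, hφ, hc]
      have h2 : ∀ s i j, φ i s = φ j s := fun s i j => by
        rw [← hc (φ i s) i, ← h1, h1 s j, hc]
      have h3 : ((n⁻¹ * MulAut.conjNormal (g : G) n : N) : G) ∈ H := by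
        have := H.mul_mem ((hst g).1 hg) (H.inv_mem g.2)
        simpa [mul_assoc] using this
      have h4 : ∀ i j, φ i (e n i * (e n j)⁻¹) = e n (σ i) * (e n (σ j))⁻¹ := fun i j => by
        have := (he _).1 h3 (σ i) (σ j)
        rw [map_mul, map_inv, ← hψ, Pi.mul_apply, Pi.mul_apply, hφ, hφ, Pi.inv_apply,
          Pi.inv_apply, inv_mul_eq_iff_eq_mul] at this
        rw [map_mul, map_inv, this, h2 _ i j]
        group
      intro x hx
      induction hx using closure_induction with
      | mem x hx =>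
        obtain ⟨i, j, rfl⟩ := hx
        refine subset_closure ⟨σ i, σ j, Subtype.ext ?_⟩
        rw [hk, ← h4, ← h1]
        rfl
      | one => simp
      | mul x y _ _ hx hy =>
        have := mul_mem hx hy
        simpa [mul_assoc] using this
      | inv x _ hx =>
        have := inv_mem hx
        simpa [mul_assoc] using this
    intro g hg
    refine mem_normalizer_iff.2 fun x => ⟨key g hg x, fun hx => ?_⟩
    have := key g⁻¹ (inv_mem hg) _ hx
    simpa [mul_assoc] using this
  · ext x
    rw [mem_inf, mem_inf, centralizer_closure]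
    refine and_congr_right ?_
    rintro ⟨s, rfl⟩
    have h1 : (n : G)⁻¹ * k s * n = (n⁻¹ * c s * n : N) := rfl
    rw [hst, h1, he, mem_centralizer_iff]
    simp only [map_mul, map_inv, Pi.mul_apply, Pi.inv_apply, hc]
    constructor
    · rintro a _ ⟨i, j, rfl⟩
      rw [← map_mul, ← map_mul]
      refine congrArg k ?_
      calc e n i * (e n j)⁻¹ * s = e n i * ((e n j)⁻¹ * s * e n j) * (e n j)⁻¹ := by group
        _ = s * (e n i * (e n j)⁻¹) := by rw [a j i]; group
    · intro a i j
      have := a _ ⟨i, j, rfl⟩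
      rw [← map_mul, ← map_mul, hki.eq_iff] at this
      calc (e n i)⁻¹ * s * e n i = (e n i)⁻¹ * (s * (e n i * (e n j)⁻¹)) * e n j := by group
        _ = (e n j)⁻¹ * s * e n j := by rw [← this]; group

end Cfsg.Agent.H47.ZCS
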